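import Groth.Prelude.Def_AlgSpRep
import Groth.Agent.AlgSpc.FibreProd
import Mathlib.CategoryTheory.Sites.Limits
import Mathlib.CategoryTheory.Limits.FunctorCategory.Basic

/-!
# Maps of presheaves representable by algebraic spaces
-/

set_option autoImplicit false
set_option backward.isDefEq.respectTransparency false

universe u

open CategoryTheory CategoryTheory.Limits AlgebraicGeometry Opposite

namespace Groth.Agent.AlgStB

open _root_.AlgSp

variable {S : Scheme.{u}}

/-- The map `h_T ⟶ F` of a section. -/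
noncomputable def secMap {F : PSp S} {T : Over S} (x : F.obj (op T)) : (pyon S).obj T ⟶ F :=
  CategoryTheory.uliftYonedaEquiv.symm x

theorem secMap_surjective {F : PSp S} {T : Over S} (a : (pyon S).obj T ⟶ F) :
    ∃ x, a = secMap x :=
  ⟨CategoryTheory.uliftYonedaEquiv a, (Equiv.symm_apply_apply _ _).symm⟩

theorem secMap_app {F : PSp S} {T T' : Over S} (x : F.obj (op T)) (f : T' ⟶ T) :
    (secMap x).app (op T') ⟨f⟩ = F.map f.op x := rfl

theorem secMap_id {F : PSp S} {T : Over S} (x : F.obj (op T)) :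
    (secMap x).app (op T) ⟨𝟙 T⟩ = x := by
  change F.map (𝟙 T).op x = x
  simp

theorem secMap_inj {F : PSp S} {T : Over S} {x y : F.obj (op T)} (h : secMap x = secMap y) :
    x = y :=
  CategoryTheory.uliftYonedaEquiv.symm.injective h

theorem secMap_comp {F G : PSp S} {T : Over S} (x : F.obj (op T)) (a : F ⟶ G) :
    secMap x ≫ a = secMap (a.app (op T) x) := by
  obtain ⟨y, hy⟩ := secMap_surjective (secMap x ≫ a)
  have := congrArg (fun t => t.app (op T) (⟨𝟙 T⟩ : ULift (T ⟶ T))) hy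
  simp only [NatTrans.comp_app] at this
  rw [hy]
  congr 1
  refine ((secMap_id y).symm.trans this.symm).trans ?_
  exact congrArg (a.app (op T)) (secMap_id x)

theorem secMap_map {F : PSp S} {T T' : Over S} (x : F.obj (op T)) (f : T' ⟶ T) :
    (pyon S).map f ≫ secMap x = secMap (F.map f.op x) := by
  obtain ⟨y, hy⟩ := secMap_surjective ((pyon S).map f ≫ secMap x)
  have := congrArg (fun t => t.app (op T') (⟨𝟙 T'⟩ : ULift (T' ⟶ T'))) hy
  simp only [NatTrans.comp_app] at this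
  rw [hy]
  congr 1
  refine ((secMap_id y).symm.trans this.symm).trans ?_
  change (secMap x).app (op T') ⟨𝟙 T' ≫ f⟩ = _
  rw [Category.id_comp]
  rfl

theorem repBySp_of_isPullback {F' F G G' : PSp S} {fst : F' ⟶ F} {snd : F' ⟶ G'} {a : F ⟶ G}
    {b : G' ⟶ G} (sq : IsPullback fst snd a b) (ha : RepBySp a) : RepBySp snd :=
  fun _ ξ _ p q sq' => ha (ξ ≫ b) (p ≫ fst) q (sq'.paste_horiz sq)

theorem repBySpWith_of_isPullback {Q : MorphismProperty (Sp S)} {F' F G G' : PSp S}
    {fst : F' ⟶ F} {snd : F' ⟶ G'} {a : F ⟶ G}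
    {b : G' ⟶ G} (sq : IsPullback fst snd a b) (ha : RepBySpWith Q a) : RepBySpWith Q snd :=
  fun _ ξ _ p q sq' => ha (ξ ≫ b) (p ≫ fst) q (sq'.paste_horiz sq)

theorem isSheaf_of_repBySp {F G : PSp S} (a : F ⟶ G) (ha : RepBySp a)
    (hG : Presheaf.IsSheaf (J S) G) : Presheaf.IsSheaf (J S) F := by
  rw [isSheaf_iff_isSheaf_of_type] at hG ⊢
  intro X R hR x hx
  obtain ⟨g, hg, hgu⟩ := hG R hR (Presieve.FamilyOfElements.map x a) (hx.map a)
  have sq := IsPullback.of_hasPullback a (secMap g)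
  obtain ⟨hP, -⟩ := ha (secMap g) _ _ sq
  rw [isSheaf_iff_isSheaf_of_type] at hP
  let P := pullback a (secMap g)
  have mk : ∀ {T : Over S} (z : F.obj (op T)) (f : T ⟶ X), a.app _ z = G.map f.op g →
      ∃ w : P.obj (op T), (pullback.fst a (secMap g)).app _ w = z ∧
        (pullback.snd a (secMap g)).app _ w = ⟨f⟩ := by
    intro T z f h
    have w : secMap z ≫ a = (pyon S).map f ≫ secMap g := by rw [secMap_comp, secMap_map, h]
    refine ⟨(pullback.lift (secMap z) ((pyon S).map f) w).app _ ⟨𝟙 T⟩, ?_, ?_⟩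
    · exact (congrArg (fun t => t.app (op T) (⟨𝟙 T⟩ : ULift (T ⟶ T)))
        (pullback.lift_fst (secMap z) ((pyon S).map f) w)).trans (secMap_id z)
    · refine (congrArg (fun t => t.app (op T) (⟨𝟙 T⟩ : ULift (T ⟶ T)))
        (pullback.lift_snd (secMap z) ((pyon S).map f) w)).trans ?_
      change (⟨𝟙 T ≫ f⟩ : ULift (T ⟶ X)) = ⟨f⟩
      rw [Category.id_comp]
  have ext : ∀ {T : Over S} (w w' : P.obj (op T)),
      (pullback.fst a (secMap g)).app _ w = (pullback.fst a (secMap g)).app _ w' →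
      (pullback.snd a (secMap g)).app _ w = (pullback.snd a (secMap g)).app _ w' → w = w' := by
    intro T w w' h₁ h₂
    apply secMap_inj
    apply pullback.hom_ext <;> rw [secMap_comp, secMap_comp]
    · rw [h₁]
    · rw [h₂]
  choose y hy₁ hy₂ using fun {Y : Over S} (f : Y ⟶ X) (hf : R f) => mk (x f hf) f (hg f hf).symm
  have hy : Presieve.FamilyOfElements.Compatible (fun Y f hf => y f hf : Presieve.FamilyOfElements P R) := by
    intro Y₁ Y₂ Z g₁ g₂ f₁ f₂ h₁ h₂ e
    refine ext _ _ ?_ ?_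
    · rw [NatTrans.naturality_apply, NatTrans.naturality_apply, hy₁, hy₁]
      exact hx g₁ g₂ h₁ h₂ e
    · rw [NatTrans.naturality_apply, NatTrans.naturality_apply, hy₂, hy₂]
      exact congrArg ULift.up e
  obtain ⟨w, hw, -⟩ := hP R hR _ hy
  refine ⟨(pullback.fst a (secMap g)).app _ w, fun Y f hf => ?_, fun z hz => ?_⟩
  · change F.map f.op _ = x f hf
    refine Eq.trans ?_ (hy₁ f hf)
    rw [← NatTrans.naturality_apply]
    exact congrArg _ (hw f hf)
  · have haz : a.app _ z = G.map (𝟙 X).op g := by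
      rw [op_id, CategoryTheory.Functor.map_id]
      refine hgu _ fun Y f hf => ?_
      change G.map f.op (a.app _ z) = a.app _ (x f hf)
      rw [← hz f hf, NatTrans.naturality_apply]
    obtain ⟨w₀, h₁, h₂⟩ := mk z (𝟙 X) haz
    have e : w₀ = w := by
      refine (hP R hR).isSeparatedFor _ _ _ (fun Y f hf => ?_) hw
      change P.map f.op w₀ = y f hf
      refine ext _ _ ?_ ?_
      · rw [NatTrans.naturality_apply, h₁, hy₁]
        exact hz f hf
      · rw [NatTrans.naturality_apply, h₂, hy₂]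
        exact congrArg ULift.up (Category.comp_id f)
    rw [← e, h₁]

theorem representable_from_yon_of_repBySp {F G : Sp S} {a : F ⟶ G} (ha : RepBySp a.hom)
    (hG : IsAlgSpace G) {T : Over S} (g : (yon S).obj T ⟶ F) : Representable g := by
  intro T' g'
  obtain ⟨V, p, q, sG⟩ := AlgSpc.exists_sq (hG.representable_from_yon (g ≫ a)) (g' ≫ a)
  obtain ⟨Q, fq, sq', sQ⟩ : ∃ (Q : Sp S) (fst : Q ⟶ F) (snd : Q ⟶ (yon S).obj V),
      IsPullback fst snd a (p ≫ g ≫ a) := ⟨_, _, _, IsPullback.of_hasPullback _ _⟩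
  have hQ : IsAlgSpace Q := (repBySp_hom_iff a).1 ha _ _ _ sQ
  have w₁ : (p ≫ g) ≫ a = 𝟙 _ ≫ p ≫ g ≫ a := by simp
  have w₂ : ((yon S).map q ≫ g') ≫ a = 𝟙 _ ≫ p ≫ g ≫ a := by simp [sG.w]
  let α := sQ.lift (p ≫ g) (𝟙 _) w₁
  let β := sQ.lift ((yon S).map q ≫ g') (𝟙 _) w₂
  obtain ⟨W, e, hm, he, huni⟩ := AlgSpc.exists_equalizer hQ.diag α β
  have w : ((yon S).map e ≫ p) ≫ g = (yon S).map (e ≫ q) ≫ g' := by
    have := congrArg (· ≫ fq) he
    simp only [Category.assoc, α, β, IsPullback.lift_fst] at this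
    simpa using this
  have hc : ∀ s : PullbackCone g g', s.fst ≫ g ≫ a = s.snd ≫ g' ≫ a := fun s => by
    rw [← Category.assoc, s.condition, Category.assoc]
  let c : ∀ s : PullbackCone g g', s.pt ⟶ (yon S).obj V := fun s => sG.lift s.fst s.snd (hc s)
  have hce : ∀ s : PullbackCone g g', c s ≫ α = c s ≫ β := fun s => by
    apply sQ.hom_ext
    · simp only [c, α, β, Category.assoc, IsPullback.lift_fst]
      rw [sG.lift_fst_assoc, sG.lift_snd_assoc, s.condition]
    · simp [α, β]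
  choose k hk using fun s => huni (c s) (hce s)
  refine ⟨W, e ≫ q, (yon S).map e ≫ p, IsPullback.of_isLimit
    (PullbackCone.IsLimit.mk w k (fun s => ?_) (fun s => ?_) fun s m h₁ h₂ => ?_)⟩
  · rw [← Category.assoc, hk]; exact sG.lift_fst _ _ _
  · rw [Functor.map_comp, ← Category.assoc, hk]; exact sG.lift_snd _ _ _
  · rw [← cancel_mono ((yon S).map e), hk]
    apply sG.hom_ext
    · simp only [c, IsPullback.lift_fst, Category.assoc]; exact h₁
    · simp only [c, IsPullback.lift_snd, Category.assoc]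
      rw [Functor.map_comp] at h₂; exact h₂

theorem isAlgSpace_of_repBySp {F G : Sp S} (a : F ⟶ G) (ha : RepBySp a.hom) (hG : IsAlgSpace G) :
    IsAlgSpace F where
  diag := Functor.relativelyRepresentable.diag_of_map_from_obj fun _ g =>
    representable_from_yon_of_repBySp ha hG g
  atlas := by
    obtain ⟨U, p, hp, hp'⟩ := hG.atlas
    obtain ⟨Q, fq, sq', sQ⟩ : ∃ (Q : Sp S) (fst : Q ⟶ F) (snd : Q ⟶ (yon S).obj U),
        IsPullback fst snd a p := ⟨_, _, _, IsPullback.of_hasPullback _ _⟩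
    have hQ : IsAlgSpace Q := (repBySp_hom_iff a).1 ha _ _ _ sQ
    obtain ⟨W, r, hr, hr'⟩ := hQ.atlas
    exact ⟨W, r ≫ fq, AlgSpc.repWith_comp hr (AlgSpc.repWith_of_isPullback sQ.flip hp),
      AlgSpc.repWith_comp hr' (AlgSpc.repWith_of_isPullback sQ.flip hp')⟩

theorem isAlgSpaceP_of_repBySp {F G : PSp S} (a : F ⟶ G) (ha : RepBySp a) (hG : IsAlgSpaceP G) :
    IsAlgSpaceP F := by
  obtain ⟨hG₁, hG₂⟩ := hG
  have hF := isSheaf_of_repBySp a ha hG₁
  exact ⟨hF, isAlgSpace_of_repBySp (F := ⟨F, hF⟩) (G := ⟨G, hG₁⟩) (ObjectProperty.homMk a) ha hG₂⟩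

end Groth.Agent.AlgStB
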