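import Groth.Agent.AlgStB.SmoothBootstrap
import Groth.Agent.AlgSpc.SepLQF2
import Groth.Agent.EtLocalLib.Nbhd

/-!
# Bootstrap along smooth covers representable by algebraic spaces
-/

set_option autoImplicit false
set_option linter.style.haveILetI false
set_option backward.isDefEq.respectTransparency false

universe u

open CategoryTheory CategoryTheory.Limits AlgebraicGeometry Opposite

namespace Groth.Agent.AlgSpc

open _root_.AlgSp Groth.Agent.AlgSpLoc

variable {S : Scheme.{u}}

/-- A monomorphism locally of finite type to a scheme is locally quasi-finite. -/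
theorem locP_lqf_of_mono_lft {P : Sp S} {Q : Over S} (hP : IsAlgSpace P) (n : P ⟶ (yon S).obj Q) [Mono n]
    (h : LocP @LocallyOfFiniteType n) : LocP (@LocallyQuasiFinite ⊓ @LocallyOfFiniteType) n := by
  obtain ⟨W, a, ha, has⟩ := hP.atlas
  let φ : W ⟶ Q := pre (a ≫ n)
  have w : a ≫ n = (yon S).map φ ≫ 𝟙 _ := by simp [φ]
  have hid : RepWith @Etale (𝟙 ((yon S).obj Q)) := repWith_id _ Q
  haveI : LocallyOfFiniteType φ.left := h a _ φ ha hid w
  obtain ⟨R, fst, r₂, sqa⟩ := exists_sq ha.1 a
  let r₁ : R ⟶ W := pre fst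
  haveI : Etale r₁.left := sq_etale sqa ha
  have sqR : IsPullback ((yon S).map r₁) ((yon S).map r₂) a a := by rw [map_pre]; exact sqa
  have sqn : IsPullback ((yon S).map r₁) ((yon S).map r₂) ((yon S).map φ) ((yon S).map φ) := by
    refine IsPullback.of_isLimit' ⟨?_⟩ (PullbackCone.IsLimit.mk _
      (fun c => sqR.lift c.fst c.snd ?_) (fun c => sqR.lift_fst _ _ _) (fun c => sqR.lift_snd _ _ _)
      fun c m h1 h2 => sqR.hom_ext (h1.trans (sqR.lift_fst _ _ _).symm) (h2.trans (sqR.lift_snd _ _ _).symm))
    · rw [map_pre (a ≫ n), ← Category.assoc, sqR.w, Category.assoc]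
    · apply (cancel_mono n).mp
      rw [Category.assoc, Category.assoc, ← map_pre (a ≫ n)]
      exact c.condition
  have sqW : IsPullback r₁.left r₂.left φ.left φ.left :=
    (IsPullback.of_map (yon S) ((yon S).map_injective (by simpa using sqn.w)) sqn).map (Over.forget S)
  obtain ⟨e, he₁, he₂⟩ : ∃ e : W ⟶ R, e ≫ r₁ = 𝟙 W ∧ e ≫ r₂ = 𝟙 W :=
    ⟨pre (sqR.lift (𝟙 _) (𝟙 _) rfl), (yon S).map_injective (by simp), (yon S).map_injective (by simp)⟩
  haveI : Etale (e.left ≫ r₁.left) := by rw [← Over.comp_left, he₁]; infer_instance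
  haveI : Etale e.left := Etale.of_comp e.left r₁.left
  haveI : Mono e.left := by
    haveI : Mono (e.left ≫ r₁.left) := by rw [← Over.comp_left, he₁]; infer_instance
    exact mono_of_mono e.left r₁.left
  haveI : IsOpenImmersion e.left := IsOpenImmersion.of_flat_of_mono e.left
  haveI : IsOpenImmersion (pullback.diagonal φ.left) := by
    have : pullback.diagonal φ.left = e.left ≫ sqW.isoPullback.hom := by
      apply pullback.hom_ext
      · rw [pullback.diagonal_fst, Category.assoc, sqW.isoPullback_hom_fst]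
        exact (congrArg CommaMorphism.left he₁).symm
      · rw [pullback.diagonal_snd, Category.assoc, sqW.isoPullback_hom_snd]
        exact (congrArg CommaMorphism.left he₂).symm
    rw [this]; infer_instance
  exact locP_of_chart ha has hid w
    ⟨Groth.Agent.EtLocalLib.lqf_of_unramified φ.left, inferInstance⟩

/-- A sheaf with a smooth surjective map from a scheme, representable by spaces, is an algebraic space. -/
theorem isAlgSpace_of_smooth_cover_scheme {U : Over S} {F : Sp S} (q : (yon S).obj U ⟶ F)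
    (hq : RepBySpWith (IsSurjectiveMor ⊓ LocP @Smooth) q.hom) : IsAlgSpace F := by
  rw [repBySpWith_hom_iff] at hq
  have key : ∀ (T : Over S) (g : (yon S).obj T ⟶ F), ∃ (V : Over S) (fst : (yon S).obj V ⟶ (yon S).obj U)
      (snd : V ⟶ T), IsPullback fst ((yon S).map snd) q g ∧ Smooth snd.left ∧ Surjective snd.left := by
    intro T g
    have sqP := IsPullback.of_hasPullback q g
    obtain ⟨hP, hs, hsm⟩ := hq g _ _ sqP
    have hQ := (IsPullback.of_hasPullback (toBase U) (toBase T)).map (yon S)
    let n := hQ.lift (pullback.fst q g) (pullback.snd q g) (yon_toBase_unique _ _)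
    have hn₁ : n ≫ (yon S).map (pullback.fst (toBase U) (toBase T)) = pullback.fst q g := hQ.lift_fst _ _ _
    have hn₂ : n ≫ (yon S).map (pullback.snd (toBase U) (toBase T)) = pullback.snd q g := hQ.lift_snd _ _ _
    haveI : Mono n := ⟨fun a b e => sqP.hom_ext
      (by rw [← hn₁, reassoc_of% e]) (by rw [← hn₂, reassoc_of% e])⟩
    have hlft : LocP @LocallyOfFiniteType n :=
      locP_of_comp (P := @Smooth) (Q := ⊤) (g := (yon S).map (pullback.snd (toBase U) (toBase T)))
        (fun f g hfg _ => by
          haveI : Smooth (f ≫ g) := hfg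
          exact locallyOfFiniteType_of_comp f g)
        hP (IsAlgSpace.yon_obj _) (IsAlgSpace.yon_obj T) (by rw [hn₂]; exact hsm) (locP_top _)
    obtain ⟨V, ⟨χ⟩⟩ := exists_yon_iso_of_mono_lqf hP n (locP_lqf_of_mono_lft hP n hlft)
    refine ⟨V, χ.hom ≫ pullback.fst q g, pre (χ.hom ≫ pullback.snd q g),
      IsPullback.of_iso_pullback ⟨?_⟩ χ rfl (map_pre _).symm, ?_, ⟨fun t => ?_⟩⟩
    · rw [map_pre, Category.assoc, Category.assoc, pullback.condition]
    · exact hsm χ.hom _ (pre (χ.hom ≫ pullback.snd q g)) (repWith_iso χ.hom) (repWith_id _ T) (by simp)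
    · obtain ⟨x, hx⟩ := hs (Points.ofScheme T t)
      obtain ⟨v, rfl⟩ := surjective_ofPt (repWith_iso (P := @Surjective) χ.hom) x
      refine ⟨v, ?_⟩
      rw [Points.map_ofPt, ← map_pre (χ.hom ≫ pullback.snd q g)] at hx
      have := congrArg (Points.toScheme T) hx
      rwa [Points.toScheme_ofPt, Points.toScheme_ofScheme] at this
  refine isAlgSpace_of_smooth_atlas q (repWith_mk fun T g => ?_) (repWith_mk fun T g => ?_) <;>
    obtain ⟨V, fst, snd, sq, h₁, h₂⟩ := key T g <;> exact ⟨V, fst, snd, sq, by assumption⟩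

end Groth.Agent.AlgSpc
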