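import Groth.Agent.AlgStB.EtaleSection
import Groth.Agent.AlgStB.SmoothBootstrapSp
import Groth.Agent.AlgStB.RepSp
import Groth.Agent.AlgSpc.FppfGlue

/-!
# An etale sheaf with a smooth surjective cover by a space is an algebraic space
-/

set_option autoImplicit false
set_option linter.style.haveILetI false
set_option backward.isDefEq.respectTransparency false

universe u

open CategoryTheory CategoryTheory.Limits AlgebraicGeometry Opposite

namespace Groth.Agent.AlgSpc

open _root_.AlgSp Groth.Agent.AlgStB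

variable {S : Scheme.{u}}

/-- An etale surjection generates a covering of the etale site. -/
theorem mem_etale_of_cover {V T : Over S} (q : V ⟶ T) [Etale q.left] [Surjective q.left] :
    Sieve.generate (Presieve.singleton q) ∈ (QuotSh.J Scheme.etalePrecoverage S) T := by
  rw [GrothendieckTopology.mem_over_iff]
  have h : Presieve.singleton q.left ∈ Scheme.etalePrecoverage T.left := by
    rw [Scheme.etalePrecoverage, Scheme.singleton_mem_precoverage_iff]
    exact ⟨q.left.surjective, ‹_›⟩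
  refine GrothendieckTopology.superset_covering _ ?_ (Precoverage.generate_mem_toGrothendieck h)
  rw [Sieve.generate_le_iff]
  rintro Z g ⟨⟩
  rw [Sieve.overEquiv_iff]
  exact ⟨V, Over.homMk (𝟙 V.left) (by simp), q, ⟨⟩, by ext; simp⟩

/-- A property of the kernel pair of a locally surjective map passes to the map. -/
theorem repWith_of_kernelPair {P : MorphismProperty Scheme.{u}} [P.IsStableUnderBaseChange]
    [P.DescendsAlong (@Surjective ⊓ @Flat ⊓ @LocallyOfFinitePresentation : MorphismProperty Scheme.{u})]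
    {U R : Over S} {F : Sp S} (q : (yon S).obj U ⟶ F) [Sheaf.IsLocallySurjective q] {r₁ r₂ : R ⟶ U}
    (sqR : IsPullback ((yon S).map r₁) ((yon S).map r₂) q q) [LocallyOfFiniteType r₁.left]
    (hP : P r₂.left) : RepWith P q ∧ RepWith @Surjective q := by
  have hrep : ∀ (T : Over S) (g : (yon S).obj T ⟶ F),
      ∃ (V : Over S) (fst : (yon S).obj V ⟶ (yon S).obj U) (snd : V ⟶ T),
        IsPullback fst ((yon S).map snd) q g ∧ P snd.left ∧ Surjective snd.left := by
    intro T g
    obtain ⟨T₁, c, u, h₁, h₂, h₃, hu⟩ := exists_fppf_lift q g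
    obtain ⟨U₁, d, u', k₁, k₂, k₃, hu'⟩ := exists_fppf_lift q q
    obtain ⟨V, fst, snd, sq⟩ := exists_pullback_of_lifts sqR q g d c u' u hu' hu
    let o : T₁ ⟶ V := pre (sq.lift ((yon S).map u) ((yon S).map c) hu.symm)
    have ho : o ≫ snd = c := (yon S).map_injective (by simp [o])
    refine ⟨V, fst, snd, sq, ?_, ⟨fun t => ?_⟩⟩
    · have s₁ := (IsPullback.of_hasPullback r₂ u).map (yon S)
      have s₂ := (IsPullback.of_hasPullback snd c).map (yon S)
      have big₁ : IsPullback ((yon S).map (pullback.fst r₂ u) ≫ (yon S).map r₁)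
          ((yon S).map (pullback.snd r₂ u)) q ((yon S).map u ≫ q) := s₁.paste_horiz sqR
      have big₂ : IsPullback ((yon S).map (pullback.fst snd c) ≫ fst)
          ((yon S).map (pullback.snd snd c)) q ((yon S).map c ≫ g) := s₂.paste_horiz sq
      rw [← hu] at big₁
      let i := big₁.isoIsPullback _ _ big₂
      have hi' : i.inv ≫ (yon S).map (pullback.snd r₂ u) = (yon S).map (pullback.snd snd c) :=
        IsPullback.isoIsPullback_inv_snd _ _ _ _
      have hi'' : pre i.inv ≫ pullback.snd r₂ u = pullback.snd snd c := (yon S).map_injective (by simp [hi'])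
      haveI : IsIso (pre i.inv).left := by
        haveI : IsIso (pre i.inv) := by
          haveI : IsIso ((yon S).map (pre i.inv)) := by rw [map_pre]; infer_instance
          exact isIso_of_fully_faithful (yon S) _
        exact inferInstanceAs (IsIso ((Over.forget S).map (pre i.inv)))
      have het : P (pullback.snd snd c).left := by
        rw [← hi'', Over.comp_left, P.cancel_left_of_respectsIso]
        exact MorphismProperty.of_isPullback (P := P) ((IsPullback.of_hasPullback r₂ u).map (Over.forget S)) hP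
      exact MorphismProperty.of_isPullback_of_descendsAlong (P := P)
        (Q := @Surjective ⊓ @Flat ⊓ @LocallyOfFinitePresentation)
        ((IsPullback.of_hasPullback snd c).map (Over.forget S)).flip ⟨⟨h₃, h₁⟩, h₂⟩ het
    · obtain ⟨t₁, ht⟩ := c.left.surjective t
      refine ⟨o.left t₁, ?_⟩
      rw [← Scheme.Hom.comp_apply, ← Over.comp_left, ho]
      exact ht
  refine ⟨repWith_mk fun T g => ?_, repWith_mk fun T g => ?_⟩ <;>
    obtain ⟨V, fst, snd, sq, h₁, h₂⟩ := hrep T g <;> exact ⟨V, fst, snd, sq, by assumption⟩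

/-- The pullbacks of a cover representable by spaces are schemes. -/
theorem exists_scheme_pullback {F : PSp S} {U : Over S} (q : (pyon S).obj U ⟶ F)
    (hq : RepBySpWith (IsSurjectiveMor ⊓ LocP @Smooth) q) {T : Over S} (g : (pyon S).obj T ⟶ F) :
    ∃ (V : Over S) (a : V ⟶ U) (snd : V ⟶ T),
      IsPullback ((pyon S).map a) ((pyon S).map snd) q g ∧ Smooth snd.left ∧ Surjective snd.left := by
  have sqP := IsPullback.of_hasPullback q g
  obtain ⟨h, hP, hs, hsm⟩ := hq g _ _ sqP
  let P : Sp S := ⟨_, h⟩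
  let n₁ : P ⟶ (yon S).obj U := ObjectProperty.homMk (pullback.fst q g)
  let n₂ : P ⟶ (yon S).obj T := ObjectProperty.homMk (pullback.snd q g)
  have hQ := (IsPullback.of_hasPullback (toBase U) (toBase T)).map (yon S)
  let n : P ⟶ (yon S).obj (pullback (toBase U) (toBase T)) := hQ.lift n₁ n₂ (yon_toBase_unique _ _)
  have hn₁ : n ≫ (yon S).map (pullback.fst (toBase U) (toBase T)) = n₁ := hQ.lift_fst _ _ _
  have hn₂ : n ≫ (yon S).map (pullback.snd (toBase U) (toBase T)) = n₂ := hQ.lift_snd _ _ _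
  haveI : Mono n := ⟨fun a b e => by
    ext1
    exact sqP.hom_ext (congrArg (fun φ => φ.hom)
        (show a ≫ n₁ = b ≫ n₁ by rw [← hn₁, reassoc_of% e]))
      (congrArg (fun φ => φ.hom) (show a ≫ n₂ = b ≫ n₂ by rw [← hn₂, reassoc_of% e]))⟩
  have hlft : LocP @LocallyOfFiniteType n :=
    locP_of_comp (P := @Smooth) (Q := ⊤) (g := (yon S).map (pullback.snd (toBase U) (toBase T)))
      (fun f g hfg _ => by
        haveI : Smooth (f ≫ g) := hfg
        exact locallyOfFiniteType_of_comp f g)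
      hP (IsAlgSpace.yon_obj _) (IsAlgSpace.yon_obj T) (by rw [hn₂]; exact hsm) (locP_top _)
  obtain ⟨V, ⟨χ⟩⟩ := exists_yon_iso_of_mono_lqf hP n (locP_lqf_of_mono_lft hP n hlft)
  refine ⟨V, pre (χ.hom ≫ n₁), pre (χ.hom ≫ n₂),
    IsPullback.of_iso_pullback ⟨?_⟩ ((sheafToPresheaf _ _).mapIso χ) ?_ ?_, ?_, ⟨fun t => ?_⟩⟩
  · change ((yon S).map (pre (χ.hom ≫ n₁))).hom ≫ q = ((yon S).map (pre (χ.hom ≫ n₂))).hom ≫ g
    rw [map_pre, map_pre]
    change (χ.hom.hom ≫ pullback.fst q g) ≫ q = (χ.hom.hom ≫ pullback.snd q g) ≫ g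
    rw [Category.assoc, Category.assoc, pullback.condition]
  · change χ.hom.hom ≫ pullback.fst q g = ((yon S).map (pre (χ.hom ≫ n₁))).hom
    rw [map_pre]; rfl
  · change χ.hom.hom ≫ pullback.snd q g = ((yon S).map (pre (χ.hom ≫ n₂))).hom
    rw [map_pre]; rfl
  · exact hsm χ.hom _ (pre (χ.hom ≫ n₂)) (repWith_iso χ.hom) (repWith_id _ T) (by simp; rfl)
  · obtain ⟨x, hx⟩ := hs (Points.ofScheme T t)
    obtain ⟨v, rfl⟩ := surjective_ofPt (repWith_iso (P := @Surjective) χ.hom) x
    refine ⟨v, ?_⟩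
    change Points.map n₂ _ = _ at hx
    rw [Points.map_ofPt, ← map_pre (χ.hom ≫ n₂)] at hx
    have := congrArg (Points.toScheme T) hx
    rwa [Points.toScheme_ofPt, Points.toScheme_ofScheme] at this

/-- An etale sheaf with a smooth cover by a scheme. -/
theorem isAlgSpaceP_of_etale_sheaf_scheme {F : PSp S}
    (hF : Presheaf.IsSheaf (QuotSh.J Scheme.etalePrecoverage S) F) {U : Over S}
    (q : (pyon S).obj U ⟶ F) (hq : RepBySpWith (IsSurjectiveMor ⊓ LocP @Smooth) q) : IsAlgSpaceP F := by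
  obtain ⟨x₀, rfl⟩ := secMap_surjective q
  obtain ⟨R, r₁, r₂, sq, hr₂, -⟩ := exists_scheme_pullback _ hq (secMap x₀)
  have hr₁ : Smooth r₁.left := by
    obtain ⟨R', a, b, sq', hb, -⟩ := exists_scheme_pullback _ hq (secMap x₀)
    let i := sq'.isoIsPullback _ _ sq.flip
    let e : R' ⟶ R := pre (ObjectProperty.homMk i.hom : (yon S).obj R' ⟶ (yon S).obj R)
    have he : (yon S).map e = (ObjectProperty.homMk i.hom : (yon S).obj R' ⟶ (yon S).obj R) := map_pre _
    haveI : IsIso ((yon S).map e) := by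
      rw [he]
      exact (((fullyFaithfulSheafToPresheaf (J S) _).preimageIso
        (X := (yon S).obj R') (Y := (yon S).obj R) i).isIso_hom)
    haveI : IsIso e := isIso_of_fully_faithful (yon S) _
    haveI : IsIso e.left := inferInstanceAs (IsIso ((Over.forget S).map e))
    have h : e ≫ r₁ = b := (yon S).map_injective (by
      rw [Functor.map_comp, he]
      ext1
      exact sq'.isoIsPullback_hom_snd _ _ sq.flip)
    rw [← h, Over.comp_left, MorphismProperty.cancel_left_of_respectsIso (P := @Smooth)] at hb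
    exact hb
  have rel : ∀ {Z : Over S} {a b : Z ⟶ U},
      F.map a.op x₀ = F.map b.op x₀ → ∃ r : Z ⟶ R, r ≫ r₁ = a ∧ r ≫ r₂ = b := by
    intro Z a b w
    have w' : (pyon S).map a ≫ secMap x₀ = (pyon S).map b ≫ secMap x₀ := by rw [secMap_map, secMap_map, w]
    let l : (yon S).obj Z ⟶ (yon S).obj R := ObjectProperty.homMk (sq.lift _ _ w')
    refine ⟨pre l, (yon S).map_injective ?_, (yon S).map_injective ?_⟩
    · rw [Functor.map_comp, map_pre]; ext1; exact sq.lift_fst _ _ _
    · rw [Functor.map_comp, map_pre]; ext1; exact sq.lift_snd _ _ _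
  have rel' : F.map r₁.op x₀ = F.map r₂.op x₀ := secMap_inj (by rw [← secMap_map, ← secMap_map, sq.w])
  have rext : ∀ {Z : Over S} {r r' : Z ⟶ R}, r ≫ r₁ = r' ≫ r₁ → r ≫ r₂ = r' ≫ r₂ → r = r' := by
    intro Z r r' e₁ e₂
    refine (yon S).map_injective ?_
    ext1
    refine sq.hom_ext ?_ ?_
    · change ((yon S).map r ≫ (yon S).map r₁).hom = ((yon S).map r' ≫ (yon S).map r₁).hom
      rw [← Functor.map_comp, ← Functor.map_comp, e₁]
    · change ((yon S).map r ≫ (yon S).map r₂).hom = ((yon S).map r' ≫ (yon S).map r₂).hom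
      rw [← Functor.map_comp, ← Functor.map_comp, e₂]
  have lift : ∀ (T : Over S) (x : F.obj (op T)), ∃ (T' : Over S) (c : T' ⟶ T) (a : T' ⟶ U),
      Etale c.left ∧ Surjective c.left ∧ F.map c.op x = F.map a.op x₀ := by
    intro T x
    obtain ⟨V, a, s, sqV, h₁, h₂⟩ := exists_scheme_pullback _ hq (secMap x)
    obtain ⟨T', c, v, h₃, h₄, hc⟩ := Groth.Agent.AlgStB.exists_etale_lift s
    refine ⟨T', c, v ≫ a, h₃, h₄, secMap_inj ?_⟩
    rw [← secMap_map, ← secMap_map, ← hc, Functor.map_comp, Functor.map_comp, Category.assoc,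
      Category.assoc, sqV.w]
  have hsh : ∀ {T' T : Over S} (c : T' ⟶ T), Etale c.left → Surjective c.left →
      Presieve.IsSheafFor F (Presieve.singleton c) := fun {T' T} c _ _ =>
    (Presieve.isSheafFor_iff_generate _).2 ((isSheaf_iff_isSheaf_of_type _ _).1 hF _ (mem_etale_of_cover c))
  -- the sheafification and injectivity
  let G : Sp S := (presheafToSheaf (J S) (Type (u + 1))).obj F
  let η : F ⟶ G.obj := toSheafify (J S) F
  have inj : ∀ (T : Over S) (x y : F.obj (op T)), η.app _ x = η.app _ y → x = y := by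
    intro T x y w
    obtain ⟨T₁, c₁, a, e₁, s₁, ha⟩ := lift T x
    obtain ⟨T₂, c₂, b, e₂, s₂, hb⟩ := lift T₁ (F.map c₁.op y)
    have hE := (J S).pullback_stable (c₂ ≫ c₁) (Presheaf.equalizerSieve_mem (J S) η x y w)
    refine (hsh c₁ e₁ s₁).isSeparatedFor.ext ?_
    rintro _ _ ⟨⟩
    refine (hsh c₂ e₂ s₂).isSeparatedFor.ext ?_
    rintro _ _ ⟨⟩
    rw [ha, hb, ← FunctorToTypes.map_comp_apply, ← op_comp]
    have hloc : ∀ {Z : Over S} {f : Z ⟶ T₂}, (Sieve.pullback (c₂ ≫ c₁) (Presheaf.equalizerSieve (F := F) (X := op T) x y)).arrows f →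
        F.map (f ≫ c₂ ≫ a).op x₀ = F.map (f ≫ b).op x₀ := by
      intro Z f hf
      change F.map (f ≫ c₂ ≫ c₁).op x = F.map (f ≫ c₂ ≫ c₁).op y at hf
      simp only [op_comp, FunctorToTypes.map_comp_apply] at hf ⊢
      rw [← ha, ← hb]
      exact hf
    let X : Presieve.FamilyOfElements ((yon S).obj R).obj
        (Sieve.pullback (c₂ ≫ c₁) (Presheaf.equalizerSieve (F := F) (X := op T) x y)).arrows :=
      fun Z f hf => ⟨(rel (hloc hf)).choose⟩
    have hX : X.Compatible := by
      intro Y₁ Y₂ Z g₁ g₂ f₁ f₂ h₁ h₂ e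
      apply ULift.ext
      change g₁ ≫ (rel (hloc h₁)).choose = g₂ ≫ (rel (hloc h₂)).choose
      apply rext
      · rw [Category.assoc, Category.assoc, (rel (hloc h₁)).choose_spec.1, (rel (hloc h₂)).choose_spec.1,
          reassoc_of% e]
      · rw [Category.assoc, Category.assoc, (rel (hloc h₁)).choose_spec.2, (rel (hloc h₂)).choose_spec.2,
          reassoc_of% e]
    obtain ⟨⟨r⟩, hr, -⟩ := (isSheaf_iff_isSheaf_of_type _ _).1 ((yon S).obj R).property _ hE X hX
    have hsU := ((isSheaf_iff_isSheaf_of_type _ _).1 ((yon S).obj U).property _ hE).isSeparatedFor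
    have h₁ : (⟨r ≫ r₁⟩ : ((yon S).obj U).obj.obj (op T₂)) = ⟨c₂ ≫ a⟩ := hsU.ext fun Z f hf => by
      apply ULift.ext
      change f ≫ r ≫ r₁ = f ≫ c₂ ≫ a
      rw [← Category.assoc, show f ≫ r = _ from congrArg ULift.down (hr f hf),
        (rel (hloc hf)).choose_spec.1]
    have h₂ : (⟨r ≫ r₂⟩ : ((yon S).obj U).obj.obj (op T₂)) = ⟨b⟩ := hsU.ext fun Z f hf => by
      apply ULift.ext
      change f ≫ r ≫ r₂ = f ≫ b
      rw [← Category.assoc, show f ≫ r = _ from congrArg ULift.down (hr f hf),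
        (rel (hloc hf)).choose_spec.2]
    have e₁ : c₂ ≫ a = r ≫ r₁ := (congrArg ULift.down h₁).symm
    have e₂ : b = r ≫ r₂ := (congrArg ULift.down h₂).symm
    rw [e₁, e₂, op_comp, op_comp, FunctorToTypes.map_comp_apply, FunctorToTypes.map_comp_apply, rel']
  haveI : Mono η := @NatTrans.mono_of_mono_app _ _ _ _ _ _ _ fun T => (mono_iff_injective _).2 (inj T.unop)
  haveI : Presheaf.IsLocallySurjective (J S) (secMap x₀) := ⟨fun {T} x => by
    obtain ⟨T', c, a, _, _, h⟩ := lift T x
    exact mem_J_of_cover c ⟨⟨a⟩, h.symm⟩⟩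
  haveI : Presheaf.IsLocallySurjective (J S) η := inferInstance
  -- the atlas of the sheafification
  let q' : (yon S).obj U ⟶ G := ObjectProperty.homMk (secMap x₀ ≫ η)
  haveI : Sheaf.IsLocallySurjective q' :=
    inferInstanceAs (Presheaf.IsLocallySurjective (J S) (secMap x₀ ≫ η))
  have sqR : IsPullback ((yon S).map r₁) ((yon S).map r₂) q' q' := by
    refine IsPullback.of_map (sheafToPresheaf (J S) _) ?_ (FppfDescent.isPullback_comp_mono sq η)
    ext1
    exact (FppfDescent.isPullback_comp_mono sq η).w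
  haveI : LocallyOfFiniteType r₁.left := inferInstance
  obtain ⟨hsm, hsurj⟩ := repWith_of_kernelPair (P := @Smooth) q' sqR hr₂
  have hG : IsAlgSpace G := isAlgSpace_of_smooth_atlas q' hsm hsurj
  have surj : ∀ (T : Over S) (s : G.obj.obj (op T)), ∃ x, η.app _ x = s := by
    intro T s
    obtain ⟨V, fst, snd, sqV⟩ := exists_sq hsm.1 (ObjectProperty.homMk (secMap s) : (yon S).obj T ⟶ G)
    haveI : Smooth snd.left := hsm.2 _ _ _ sqV
    haveI : Surjective snd.left := hsurj.2 _ _ _ sqV
    obtain ⟨T', c, v, h₁, h₂, hc⟩ := Groth.Agent.AlgStB.exists_etale_lift snd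
    let a := v ≫ pre fst
    have key : G.obj.map c.op s = η.app _ (F.map a.op x₀) := secMap_inj (by
      rw [← secMap_map, ← secMap_comp, ← secMap_map, ← hc]
      have hw : fst.hom ≫ secMap x₀ ≫ η = (pyon S).map snd ≫ secMap s :=
        congrArg (fun φ => φ.hom) sqV.w
      have hfst : (pyon S).map (pre fst) = fst.hom := congrArg (fun φ => φ.hom) (map_pre fst)
      simp only [a, Functor.map_comp, Category.assoc, hfst, hw])
    have hsh' := hsh c h₁ h₂
    rw [Presieve.isSheafFor_singleton] at hsh'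
    obtain ⟨y, hy, -⟩ := hsh' (F.map a.op x₀) fun {Z} p₁ p₂ e => inj Z _ _ (by
      rw [NatTrans.naturality_apply η p₁.op, NatTrans.naturality_apply η p₂.op, ← key,
        ← FunctorToTypes.map_comp_apply, ← FunctorToTypes.map_comp_apply, ← op_comp, ← op_comp, e])
    refine ⟨y, ?_⟩
    have hcov : Sieve.generate (Presieve.singleton c) ∈ J S T :=
      mem_J_of_cover c (Sieve.le_generate _ _ _ ⟨⟩)
    refine (((Presieve.isSheafFor_iff_generate _).2
      ((isSheaf_iff_isSheaf_of_type _ _).1 G.property _ hcov))).isSeparatedFor.ext ?_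
    rintro _ _ ⟨⟩
    rw [key, ← hy, NatTrans.naturality_apply]
  haveI : IsIso η := @NatIso.isIso_of_isIso_app _ _ _ _ _ _ η fun T =>
    (isIso_iff_bijective _).2 ⟨inj T.unop, surj T.unop⟩
  exact IsAlgSpaceP.of_iso ⟨G.property, hG⟩ (asIso η).symm

/-- An etale sheaf with a smooth cover by an algebraic space. -/
theorem isAlgSpaceP_of_etale_sheaf {F : PSp S}
    (hF : Presheaf.IsSheaf (QuotSh.J Scheme.etalePrecoverage S) F) (X : Space S) (p : X.obj.obj ⟶ F)
    (hp : RepBySpWith (IsSurjectiveMor ⊓ LocP @Smooth) p) : IsAlgSpaceP F := by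
  obtain ⟨U, a, ha, has⟩ := X.property.atlas
  refine isAlgSpaceP_of_etale_sheaf_scheme hF (a.hom ≫ p) fun T ξ F' fst snd sq => ?_
  obtain ⟨h, hP, hs, hsm⟩ := hp ξ _ _ (IsPullback.of_hasPullback p ξ)
  let P : Sp S := ⟨_, h⟩
  let fP : P ⟶ X.obj := ObjectProperty.homMk (pullback.fst p ξ)
  let sP : P ⟶ (yon S).obj T := ObjectProperty.homMk (pullback.snd p ξ)
  let l : F' ⟶ pullback p ξ := pullback.lift (fst ≫ a.hom) snd (by rw [Category.assoc]; exact sq.w)
  have top : IsPullback fst l a.hom (pullback.fst p ξ) :=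
    IsPullback.of_bot (by rw [pullback.lift_snd]; exact sq) (pullback.lift_fst _ _ _).symm
      (IsPullback.of_hasPullback p ξ)
  have hF' : Presheaf.IsSheaf (J S) F' :=
    isSheaf_of_isPullback (F := (yon S).obj U) (G := X.obj) (H := P) top
  let Q : Sp S := ⟨F', hF'⟩
  let lQ : Q ⟶ P := ObjectProperty.homMk l
  let fQ : Q ⟶ (yon S).obj U := ObjectProperty.homMk fst
  have topS : IsPullback fQ lQ a fP :=
    IsPullback.of_map (sheafToPresheaf (J S) _) (by ext1; exact top.w) top
  have hQ : IsAlgSpace Q := isAlgSpace_of_isPullback (IsAlgSpace.yon_obj U) X.property hP topS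
  have hl : RepWith @Etale lQ := repWith_of_isPullback topS ha
  have hls : RepWith @Surjective lQ := repWith_of_isPullback topS has
  have hc : (ObjectProperty.homMk snd : Q ⟶ (yon S).obj T) = lQ ≫ sP := by
    ext1
    exact (pullback.lift_snd _ _ _).symm
  refine ⟨hF', hQ, ?_, ?_⟩
  · rw [hc]
    intro t
    obtain ⟨z, rfl⟩ := hs t
    obtain ⟨w, rfl⟩ := surjective_map_of_repWith hls z
    exact ⟨w, Points.map_comp lQ sP w⟩
  · rw [hc]
    exact locP_comp hQ hP (IsAlgSpace.yon_obj T)
      (locP_of_repWith (fun e f he hf => EtLoc.precomp e f he hf)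
        (repWith_mono (P := @Etale) (Q := @Smooth) (fun _ _ e (h : Etale e) => (inferInstance : Smooth e)) hl))
      hsm

end Groth.Agent.AlgSpc
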