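import Groth.Agent.AlgSpLoc.Diag
import Groth.Agent.AlgSpLoc.Basic
import Mathlib.AlgebraicGeometry.Morphisms.LocalFlatDescent
import Mathlib.AlgebraicGeometry.Morphisms.QuasiFinite
import Mathlib.AlgebraicGeometry.Morphisms.UniversallyInjective
import Mathlib.AlgebraicGeometry.Morphisms.FormallyUnramified

/-!
# Diagonals of algebraic spaces and of their morphisms
-/

set_option autoImplicit false
set_option backward.isDefEq.respectTransparency false

universe u

open CategoryTheory CategoryTheory.Limits AlgebraicGeometry Opposite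

namespace Groth.Agent.AlgStB

open _root_.AlgSp Groth.Agent.AlgSpc

variable {S : Scheme.{u}}

theorem mono_pr_of_isPullback_diagonal {F G : Sp S} {f : F ⟶ G} {W T : Over S}
    {fst : (yon S).obj W ⟶ F} {snd : W ⟶ T} {ξ : (yon S).obj T ⟶ pullback f f}
    (sq : IsPullback fst ((yon S).map snd) (pullback.diagonal f) ξ) : Mono snd.left := by
  have h : Mono ((yon S).map snd) := ⟨fun {Z} a b w => by
    refine sq.hom_ext ((cancel_mono (pullback.diagonal f)).1 ?_) w
    rw [Category.assoc, Category.assoc, sq.w, reassoc_of% w]⟩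
  have : Mono snd := Functor.mono_of_mono_map (yon S) h
  exact inferInstanceAs (Mono ((Over.forget S).map snd))

/-- Descent of `P` for the diagonal of an algebraic space from an etale atlas. -/
theorem repWith_diag {P : MorphismProperty Scheme.{u}} [P.IsStableUnderBaseChange]
    [P.DescendsAlong (@Surjective ⊓ @Flat ⊓ @LocallyOfFinitePresentation :
      MorphismProperty Scheme.{u})]
    (hP : ∀ ⦃X Y Z : Scheme.{u}⦄ (f : X ⟶ Y) (g : Y ⟶ Z), Etale (f ≫ g) → P f)
    {X : Sp S} (hX : IsAlgSpace X) : RepWith P (Limits.diag X) := by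
  refine repWith_mk fun T ξ => ?_
  obtain ⟨W, fst, snd, sq⟩ := exists_sq hX.diag ξ
  refine ⟨W, fst, snd, sq, ?_⟩
  obtain ⟨U, p, hp, hps⟩ := hX.atlas
  obtain ⟨T₁, u₁, k₁, s₁⟩ := exists_sq hp.1 (ξ ≫ prod.fst)
  obtain ⟨T₂, v, k₂, s₂⟩ := exists_sq hp.1 ((yon S).map k₁ ≫ ξ ≫ prod.snd)
  have e₁ : Etale k₁.left := hp.2 _ _ _ s₁
  have e₂ : Etale k₂.left := hp.2 _ _ _ s₂
  have f₁ : Surjective k₁.left := hps.2 _ _ _ s₁
  have f₂ : Surjective k₂.left := hps.2 _ _ _ s₂
  let k := k₂ ≫ k₁
  have ek : Etale k.left := inferInstanceAs (Etale (k₂.left ≫ k₁.left))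
  have fk : Surjective k.left := inferInstanceAs (Surjective (k₂.left ≫ k₁.left))
  let u := (yon S).map k₂ ≫ u₁
  have hu : u ≫ p = (yon S).map k ≫ ξ ≫ prod.fst := by simp [u, k, s₁.w]
  have hv : v ≫ p = (yon S).map k ≫ ξ ≫ prod.snd := by simp [k, s₂.w]
  obtain ⟨W₂, fst₂, snd₂, sq₂⟩ := exists_sq hX.diag ((yon S).map k ≫ ξ)
  have w₁ : fst₂ = (yon S).map snd₂ ≫ u ≫ p := by
    simpa [hu] using congrArg (· ≫ prod.fst) sq₂.w
  have w₂ : fst₂ = (yon S).map snd₂ ≫ v ≫ p := by
    simpa [hv] using congrArg (· ≫ prod.snd) sq₂.w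
  obtain ⟨Z, g, π, sZ⟩ := exists_sq hp.1 (u ≫ p)
  have eπ : Etale π.left := hp.2 _ _ _ sZ
  let n : Z ⟶ T₂ ⨯ U := prod.lift π (pre g)
  let γ : T₂ ⟶ T₂ ⨯ U := prod.lift (𝟙 _) (pre v)
  let j : W₂ ⟶ Z := pre (sZ.lift ((yon S).map snd₂ ≫ v) ((yon S).map snd₂)
    (by rw [Category.assoc, ← w₂, ← w₁]))
  have hj₁ : (yon S).map j ≫ g = (yon S).map snd₂ ≫ v := by simp [j]
  have hj₂ : j ≫ π = snd₂ := (yon S).map_injective (by simp [j])
  have hj₁' : j ≫ pre g = snd₂ ≫ pre v := (yon S).map_injective (by simp [hj₁])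
  have w : j ≫ n = snd₂ ≫ γ := by
    ext1 <;> simp [n, γ, hj₂, hj₁']
  have s : IsPullback j snd₂ n γ := by
    refine ⟨⟨w⟩, ⟨PullbackCone.IsLimit.mk w (fun c => pre (sq₂.lift
      ((yon S).map c.snd ≫ u ≫ p) ((yon S).map c.snd) ?_)) (fun c => ?_) (fun c => ?_)
      fun c m h₁ h₂ => ?_⟩⟩
    · have e := congrArg (· ≫ prod.fst) c.condition
      have e' := congrArg (· ≫ prod.snd) c.condition
      simp [n, γ] at e e'
      have e'' : (yon S).map c.snd ≫ v = (yon S).map c.fst ≫ g := by
        have := congrArg (yon S).map e'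
        simpa using this.symm
      apply prod.hom_ext
      · simp [hu]
      · simp only [prod.comp_diag, prod.lift_snd, Category.assoc]
        rw [← hv, reassoc_of% e'', sZ.w, ← e]
        simp
    · have e := congrArg (· ≫ prod.fst) c.condition
      have e' := congrArg (· ≫ prod.snd) c.condition
      simp [n, γ] at e e'
      apply (yon S).map_injective
      apply sZ.hom_ext
      · simp [hj₁]
        have := congrArg (yon S).map e'
        simpa using this.symm
      · simp [j]
        rw [← e]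
        simp
    · exact (yon S).map_injective (by simp)
    · apply (yon S).map_injective
      rw [map_pre]
      apply sq₂.hom_ext
      · rw [sq₂.lift_fst, w₁, ← h₂]
        simp
      · rw [sq₂.lift_snd, ← h₂]
        simp
  have hn : P n.left := hP n.left (prod.fst (X := T₂) (Y := U)).left (by
    rw [← Over.comp_left]
    simpa [n] using eπ)
  have hsnd₂ : P snd₂.left := MorphismProperty.of_isPullback (s.map (Over.forget S)) hn
  -- descend along `k`
  have w3 : fst₂ ≫ Limits.diag X = ((yon S).map snd₂ ≫ (yon S).map k) ≫ ξ := by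
    rw [Category.assoc]; exact sq₂.w
  let m := pre (sq.lift _ _ w3)
  have s3 : IsPullback ((yon S).map m) ((yon S).map snd₂) ((yon S).map snd) ((yon S).map k) := by
    refine IsPullback.of_right (t := sq) ?_ (by simp [m])
    simpa [m] using sq₂
  exact MorphismProperty.of_isPullback_of_descendsAlong
    (Q := (@Surjective ⊓ @Flat ⊓ @LocallyOfFinitePresentation : MorphismProperty Scheme.{u}))
    (AlgSpLoc.isPullback_left s3).flip ⟨⟨fk, inferInstance⟩, inferInstance⟩ hsnd₂

/-- The diagonal of a morphism out of an algebraic space inherits `P` from the diagonal of the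
space. -/
theorem repWith_diagonal {P : MorphismProperty Scheme.{u}} {X Y : Sp S} (f : X ⟶ Y)
    (h : RepWith P (Limits.diag X)) : RepWith P (pullback.diagonal f) := by
  let m : pullback f f ⟶ X ⨯ X := prod.lift (pullback.fst f f) (pullback.snd f f)
  have hm : Mono m := ⟨fun a b w => pullback.hom_ext
    (by simpa [m] using congrArg (· ≫ prod.fst) w) (by simpa [m] using congrArg (· ≫ prod.snd) w)⟩
  have w : 𝟙 X ≫ Limits.diag X = pullback.diagonal f ≫ m := by
    ext <;> simp [m]
  refine repWith_of_isPullback ⟨⟨w⟩, ⟨PullbackCone.IsLimit.mk w (fun c => c.fst)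
    (fun c => Category.comp_id _) (fun c => ?_) fun c n h₁ _ => ?_⟩⟩ h
  · rw [← cancel_mono m, Category.assoc, ← w, Category.id_comp, c.condition]
  · exact (Category.comp_id n).symm.trans h₁

theorem repWith_diag_lft {X : Sp S} (hX : IsAlgSpace X) :
    RepWith @LocallyOfFiniteType (Limits.diag X) :=
  repWith_diag (fun _ _ _ f g h => by
    have : LocallyOfFiniteType (f ≫ g) := inferInstance
    exact locallyOfFiniteType_of_comp f g) hX

theorem representable_lft_mono_diagonal {X Y : Sp S} (hX : IsAlgSpace X) (f : X ⟶ Y) :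
    RepWith (@LocallyOfFiniteType ⊓ MorphismProperty.monomorphisms Scheme.{u} : MorphismProperty Scheme.{u})
      (pullback.diagonal f) :=
  ⟨AlgSpLoc.representable_diagonal_mor hX f, fun _ _ _ _ _ sq =>
    ⟨(repWith_diagonal f (repWith_diag_lft hX)).2 _ _ _ sq, mono_pr_of_isPullback_diagonal sq⟩⟩

/-- The properties shared by all diagonals of morphisms of algebraic spaces. -/
theorem le_of_lft_mono : (@LocallyOfFiniteType ⊓ MorphismProperty.monomorphisms Scheme.{u} : MorphismProperty Scheme.{u}) ≤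
    ((@LocallyQuasiFinite ⊓ @LocallyOfFiniteType) ⊓ (@LocallyOfFiniteType ⊓ @FormallyUnramified) ⊓
      @IsSeparated : MorphismProperty Scheme.{u}) := by
  rintro X Y f ⟨h₁, h₂ : Mono f⟩
  exact ⟨⟨⟨inferInstance, h₁⟩, h₁, inferInstance⟩, inferInstance⟩

end Groth.Agent.AlgStB
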