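import Groth.Agent.S10567
import Groth.Agent.S10548
import Groth.Agent.S10549
import Groth.Agent.S10550
import Groth.Agent.S10526
import Groth.Agent.S10527
import Groth.Agent.S10530
import Groth.Agent.S10505
import Groth.Agent.AlgSpc.Listed

/-!
# Flat, locally of finite type / presentation are smooth local on source and target
-/

universe u

open CategoryTheory CategoryTheory.Limits AlgebraicGeometry

set_option backward.isDefEq.respectTransparency false

namespace Groth.Agent.AlgStB

open _root_.AlgSp

variable {S : Scheme.{u}}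

theorem smooth_le_flat : (@Smooth : MorphismProperty Scheme.{u}) ≤ @Flat := fun _ _ f h =>
  haveI : Smooth f := h
  inferInstance

theorem smooth_le_lfp :
    (@Smooth : MorphismProperty Scheme.{u}) ≤ @LocallyOfFinitePresentation := fun _ _ f h =>
  haveI : Smooth f := h
  inferInstance

theorem smooth_le_lft : (@Smooth : MorphismProperty Scheme.{u}) ≤ @LocallyOfFiniteType :=
  fun _ _ f h =>
    haveI : Smooth f := h
    inferInstance

theorem isFppfCover_of_isSmCover {ι : Type u} {X : Sp S} {Y : ι → Sp S} {g : ∀ i, Y i ⟶ X}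
    (h : IsSmCover (S := S) Y g) : IsFppfCover (S := S) Y g :=
  ⟨fun i => ⟨AlgSpc.locP_mono smooth_le_flat (h.1 i), AlgSpc.locP_mono smooth_le_lfp (h.1 i)⟩, h.2⟩

theorem isFpqcCover_of_isSmCover {ι : Type u} {X : Sp S} {Y : ι → Sp S} {g : ∀ i, Y i ⟶ X}
    (hX : IsAlgSpace X) (hY : ∀ i, IsAlgSpace (Y i)) (h : IsSmCover (S := S) Y g) :
    IsFpqcCover (S := S) Y g :=
  Groth.Agent.S10505.result (X := ⟨X, hX⟩) (fun i => ⟨Y i, hY i⟩)
    (fun i => ObjectProperty.homMk (g i)) (isFppfCover_of_isSmCover h)

theorem isSmoothLocalST_flat : IsSmoothLocalST (S := S) (LocP @Flat) :=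
  Groth.Agent.S10567.result _
    (fun _ _ Xi g hX hXi hc => Groth.Agent.S10548.result S Xi g hX hXi
      (isFpqcCover_of_isSmCover hX hXi hc))
    (fun _ _ Yi g hY hYi hc => Groth.Agent.S10530.result S Yi g hY hYi
      (isFpqcCover_of_isSmCover hY hYi hc))
    (fun X Y Z f g hf hg => AlgSpc.locP_comp X.property Y.property Z.property hf
      (AlgSpc.locP_mono smooth_le_flat hg))

theorem isSmoothLocalST_lft : IsSmoothLocalST (S := S) (LocP @LocallyOfFiniteType) :=
  Groth.Agent.S10567.result _
    (fun _ _ Xi g hX hXi hc => Groth.Agent.S10550.result S Xi g hX hXi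
      (isFppfCover_of_isSmCover hc))
    (fun _ _ Yi g hY hYi hc => Groth.Agent.S10526.result S Yi g hY hYi
      (isFpqcCover_of_isSmCover hY hYi hc))
    (fun X Y Z f g hf hg => AlgSpc.locP_comp X.property Y.property Z.property hf
      (AlgSpc.locP_mono smooth_le_lft hg))

theorem isSmoothLocalST_lfp : IsSmoothLocalST (S := S) (LocP @LocallyOfFinitePresentation) :=
  Groth.Agent.S10567.result _
    (fun _ _ Xi g hX hXi hc => Groth.Agent.S10549.result S Xi g hX hXi
      (isFppfCover_of_isSmCover hc))
    (fun _ _ Yi g hY hYi hc => Groth.Agent.S10527.result S Yi g hY hYi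
      (isFpqcCover_of_isSmCover hY hYi hc))
    (fun X Y Z f g hf hg => AlgSpc.locP_comp X.property Y.property Z.property hf
      (AlgSpc.locP_mono smooth_le_lfp hg))

end Groth.Agent.AlgStB
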