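import Groth.Agent.AlgStB.RepWith
import Groth.Agent.Fib.Prod

/-!
# Invariance under equivalences over the base
-/

set_option autoImplicit false
set_option backward.isDefEq.respectTransparency false
set_option backward.isDefEq.respectTransparency.types false

universe v₄ u₄ v₃ u₃ v₂ u₂ v u

open CategoryTheory CategoryTheory.Limits AlgebraicGeometry Opposite

namespace Groth.Agent.AlgStB

section General

variable {C : Type u} [Category.{v} C] {𝒳 : BasedCategory.{v₂, u₂} C}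
  {𝒴 : BasedCategory.{v₃, u₃} C}

/-- Postcomposition of functors over the base. -/
def postcomp (e : 𝒳 ⥤ᵇ 𝒴) (𝒜 : BasedCategory.{v₄, u₄} C) : (𝒜 ⥤ᵇ 𝒳) ⥤ (𝒜 ⥤ᵇ 𝒴) where
  obj G := BasedFunctor.comp G e
  map α := BasedCategory.whiskerRight α e
  map_id G := Fib.hom_ext' fun a => e.toFunctor.map_id _
  map_comp α β := Fib.hom_ext' fun a => e.toFunctor.map_comp _ _

theorem isEquivalence_postcomp {e : 𝒳 ⥤ᵇ 𝒴} (he : FibCat.IsEquivOver e)
    (𝒜 : BasedCategory.{v₄, u₄} C) : (postcomp e 𝒜).IsEquivalence := by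
  obtain ⟨g, ⟨i⟩, ⟨j⟩⟩ := he
  refine (CategoryTheory.Equivalence.mk (postcomp e 𝒜) (postcomp g 𝒜)
    (NatIso.ofComponents (fun G => (Fib.isoWhiskerLeft G i).symm) ?_)
    (NatIso.ofComponents (fun G => Fib.isoWhiskerLeft G j) ?_)).isEquivalence_functor
  · intro G H α
    exact Fib.hom_ext' fun a => i.inv.toNatTrans.naturality (α.toNatTrans.app a)
  · intro G H α
    exact Fib.hom_ext' fun a => j.hom.toNatTrans.naturality (α.toNatTrans.app a)

theorem isStackFor_iff {e : 𝒳 ⥤ᵇ 𝒴} (he : FibCat.IsEquivOver e) {U : C} (R : Sieve U) :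
    Stk.IsStackFor R 𝒳 ↔ Stk.IsStackFor R 𝒴 := by
  have h₁ := isEquivalence_postcomp he (FibCat.overCat U)
  have h₂ := isEquivalence_postcomp he (Stk.sieveCat R)
  have key : postcomp e (FibCat.overCat U) ⋙ Stk.resSieve R 𝒴 =
      Stk.resSieve R 𝒳 ⋙ postcomp e (Stk.sieveCat R) := rfl
  constructor
  · intro (h : (Stk.resSieve R 𝒳).IsEquivalence)
    have : (postcomp e (FibCat.overCat U) ⋙ Stk.resSieve R 𝒴).IsEquivalence := by
      rw [key]; infer_instance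
    exact Functor.isEquivalence_of_comp_left (postcomp e (FibCat.overCat U)) _
  · intro (h : (Stk.resSieve R 𝒴).IsEquivalence)
    have : (Stk.resSieve R 𝒳 ⋙ postcomp e (Stk.sieveCat R)).IsEquivalence := by
      rw [← key]; infer_instance
    exact Functor.isEquivalence_of_comp_right _ (postcomp e (Stk.sieveCat R))

theorem isStack_iff_of_isEquivOver {e : 𝒳 ⥤ᵇ 𝒴} (he : FibCat.IsEquivOver e)
    (J : GrothendieckTopology C) : Stk.IsStack J 𝒳 ↔ Stk.IsStack J 𝒴 :=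
  and_congr (Fib.isFibGrpd_iff_of_isEquivOver e he)
    (forall_congr' fun _ => forall_congr' fun R => imp_congr_right fun _ => isStackFor_iff he R)

end General

variable {S : Scheme.{u}} {𝒳 : BasedCategory.{v₂, u₂} (Over S)}
  {𝒴 : BasedCategory.{v₃, u₃} (Over S)} {P : MorphismProperty (_root_.AlgSp.Sp S)}

theorem repByAlgSp1_diag_toSelf_of_isEquivOver {e : 𝒳 ⥤ᵇ 𝒴} (he : FibCat.IsEquivOver e)
    (h : AlgSt.RepByAlgSp1 (FibCat.diag (FibCat.toSelf 𝒳))) :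
    AlgSt.RepByAlgSp1 (FibCat.diag (FibCat.toSelf 𝒴)) := by
  have : (BasedFunctor.id (FibCat.selfOver (Over S))).toFunctor.Full :=
    inferInstanceAs (Functor.Full (𝟭 (Over S)))
  have : (BasedFunctor.id (FibCat.selfOver (Over S))).toFunctor.Faithful :=
    inferInstanceAs (Functor.Faithful (𝟭 (Over S)))
  let M := Fib.fpMap e e (BasedFunctor.id (FibCat.selfOver (Over S)))
    (F' := FibCat.toSelf 𝒳) (G' := FibCat.toSelf 𝒳) (F := FibCat.toSelf 𝒴) (G := FibCat.toSelf 𝒴)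
    (Fib.toSelfIso _ _) (Fib.toSelfIso _ _)
  have hM : FibCat.IsEquivOver M := Fib.isEquivOver_fpMap _ _ _ _ _ he he
  let i : BasedFunctor.comp (FibCat.diag (FibCat.toSelf 𝒳)) M ≅
      BasedFunctor.comp e (FibCat.diag (FibCat.toSelf 𝒴)) :=
    Fib.isoMk (fun a => Fib.fpIsoMk (Iso.refl _) (Iso.refl _)
        (@Fib.self_iso_w (Over S) _ 𝒴 𝒴 (FibCat.toSelf 𝒴) (FibCat.toSelf 𝒴) _ _ _ _ _ _
          (𝟙 (𝒳.p.obj a)) (IsHomLift.id (e.w_obj a)) (IsHomLift.id (e.w_obj a))))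
      (fun φ => Fib.fp_hom_ext ((Category.comp_id _).trans (Category.id_comp _).symm)
        ((Category.comp_id _).trans (Category.id_comp _).symm))
      (fun a => Fib.fp_iso_isHomLift_id _ (IsHomLift.id (e.w_obj a)))
  exact (repByAlgSp1_iff_of_square _ _ e M he hM i).2 h

theorem repByAlgSpWith_comp_equiv {U : Over S} {x : FibCat.overCat U ⥤ᵇ 𝒳} {e : 𝒳 ⥤ᵇ 𝒴}
    (he : FibCat.IsEquivOver e) (h : AlgSt.RepByAlgSpWith P x) :
    AlgSt.RepByAlgSpWith P (BasedFunctor.comp x e) :=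
  (repByAlgSpWith_iff_of_square (BasedFunctor.comp x e) x (BasedFunctor.id _) e
    (Fib.isEquivOver_id _) he (Iso.refl _)).2 h

theorem hasAtlas_of_isEquivOver {e : 𝒳 ⥤ᵇ 𝒴} (he : FibCat.IsEquivOver e)
    (h : AlgSt.HasAtlas P 𝒳) : AlgSt.HasAtlas P 𝒴 := by
  obtain ⟨U, x, h₁, h₂⟩ := h
  exact ⟨U, BasedFunctor.comp x e, repByAlgSpWith_comp_equiv he h₁, repByAlgSpWith_comp_equiv he h₂⟩

theorem isAlgStack_of_isEquivOver {K : Precoverage Scheme.{u}} {e : 𝒳 ⥤ᵇ 𝒴}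
    (he : FibCat.IsEquivOver e) (h : AlgSt.IsAlgStack K 𝒳) : AlgSt.IsAlgStack K 𝒴 :=
  ⟨(isStack_iff_of_isEquivOver he _).1 h.isStack, repByAlgSp1_diag_toSelf_of_isEquivOver he h.diag,
    hasAtlas_of_isEquivOver he h.atlas⟩

theorem isAlgStack_iff_of_isEquivOver {K : Precoverage Scheme.{u}} {e : 𝒳 ⥤ᵇ 𝒴}
    (he : FibCat.IsEquivOver e) : AlgSt.IsAlgStack K 𝒳 ↔ AlgSt.IsAlgStack K 𝒴 := by
  obtain ⟨g, hg, -, -⟩ := Fib.exists_quasiInverse he
  exact ⟨isAlgStack_of_isEquivOver he, isAlgStack_of_isEquivOver hg⟩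

theorem isDM_iff_of_isEquivOver {K : Precoverage Scheme.{u}} {e : 𝒳 ⥤ᵇ 𝒴}
    (he : FibCat.IsEquivOver e) : AlgSt.IsDM K 𝒳 ↔ AlgSt.IsDM K 𝒴 := by
  obtain ⟨g, hg, -, -⟩ := Fib.exists_quasiInverse he
  exact ⟨fun h => ⟨isAlgStack_of_isEquivOver he h.1, hasAtlas_of_isEquivOver he h.2⟩,
    fun h => ⟨isAlgStack_of_isEquivOver hg h.1, hasAtlas_of_isEquivOver hg h.2⟩⟩

end Groth.Agent.AlgStB
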