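import Groth.Agent.AlgStB.PointsTop

/-!
# Surjectivity on points and of base changes
-/

set_option autoImplicit false
set_option backward.isDefEq.respectTransparency false
set_option backward.isDefEq.respectTransparency.types false

universe u

open CategoryTheory CategoryTheory.Limits AlgebraicGeometry Opposite

namespace Groth.Agent.AlgStB

open _root_.AlgSt (Points)

variable {S : Scheme.{u}}

theorem repWith_surjective_of_isSurjective {𝒳 𝒴 : AlgSt.Cat S} (h𝒳 : FibCat.IsFibGrpd 𝒳.p)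
    (h𝒴 : FibCat.IsFibGrpd 𝒴.p) (f : 𝒳 ⥤ᵇ 𝒴) (hf : AlgSt.RepByAlgSp1 f)
    (h : AlgSt.IsSurjective f) : AlgSt.RepByAlgSpWith _root_.AlgSp.IsSurjectiveMor f := by
  intro U y
  obtain ⟨F, e, he⟩ := hf U y
  refine ⟨F, e, he, fun z => ?_⟩
  obtain ⟨v, rfl⟩ := (_root_.AlgSp.Points.schemeEquiv U).surjective z
  obtain ⟨x, hx⟩ := h (Points.ofChart y v)
  obtain ⟨T, c, hc, hcs⟩ := F.property.atlas
  obtain ⟨τ, -, hp⟩ :=
    exists_cover_point_of_atlas h𝒳 h𝒴 f y e he c (AlgSpc.surjective_ofPt hcs)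
  obtain ⟨t, ht, -⟩ := hp v x hx
  refine ⟨_root_.AlgSp.Points.ofPt c t, ?_⟩
  rw [_root_.AlgSp.Points.map_ofPt, ← AlgSpc.map_pre (c ≫ _)]
  apply (_root_.AlgSp.Points.schemeEquiv U).symm.injective
  rw [Equiv.symm_apply_apply]
  exact (_root_.AlgSp.Points.toScheme_ofPt _ t).trans ht

end Groth.Agent.AlgStB
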