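import Groth.Agent.AlgStB.Comp
import Groth.Agent.Fib.Prod

/-!
# Categories representable by algebraic spaces; the diagonal criterion
-/

set_option autoImplicit false
set_option backward.isDefEq.respectTransparency false
set_option backward.isDefEq.respectTransparency.types false

universe v₃ u₃ v₂ u₂ u

open CategoryTheory CategoryTheory.Limits AlgebraicGeometry Opposite

namespace Groth.Agent.AlgStB

open _root_.AlgSp

variable {S : Scheme.{u}} {𝒳 : BasedCategory.{v₂, u₂} (Over S)}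
  {𝒴 : BasedCategory.{v₃, u₃} (Over S)}

theorem isFibSetoid_of_repByAlgSp (h𝒳 : FibCat.IsFibGrpd 𝒳.p) (h : AlgSt.RepByAlgSp 𝒳) :
    FibCat.IsFibSetoid 𝒳.p := by
  obtain ⟨F, e, he⟩ := h
  obtain ⟨g, hg, -, -⟩ := Fib.exists_quasiInverse he
  have := Fib.faithful_of_isEquivOver hg
  have : (AlgSt.ofSp F.obj).p.Faithful := ⟨fun {p q} s t e => Stk.EltObj.hom_ext e⟩
  have := Fib.faithful_p_of_faithful g
  exact Fib.isFibSetoid_of_faithful _ h𝒳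

theorem isFibGrpd_of_repByAlgSp (h : AlgSt.RepByAlgSp 𝒳) : FibCat.IsFibGrpd 𝒳.p := by
  obtain ⟨F, e, he⟩ := h
  exact Fib.isFibGrpd_of_isEquivOver e he (Stk.isFibGrpd_ofPsh _)

theorem repByAlgSp_overCat (U : Over S) : AlgSt.RepByAlgSp (FibCat.overCat U) :=
  ⟨⟨(yon S).obj U, IsAlgSpace.yon_obj U⟩, AlgSt.toOverCat U, isEquivOver_toOverCat U⟩

theorem isEquivOver_toSelf_overCat {C : Type*} [Category C] {T : C} (hT : IsTerminal T) :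
    FibCat.IsEquivOver (FibCat.toSelf (FibCat.overCat T)) := by
  have : (FibCat.toSelf (FibCat.overCat T)).toFunctor.Full :=
    ⟨fun {a b} f => ⟨Over.homMk f (hT.hom_ext _ _), rfl⟩⟩
  have : (FibCat.toSelf (FibCat.overCat T)).toFunctor.Faithful :=
    ⟨fun {a b} f g e => Over.OverMorphism.ext e⟩
  exact Fib.isEquivOver_of_exists_iso_over _ fun η =>
    ⟨Over.mk (hT.from η), Iso.refl _, IsHomLift.id rfl⟩

theorem repByAlgSp_selfOver : AlgSt.RepByAlgSp (FibCat.selfOver (Over S)) :=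
  repByAlgSp_of_isEquivOver (FibCat.toSelf (FibCat.overCat (Over.mk (𝟙 S))))
    (isEquivOver_toSelf_overCat Over.mkIdTerminal) (repByAlgSp_overCat (Over.mk (𝟙 S)))

/-- A 1-morphism between categories representable by algebraic spaces is representable. -/
theorem repByAlgSp1_of_repByAlgSp (hX : AlgSt.RepByAlgSp 𝒳) (hY : AlgSt.RepByAlgSp 𝒴)
    (f : 𝒳 ⥤ᵇ 𝒴) : AlgSt.RepByAlgSp1 f := by
  obtain ⟨F, a, ha⟩ := hX
  obtain ⟨G, b, hb⟩ := hY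
  obtain ⟨b', -, -, ⟨j⟩⟩ := Fib.exists_quasiInverse hb
  obtain ⟨φ, ⟨k⟩⟩ := exists_ofSpMap (BasedFunctor.comp a (BasedFunctor.comp f b'))
  refine (repByAlgSp1_iff_of_square f (AlgSt.ofSpMap φ) a b ha hb
    (Fib.isoWhiskerRight k.symm b ≪≫ Fib.isoWhiskerLeft (BasedFunctor.comp a f) j)).2 ?_
  refine repByAlgSp1_of_repBySp ((repBySp_hom_iff φ).2 fun U ξ F' fst snd sq => ?_)
  exact AlgSpc.isAlgSpace_of_isPullback F.property G.property (IsAlgSpace.yon_obj U) sq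

variable {𝒳 𝒴 𝒵 : AlgSt.Cat S}

theorem repByAlgSp_fp (h𝒳 : FibCat.IsFibGrpd 𝒳.p) (h𝒴 : FibCat.IsFibGrpd 𝒴.p) {f : 𝒳 ⥤ᵇ 𝒴}
    (hf : AlgSt.RepByAlgSp1 f) (g : 𝒵 ⥤ᵇ 𝒴) (hZ : AlgSt.RepByAlgSp 𝒵) :
    AlgSt.RepByAlgSp (FibCat.fp g f) := by
  obtain ⟨Z, e, he⟩ := hZ
  obtain ⟨_, _⟩ := id_full_faithful 𝒴
  exact repByAlgSp_of_isEquivOver _
    (Fib.isEquivOver_fpMap e (BasedFunctor.id 𝒳) (BasedFunctor.id 𝒴) (F' := BasedFunctor.comp e g)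
      (G' := f) (F := g) (G := f) (Iso.refl _) (Iso.refl _) he (Fib.isEquivOver_id _))
    (repByAlgSp_fp_ofSp h𝒳 h𝒴 hf Z.property _)

theorem repByAlgSp1_from_repByAlgSp (h𝒳 : FibCat.IsFibGrpd 𝒳.p)
    (h : ∀ (U : Over S) (x : FibCat.overCat U ⥤ᵇ 𝒳), AlgSt.RepByAlgSp1 x)
    (hU : AlgSt.RepByAlgSp 𝒵) (x : 𝒵 ⥤ᵇ 𝒳) : AlgSt.RepByAlgSp1 x := fun U y =>
  repByAlgSp_of_isEquivOver _ (Fib.isEquivOver_fpSwap x y)
    (repByAlgSp_fp (Fib.isFibGrpd_overCat U) h𝒳 (h U y) x hU)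

theorem repByAlgSp1_of_diag (h𝒳 : FibCat.IsFibGrpd 𝒳.p)
    (hΔ : AlgSt.RepByAlgSp1 (FibCat.diag (FibCat.toSelf 𝒳))) (U : Over S)
    (x : FibCat.overCat U ⥤ᵇ 𝒳) : AlgSt.RepByAlgSp1 x :=
  repByAlgSp1_of_comp (Fib.isFibGrpd_overCat U) h𝒳 Fib.isFibGrpd_selfOver
    (repByAlgSp1_of_repByAlgSp (repByAlgSp_overCat U) repByAlgSp_selfOver _) hΔ

theorem repByAlgSp1_diag_of_forall
    (h : ∀ (U : Over S) (x : FibCat.overCat U ⥤ᵇ 𝒳), AlgSt.RepByAlgSp1 x) :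
    AlgSt.RepByAlgSp1 (FibCat.diag (FibCat.toSelf 𝒳)) := by
  intro U y
  let x₁ := BasedFunctor.comp y (FibCat.fpFst (FibCat.toSelf 𝒳) (FibCat.toSelf 𝒳))
  let x₂ := BasedFunctor.comp y (FibCat.fpSnd (FibCat.toSelf 𝒳) (FibCat.toSelf 𝒳))
  let sU := FibCat.toSelf (FibCat.overCat U)
  let δ := FibCat.diag sU
  let q : FibCat.fp x₁ x₂ ⥤ᵇ FibCat.fp sU sU :=
    FibCat.fpLift (FibCat.fpFst x₁ x₂) (FibCat.fpSnd x₁ x₂) (Fib.toSelfIso _ _)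
  have hUU : AlgSt.RepByAlgSp (FibCat.fp sU sU) :=
    repByAlgSp_fp (Fib.isFibGrpd_overCat U) Fib.isFibGrpd_selfOver
      (repByAlgSp1_of_repByAlgSp (repByAlgSp_overCat U) repByAlgSp_selfOver sU) sU
      (repByAlgSp_overCat U)
  have hD : AlgSt.RepByAlgSp (FibCat.fp δ q) :=
    repByAlgSp1_of_repByAlgSp (h U x₂ U x₁) hUU q U δ
  let σ₁ : ∀ w : (FibCat.fp δ q).obj, w.obj.fst ≅ w.obj.snd.obj.fst :=
    fun w => (FibCat.fpFst sU sU).toFunctor.mapIso w.obj.iso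
  let σ₂ : ∀ w : (FibCat.fp δ q).obj, w.obj.fst ≅ w.obj.snd.obj.snd :=
    fun w => (FibCat.fpSnd sU sU).toFunctor.mapIso w.obj.iso
  let k : ∀ w : (FibCat.fp δ q).obj, x₂.obj w.obj.fst ≅ x₁.obj w.obj.fst := fun w =>
    x₂.toFunctor.mapIso (σ₂ w) ≪≫ w.obj.snd.obj.iso.symm ≪≫ x₁.toFunctor.mapIso (σ₁ w).symm
  have hlift : ∀ w : (FibCat.fp δ q).obj,
      𝒳.p.IsHomLift (𝟙 ((FibCat.fp δ q).p.obj w)) (k w).hom := by
    intro w
    have hw := w.property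
    have h₁ : (FibCat.overCat U).p.IsHomLift (𝟙 ((FibCat.fp δ q).p.obj w)) (σ₁ w).hom :=
      (Fib.fp_isHomLift_iff _ _).1 hw
    have h₂ : (FibCat.overCat U).p.IsHomLift (𝟙 ((FibCat.fp δ q).p.obj w)) (σ₂ w).hom :=
      Fib.fp_isHomLift_snd (h := hw) _ _
    have e₁ : (FibCat.overCat U).p.obj w.obj.snd.obj.fst = (FibCat.fp δ q).p.obj w :=
      IsHomLift.codomain_eq (FibCat.overCat U).p (𝟙 ((FibCat.fp δ q).p.obj w)) (σ₁ w).hom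
    have h₃ : 𝒳.p.IsHomLift (𝟙 ((FibCat.fp δ q).p.obj w)) w.obj.snd.obj.iso.hom :=
      e₁ ▸ w.obj.snd.property
    have h₄ := BasedFunctor.preserves_isHomLift x₂ (𝟙 ((FibCat.fp δ q).p.obj w)) (σ₂ w).hom
    have h₅ := BasedFunctor.preserves_isHomLift x₁ (𝟙 ((FibCat.fp δ q).p.obj w)) (σ₁ w).inv
    simp only [k, Iso.trans_hom, Iso.symm_hom, Functor.mapIso_hom]
    infer_instance
  have knat : ∀ {a b : (FibCat.fp δ q).obj} (φ : a ⟶ b),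
      x₂.map φ.hom.fst ≫ (k b).hom = (k a).hom ≫ x₁.map φ.hom.fst := by
    intro a b φ
    have w₁ : φ.hom.fst ≫ (σ₁ b).hom = (σ₁ a).hom ≫ φ.hom.snd.hom.fst :=
      congrArg (fun t => t.hom.fst) φ.hom.w
    have w₂ : φ.hom.fst ≫ (σ₂ b).hom = (σ₂ a).hom ≫ φ.hom.snd.hom.snd :=
      congrArg (fun t => t.hom.snd) φ.hom.w
    have w₃ := φ.hom.snd.hom.w
    simp only [k, Iso.trans_hom, Functor.mapIso_hom, Iso.symm_hom, Category.assoc]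
    rw [← Functor.map_comp_assoc, w₂, Functor.map_comp_assoc]
    congr 1
    rw [← cancel_epi a.obj.snd.obj.iso.hom, Iso.hom_inv_id_assoc, ← reassoc_of% w₃,
      Iso.hom_inv_id_assoc, ← Functor.map_comp, ← Functor.map_comp]
    congr 1
    rw [Iso.comp_inv_eq, Category.assoc, w₁, Iso.inv_hom_id_assoc]
  let Φ : FibCat.fp δ q ⥤ᵇ FibCat.fp y (FibCat.diag (FibCat.toSelf 𝒳)) :=
    FibCat.fpLift (FibCat.fpFst δ q) (BasedFunctor.comp (FibCat.fpFst δ q) x₁)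
      (Fib.isoMk (fun w => Fib.fpIsoMk (Iso.refl _) (k w)
          (@Fib.self_iso_w (Over S) _ 𝒳 𝒳 (FibCat.toSelf 𝒳) (FibCat.toSelf 𝒳) _ _ _ _ _ _
            (𝟙 ((FibCat.fp δ q).p.obj w)) (IsHomLift.id (x₁.w_obj _)) (hlift w)))
        (fun {a b} φ => Fib.fp_hom_ext ((Category.comp_id _).trans (Category.id_comp _).symm)
          (knat φ))
        (fun w => Fib.fp_iso_isHomLift_id _ (IsHomLift.id (x₁.w_obj _))))
  refine repByAlgSp_of_isEquivOver Φ ?_ hD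
  have hfaith : Φ.toFunctor.Faithful := ⟨fun {a b} φ ψ e => by
    have e₁ : φ.hom.fst = ψ.hom.fst := congrArg (fun t => t.hom.fst) e
    refine Fib.fp_hom_ext e₁ ?_
    have := φ.hom.w.symm.trans (e₁ ▸ ψ.hom.w)
    have h' : q.map φ.hom.snd = q.map ψ.hom.snd := (cancel_epi a.obj.iso.hom).1 this
    exact Fib.fp_hom_ext (congrArg (fun t => t.hom.fst) h') (congrArg (fun t => t.hom.snd) h')⟩
  have hfull : Φ.toFunctor.Full := ⟨fun {a b} φ => by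
    have v₁ : x₁.map φ.hom.fst ≫ 𝟙 _ = 𝟙 _ ≫ φ.hom.snd := congrArg (fun t => t.hom.fst) φ.hom.w
    have v₂ : x₂.map φ.hom.fst ≫ (k b).hom = (k a).hom ≫ φ.hom.snd :=
      congrArg (fun t => t.hom.snd) φ.hom.w
    have v₁' : φ.hom.snd = x₁.map φ.hom.fst :=
      ((Category.id_comp _).symm.trans v₁.symm).trans (Category.comp_id _)
    rw [v₁'] at v₂
    let m₁ := (σ₁ a).inv ≫ φ.hom.fst ≫ (σ₁ b).hom
    let m₂ := (σ₂ a).inv ≫ φ.hom.fst ≫ (σ₂ b).hom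
    have hm : x₁.map m₁ ≫ b.obj.snd.obj.iso.hom = a.obj.snd.obj.iso.hom ≫ x₂.map m₂ := by
      simp only [k, Iso.trans_hom, Functor.mapIso_hom, Iso.symm_hom, Category.assoc] at v₂
      simp only [m₁, m₂, Functor.map_comp, Category.assoc]
      rw [← cancel_mono b.obj.snd.obj.iso.inv, ← cancel_mono (x₁.map (σ₁ b).inv)]
      simp only [Category.assoc, v₂]
      simp
    refine ⟨Fib.fpHomMk φ.hom.fst (Fib.fpHomMk m₁ m₂ hm) (Fib.fp_hom_ext ?_ ?_),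
      Fib.fp_hom_ext rfl v₁'.symm⟩
    · change φ.hom.fst ≫ (σ₁ b).hom = (σ₁ a).hom ≫ m₁
      simp [m₁]
    · change φ.hom.fst ≫ (σ₂ b).hom = (σ₂ a).hom ≫ m₂
      simp [m₂]⟩
  refine Fib.isEquivOver_of_exists_iso_over Φ fun η => ?_
  let u := η.obj.fst
  let ι₁ : x₁.obj u ≅ η.obj.snd :=
    (FibCat.fpFst (FibCat.toSelf 𝒳) (FibCat.toSelf 𝒳)).toFunctor.mapIso η.obj.iso
  let ι₂ : x₂.obj u ≅ η.obj.snd :=
    (FibCat.fpSnd (FibCat.toSelf 𝒳) (FibCat.toSelf 𝒳)).toFunctor.mapIso η.obj.iso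
  have hι₁ : 𝒳.p.IsHomLift (𝟙 ((FibCat.overCat U).p.obj u)) ι₁.hom :=
    (Fib.fp_isHomLift_iff _ _).1 η.property
  have hι₂ : 𝒳.p.IsHomLift (𝟙 ((FibCat.overCat U).p.obj u)) ι₂.hom :=
    Fib.fp_isHomLift_snd (h := η.property) _ _
  let B : (FibCat.fp x₁ x₂).obj := Fib.fpMk u u (ι₁ ≪≫ ι₂.symm)
    (by simp only [Iso.trans_hom, Iso.symm_hom]; infer_instance)
  have hl : (FibCat.overCat U).p.IsHomLift (𝟙 ((FibCat.overCat U).p.obj u)) (Iso.refl u).hom :=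
    IsHomLift.id rfl
  let A : (FibCat.fp δ q).obj := Fib.fpMk u B
    (Fib.fpIsoMk (a := δ.obj u) (b := q.obj B) (Iso.refl u) (Iso.refl u)
      (@Fib.self_iso_w (Over S) _ (FibCat.overCat U) (FibCat.overCat U) sU sU _ _ _ _ _ _
        (𝟙 ((FibCat.overCat U).p.obj u)) hl hl))
    (Fib.fp_iso_isHomLift_id _ hl)
  refine ⟨A, Fib.fpIsoMk (Iso.refl _) ι₁ (Fib.fp_hom_ext ?_ ?_),
    Fib.fp_iso_isHomLift_id _ (IsHomLift.id rfl)⟩
  · change x₁.map (𝟙 u) ≫ ι₁.hom = 𝟙 _ ≫ ι₁.hom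
    rw [CategoryTheory.Functor.map_id]
  · change x₂.map (𝟙 u) ≫ ι₂.hom = (x₂.map (𝟙 u) ≫ (ι₂.hom ≫ ι₁.inv) ≫ x₁.map (𝟙 u)) ≫ ι₁.hom
    simp

end Groth.Agent.AlgStB
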