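import Groth.Agent.AlgStB.Descent
import Groth.Agent.AlgStB.Invariance
import Groth.Agent.AlgStB.Spaces

/-!
# Stacks: representable 1-morphisms over a stack
-/

set_option autoImplicit false
set_option backward.isDefEq.respectTransparency false
set_option backward.isDefEq.respectTransparency.types false

universe v₃ u₃ v₂ u₂ u

open CategoryTheory CategoryTheory.Limits AlgebraicGeometry Opposite

namespace Groth.Agent.AlgStB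

variable {S : Scheme.{u}} {𝒳 : BasedCategory.{v₂, u₂} (Over S)}
  {𝒴 : BasedCategory.{v₃, u₃} (Over S)}

theorem isStack_of_repByAlgSp1 (h𝒳 : FibCat.IsFibGrpd 𝒳.p)
    (h𝒴 : Stk.IsStack (QuotSh.J Scheme.fppfPrecoverage S) 𝒴) {j : 𝒳 ⥤ᵇ 𝒴}
    (hj : AlgSt.RepByAlgSp1 j) : Stk.IsStack (QuotSh.J Scheme.fppfPrecoverage S) 𝒳 := by
  have := faithful_of_repByAlgSp1 h𝒳 h𝒴.1 hj
  refine isStack_of_fp_sheaf.{u + 1} _ h𝒳 h𝒴 j fun U y => ?_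
  obtain ⟨F, e, he⟩ := hj U y
  exact ⟨F.obj.obj, e, (isSheaf_iff_isSheaf_of_type _ _).1 F.obj.property, he⟩

theorem repByAlgSp1_fpSnd {𝒵 : BasedCategory.{v₃, u₃} (Over S)} (g : 𝒵 ⥤ᵇ 𝒴) (f : 𝒳 ⥤ᵇ 𝒴)
    (hg : AlgSt.RepByAlgSp1 g) : AlgSt.RepByAlgSp1 (FibCat.fpSnd g f) :=
  (repByAlgSp1_iff_of_square (FibCat.fpFst f g) (FibCat.fpSnd g f) (Fib.fpSwap g f)
    (BasedFunctor.id _) (Fib.isEquivOver_fpSwap g f) (Fib.isEquivOver_id _) (eqToIso rfl)).1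
    (repByAlgSp1_fpFst g f hg)

theorem repByAlgSpWith_fpSnd {P : MorphismProperty (_root_.AlgSp.Sp S)}
    {𝒵 : BasedCategory.{v₃, u₃} (Over S)} (g : 𝒵 ⥤ᵇ 𝒴) (f : 𝒳 ⥤ᵇ 𝒴)
    (hg : AlgSt.RepByAlgSpWith P g) : AlgSt.RepByAlgSpWith P (FibCat.fpSnd g f) :=
  (repByAlgSpWith_iff_of_square (FibCat.fpFst f g) (FibCat.fpSnd g f) (Fib.fpSwap g f)
    (BasedFunctor.id _) (Fib.isEquivOver_fpSwap g f) (Fib.isEquivOver_id _) (eqToIso rfl)).1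
    (repByAlgSpWith_fpFst g f hg)

theorem isStack_fp_of_repByAlgSp1 {𝒳 𝒴 𝒵 : AlgSt.Cat S} (h𝒳 : FibCat.IsFibGrpd 𝒳.p)
    (h𝒵 : FibCat.IsFibGrpd 𝒵.p) (h𝒴 : Stk.IsStack (QuotSh.J Scheme.fppfPrecoverage S) 𝒴)
    {f : 𝒳 ⥤ᵇ 𝒵} (g : 𝒴 ⥤ᵇ 𝒵) (hf : AlgSt.RepByAlgSp1 f) :
    Stk.IsStack (QuotSh.J Scheme.fppfPrecoverage S) (FibCat.fp f g) :=
  isStack_of_repByAlgSp1 (Fib.isFibGrpd_fp f g h𝒳 h𝒴.1 h𝒵) h𝒴 (repByAlgSp1_fpSnd f g hf)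

end Groth.Agent.AlgStB
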