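import Groth.Agent.AlgStB.PointsSpectral
import Groth.Agent.AlgStB.PointsSurj
import Groth.Agent.AlgStB.Invariance
import Groth.Agent.AlgStB.Stack

/-!
# Smooth local properties of algebraic stacks; quasi-compactness
-/

set_option autoImplicit false
set_option backward.isDefEq.respectTransparency false
set_option backward.isDefEq.respectTransparency.types false

universe u

open CategoryTheory CategoryTheory.Limits AlgebraicGeometry Opposite

namespace Groth.Agent.AlgStB

open _root_.AlgSt (Points)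
open _root_.AlgSp (LocP IsAlgSpace IsSurjectiveMor yon)

variable {S : Scheme.{u}}

/-- A property read on a change of base. -/
theorem left_of_repByAlgSpWith_overMap {P : MorphismProperty Scheme.{u}} [AlgSpc.EtLoc P]
    [P.IsStableUnderBaseChange] {U₂ U : Over S} (k : U₂ ⟶ U)
    (h : AlgSt.RepByAlgSpWith (LocP P) (AlgSt.overMap k)) : P k.left :=
  locP_left k (locP_of_repByAlgSpWith_ofSpMap (IsAlgSpace.yon_obj U₂) (IsAlgSpace.yon_obj U) _
    ((repByAlgSpWith_iff_of_square (AlgSt.overMap k) (AlgSt.ofSpMap ((yon S).map k))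
      (AlgSt.toOverCat U₂) (AlgSt.toOverCat U) (isEquivOver_toOverCat U₂) (isEquivOver_toOverCat U)
      (overMapSquare k)).1 h))

theorem surjective_left_of_repByAlgSpWith_overMap {U₂ U : Over S} (k : U₂ ⟶ U)
    (h : AlgSt.RepByAlgSpWith IsSurjectiveMor (AlgSt.overMap k)) : Function.Surjective k.left := by
  intro v
  obtain ⟨z, hz⟩ := isSurjective_of_repWith (Fib.isFibGrpd_overCat U₂) (Fib.isFibGrpd_overCat U)
    (AlgSt.overMap k) h (schMk U v)
  exact ⟨schPt U₂ z, by rw [← schPt_map_overMap, hz, schPt_schMk]⟩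

/-- Two smooth charts are dominated by a third. -/
theorem exists_smooth_common_cover {𝒳 : AlgSt.Cat S} (h𝒳 : FibCat.IsFibGrpd 𝒳.p) {V U : Over S}
    (z : FibCat.overCat V ⥤ᵇ 𝒳) (hz : AlgSt.RepByAlgSpWith (LocP @Smooth) z)
    (x : FibCat.overCat U ⥤ᵇ 𝒳) (hx : AlgSt.RepByAlgSpWith (LocP @Smooth) x)
    (hxs : AlgSt.RepByAlgSpWith IsSurjectiveMor x) :
    ∃ (T : Over S) (a : T ⟶ V) (b : T ⟶ U),
      Smooth a.left ∧ Function.Surjective a.left ∧ Smooth b.left := by
  obtain ⟨F, e, he⟩ := repByAlgSp1_of_with hx V z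
  obtain ⟨T, c, hc, hcs⟩ := F.property.atlas
  obtain ⟨h₁, h₂⟩ := repByAlgSpWith_atlas F.property c hc hcs
  let σ := BasedFunctor.comp (BasedFunctor.comp (AlgSt.ofOverCat T) (AlgSt.ofSpMap c)) e
  have k₁ : AlgSt.RepByAlgSpWith (LocP @Smooth) σ := repByAlgSpWith_comp_equiv he h₁
  have k₂ : AlgSt.RepByAlgSpWith IsSurjectiveMor σ := repByAlgSpWith_comp_equiv he h₂
  obtain ⟨a, ⟨i⟩⟩ := exists_iso_overMap (BasedFunctor.comp σ (FibCat.fpFst z x))
  obtain ⟨b, ⟨j⟩⟩ := exists_iso_overMap (BasedFunctor.comp σ (FibCat.fpSnd z x))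
  have hT := Fib.isFibGrpd_overCat T
  have hfp := Fib.isFibGrpd_fp z x (Fib.isFibGrpd_overCat V) (Fib.isFibGrpd_overCat U) h𝒳
  refine ⟨T, a, b, left_of_repByAlgSpWith_overMap (P := @Smooth) a (repByAlgSpWith_of_iso i
      (repByAlgSpWith_comp' hT hfp respectsSrcIso_locP hc_locP k₁ (repByAlgSpWith_fpFst x z hx))),
    surjective_left_of_repByAlgSpWith_overMap a (repByAlgSpWith_of_iso i
      (repByAlgSpWith_comp' hT hfp respectsSrcIso_isSurjectiveMor hc_surjective k₂
        (repByAlgSpWith_fpFst x z hxs))),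
    left_of_repByAlgSpWith_overMap (P := @Smooth) b (repByAlgSpWith_of_iso j
      (repByAlgSpWith_comp' hT hfp respectsSrcIso_locP hc_locP k₁ (repByAlgSpWith_fpSnd z x hz)))⟩

theorem smoothLocally_iff {𝒳 : AlgSt.Cat S} (h𝒳 : AlgSt.IsAlgStack Scheme.fppfPrecoverage 𝒳)
    (P : Scheme.{u} → Prop)
    (hP : ∀ (U : Scheme.{u}) (R : Presieve U), R ∈ Scheme.precoverage @Smooth U →
      (P U ↔ ∀ ⦃V : Scheme.{u}⦄ (g : V ⟶ U), R g → P V)) :
    AlgSt.SmoothLocally P 𝒳 ↔
      ∃ (U : Over S) (x : FibCat.overCat U ⥤ᵇ 𝒳), AlgSt.RepByAlgSpWith (LocP @Smooth) x ∧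
        AlgSt.RepByAlgSpWith IsSurjectiveMor x ∧ P U.left := by
  constructor
  · intro h
    obtain ⟨U, x, hx, hxs⟩ := h𝒳.atlas
    exact ⟨U, x, hx, hxs, h U x hx⟩
  · rintro ⟨U, x, hx, hxs, hU⟩ V z hz
    obtain ⟨T, a, b, ha, has, hb⟩ := exists_smooth_common_cover h𝒳.isStack.1 z hz x hx hxs
    have hT : P T.left := by
      let X : Bool → Scheme.{u} := fun i => cond i T.left U.left
      let f : ∀ i, X i ⟶ U.left := fun i => match i with
        | true => b.left
        | false => 𝟙 U.left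
      refine (hP U.left (Presieve.ofArrows X f)
        ((Scheme.ofArrows_mem_precoverage_iff @Smooth).2 ⟨fun t => ⟨false, t, rfl⟩, fun i => ?_⟩)).1 hU b.left
        (Presieve.ofArrows.mk true)
      cases i
      · exact inferInstanceAs (Smooth (𝟙 U.left))
      exact hb
    refine (hP V.left (Presieve.singleton a.left)
      ((Scheme.singleton_mem_precoverage_iff @Smooth a.left).2 ⟨has, ha⟩)).2 fun W g hg => ?_
    cases hg
    exact hT

theorem isQuasiCompact_iff {𝒳 : AlgSt.Cat S} (h𝒳 : AlgSt.IsAlgStack Scheme.fppfPrecoverage 𝒳) :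
    AlgSt.IsQuasiCompact 𝒳 ↔ CompactSpace (Points 𝒳) := by
  have hg := h𝒳.isStack.1
  constructor
  · rintro ⟨U, x, hU, hx, hxs⟩
    refine ⟨?_⟩
    rw [← (surjective_ofChart hg x hxs).range_eq]
    exact isCompact_range (continuous_ofChart hg h𝒳.atlas x)
  · intro hc
    obtain ⟨U, y, hy, hys⟩ := h𝒳.atlas
    have ho := isOpenMap_ofChart hg y (flat_lfp_of_smooth hy).1 (flat_lfp_of_smooth hy).2
    obtain ⟨F, hF⟩ := hc.isCompact_univ.elim_finite_subcover
      (fun A : U.left.affineOpens => Points.ofChart y '' (A.1 : Set U.left))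
      (fun A => ho _ A.1.2) (fun z _ => by
        obtain ⟨u, rfl⟩ := surjective_ofChart hg y hys z
        obtain ⟨O, ⟨A, hA, rfl⟩, huO, -⟩ :=
          U.left.isBasis_affineOpens.exists_subset_of_mem_open (Set.mem_univ u) isOpen_univ
        exact Set.mem_iUnion.2 ⟨⟨A, hA⟩, u, huO, rfl⟩)
    let g : ↥F → Scheme.{u} := fun A => ((A.1.1 : U.left.Opens) : Scheme.{u})
    let d : ∐ g ⟶ U.left := Sigma.desc fun A : ↥F => (A.1.1 : U.left.Opens).ι
    have : ∀ A, IsAffine (g A) := fun A => A.1.2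
    let V : Over S := Over.mk (d ≫ U.hom)
    let k : V ⟶ U := Over.homMk d rfl
    have hk : Smooth k.left :=
      IsZariskiLocalAtSource.sigmaDesc (P := @Smooth) fun A => inferInstanceAs (Smooth (Scheme.Opens.ι _))
    have hx : AlgSt.RepByAlgSpWith (LocP @Smooth) (BasedFunctor.comp (AlgSt.overMap k) y) :=
      repByAlgSpWith_comp' (Fib.isFibGrpd_overCat V) (Fib.isFibGrpd_overCat U) respectsSrcIso_locP
        hc_locP (repByAlgSpWith_overMap k hk) hy
    refine ⟨V, BasedFunctor.comp (AlgSt.overMap k) y, inferInstanceAs (IsAffine (∐ g)), hx,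
      repWith_surjective_of_isSurjective (Fib.isFibGrpd_overCat V) hg _ (repByAlgSp1_of_with hx)
        fun z => ?_⟩
    obtain ⟨A, hA, u, huA, rfl⟩ := Set.mem_iUnion₂.1 (hF (Set.mem_univ z))
    refine ⟨schMk V ((Sigma.ι g ⟨A, hA⟩) ⟨u, huA⟩), ?_⟩
    rw [← ofChart_eq_map, ofChart_comp_overMap]
    congr 1
    change (Sigma.ι g ⟨A, hA⟩ ≫ d) ⟨u, huA⟩ = u
    rw [Sigma.ι_desc]
    rfl

end Groth.Agent.AlgStB
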