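import Groth.Agent.AlgStB.LocQ
import Groth.Agent.AlgStB.SmLocal
import Groth.Agent.AlgStB.SmoothLocal
import Groth.Agent.AlgSpc.LfpCancel
import Groth.Agent.S0116
import Groth.Agent.FpqcDescent.Flat

/-!
# Composition, cancellation and base change for properties read on chart squares
-/

set_option autoImplicit false
set_option backward.isDefEq.respectTransparency false
set_option backward.isDefEq.respectTransparency.types false

universe u

open CategoryTheory CategoryTheory.Limits AlgebraicGeometry Opposite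

namespace Groth.Agent.AlgStB

open _root_.AlgSt (FPt Points)
open _root_.AlgSp (Sp LocP IsAlgSpace IsSurjectiveMor yon RepWith IsSmoothLocalST)

noncomputable section

variable {S : Scheme.{u}} {𝒳 𝒴 𝒵 : AlgSt.Cat S}

theorem locP_yon_of {P : MorphismProperty Scheme.{u}} [AlgSpc.EtLoc P]
    [P.IsStableUnderBaseChange] {U V : Over S} {k : U ⟶ V} (h : P k.left) :
    LocP P ((yon S).map k) :=
  AlgSpc.locP_of_repWith (fun e f he hf => AlgSpc.EtLoc.precomp e f he hf)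
    ((_root_.AlgSp.repWith_yon_map_iff P k).2 h)

theorem lfp_of_lft_noetherian {U V : Scheme.{u}} (k : U ⟶ V) [IsLocallyNoetherian V]
    [LocallyOfFiniteType k] : LocallyOfFinitePresentation k := by
  refine (HasRingHomProperty.iff_appLE (P := @LocallyOfFinitePresentation)).2 fun A B e => ?_
  have := IsLocallyNoetherian.component_noetherian (X := V) A
  exact RingHom.FinitePresentation.of_finiteType.1
    (HasRingHomProperty.appLE (P := @LocallyOfFiniteType) k inferInstance A B e)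

theorem LocQ.mono {P Q : MorphismProperty (Sp S)} {f : 𝒳 ⥤ᵇ 𝒴}
    (hPQ : ∀ ⦃U V : Over S⦄ (h : U ⟶ V), P ((yon S).map h) → Q ((yon S).map h))
    (hf : AlgSt.LocQ P f) : AlgSt.LocQ Q f :=
  let ⟨U, V, x, y, h, α, h₁, h₂, h₃, h₄⟩ := hf
  ⟨U, V, x, y, h, α, h₁, h₂, h₃, hPQ h h₄⟩

variable (h𝒳 : AlgSt.IsAlgStack Scheme.fppfPrecoverage 𝒳)
  (h𝒴 : AlgSt.IsAlgStack Scheme.fppfPrecoverage 𝒴)

include h𝒳 h𝒴

theorem locQ_lfp_of_lft_noetherian {f : 𝒳 ⥤ᵇ 𝒴}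
    (hN : AlgSt.SmoothLocally (fun T => IsLocallyNoetherian T) 𝒴)
    (hf : AlgSt.LocQ (LocP @LocallyOfFiniteType) f) :
    AlgSt.LocQ (LocP @LocallyOfFinitePresentation) f := by
  obtain ⟨U, V, x, y, h, α, h₁, h₂, h₃, h₄⟩ := hf
  have : IsLocallyNoetherian V.left := hN V y h₃
  have : LocallyOfFiniteType h.left := locP_left h h₄
  exact ⟨U, V, x, y, h, α, h₁, h₂, h₃, locP_yon_of (lfp_of_lft_noetherian h.left)⟩

theorem smoothLocally_noetherian_of_lft {f : 𝒳 ⥤ᵇ 𝒴}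
    (hf : AlgSt.LocQ (LocP @LocallyOfFiniteType) f)
    (hN : AlgSt.SmoothLocally (fun T => IsLocallyNoetherian T) 𝒴) :
    AlgSt.SmoothLocally (fun T => IsLocallyNoetherian T) 𝒳 := by
  obtain ⟨U, V, x, y, h, α, h₁, h₂, h₃, h₄⟩ := hf
  have : IsLocallyNoetherian V.left := hN V y h₃
  have : LocallyOfFiniteType h.left := locP_left h h₄
  have : IsLocallyNoetherian U.left := LocallyOfFiniteType.isLocallyNoetherian h.left
  intro U' x' hx'
  obtain ⟨T, a, b, ha, has, hb⟩ := exists_smooth_common_cover h𝒳.isStack.1 x' hx' x h₁ h₂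
  have : IsLocallyNoetherian T.left := LocallyOfFiniteType.isLocallyNoetherian b.left
  have : Surjective a.left := ⟨has⟩
  exact Groth.Agent.S0116.result a.left

theorem isOpenMor_of_flat_lfp {f : 𝒳 ⥤ᵇ 𝒴} (hflat : AlgSt.LocQ (LocP @Flat) f)
    (hlfp : AlgSt.LocQ (LocP @LocallyOfFinitePresentation) f) : AlgSt.IsOpenMor f := by
  obtain ⟨V, y, hy, hys⟩ := h𝒴.atlas
  obtain ⟨U, x, h, α, hx, hxs, hL, -⟩ := exists_chart_square h𝒳 h𝒴 f y hy
  have : Flat h.left :=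
    locP_left h (prop_of_locQ h𝒳 h𝒴 isSmoothLocalST_flat hflat x y h α hy hL)
  have : LocallyOfFinitePresentation h.left :=
    locP_left h (prop_of_locQ h𝒳 h𝒴 isSmoothLocalST_lfp hlfp x y h α hy hL)
  intro O hO
  have hg := h𝒳.isStack.1
  have e : Points.map f '' O = Points.ofChart y '' (h.left '' (Points.ofChart x ⁻¹' O)) := by
    have key : ∀ t, Points.map f (Points.ofChart x t) = Points.ofChart y (h.left t) := fun t => by
      rw [← ofChart_comp_overMap, ofChart_eq_map, ofChart_eq_map, ← map_comp_apply, map_congr α]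
    rw [Set.image_image]
    ext z
    constructor
    · rintro ⟨w, hw, rfl⟩
      obtain ⟨t, rfl⟩ := surjective_ofChart hg x (hxs hys) w
      exact ⟨t, hw, (key t).symm⟩
    · rintro ⟨t, ht, rfl⟩
      exact ⟨_, ht, key t⟩
  rw [e]
  exact isOpenMap_ofChart h𝒴.isStack.1 y (flat_lfp_of_smooth hy).1 (flat_lfp_of_smooth hy).2 _
    (h.left.isOpenMap _ (hO.preimage (continuous_ofChart hg h𝒳.atlas x)))

/-- A representable morphism with a property has it on chart squares. -/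
theorem locQ_of_repByAlgSpWith {P : MorphismProperty Scheme.{u}} [AlgSpc.EtLoc P]
    [P.IsStableUnderBaseChange] [P.IsStableUnderComposition]
    (hsm : (@Smooth : MorphismProperty Scheme.{u}) ≤ P) {f : 𝒳 ⥤ᵇ 𝒴}
    (hf : AlgSt.RepByAlgSpWith (LocP P) f) : AlgSt.LocQ (LocP P) f := by
  obtain ⟨V, y, hy, hys⟩ := h𝒴.atlas
  obtain ⟨U, x, h, α, hx, hxs, hL, -⟩ := exists_chart_square h𝒳 h𝒴 f y hy
  refine ⟨U, V, x, y, h, α, hx, hxs hys, hy, locP_yon_of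
    (left_of_repByAlgSpWith_overMap (P := P) h ?_)⟩
  exact repByAlgSpWith_comp' (Fib.isFibGrpd_overCat U)
    (Fib.isFibGrpd_fp f y h𝒳.isStack.1 (Fib.isFibGrpd_overCat V) h𝒴.isStack.1)
    respectsSrcIso_locP hc_locP (repByAlgSpWith_mono (fun _ _ _ h => AlgSpc.locP_mono hsm h) hL)
    (repByAlgSpWith_fpSnd f y hf)

variable (h𝒵 : AlgSt.IsAlgStack Scheme.fppfPrecoverage 𝒵)

include h𝒵

/-- The comparison map of a composite of chart squares is smooth and surjective. -/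
theorem exists_comp_square (f : 𝒳 ⥤ᵇ 𝒴) (g : 𝒴 ⥤ᵇ 𝒵) {W : Over S}
    (z : FibCat.overCat W ⥤ᵇ 𝒵) (hz : AlgSt.RepByAlgSpWith (LocP @Smooth) z)
    (hzs : AlgSt.RepByAlgSpWith IsSurjectiveMor z) :
    ∃ (U V : Over S) (x : FibCat.overCat U ⥤ᵇ 𝒳) (y : FibCat.overCat V ⥤ᵇ 𝒴) (h : U ⟶ V)
      (k : V ⟶ W) (α : BasedFunctor.comp x f ≅ BasedFunctor.comp (AlgSt.overMap h) y)
      (β : BasedFunctor.comp y g ≅ BasedFunctor.comp (AlgSt.overMap k) z)
      (γ : BasedFunctor.comp x (BasedFunctor.comp f g) ≅ BasedFunctor.comp (AlgSt.overMap (h ≫ k)) z),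
      SmSurj x ∧ SmSurj y ∧ SmSurj (FibCat.fpLift x (AlgSt.overMap h) α) ∧
        SmSurj (FibCat.fpLift y (AlgSt.overMap k) β) ∧
        SmSurj (FibCat.fpLift x (AlgSt.overMap (h ≫ k)) γ) := by
  obtain ⟨V, y, k, β, hy, hys, hLg⟩ := exists_chart_square h𝒴 h𝒵 g z hz
  obtain ⟨U, x, h, α, hx, hxs, hLf⟩ := exists_chart_square h𝒳 h𝒴 f y hy
  let γ : BasedFunctor.comp x (BasedFunctor.comp f g) ≅ BasedFunctor.comp (AlgSt.overMap (h ≫ k)) z :=
    Fib.isoWhiskerRight α g ≪≫ Fib.isoWhiskerLeft (AlgSt.overMap h) β ≪≫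
      Fib.isoWhiskerRight (overMapComp h k) z
  refine ⟨U, V, x, y, h, k, α, β, γ, ⟨hx, hxs (hys hzs)⟩, ⟨hy, hys hzs⟩, hLf, hLg, ?_⟩
  let Lg := FibCat.fpLift y (AlgSt.overMap k) β
  let P₁ := FibCat.fp g z
  let P₂ := FibCat.fp (BasedFunctor.comp f g) z
  have hPg := isAlgStack_fp h𝒵.isStack h𝒵.diag h𝒴 (isAlgStack_overCat W) g z
  let Φ : FibCat.fp f y ⥤ᵇ P₂ :=
    FibCat.fpLift (FibCat.fpFst f y) (BasedFunctor.comp (FibCat.fpSnd f y) (AlgSt.overMap k))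
      (Fib.isoWhiskerRight (FibCat.fpIso f y) g ≪≫ Fib.isoWhiskerLeft (FibCat.fpSnd f y) β)
  have := (id_full_faithful 𝒵).1
  have := (id_full_faithful 𝒵).2
  have hΦ : SmSurj Φ := by
    let π := FibCat.fpFst g z
    let B := FibCat.fpSnd f π
    -- `fp (fpSnd f π) Lg` is `fp f y`, and `Φ` is the base change of `Lg`
    let a := Fib.fpAssoc f π Lg
    have ha : FibCat.IsEquivOver a := Fib.isEquivOver_fpAssoc f π Lg
    refine (SmSurj.square (f := Φ) (f' := FibCat.fpFst B Lg) a (Fib.fpBC f g z) ha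
      (Fib.isEquivOver_fpBC f g z) ?_).2 (SmSurj.fpFst _ hLg)
    exact Fib.isoMk
      (fun o => Fib.fpIsoMk (Iso.refl _) (Fib.appIso (Fib.isoWhiskerRight (FibCat.fpIso B Lg)
          (FibCat.fpSnd g z)) o) (by
        change g.map (f.map (𝟙 _)) ≫
            g.map (o.obj.fst.obj.iso.hom ≫ o.obj.iso.hom.hom.fst) ≫ β.hom.toNatTrans.app _ =
          (g.map o.obj.fst.obj.iso.hom ≫ o.obj.fst.obj.snd.obj.iso.hom) ≫
            z.map o.obj.iso.hom.hom.snd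
        rw [CategoryTheory.Functor.map_id, CategoryTheory.Functor.map_id, Category.id_comp,
          Functor.map_comp, Category.assoc, Category.assoc]
        congr 1
        exact o.obj.iso.hom.hom.w))
      (fun φ => Fib.fp_hom_ext ((Category.comp_id _).trans (Category.id_comp _).symm)
        (Fib.appIso_natural (Fib.isoWhiskerRight (FibCat.fpIso B Lg) (FibCat.fpSnd g z)) φ))
      (fun o => Fib.fp_iso_isHomLift_id _ (IsHomLift.id rfl))
  have hfp := Fib.isFibGrpd_fp f y h𝒳.isStack.1 (Fib.isFibGrpd_overCat V) h𝒴.isStack.1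
  have h' := SmSurj.comp (Fib.isFibGrpd_overCat U) hfp hLf hΦ
  refine SmSurj.of_iso ?_ h'
  exact Fib.isoMk
    (fun o => Fib.fpIsoMk (Iso.refl _) (Fib.appIso (overMapComp h k) o) (by
      change g.map (f.map (𝟙 _)) ≫ g.map (α.hom.toNatTrans.app o) ≫
          β.hom.toNatTrans.app _ ≫ z.map ((overMapComp h k).hom.toNatTrans.app o) =
        (g.map (α.hom.toNatTrans.app o) ≫ β.hom.toNatTrans.app _) ≫
          z.map ((overMapComp h k).hom.toNatTrans.app o)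
      simp))
    (fun φ => Fib.fp_hom_ext ((Category.comp_id _).trans (Category.id_comp _).symm)
      (Fib.appIso_natural (overMapComp h k) φ))
    (fun o => Fib.fp_iso_isHomLift_id _ (IsHomLift.id (x.w_obj o)))

theorem locQ_comp {P : MorphismProperty (Sp S)} (hP : IsSmoothLocalST P)
    (hPc : ∀ ⦃A B C : Sp S⦄, IsAlgSpace A → IsAlgSpace B → IsAlgSpace C →
      ∀ (a : A ⟶ B) (b : B ⟶ C), P a → P b → P (a ≫ b))
    {f : 𝒳 ⥤ᵇ 𝒴} {g : 𝒴 ⥤ᵇ 𝒵} (hf : AlgSt.LocQ P f) (hg : AlgSt.LocQ P g) :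
    AlgSt.LocQ P (BasedFunctor.comp f g) := by
  obtain ⟨W, z, hz, hzs⟩ := h𝒵.atlas
  obtain ⟨U, V, x, y, h, k, α, β, γ, hx, hy, hLf, hLg, -⟩ :=
    exists_comp_square h𝒳 h𝒴 h𝒵 f g z hz hzs
  refine ⟨U, W, x, z, h ≫ k, γ, hx.1, hx.2, hz, ?_⟩
  rw [Functor.map_comp]
  exact hPc (IsAlgSpace.yon_obj U) (IsAlgSpace.yon_obj V) (IsAlgSpace.yon_obj W) _ _
    (prop_of_locQ h𝒳 h𝒴 hP hf x y h α hy.1 hLf.1) (prop_of_locQ h𝒴 h𝒵 hP hg y z k β hz hLg.1)

/-- Cancellation on chart squares from cancellation for schemes. -/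
theorem locQ_of_comp {P Q R : MorphismProperty Scheme.{u}} [AlgSpc.EtLoc R]
    [R.IsStableUnderBaseChange] {f : 𝒳 ⥤ᵇ 𝒴} {g : 𝒴 ⥤ᵇ 𝒵}
    (hP : IsSmoothLocalST (S := S) (LocP P)) (hQ : IsSmoothLocalST (S := S) (LocP Q))
    (hPQR : ∀ {A B C : Scheme.{u}} (a : A ⟶ B) (b : B ⟶ C), P (a ≫ b) → Q b → R a)
    (hfg : AlgSt.LocQ (LocP P) (BasedFunctor.comp f g)) (hg : AlgSt.LocQ (LocP Q) g) :
    AlgSt.LocQ (LocP R) f := by
  obtain ⟨W, z, hz, hzs⟩ := h𝒵.atlas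
  obtain ⟨U, V, x, y, h, k, α, β, γ, hx, hy, hLf, hLg, hL⟩ :=
    exists_comp_square h𝒳 h𝒴 h𝒵 f g z hz hzs
  refine ⟨U, V, x, y, h, α, hx.1, hx.2, hy.1, locP_yon_of (hPQR h.left k.left ?_ ?_)⟩
  · exact _root_.AlgSp.locP_yon_map (prop_of_locQ h𝒳 h𝒵 hP hfg x z (h ≫ k) γ hz hL.1)
  · exact _root_.AlgSp.locP_yon_map (prop_of_locQ h𝒴 h𝒵 hQ hg y z k β hz hLg.1)

theorem locQ_lft_of_comp {f : 𝒳 ⥤ᵇ 𝒴} {g : 𝒴 ⥤ᵇ 𝒵}
    (hfg : AlgSt.LocQ (LocP @LocallyOfFiniteType) (BasedFunctor.comp f g)) :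
    AlgSt.LocQ (LocP @LocallyOfFiniteType) f := by
  obtain ⟨W, z, hz, hzs⟩ := h𝒵.atlas
  obtain ⟨U, V, x, y, h, k, α, β, γ, hx, hy, hLf, hLg, hL⟩ :=
    exists_comp_square h𝒳 h𝒴 h𝒵 f g z hz hzs
  have : LocallyOfFiniteType (h.left ≫ k.left) :=
    _root_.AlgSp.locP_yon_map (prop_of_locQ h𝒳 h𝒵 isSmoothLocalST_lft hfg x z (h ≫ k) γ hz hL.1)
  exact ⟨U, V, x, y, h, α, hx.1, hx.2, hy.1, locP_yon_of (locallyOfFiniteType_of_comp h.left k.left)⟩

theorem locQ_lfp_of_comp {f : 𝒳 ⥤ᵇ 𝒴} {g : 𝒴 ⥤ᵇ 𝒵}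
    (hfg : AlgSt.LocQ (LocP @LocallyOfFinitePresentation) (BasedFunctor.comp f g))
    (hg : AlgSt.LocQ (LocP @LocallyOfFiniteType) g) :
    AlgSt.LocQ (LocP @LocallyOfFinitePresentation) f :=
  locQ_of_comp h𝒳 h𝒴 h𝒵 isSmoothLocalST_lfp isSmoothLocalST_lft
    (fun a b h₁ h₂ => AlgSpc.lfp_of_comp a b) hfg hg

theorem locQ_flat_of_comp {f : 𝒳 ⥤ᵇ 𝒴} {g : 𝒴 ⥤ᵇ 𝒵} (hf : AlgSt.LocQ (LocP @Flat) f)
    (hfs : AlgSt.IsSurjective f) (hfg : AlgSt.LocQ (LocP @Flat) (BasedFunctor.comp f g)) :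
    AlgSt.LocQ (LocP @Flat) g := by
  obtain ⟨W, z, hz, hzs⟩ := h𝒵.atlas
  obtain ⟨U, V, x, y, h, k, α, β, γ, hx, hy, hLf, hLg, hL⟩ :=
    exists_comp_square h𝒳 h𝒴 h𝒵 f g z hz hzs
  have : Flat (h.left ≫ k.left) :=
    _root_.AlgSp.locP_yon_map (prop_of_locQ h𝒳 h𝒵 isSmoothLocalST_flat hfg x z (h ≫ k) γ hz hL.1)
  have : Flat h.left :=
    _root_.AlgSp.locP_yon_map (prop_of_locQ h𝒳 h𝒴 isSmoothLocalST_flat hf x y h α hy.1 hLf.1)
  have : Surjective h.left := ⟨fun v => by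
    have hV := Fib.isFibGrpd_overCat V
    have hfp := Fib.isFibGrpd_fp f y h𝒳.isStack.1 hV h𝒴.isStack.1
    obtain ⟨w, hw⟩ := isSurjective_fpSnd hV h𝒴.isStack.1 h𝒳.isStack.1 y f hfs (schMk V v)
    obtain ⟨u, hu⟩ := isSurjective_of_repWith (Fib.isFibGrpd_overCat U) hfp
      (FibCat.fpLift x (AlgSt.overMap h) α) hLf.2 w
    refine ⟨schPt U u, ?_⟩
    rw [← schPt_map_overMap, ← schPt_schMk V v, ← hw, ← hu, ← map_comp_apply]
    rfl⟩
  exact ⟨V, W, y, z, k, β, hy.1, hy.2, hz, locP_yon_of (FpqcDescent.flat_of_flat_comp h.left k.left)⟩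

end

end Groth.Agent.AlgStB
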