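import Groth.Agent.AlgStB.DiagProps
import Groth.Agent.AlgSpc.Universal
import Mathlib.AlgebraicGeometry.ZariskisMainTheorem

/-!
# Separation and monomorphisms for representable 1-morphisms
-/

set_option autoImplicit false
set_option backward.isDefEq.respectTransparency false
set_option backward.isDefEq.respectTransparency.types false

universe v₃ u₃ v₂ u₂ u

open CategoryTheory CategoryTheory.Limits AlgebraicGeometry Opposite

namespace Groth.Agent.AlgStB

open _root_.AlgSp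

variable {S : Scheme.{u}}

instance respectsIso_isUnivClosedMor : (IsUnivClosedMor (S := S)).RespectsIso := by
  refine MorphismProperty.RespectsIso.mk _ (fun e f hf => ?_) (fun e f hf => ?_)
  · exact AlgSpc.univSp_base_change (g := 𝟙 _)
      (IsPullback.of_horiz_isIso (fst := e.hom) ⟨(Category.comp_id _).symm⟩) hf
  · exact AlgSpc.univSp_base_change (g := e.inv)
      (IsPullback.of_horiz_isIso (fst := 𝟙 _) ⟨by simp⟩) hf

/-- A universally closed diagonal of a morphism of algebraic spaces is a closed immersion. -/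
theorem repWith_closedImmersion_diagonal {X Y : Sp S} (hX : IsAlgSpace X) (f : X ⟶ Y)
    (h : ∀ ⦃T W : Over S⦄ (fst : (yon S).obj W ⟶ X) (snd : W ⟶ T)
      (ξ : (yon S).obj T ⟶ pullback f f),
      IsPullback fst ((yon S).map snd) (pullback.diagonal f) ξ → IsUnivClosedMor ((yon S).map snd)) :
    IsSeparatedMor f := by
  refine ⟨AlgSpLoc.representable_diagonal_mor hX f, fun T W ξ fst snd sq => ?_⟩
  obtain ⟨h₁, h₂⟩ := lft_mono_left hX sq
  have hr : RepWith @UniversallyClosed ((yon S).map snd) :=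
    (AlgSpc.repWith_univClosed_iff ((repWith_yon_map_iff (⊤ : MorphismProperty Scheme.{u}) snd).2
      trivial).1).2 (h fst snd ξ sq)
  have h₃ : UniversallyClosed snd.left := (repWith_yon_map_iff _ _).1 hr
  exact (IsClosedImmersion.iff_isProper_and_mono snd.left).2 ⟨{}, h₂⟩

theorem isUnivClosedMor_diagonal_iff {X Y : Sp S} (hX : IsAlgSpace X) (f : X ⟶ Y) :
    (IsSeparatedMor f ↔ IsUnivClosedMor (pullback.diagonal f)) ∧
      (IsSeparatedMor f ↔ IsProperMor (pullback.diagonal f)) := by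
  have h₁ : IsSeparatedMor f → IsProperMor (pullback.diagonal f) :=
    AlgSpc.isProperMor_of_repWith_closedImmersion
  have h₂ : IsUnivClosedMor (pullback.diagonal f) → IsSeparatedMor f := fun h =>
    repWith_closedImmersion_diagonal hX f fun _ _ _ _ _ sq => AlgSpc.univSp_base_change sq h
  exact ⟨⟨fun h => (h₁ h).2.2, h₂⟩, h₁, fun h => h₂ h.2.2⟩

variable {𝒳 : BasedCategory.{v₂, u₂} (Over S)} {𝒴 : BasedCategory.{v₃, u₃} (Over S)}

theorem isClosedImm_diag_of_separated (f : 𝒳 ⥤ᵇ 𝒴)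
    (hf : AlgSt.RepByAlgSpWith IsSeparatedMor f) : AlgSt.IsClosedImm (FibCat.diag f) := by
  refine repByAlgSpWith_diag_of_repByAlgSpWith f hf fun X hX U a ha T W fst snd ξ F' i sq => ?_
  exact AlgSpc.repWith_of_isPullback (fst := i.hom) (g := 𝟙 _)
    (IsPullback.of_horiz_isIso ⟨(Category.comp_id _).symm⟩) (AlgSpc.repWith_of_isPullback sq ha)

theorem isSeparatedMor_of_isClosedImm_diag (f : 𝒳 ⥤ᵇ 𝒴) (h : AlgSt.IsClosedImm (FibCat.diag f)) :
    AlgSt.IsSeparatedMor f :=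
  repByAlgSpWith_mono (fun _ _ _ h => AlgSpc.isProperMor_of_repWith_closedImmersion h) h

theorem separated_of_univClosed_diag (f : 𝒳 ⥤ᵇ 𝒴) (hf : AlgSt.RepByAlgSp1 f)
    (h : AlgSt.RepByAlgSpWith IsUnivClosedMor (FibCat.diag f)) :
    AlgSt.RepByAlgSpWith IsSeparatedMor f := by
  intro U z
  obtain ⟨V, e, he⟩ := hf U z
  refine ⟨V, e, he, ?_⟩
  let φ := AlgSt.spMapOfOver (BasedFunctor.comp e (FibCat.fpFst z f))
  have h₁ := (repByAlgSpWith_diag_iff_of_square (FibCat.fpFst z f) (AlgSt.ofSpMap φ) e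
    (AlgSt.toOverCat U) he (isEquivOver_toOverCat U)
    (isoOfOver (BasedFunctor.comp e (FibCat.fpFst z f))).symm).1
      (repByAlgSpWith_diag_fpFst f z h)
  have h₂ := repBySpWith_diagonal_of_diag φ h₁
  refine repWith_closedImmersion_diagonal V.property φ fun T W fst snd ξ sq => ?_
  obtain ⟨_, _, hq⟩ := h₂ ξ.hom fst.hom ((yon S).map snd).hom (sq.map (sheafToPresheaf (J S) _))
  exact hq

theorem tfae_separated (f : 𝒳 ⥤ᵇ 𝒴) (hf : AlgSt.RepByAlgSp1 f) :
    [AlgSt.RepByAlgSpWith IsSeparatedMor f, AlgSt.IsClosedImm (FibCat.diag f),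
      AlgSt.IsSeparatedMor f, AlgSt.RepByAlgSpWith IsUnivClosedMor (FibCat.diag f)].TFAE := by
  tfae_have 1 → 2 := isClosedImm_diag_of_separated f
  tfae_have 2 → 3 := isSeparatedMor_of_isClosedImm_diag f
  tfae_have 3 → 4 := repByAlgSpWith_mono fun _ _ _ h => h.2.2
  tfae_have 4 → 1 := separated_of_univClosed_diag f hf
  tfae_finish

theorem isSeparatedMor_of_mono {X Y : Sp S} (f : X ⟶ Y) [Mono f] : IsSeparatedMor f :=
  AlgSpc.repWith_iso (pullback.diagonal f)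

theorem isSeparatedMor_of_isMono (f : 𝒳 ⥤ᵇ 𝒴) (h : AlgSt.IsMono f) : AlgSt.IsSeparatedMor f :=
  isSeparatedMor_of_isClosedImm_diag f (isClosedImm_diag_of_separated f
    (repByAlgSpWith_mono (fun _ _ g (hg : Mono g) => isSeparatedMor_of_mono g) h))

theorem full_ofSpMap {F G : Sp S} (a : F ⟶ G) [Mono a] : (AlgSt.ofSpMap a).toFunctor.Full := by
  have : Mono a.hom := (sheafToPresheaf (J S) _).map_mono a
  refine ⟨fun {x y} m => ⟨⟨m.hom, ?_⟩, Stk.EltObj.hom_ext rfl⟩⟩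
  have hinj : Function.Injective (a.hom.app (op x.base)) :=
    (mono_iff_injective _).1 inferInstance
  apply hinj
  exact (NatTrans.naturality_apply _ _ _).trans m.map_sec

theorem full_faithful_of_isMono {𝒳 𝒴 : AlgSt.Cat S} (h𝒳 : FibCat.IsFibGrpd 𝒳.p)
    (h𝒴 : FibCat.IsFibGrpd 𝒴.p) (j : 𝒳 ⥤ᵇ 𝒴) (hj : AlgSt.IsMono j) :
    j.toFunctor.Full ∧ j.toFunctor.Faithful := by
  refine ⟨?_, faithful_of_repByAlgSp1 h𝒳 h𝒴 (repByAlgSp1_of_with hj)⟩
  have := Fib.isFibered_of_isFibGrpd _ h𝒳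
  refine Fib.full_of_fiber j (Fib.preservesStronglyCartesian j h𝒴) fun U => ⟨fun {a b} φ => ?_⟩
  have := Fib.isFibered_of_isFibGrpd _ h𝒴
  have : 𝒴.p.IsHomLift (𝟙 U) φ.1 := φ.2
  have : IsIso φ.1 := Fib.isIso_of_isHomLift 𝒴.p h𝒴 (𝟙 U) φ.1
  have hb : 𝒴.p.obj (j.obj b.1) = U := (j.w_obj _).trans b.2
  obtain ⟨y, -, i, hi⟩ := Fib.exists_basedFunctor (𝒳 := 𝒴) (⟨j.obj b.1, hb⟩ : 𝒴.p.Fiber U)
  have hi' : 𝒴.p.IsHomLift (𝟙 U) i.hom := hi
  obtain ⟨F, e, he, hm⟩ := hj U y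
  have : Mono (AlgSt.spMapOfOver (BasedFunctor.comp e (FibCat.fpFst y j))) := hm
  have := full_ofSpMap (AlgSt.spMapOfOver (BasedFunctor.comp e (FibCat.fpFst y j)))
  have := Fib.full_of_isEquivOver (isEquivOver_toOverCat U)
  have : (BasedFunctor.comp (AlgSt.ofSpMap (AlgSt.spMapOfOver (BasedFunctor.comp e
      (FibCat.fpFst y j)))) (AlgSt.toOverCat U)).toFunctor.Full :=
    inferInstanceAs ((AlgSt.ofSpMap _).toFunctor ⋙ (AlgSt.toOverCat U).toFunctor).Full
  let η₁ : (BasedFunctor.comp (AlgSt.ofSpMap (AlgSt.spMapOfOver (BasedFunctor.comp e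
      (FibCat.fpFst y j)))) (AlgSt.toOverCat U)).toFunctor ≅
      (BasedFunctor.comp e (FibCat.fpFst y j)).toFunctor :=
    (BasedNatTrans.forgetful _ _).mapIso (isoOfOver (BasedFunctor.comp e (FibCat.fpFst y j))).symm
  have hfull : (BasedFunctor.comp e (FibCat.fpFst y j)).toFunctor.Full :=
    Functor.Full.of_iso η₁
  obtain ⟨g, hg, -, ⟨k⟩⟩ := Fib.exists_quasiInverse he
  have := Fib.full_of_isEquivOver hg
  have : (BasedFunctor.comp g (BasedFunctor.comp e (FibCat.fpFst y j))).toFunctor.Full :=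
    inferInstanceAs (g.toFunctor ⋙ (BasedFunctor.comp e (FibCat.fpFst y j)).toFunctor).Full
  let η₂ : (BasedFunctor.comp g (BasedFunctor.comp e (FibCat.fpFst y j))).toFunctor ≅
      (FibCat.fpFst y j).toFunctor :=
    (BasedNatTrans.forgetful _ _).mapIso (Fib.isoWhiskerRight k (FibCat.fpFst y j))
  have : (FibCat.fpFst y j).toFunctor.Full := Functor.Full.of_iso η₂
  let A : (FibCat.fp y j).obj := Fib.fpMk (Over.mk (𝟙 U)) a.1 (i ≪≫ (asIso φ.1).symm) (by
    simp only [Iso.trans_hom, Iso.symm_hom, asIso_inv]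
    exact inferInstanceAs (𝒴.p.IsHomLift (𝟙 U) (i.hom ≫ inv φ.1)))
  let B : (FibCat.fp y j).obj := Fib.fpMk (Over.mk (𝟙 U)) b.1 i hi
  obtain ⟨m, hm'⟩ := (FibCat.fpFst y j).toFunctor.map_surjective (X := A) (Y := B) (𝟙 _)
  have hm'' : m.hom.fst = 𝟙 _ := hm'
  have hl : (FibCat.fp y j).p.IsHomLift (𝟙 U) m := by
    rw [Fib.fp_isHomLift_iff, hm'']
    exact IsHomLift.id rfl
  have : 𝒳.p.IsHomLift (𝟙 U) m.hom.snd := Fib.fp_isHomLift_snd (h := hl) _ _
  refine ⟨⟨m.hom.snd, inferInstance⟩, Subtype.ext ?_⟩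
  have hw : y.map m.hom.fst ≫ i.hom = (i.hom ≫ inv φ.1) ≫ j.map m.hom.snd := m.hom.w
  change j.map m.hom.snd = φ.1
  rw [hm'', CategoryTheory.Functor.map_id, Category.id_comp, Category.assoc] at hw
  have := (cancel_epi i.hom).1 ((Category.comp_id _).trans hw)
  rw [← cancel_epi (inv φ.1), ← this, IsIso.inv_hom_id]
  rfl

end Groth.Agent.AlgStB
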