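import Mathlib.RingTheory.Flat.TorsionFree
import Mathlib.RingTheory.Spectrum.Prime.Chevalley
import Mathlib.RingTheory.TensorProduct.Basic
import Mathlib.RingTheory.TensorProduct.Free
import Mathlib.FieldTheory.IsAlgClosed.AlgebraicClosure
import Mathlib.FieldTheory.RatFunc.Basic
import Mathlib.RingTheory.FiniteType
import Mathlib.RingTheory.Polynomial.Basic

/-!
# Generic pairs of embeddings are not realised by algebras of finite type
-/

set_option autoImplicit false

universe u

open Polynomial TensorProduct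

namespace Groth.Agent.AlgStB.AlgClosed

theorem not_injective_eval₂ {k L : Type u} [Field k] [IsAlgClosed k] [Field L] (ι : k →+* L) (t : L)
    (ht : t ∉ Set.range ι) {B : Type u} [CommRing B] (i₁ i₂ : L →+* B) (hfin : i₁.FiniteType)
    {Ω : Type u} [Field Ω] (ψ : B →+* Ω) (hk : (ψ.comp i₁).comp ι = (ψ.comp i₂).comp ι)
    (hinj : Function.Injective (Polynomial.eval₂RingHom (ψ.comp i₁) (ψ (i₂ t)))) : False := by
  let P := RingHom.ker ψ
  haveI : P.IsPrime := RingHom.ker_isPrime ψ
  let π := Ideal.Quotient.mk P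
  let χ : L[X] →+* B ⧸ P := Polynomial.eval₂RingHom (π.comp i₁) (π (i₂ t))
  have hχψ : (Ideal.Quotient.lift P ψ fun a ha => ha).comp χ =
      Polynomial.eval₂RingHom (ψ.comp i₁) (ψ (i₂ t)) := by
    refine Polynomial.ringHom_ext (fun a => ?_) ?_ <;> simp [χ, π]
  have hχ : Function.Injective χ := fun a b h => hinj (by
    rw [← hχψ, RingHom.comp_apply, RingHom.comp_apply, h])
  letI : Algebra L[X] (B ⧸ P) := χ.toAlgebra
  have hft : χ.FiniteType := by
    refine RingHom.FiniteType.of_comp_finiteType (f := (Polynomial.C : L →+* L[X])) ?_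
    have h : χ.comp Polynomial.C = π.comp i₁ := RingHom.ext fun a => by simp [χ]
    rw [h]
    exact (RingHom.FiniteType.of_surjective π Ideal.Quotient.mk_surjective).comp hfin
  haveI : Algebra.FiniteType L[X] (B ⧸ P) := hft
  haveI : Algebra.FinitePresentation L[X] (B ⧸ P) :=
    Algebra.FinitePresentation.of_finiteType.mp inferInstance
  haveI : Module.IsTorsionFree L[X] (B ⧸ P) := by
    haveI : FaithfulSMul L[X] (B ⧸ P) := (faithfulSMul_iff_algebraMap_injective _ _).mpr hχ
    infer_instance
  haveI : Module.Flat L[X] (B ⧸ P) := by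
    rw [Module.Flat.flat_iff_torsion_eq_bot_of_isBezout]
    exact Submodule.isTorsionFree_iff_torsion_eq_bot.mp inferInstance
  have hopen : IsOpenMap (PrimeSpectrum.comap χ) :=
    PrimeSpectrum.isOpenMap_comap_of_hasGoingDown_of_finitePresentation
  have hne : (Set.range (PrimeSpectrum.comap χ)).Nonempty :=
    Set.range_nonempty _
  obtain ⟨x, hx⟩ := hne
  obtain ⟨_, ⟨g, rfl⟩, hxg, hg⟩ :=
    PrimeSpectrum.isTopologicalBasis_basic_opens.exists_subset_of_mem_open hx hopen.isOpen_range
  have hg0 : g ≠ 0 := fun h => by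
    subst h
    exact hxg x.asIdeal.zero_mem
  obtain ⟨c, hc⟩ : ∃ c : k, ¬ g.IsRoot (ι c) := by
    by_contra h
    push Not at h
    exact Set.infinite_range_of_injective ι.injective
      ((Polynomial.finite_setOfPred_isRoot hg0).subset (Set.range_subset_iff.mpr h))
  let p : PrimeSpectrum L[X] := ⟨Ideal.span {X - C (ι c)}, by
    rw [Ideal.span_singleton_prime (X_sub_C_ne_zero _)]; exact prime_X_sub_C _⟩
  have hp : p ∈ (PrimeSpectrum.basicOpen g : Set (PrimeSpectrum L[X])) := fun h =>
    hc (Polynomial.dvd_iff_isRoot.mp (Ideal.mem_span_singleton.mp h))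
  obtain ⟨q, hq⟩ := hg hp
  have hmem : χ (X - C (ι c)) ∈ q.asIdeal := by
    have h : (X - C (ι c)) ∈ (PrimeSpectrum.comap χ q).asIdeal := by
      rw [hq]; exact Ideal.mem_span_singleton_self _
    exact h
  have hd : χ (X - C (ι c)) = π (i₂ (t - ι c)) := by
    have h1 : π (i₁ (ι c)) = π (i₂ (ι c)) := by
      refine Ideal.Quotient.eq.mpr ?_
      show ψ _ = 0
      rw [map_sub, sub_eq_zero]
      exact RingHom.congr_fun hk c
    simp [χ, h1, map_sub]
  have hu : IsUnit (π (i₂ (t - ι c))) :=
    ((IsUnit.mk0 _ (sub_ne_zero.mpr fun h => ht ⟨c, h.symm⟩)).map i₂).map π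
  exact q.isPrime.ne_top (Ideal.eq_top_of_isUnit_mem _ (hd ▸ hmem) hu)

/-- two embeddings of `L` over `k` in which `t` becomes generic -/
theorem exists_generic_pair {k L : Type u} [Field k] [IsAlgClosed k] [Field L] (ι : k →+* L) (t : L)
    (ht : t ∉ Set.range ι) : ∃ (Ω : Type u) (_ : Field Ω) (_ : IsAlgClosed Ω) (a b : L →+* Ω),
      a.comp ι = b.comp ι ∧ Function.Injective (Polynomial.eval₂RingHom a (b t)) := by
  letI : Algebra k L := ι.toAlgebra
  have htr : Function.Injective (Polynomial.aeval (R := k) t) := by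
    rw [← transcendental_iff_injective]
    intro halg
    haveI := IntermediateField.adjoin.finiteDimensional halg.isIntegral
    obtain ⟨c, hc⟩ := (IsAlgClosed.algebraMap_bijective_of_isIntegral (k := k)
      (K := IntermediateField.adjoin k {t})).2
      ⟨t, IntermediateField.mem_adjoin_simple_self k t⟩
    exact ht ⟨c, congrArg Subtype.val hc⟩
  let F := RatFunc k
  let φ : F →+* L := RatFunc.liftRingHom (Polynomial.aeval (R := k) t).toRingHom
    (nonZeroDivisors_le_comap_nonZeroDivisors_of_injective _ htr)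
  let φ' : F →+* RatFunc L := RatFunc.mapRingHom (Polynomial.mapRingHom ι)
    (nonZeroDivisors_le_comap_nonZeroDivisors_of_injective _ (Polynomial.map_injective ι ι.injective))
  letI : Algebra F L := φ.toAlgebra
  letI : Algebra F (RatFunc L) := φ'.toAlgebra
  haveI : Nontrivial (RatFunc L ⊗[F] L) := inferInstance
  obtain ⟨m, hm⟩ := Ideal.exists_maximal (RatFunc L ⊗[F] L)
  letI := Ideal.Quotient.field m
  let emb := (algebraMap (_ ⧸ m) (AlgebraicClosure (_ ⧸ m))).comp (Ideal.Quotient.mk m)
  let a' : RatFunc L →+* AlgebraicClosure ((RatFunc L ⊗[F] L) ⧸ m) :=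
    emb.comp Algebra.TensorProduct.includeLeftRingHom
  let b : L →+* AlgebraicClosure ((RatFunc L ⊗[F] L) ⧸ m) :=
    emb.comp (Algebra.TensorProduct.includeRight : L →ₐ[F] RatFunc L ⊗[F] L).toRingHom
  have key : ∀ f : F, a' (φ' f) = b (φ f) := fun f => congrArg emb
    ((Algebra.TensorProduct.includeLeft : RatFunc L →ₐ[F] RatFunc L ⊗[F] L).commutes f |>.trans
      ((Algebra.TensorProduct.includeRight : L →ₐ[F] RatFunc L ⊗[F] L).commutes f).symm)
  have keyp : ∀ p : k[X], a' (algebraMap L[X] (RatFunc L) (p.map ι)) = b (Polynomial.aeval t p) := by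
    intro p
    have h := key (algebraMap k[X] (RatFunc k) p)
    have e1 : φ' (algebraMap k[X] (RatFunc k) p) = algebraMap L[X] (RatFunc L) (p.map ι) := by
      show (RatFunc.mapRingHom (Polynomial.mapRingHom ι) _ : RatFunc k → RatFunc L) _ = _
      rw [RatFunc.coe_mapRingHom_eq_coe_map]
      rw [← div_one (algebraMap k[X] (RatFunc k) p), ← map_one (algebraMap k[X] (RatFunc k)),
        RatFunc.map_apply_div]
      simp
    have e2 : φ (algebraMap k[X] (RatFunc k) p) = Polynomial.aeval t p := by
      rw [← RatFunc.ofFractionRing_algebraMap]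
      exact RatFunc.liftRingHom_ofFractionRing_algebraMap _ _ p
    rwa [e1, e2] at h
  refine ⟨_, inferInstance, inferInstance,
    a'.comp ((algebraMap L[X] (RatFunc L)).comp Polynomial.C), b, ?_, ?_⟩
  · refine RingHom.ext fun c => ?_
    have h := keyp (Polynomial.C c)
    rw [Polynomial.map_C, Polynomial.aeval_C] at h
    exact h
  · have hX := keyp Polynomial.X
    rw [Polynomial.map_X, Polynomial.aeval_X] at hX
    have heq : Polynomial.eval₂RingHom (a'.comp ((algebraMap L[X] (RatFunc L)).comp Polynomial.C)) (b t) =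
        a'.comp (algebraMap L[X] (RatFunc L)) := by
      refine Polynomial.ringHom_ext (fun x => by simp) ?_
      simp [← hX]
    rw [heq]
    exact a'.injective.comp (IsFractionRing.injective _ _)

end Groth.Agent.AlgStB.AlgClosed
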