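import Groth.Agent.AlgStB.Algebraic

/-!
# 2-fibre products of algebraic stacks, independently of the topology
-/

set_option autoImplicit false
set_option backward.isDefEq.respectTransparency false
set_option backward.isDefEq.respectTransparency.types false

universe u

open CategoryTheory CategoryTheory.Limits AlgebraicGeometry Opposite

namespace Groth.Agent.AlgStB

open _root_.AlgSp

variable {S : Scheme.{u}}

/-- An etale atlas of the 2-fibre product composed with the projection. -/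
theorem exists_atlasP_repByAlgSp {P : MorphismProperty Scheme.{u}} [AlgSpc.EtLoc P]
    [P.IsStableUnderBaseChange] [P.IsStableUnderComposition] (hE : (@Etale : MorphismProperty Scheme.{u}) ≤ P) {𝒳 : AlgSt.Cat S} {𝒬 : AlgSt.Cat S} (hQ : AlgSt.RepByAlgSp 𝒬)
    (h𝒳 : FibCat.IsFibGrpd 𝒳.p) (q : 𝒬 ⥤ᵇ 𝒳)
    (h₁ : AlgSt.RepByAlgSpWith (LocP P) q) (h₂ : AlgSt.RepByAlgSpWith IsSurjectiveMor q) :
    AlgSt.HasAtlas (LocP P) 𝒳 := by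
  have hQg := isFibGrpd_of_repByAlgSp hQ
  obtain ⟨Z, e, he⟩ := hQ
  obtain ⟨T, c, hc, hcs⟩ := Z.property.atlas
  let x : FibCat.overCat T ⥤ᵇ 𝒬 :=
    BasedFunctor.comp (AlgSt.ofOverCat T) (BasedFunctor.comp (AlgSt.ofSpMap c) e)
  have key : ∀ {Q : MorphismProperty (Sp S)},
      (∀ ⦃U : Over S⦄ (ξ : (yon S).obj U ⟶ Z.obj) ⦃F' : Sp S⦄ (fst : F' ⟶ (yon S).obj T)
        (snd : F' ⟶ (yon S).obj U), IsPullback fst snd c ξ → Q snd) →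
      AlgSt.RepByAlgSpWith Q x := by
    intro Q hQ'
    refine (repByAlgSpWith_iff_of_square x (AlgSt.ofSpMap c) (AlgSt.toOverCat T) e
      (isEquivOver_toOverCat T) he (eqToIso rfl)).2 (repByAlgSpWith_of_repBySpWith ?_)
    exact (repBySpWith_hom_iff Q c).2 fun U ξ F' fst snd sq =>
      ⟨AlgSpc.isAlgSpace_of_isPullback (IsAlgSpace.yon_obj T) Z.property (IsAlgSpace.yon_obj U) sq,
        hQ' ξ fst snd sq⟩
  have k₁ : AlgSt.RepByAlgSpWith (LocP P) x := key fun U ξ F' fst snd sq =>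
    AlgSpc.locP_of_repWith (fun e f he hf => P.comp_mem e f (hE _ _ _ he) hf)
      (AlgSpc.repWith_mono hE (AlgSpc.repWith_of_isPullback sq hc))
  have k₂ : AlgSt.RepByAlgSpWith IsSurjectiveMor x := key fun U ξ F' fst snd sq =>
    AlgSpc.surjective_map_of_repWith (AlgSpc.repWith_of_isPullback sq hcs)
  exact ⟨T, BasedFunctor.comp x q,
    repByAlgSpWith_comp' (Fib.isFibGrpd_overCat T) hQg respectsSrcIso_locP hc_locP k₁ h₁,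
    repByAlgSpWith_comp' (Fib.isFibGrpd_overCat T) hQg respectsSrcIso_isSurjectiveMor
      hc_surjective k₂ h₂⟩

variable {𝒳 𝒴 : AlgSt.Cat S}

theorem repByAlgSp1_diag_prod (h𝒳g : FibCat.IsFibGrpd 𝒳.p) (h𝒴g : FibCat.IsFibGrpd 𝒴.p)
    (h𝒳d : AlgSt.RepByAlgSp1 (FibCat.diag (FibCat.toSelf 𝒳)))
    (h𝒴d : AlgSt.RepByAlgSp1 (FibCat.diag (FibCat.toSelf 𝒴))) :
    AlgSt.RepByAlgSp1 (FibCat.diag (FibCat.toSelf (FibCat.fp (FibCat.toSelf 𝒳) (FibCat.toSelf 𝒴)))) := by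
  refine repByAlgSp1_diag_of_forall fun U x => ?_
  let x₁ := BasedFunctor.comp x (FibCat.fpFst (FibCat.toSelf 𝒳) (FibCat.toSelf 𝒴))
  let x₂ := BasedFunctor.comp x (FibCat.fpSnd (FibCat.toSelf 𝒳) (FibCat.toSelf 𝒴))
  let sU := FibCat.toSelf (FibCat.overCat U)
  let m : FibCat.fp sU sU ⥤ᵇ FibCat.fp (FibCat.toSelf 𝒳) (FibCat.toSelf 𝒴) :=
    FibCat.fpLift (BasedFunctor.comp (FibCat.fpFst sU sU) x₁)
      (BasedFunctor.comp (FibCat.fpSnd sU sU) x₂) (Fib.toSelfIso _ _)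
  have hm : AlgSt.RepByAlgSp1 m := repByAlgSp1_prodMap (Fib.isFibGrpd_overCat U) h𝒴g
    (repByAlgSp1_of_diag h𝒳g h𝒳d U x₁) (repByAlgSp1_of_diag h𝒴g h𝒴d U x₂)
    (Fib.toSelfIso _ _)
  have hUU : AlgSt.RepByAlgSp (FibCat.fp sU sU) :=
    repByAlgSp_fp (Fib.isFibGrpd_overCat U) Fib.isFibGrpd_selfOver
      (repByAlgSp1_of_repByAlgSp (repByAlgSp_overCat U) repByAlgSp_selfOver sU) sU
      (repByAlgSp_overCat U)
  let i : BasedFunctor.comp (FibCat.diag sU) m ≅ x :=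
    Fib.isoMk (fun a => Fib.fpIsoMk (Iso.refl _) (Iso.refl _)
        (@Fib.self_iso_w (Over S) _ 𝒳 𝒴 (FibCat.toSelf 𝒳) (FibCat.toSelf 𝒴) _ _ _ _ _ _
          (𝟙 ((FibCat.overCat U).p.obj a)) (IsHomLift.id (x.w_obj a))
          (IsHomLift.id (x₂.w_obj a))))
      (fun φ => Fib.fp_hom_ext ((Category.comp_id _).trans (Category.id_comp _).symm)
        ((Category.comp_id _).trans (Category.id_comp _).symm))
      (fun a => Fib.fp_iso_isHomLift_id _ (IsHomLift.id (x.w_obj a)))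
  exact repByAlgSp1_of_iso i (repByAlgSp1_comp (Fib.isFibGrpd_overCat U)
    (Fib.isFibGrpd_fp sU sU (Fib.isFibGrpd_overCat U) (Fib.isFibGrpd_overCat U)
      Fib.isFibGrpd_selfOver)
    (repByAlgSp1_of_repByAlgSp (repByAlgSp_overCat U) hUU _) hm)

theorem repByAlgSp1_diag_of_rep {j : 𝒳 ⥤ᵇ 𝒴} (h𝒳 : FibCat.IsFibGrpd 𝒳.p) (h𝒴g : FibCat.IsFibGrpd 𝒴.p)
    (h𝒴d : AlgSt.RepByAlgSp1 (FibCat.diag (FibCat.toSelf 𝒴))) (hj : AlgSt.RepByAlgSp1 j) :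
    AlgSt.RepByAlgSp1 (FibCat.diag (FibCat.toSelf 𝒳)) := by
  refine repByAlgSp1_diag_of_forall fun U x => ?_
  let y := BasedFunctor.comp x j
  have hy := repByAlgSp1_of_diag h𝒴g h𝒴d U y
  let s : FibCat.overCat U ⥤ᵇ FibCat.fp y j :=
    FibCat.fpLift (BasedFunctor.id _) x (Iso.refl y)
  exact repByAlgSp1_comp (f := s) (g := FibCat.fpSnd y j) (Fib.isFibGrpd_overCat U)
    (Fib.isFibGrpd_fp y j (Fib.isFibGrpd_overCat U) h𝒳 h𝒴g)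
    (repByAlgSp1_of_repByAlgSp (repByAlgSp_overCat U) (hj U y) s) (repByAlgSp1_fpSnd y j hy)

theorem hasAtlas_prod {P : MorphismProperty Scheme.{u}} [AlgSpc.EtLoc P]
    [P.IsStableUnderBaseChange] [P.IsStableUnderComposition] (hE : (@Etale : MorphismProperty Scheme.{u}) ≤ P)
    (hst : FibCat.IsFibGrpd (FibCat.fp (FibCat.toSelf 𝒳) (FibCat.toSelf 𝒴)).p) (h𝒴g : FibCat.IsFibGrpd 𝒴.p)
    (hx : AlgSt.HasAtlas (LocP P) 𝒳) (hy : AlgSt.HasAtlas (LocP P) 𝒴) :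
    AlgSt.HasAtlas (LocP P) (FibCat.fp (FibCat.toSelf 𝒳) (FibCat.toSelf 𝒴)) := by
  obtain ⟨U, p, hp₁, hp₂⟩ := hx
  obtain ⟨V, q, hq₁, hq₂⟩ := hy
  let sU := FibCat.toSelf (FibCat.overCat U)
  let sV := FibCat.toSelf (FibCat.overCat V)
  have hUV : AlgSt.RepByAlgSp (FibCat.fp sU sV) :=
    repByAlgSp_fp (Fib.isFibGrpd_overCat V) Fib.isFibGrpd_selfOver
      (repByAlgSp1_of_repByAlgSp (repByAlgSp_overCat V) repByAlgSp_selfOver sV) sU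
      (repByAlgSp_overCat U)
  exact exists_atlasP_repByAlgSp hE hUV hst _
    (repByAlgSpWith_prodMap respectsSrcIso_locP hc_locP (Fib.isFibGrpd_overCat V) h𝒴g
      hp₁ hq₁ (Fib.toSelfIso _ _))
    (repByAlgSpWith_prodMap respectsSrcIso_isSurjectiveMor hc_surjective
      (Fib.isFibGrpd_overCat V) h𝒴g hp₂ hq₂ (Fib.toSelfIso _ _))


theorem hasAtlas_of_rep {P : MorphismProperty Scheme.{u}} [AlgSpc.EtLoc P]
    [P.IsStableUnderBaseChange] [P.IsStableUnderComposition] (hE : (@Etale : MorphismProperty Scheme.{u}) ≤ P)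
    (h𝒳 : FibCat.IsFibGrpd 𝒳.p) {j : 𝒳 ⥤ᵇ 𝒴} (hj : AlgSt.RepByAlgSp1 j)
    (hy : AlgSt.HasAtlas (LocP P) 𝒴) : AlgSt.HasAtlas (LocP P) 𝒳 := by
  obtain ⟨U, p, h₁, h₂⟩ := hy
  exact exists_atlasP_repByAlgSp hE (hj U p) h𝒳 (FibCat.fpSnd p j) (repByAlgSpWith_fpSnd p j h₁)
    (repByAlgSpWith_fpSnd p j h₂)

theorem hasAtlas_fp {P : MorphismProperty Scheme.{u}} [AlgSpc.EtLoc P]
    [P.IsStableUnderBaseChange] [P.IsStableUnderComposition] (hE : (@Etale : MorphismProperty Scheme.{u}) ≤ P)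
    {𝒵 : AlgSt.Cat S} (hΔ : AlgSt.RepByAlgSp1 (FibCat.diag (FibCat.toSelf 𝒵)))
    (h𝒳g : FibCat.IsFibGrpd 𝒳.p) (h𝒴g : FibCat.IsFibGrpd 𝒴.p) (h𝒵g : FibCat.IsFibGrpd 𝒵.p)
    (hx : AlgSt.HasAtlas (LocP P) 𝒳) (hy : AlgSt.HasAtlas (LocP P) 𝒴) (f : 𝒳 ⥤ᵇ 𝒵) (g : 𝒴 ⥤ᵇ 𝒵) :
    AlgSt.HasAtlas (LocP P) (FibCat.fp f g) :=
  hasAtlas_of_rep hE (Fib.isFibGrpd_fp f g h𝒳g h𝒴g h𝒵g) (repByAlgSp1_toProd hΔ f g)
    (hasAtlas_prod hE (Fib.isFibGrpd_fp _ _ h𝒳g h𝒴g Fib.isFibGrpd_selfOver) h𝒴g hx hy)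

theorem isAlgStack_fp' {K : Precoverage Scheme.{u}} {𝒵 : AlgSt.Cat S}
    (h𝒳 : AlgSt.IsAlgStack K 𝒳) (h𝒴 : AlgSt.IsAlgStack K 𝒴) (h𝒵 : AlgSt.IsAlgStack K 𝒵)
    (f : 𝒳 ⥤ᵇ 𝒵) (g : 𝒴 ⥤ᵇ 𝒵) : AlgSt.IsAlgStack K (FibCat.fp f g) := by
  refine ⟨isStack_fp _ f g h𝒳.isStack h𝒴.isStack (isPrestack_of_isStack h𝒵.isStack), ?_,
    hasAtlas_fp (P := @Smooth) (fun _ _ f (hf : Etale f) => inferInstanceAs (Smooth f)) h𝒵.diag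
      h𝒳.isStack.1 h𝒴.isStack.1 h𝒵.isStack.1 h𝒳.atlas h𝒴.atlas f g⟩
  exact repByAlgSp1_diag_of_rep (Fib.isFibGrpd_fp f g h𝒳.isStack.1 h𝒴.isStack.1 h𝒵.isStack.1)
    (Fib.isFibGrpd_fp _ _ h𝒳.isStack.1 h𝒴.isStack.1 Fib.isFibGrpd_selfOver)
    (repByAlgSp1_diag_prod h𝒳.isStack.1 h𝒴.isStack.1 h𝒳.diag h𝒴.diag) (repByAlgSp1_toProd h𝒵.diag f g)

theorem hasAtlas_etale_iff : AlgSt.HasAtlas IsEtaleMor 𝒳 ↔ AlgSt.HasAtlas (LocP @Etale) 𝒳 := by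
  refine ⟨fun ⟨U, x, h, hs⟩ => ⟨U, x, ?_, hs⟩, fun ⟨U, x, h, hs⟩ => ⟨U, x, ?_, hs⟩⟩ <;>
    intro V y <;> obtain ⟨F, e, he, hP⟩ := h V y
  · exact ⟨F, e, he, (AlgSpc.isEtaleMor_iff_locP F.property (IsAlgSpace.yon_obj V)).1 hP⟩
  · exact ⟨F, e, he, (AlgSpc.isEtaleMor_iff_locP F.property (IsAlgSpace.yon_obj V)).2 hP⟩

theorem isDM_fp {K : Precoverage Scheme.{u}} {𝒵 : AlgSt.Cat S}
    (h𝒳 : AlgSt.IsDM K 𝒳) (h𝒴 : AlgSt.IsDM K 𝒴) (h𝒵 : AlgSt.IsDM K 𝒵)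
    (f : 𝒳 ⥤ᵇ 𝒵) (g : 𝒴 ⥤ᵇ 𝒵) : AlgSt.IsDM K (FibCat.fp f g) :=
  ⟨isAlgStack_fp' h𝒳.1 h𝒴.1 h𝒵.1 f g, hasAtlas_etale_iff.2 (hasAtlas_fp (P := @Etale) le_rfl h𝒵.1.diag
    h𝒳.1.isStack.1 h𝒴.1.isStack.1 h𝒵.1.isStack.1 (hasAtlas_etale_iff.1 h𝒳.2) (hasAtlas_etale_iff.1 h𝒴.2) f g)⟩

end Groth.Agent.AlgStB
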