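import Groth.Agent.AlgStB.SecAt
import Groth.Agent.Fib.Yoneda

/-!
# A category over a stack whose fibre products with slices are sheaves is a stack
-/

set_option autoImplicit false
set_option backward.isDefEq.respectTransparency false
set_option backward.isDefEq.respectTransparency.types false

universe w v₃ u₃ v₂ u₂ v u

open CategoryTheory Opposite

namespace Groth.Agent.AlgStB

variable {C : Type u} [Category.{v} C] {𝒳 : BasedCategory.{v₂, u₂} C}
  {𝒴 : BasedCategory.{v₃, u₃} C}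

/-- A 2-morphism into a category fibred in groupoids is invertible. -/
theorem exists_iso_of_natTrans (h : FibCat.IsFibGrpd 𝒳.p) {𝒜 : BasedCategory.{v₃, u₃} C}
    {F G : 𝒜 ⥤ᵇ 𝒳} (β : F ⟶ G) : ∃ i : F ≅ G, i.hom = β := by
  have hl : ∀ a, 𝒳.p.IsHomLift (𝟙 (𝒜.p.obj a)) (β.toNatTrans.app a) := fun a =>
    BasedNatTrans.isHomLift β rfl
  have : ∀ a, IsIso (β.toNatTrans.app a) := fun a =>
    haveI := hl a
    Fib.isIso_of_isHomLift 𝒳.p h (𝟙 (𝒜.p.obj a)) _
  exact ⟨Fib.isoMk (fun a => asIso (β.toNatTrans.app a))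
    (fun φ => β.toNatTrans.naturality φ) hl, Fib.hom_ext' fun a => rfl⟩

variable (J : GrothendieckTopology C)

theorem isStack_of_fp_sheaf (h𝒳 : FibCat.IsFibGrpd 𝒳.p) (h𝒴 : Stk.IsStack J 𝒴) (j : 𝒳 ⥤ᵇ 𝒴)
    [j.toFunctor.Faithful]
    (H : ∀ (U : C) (y : FibCat.overCat U ⥤ᵇ 𝒴), ∃ (W : Cᵒᵖ ⥤ Type w)
      (e : Stk.ofPsh W ⥤ᵇ FibCat.fp y j), Presieve.IsSheaf J W ∧ FibCat.IsEquivOver e) :
    Stk.IsStack J 𝒳 := by
  refine ⟨h𝒳, fun U R hR => ?_⟩
  have h𝒴R : (Stk.resSieve R 𝒴).IsEquivalence := h𝒴.2 R hR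
  have hrf : (Stk.resSieve R 𝒳).Faithful := by
    refine ⟨fun {G₁ G₂} β β' e => Fib.hom_ext' fun a => j.toFunctor.map_injective ?_⟩
    have e' : (Stk.resSieve R 𝒴).map (BasedCategory.whiskerRight β j) =
        (Stk.resSieve R 𝒴).map (BasedCategory.whiskerRight β' j) := Fib.hom_ext' fun b =>
      congrArg (fun t => j.toFunctor.map (BasedNatTrans.toNatTrans t |>.app b)) e
    exact congrArg (fun t => BasedNatTrans.toNatTrans t |>.app a)
      ((Stk.resSieve R 𝒴).map_injective e')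
  have hfull : (Stk.resSieve R 𝒳).Full := by
    refine ⟨fun {G₁ G₂} β => ?_⟩
    obtain ⟨i, hi⟩ := exists_iso_of_natTrans h𝒳 β
    let jβ : (Stk.resSieve R 𝒴).obj (BasedFunctor.comp G₁ j) ⟶
        (Stk.resSieve R 𝒴).obj (BasedFunctor.comp G₂ j) := BasedCategory.whiskerRight β j
    obtain ⟨γ, hγ⟩ := (Stk.resSieve R 𝒴).map_surjective jβ
    obtain ⟨γi, hγi⟩ := exists_iso_of_natTrans h𝒴.1 γ
    let y := BasedFunctor.comp G₂ j
    let L₁ : FibCat.overCat U ⥤ᵇ FibCat.fp y j :=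
      FibCat.fpLift (BasedFunctor.id _) G₁ γi.symm
    let L₂ : FibCat.overCat U ⥤ᵇ FibCat.fp y j :=
      FibCat.fpLift (BasedFunctor.id _) G₂ (Iso.refl _)
    obtain ⟨W, e, hW, he⟩ := H U y
    obtain ⟨g, -, -, ⟨k⟩⟩ := Fib.exists_quasiInverse he
    have hγa : ∀ b : (Stk.sieveCat R).obj, γ.toNatTrans.app b.obj = j.map (β.toNatTrans.app b) :=
      fun b => congrArg (fun t => BasedNatTrans.toNatTrans t |>.app b) hγ
    let m : BasedFunctor.comp (Stk.sieveIncl R) L₁ ≅ BasedFunctor.comp (Stk.sieveIncl R) L₂ :=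
      Fib.isoMk (fun b => Fib.fpIsoMk (Iso.refl _) (Fib.appIso i b) (by
          change y.map (𝟙 _) ≫ 𝟙 _ = γi.inv.toNatTrans.app b.obj ≫ j.map (i.hom.toNatTrans.app b)
          rw [hi, ← hγa b, ← hγi, CategoryTheory.Functor.map_id]
          change _ = (Fib.appIso γi b.obj).inv ≫ (Fib.appIso γi b.obj).hom
          rw [Iso.inv_hom_id]
          exact Category.comp_id _))
        (fun {a b} φ => Fib.fp_hom_ext ((Category.comp_id _).trans (Category.id_comp _).symm)
          (i.hom.toNatTrans.naturality φ))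
        (fun b => Fib.fp_iso_isHomLift_id _ (IsHomLift.id rfl))
    have hloc : ∀ b : (Stk.sieveCat R).obj,
        secAt (BasedFunctor.comp L₁ g) b.obj = secAt (BasedFunctor.comp L₂ g) b.obj := by
      intro b
      have := secAt_eq_of_iso (Fib.isoWhiskerRight m g) b
      change secAt (BasedFunctor.comp (Stk.sieveIncl R) (BasedFunctor.comp L₁ g)) b =
        secAt (BasedFunctor.comp (Stk.sieveIncl R) (BasedFunctor.comp L₂ g)) b at this
      exact this
    have hglob : ∀ a : Over U,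
        secAt (BasedFunctor.comp L₁ g) a = secAt (BasedFunctor.comp L₂ g) a := by
      intro a
      rw [← secAt_natural (BasedFunctor.comp L₁ g) (Fib.toId a),
        ← secAt_natural (BasedFunctor.comp L₂ g) (Fib.toId a)]
      congr 1
      refine (hW R hR).isSeparatedFor.ext fun Y f hf => ?_
      have h₁ := secAt_natural (BasedFunctor.comp L₁ g) (Fib.toId (Over.mk f))
      have h₂ := secAt_natural (BasedFunctor.comp L₂ g) (Fib.toId (Over.mk f))
      exact h₁.trans ((hloc ⟨Over.mk f, hf⟩).trans h₂.symm)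
    let M : L₁ ≅ L₂ :=
      (Fib.isoWhiskerLeft L₁ k).symm ≪≫ Fib.isoWhiskerRight (isoOfSecAt (Φ := BasedFunctor.comp L₁ g) (Ψ := BasedFunctor.comp L₂ g) hglob) e ≪≫
        Fib.isoWhiskerLeft L₂ k
    let δ : G₁ ≅ G₂ := Fib.isoWhiskerRight M (FibCat.fpSnd y j)
    refine ⟨δ.hom, Fib.hom_ext' fun b => j.toFunctor.map_injective ?_⟩
    change j.map (Fib.appIso M b.obj).hom.hom.snd = j.map (β.toNatTrans.app b)
    rw [← hγa b]
    have hM := (Fib.appIso M b.obj).hom.hom.w
    have hlift := Fib.appIso_isHomLift M b.obj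
    have hf : (Fib.appIso M b.obj).hom.hom.fst = 𝟙 b.obj := by
      apply Over.OverMorphism.ext
      have h' : (FibCat.overCat U).p.IsHomLift (𝟙 b.obj.left) (Fib.appIso M b.obj).hom.hom.fst :=
        (Fib.fp_isHomLift_iff _ _).1 hlift
      exact (IsHomLift.fac' (FibCat.overCat U).p (𝟙 b.obj.left) (Fib.appIso M b.obj).hom.hom.fst
        ).trans (by simp; rfl)
    rw [hf] at hM
    erw [CategoryTheory.Functor.map_id] at hM
    change 𝟙 _ ≫ 𝟙 _ = (Fib.appIso γi b.obj).inv ≫ j.map (Fib.appIso M b.obj).hom.hom.snd at hM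
    rw [← hγi]
    change j.map (Fib.appIso M b.obj).hom.hom.snd = (Fib.appIso γi b.obj).hom
    rw [← cancel_epi (Fib.appIso γi b.obj).inv, ← hM, Iso.inv_hom_id]
    exact Category.comp_id _
  have hess : (Stk.resSieve R 𝒳).EssSurj := by
    refine ⟨fun H' => ?_⟩
    let y := (Stk.resSieve R 𝒴).objPreimage (BasedFunctor.comp H' j)
    let α := (Stk.resSieve R 𝒴).objObjPreimageIso (BasedFunctor.comp H' j)
    obtain ⟨W, e, hW, he⟩ := H U y
    obtain ⟨g, -, -, ⟨k⟩⟩ := Fib.exists_quasiInverse he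
    let L : Stk.sieveCat R ⥤ᵇ FibCat.fp y j := FibCat.fpLift (Stk.sieveIncl R) H' α
    let Φ := BasedFunctor.comp L g
    let x : Presieve.FamilyOfElements W R.arrows := fun Y f hf =>
      secAt Φ (⟨Over.mk f, hf⟩ : (Stk.sieveCat R).obj)
    have hx : x.Compatible := by
      rw [Presieve.compatible_iff_sieveCompatible]
      intro Y Z f g' hf
      exact (secAt_natural Φ (ObjectProperty.homMk (Over.homMk g' rfl) :
        (⟨Over.mk (g' ≫ f), R.downward_closed hf g'⟩ : (Stk.sieveCat R).obj) ⟶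
          ⟨Over.mk f, hf⟩)).symm
    obtain ⟨w, hw, -⟩ := hW R hR x hx
    refine ⟨BasedFunctor.comp (BasedFunctor.comp (ofSection w) e) (FibCat.fpSnd y j), ⟨?_⟩⟩
    have hsec : ∀ b : (Stk.sieveCat R).obj,
        secAt (BasedFunctor.comp (Stk.sieveIncl R) (ofSection w)) b = secAt Φ b := by
      intro b
      rw [secAt_comp, secAt_ofSection]
      refine Eq.trans ?_ (hw b.obj.hom b.property)
      change W.map (𝟙 _) _ = _
      simp
      rfl
    exact Fib.isoWhiskerRight (Fib.isoWhiskerRight (isoOfSecAt hsec) e ≪≫ Fib.isoWhiskerLeft L k)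
      (FibCat.fpSnd y j)
  exact { faithful := hrf, full := hfull, essSurj := hess }

end Groth.Agent.AlgStB
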