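import Groth.Prelude.Def_AlgSt
import Groth.Agent.Fib.Fp
import Groth.Agent.Fib.Setoid
import Groth.Agent.Fib.Rep
import Groth.Agent.AlgStB.Descent

/-!
# 2-fibre products of stacks are stacks
-/

set_option autoImplicit false
set_option backward.isDefEq.respectTransparency false
set_option backward.isDefEq.respectTransparency.types false

universe v₄ u₄ v₃ u₃ v₂ u₂ v u

open CategoryTheory Opposite

namespace Groth.Agent.AlgStB

variable {C : Type u} [Category.{v} C] {𝒳 : BasedCategory.{v₂, u₂} C}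
  {𝒴 : BasedCategory.{v₃, u₃} C} {𝒮 : BasedCategory.{v₄, u₄} C}

theorem isStackFor_fp (F : 𝒳 ⥤ᵇ 𝒮) (G : 𝒴 ⥤ᵇ 𝒮) {U : C} (R : Sieve U)
    (h𝒳 : Stk.IsStackFor R 𝒳) (h𝒴 : Stk.IsStackFor R 𝒴) (h𝒮 : Stk.IsPrestackFor R 𝒮)
    (g𝒮 : FibCat.IsFibGrpd 𝒮.p) : Stk.IsStackFor R (FibCat.fp F G) := by
  haveI : (Stk.resSieve R 𝒳).IsEquivalence := h𝒳
  haveI : (Stk.resSieve R 𝒴).IsEquivalence := h𝒴
  obtain ⟨_, _⟩ := h𝒮
  let π₁ := FibCat.fpFst F G
  let π₂ := FibCat.fpSnd F G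
  have hfaith : (Stk.resSieve R (FibCat.fp F G)).Faithful := by
    refine ⟨fun {H₁ H₂} β β' e => Fib.hom_ext' fun a => Fib.fp_hom_ext ?_ ?_⟩
    · have e' : (Stk.resSieve R 𝒳).map (BasedCategory.whiskerRight β π₁) =
          (Stk.resSieve R 𝒳).map (BasedCategory.whiskerRight β' π₁) := Fib.hom_ext' fun b =>
        congrArg (fun t => π₁.toFunctor.map (BasedNatTrans.toNatTrans t |>.app b)) e
      exact congrArg (fun t => BasedNatTrans.toNatTrans t |>.app a)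
        ((Stk.resSieve R 𝒳).map_injective e')
    · have e' : (Stk.resSieve R 𝒴).map (BasedCategory.whiskerRight β π₂) =
          (Stk.resSieve R 𝒴).map (BasedCategory.whiskerRight β' π₂) := Fib.hom_ext' fun b =>
        congrArg (fun t => π₂.toFunctor.map (BasedNatTrans.toNatTrans t |>.app b)) e
      exact congrArg (fun t => BasedNatTrans.toNatTrans t |>.app a)
        ((Stk.resSieve R 𝒴).map_injective e')
  have hfull : (Stk.resSieve R (FibCat.fp F G)).Full := by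
    refine ⟨fun {H₁ H₂} β => ?_⟩
    let b₁ : (Stk.resSieve R 𝒳).obj (BasedFunctor.comp H₁ π₁) ⟶
        (Stk.resSieve R 𝒳).obj (BasedFunctor.comp H₂ π₁) := BasedCategory.whiskerRight β π₁
    let b₂ : (Stk.resSieve R 𝒴).obj (BasedFunctor.comp H₁ π₂) ⟶
        (Stk.resSieve R 𝒴).obj (BasedFunctor.comp H₂ π₂) := BasedCategory.whiskerRight β π₂
    obtain ⟨γ₁, h₁⟩ := (Stk.resSieve R 𝒳).map_surjective b₁
    obtain ⟨γ₂, h₂⟩ := (Stk.resSieve R 𝒴).map_surjective b₂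
    have hw : BasedCategory.whiskerRight γ₁ F ≫
          (Fib.isoWhiskerLeft H₂ (FibCat.fpIso F G)).hom =
        (Fib.isoWhiskerLeft H₁ (FibCat.fpIso F G)).hom ≫ BasedCategory.whiskerRight γ₂ G := by
      refine (Stk.resSieve R 𝒮).map_injective (Fib.hom_ext' fun b => ?_)
      have e₁ : γ₁.toNatTrans.app b.obj = (β.toNatTrans.app b).hom.fst :=
        congrArg (fun t => BasedNatTrans.toNatTrans t |>.app b) h₁
      have e₂ : γ₂.toNatTrans.app b.obj = (β.toNatTrans.app b).hom.snd :=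
        congrArg (fun t => BasedNatTrans.toNatTrans t |>.app b) h₂
      change F.map (γ₁.toNatTrans.app b.obj) ≫ (H₂.obj b.obj).obj.iso.hom =
        (H₁.obj b.obj).obj.iso.hom ≫ G.map (γ₂.toNatTrans.app b.obj)
      rw [e₁, e₂]
      exact (β.toNatTrans.app b).hom.w
    have hwa : ∀ a, F.map (γ₁.toNatTrans.app a) ≫ (H₂.obj a).obj.iso.hom =
        (H₁.obj a).obj.iso.hom ≫ G.map (γ₂.toNatTrans.app a) := fun a =>
      congrArg (fun t => BasedNatTrans.toNatTrans t |>.app a) hw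
    let γ : H₁ ⟶ H₂ :=
      { toNatTrans :=
          { app := fun a => Fib.fpHomMk (γ₁.toNatTrans.app a) (γ₂.toNatTrans.app a) (hwa a)
            naturality := fun a b φ => Fib.fp_hom_ext (γ₁.toNatTrans.naturality φ)
              (γ₂.toNatTrans.naturality φ) }
        isHomLift' := fun a => (Fib.fp_isHomLift_iff _ _).2 (BasedNatTrans.isHomLift γ₁ rfl) }
    exact ⟨γ, Fib.hom_ext' fun b => Fib.fp_hom_ext
      (congrArg (fun t => BasedNatTrans.toNatTrans t |>.app b) h₁)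
      (congrArg (fun t => BasedNatTrans.toNatTrans t |>.app b) h₂)⟩
  have hess : (Stk.resSieve R (FibCat.fp F G)).EssSurj := by
    refine ⟨fun H => ?_⟩
    let G₁ := (Stk.resSieve R 𝒳).objPreimage (BasedFunctor.comp H π₁)
    let α₁ := (Stk.resSieve R 𝒳).objObjPreimageIso (BasedFunctor.comp H π₁)
    let G₂ := (Stk.resSieve R 𝒴).objPreimage (BasedFunctor.comp H π₂)
    let α₂ := (Stk.resSieve R 𝒴).objObjPreimageIso (BasedFunctor.comp H π₂)
    let θ₀ : (Stk.resSieve R 𝒮).obj (BasedFunctor.comp G₁ F) ≅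
        (Stk.resSieve R 𝒮).obj (BasedFunctor.comp G₂ G) :=
      Fib.isoWhiskerRight α₁ F ≪≫ Fib.isoWhiskerLeft H (FibCat.fpIso F G) ≪≫
        (Fib.isoWhiskerRight α₂ G).symm
    let θ := (Stk.resSieve R 𝒮).preimageIso θ₀
    have hθ : ∀ b : (Stk.sieveCat R).obj, θ.hom.toNatTrans.app b.obj = θ₀.hom.toNatTrans.app b :=
      fun b => congrArg (fun t => BasedNatTrans.toNatTrans t |>.app b)
        ((Stk.resSieve R 𝒮).map_preimage θ₀.hom)
    refine ⟨FibCat.fpLift G₁ G₂ θ, ⟨Fib.isoMk (fun b => Fib.fpIsoMk (Fib.appIso α₁ b)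
      (Fib.appIso α₂ b) ?_) (fun φ => Fib.fp_hom_ext (α₁.hom.toNatTrans.naturality φ)
        (α₂.hom.toNatTrans.naturality φ))
      (fun b => Fib.fp_iso_isHomLift_id _ (Fib.appIso_isHomLift α₁ b))⟩⟩
    change F.map (Fib.appIso α₁ b).hom ≫ (H.obj b).obj.iso.hom =
      θ.hom.toNatTrans.app b.obj ≫ G.map (Fib.appIso α₂ b).hom
    rw [hθ]
    change _ = (F.map (Fib.appIso α₁ b).hom ≫ (H.obj b).obj.iso.hom ≫
      G.map (Fib.appIso α₂ b).inv) ≫ G.map (Fib.appIso α₂ b).hom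
    simp
  exact { faithful := hfaith, full := hfull, essSurj := hess }

theorem isStack_fp (J : GrothendieckTopology C) (F : 𝒳 ⥤ᵇ 𝒮) (G : 𝒴 ⥤ᵇ 𝒮)
    (h𝒳 : Stk.IsStack J 𝒳) (h𝒴 : Stk.IsStack J 𝒴) (h𝒮 : Stk.IsPrestack J 𝒮) :
    Stk.IsStack J (FibCat.fp F G) :=
  ⟨Fib.isFibGrpd_fp F G h𝒳.1 h𝒴.1 h𝒮.1,
    fun _ R hR => isStackFor_fp F G R (h𝒳.2 R hR) (h𝒴.2 R hR) (h𝒮.2 R hR) h𝒮.1⟩

theorem isPrestack_of_isStack {J : GrothendieckTopology C} (h : Stk.IsStack J 𝒳) :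
    Stk.IsPrestack J 𝒳 :=
  ⟨h.1, fun _ R hR =>
    haveI : (Stk.resSieve R 𝒳).IsEquivalence := h.2 R hR
    ⟨inferInstance, inferInstance⟩⟩

/-- Functors over the base to the base itself are all isomorphic by a unique 2-isomorphism. -/
theorem isStack_selfOver (J : GrothendieckTopology C) : Stk.IsStack J (FibCat.selfOver C) := by
  refine ⟨Fib.isFibGrpd_selfOver, fun U R _ => ?_⟩
  have uniq : ∀ {𝒜 : BasedCategory.{v, max u v} C} {P Q : 𝒜 ⥤ᵇ FibCat.selfOver C} (α β : P ⟶ Q),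
      α = β := fun α β => Fib.hom_ext' fun a => by
    haveI := BasedNatTrans.isHomLift α (a := a) rfl
    haveI := BasedNatTrans.isHomLift β (a := a) rfl
    exact Fib.self_hom_unique (C := C) (𝟙 (BasedCategory.p _ |>.obj a)) _ _
  exact {
    faithful := ⟨fun {_ _} α β _ => uniq α β⟩
    full := ⟨fun {A B} β => ⟨(Fib.toSelfIso A B).hom, uniq _ _⟩⟩
    essSurj := ⟨fun H => ⟨FibCat.toSelf _, ⟨Fib.toSelfIso _ _⟩⟩⟩ }

end Groth.Agent.AlgStB
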