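import Groth.Agent.AlgStB.Stack
import Groth.Agent.AlgStB.StackFp

/-!
# Algebraic stacks: representable morphisms, products, 2-fibre products
-/

set_option autoImplicit false
set_option backward.isDefEq.respectTransparency false
set_option backward.isDefEq.respectTransparency.types false

universe u

open CategoryTheory CategoryTheory.Limits AlgebraicGeometry Opposite

namespace Groth.Agent.AlgStB

open _root_.AlgSp

variable {S : Scheme.{u}}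

theorem locP_of_forall_pullback {P : MorphismProperty Scheme.{u}} [AlgSpc.EtLoc P] {X Y : Sp S}
    (hX : IsAlgSpace X) (hY : IsAlgSpace Y) (a : X ⟶ Y)
    (h : ∀ (T : Over S) (p : (yon S).obj T ⟶ Y), LocP P (pullback.snd a p)) : LocP P a := by
  obtain ⟨T, p, hp, hps⟩ := hY.atlas
  have sq := IsPullback.of_hasPullback a p
  obtain ⟨U, c, hc, hcs⟩ :=
    (AlgSpc.isAlgSpace_of_isPullback hX hY (IsAlgSpace.yon_obj T) sq).atlas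
  refine AlgSpc.locP_of_chart (h := AlgSpc.pre (c ≫ pullback.snd a p))
    (AlgSpc.repWith_comp hc (AlgSpc.repWith_of_isPullback sq.flip hp))
    (AlgSpc.repWith_comp hcs (AlgSpc.repWith_of_isPullback sq.flip hps)) hp ?_
    (h T p c (𝟙 _) (AlgSpc.pre (c ≫ pullback.snd a p)) hc (AlgSpc.repWith_iso (𝟙 _)) ?_)
  · rw [AlgSpc.map_pre, Category.assoc, Category.assoc, sq.w]
  · rw [AlgSpc.map_pre, Category.comp_id]

theorem isSurjectiveMor_of_forall_pullback {X Y : Sp S} (a : X ⟶ Y)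
    (h : ∀ (T : Over S) (p : (yon S).obj T ⟶ Y), IsSurjectiveMor (pullback.snd a p)) :
    IsSurjectiveMor a := fun y => by
  obtain ⟨T, g, t, rfl⟩ := AlgSpc.exists_ofPt y
  obtain ⟨z, hz⟩ := h T g (Points.ofScheme T t)
  refine ⟨Points.map (pullback.fst a g) z, ?_⟩
  rw [← Points.map_comp, pullback.condition, Points.map_comp, hz, ← Points.ofPt_eq_map_ofScheme]

theorem isSurjectiveMor_baseChange {P F H G : Sp S} {fst : P ⟶ F} {snd : P ⟶ H} {f : F ⟶ G}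
    {g : H ⟶ G} (sq : IsPullback fst snd f g) (hf : IsSurjectiveMor f) : IsSurjectiveMor snd :=
  fun y => by
    obtain ⟨x, hx⟩ := hf (Points.map g y)
    obtain ⟨z, -, hz⟩ := AlgSpc.exists_point_of_isPullback sq x y hx
    exact ⟨z, hz⟩

theorem respectsSrcIso_locP {P : MorphismProperty Scheme.{u}} [AlgSpc.EtLoc P]
    [P.IsStableUnderBaseChange] : RespectsSrcIso (LocP P : MorphismProperty (Sp S)) :=
  fun _ _ _ hX _ hY i m h => AlgSpc.locP_base_change hX hY hY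
    (IsPullback.of_horiz_isIso (fst := i.hom) (snd := i.hom ≫ m) (f := m) (g := 𝟙 _) ⟨by simp⟩) h

theorem respectsSrcIso_isSurjectiveMor : RespectsSrcIso (IsSurjectiveMor (S := S)) :=
  fun _ _ _ _ _ _ i m h => isSurjectiveMor_baseChange
    (IsPullback.of_horiz_isIso (fst := i.hom) (snd := i.hom ≫ m) (f := m) (g := 𝟙 _) ⟨by simp⟩) h

theorem hc_locP {P : MorphismProperty Scheme.{u}} [AlgSpc.EtLoc P] [P.IsStableUnderComposition] :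
    ∀ ⦃X Y Z : Sp S⦄, IsAlgSpace X → IsAlgSpace Y → IsAlgSpace Z → ∀ (a : X ⟶ Y) (b : Y ⟶ Z),
      (∀ (T : Over S) (p : (yon S).obj T ⟶ Y), LocP P (pullback.snd a p)) → LocP P b →
        LocP P (a ≫ b) :=
  fun _ _ _ hX hY hZ a _ ha hb =>
    AlgSpc.locP_comp hX hY hZ (locP_of_forall_pullback hX hY a ha) hb

theorem hc_surjective :
    ∀ ⦃X Y Z : Sp S⦄, IsAlgSpace X → IsAlgSpace Y → IsAlgSpace Z → ∀ (a : X ⟶ Y) (b : Y ⟶ Z),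
      (∀ (T : Over S) (p : (yon S).obj T ⟶ Y), IsSurjectiveMor (pullback.snd a p)) →
        IsSurjectiveMor b → IsSurjectiveMor (a ≫ b) :=
  fun _ _ _ _ _ _ a b ha hb x => by
    obtain ⟨y, rfl⟩ := hb x
    obtain ⟨z, rfl⟩ := isSurjectiveMor_of_forall_pullback a ha y
    exact ⟨z, Points.map_comp a b z⟩

/-- An etale atlas of the 2-fibre product composed with the projection. -/
theorem exists_atlas_repByAlgSp {𝒳 : AlgSt.Cat S} {𝒬 : AlgSt.Cat S} (hQ : AlgSt.RepByAlgSp 𝒬)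
    (h𝒳 : FibCat.IsFibGrpd 𝒳.p) (q : 𝒬 ⥤ᵇ 𝒳)
    (h₁ : AlgSt.RepByAlgSpWith (LocP @Smooth) q) (h₂ : AlgSt.RepByAlgSpWith IsSurjectiveMor q) :
    AlgSt.HasAtlas (LocP @Smooth) 𝒳 := by
  have hQg := isFibGrpd_of_repByAlgSp hQ
  obtain ⟨Z, e, he⟩ := hQ
  obtain ⟨T, c, hc, hcs⟩ := Z.property.atlas
  let x : FibCat.overCat T ⥤ᵇ 𝒬 :=
    BasedFunctor.comp (AlgSt.ofOverCat T) (BasedFunctor.comp (AlgSt.ofSpMap c) e)
  have key : ∀ {Q : MorphismProperty (Sp S)},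
      (∀ ⦃U : Over S⦄ (ξ : (yon S).obj U ⟶ Z.obj) ⦃F' : Sp S⦄ (fst : F' ⟶ (yon S).obj T)
        (snd : F' ⟶ (yon S).obj U), IsPullback fst snd c ξ → Q snd) →
      AlgSt.RepByAlgSpWith Q x := by
    intro Q hQ'
    refine (repByAlgSpWith_iff_of_square x (AlgSt.ofSpMap c) (AlgSt.toOverCat T) e
      (isEquivOver_toOverCat T) he (eqToIso rfl)).2 (repByAlgSpWith_of_repBySpWith ?_)
    exact (repBySpWith_hom_iff Q c).2 fun U ξ F' fst snd sq =>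
      ⟨AlgSpc.isAlgSpace_of_isPullback (IsAlgSpace.yon_obj T) Z.property (IsAlgSpace.yon_obj U) sq,
        hQ' ξ fst snd sq⟩
  have k₁ : AlgSt.RepByAlgSpWith (LocP @Smooth) x := key fun U ξ F' fst snd sq =>
    AlgSpc.locP_of_repWith (fun e f he hf => by
      haveI := he
      haveI : Smooth f := hf
      exact inferInstanceAs (Smooth (e ≫ f)))
      (AlgSpc.repWith_mono (fun _ _ f (hf : Etale f) => inferInstanceAs (Smooth f))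
        (AlgSpc.repWith_of_isPullback sq hc))
  have k₂ : AlgSt.RepByAlgSpWith IsSurjectiveMor x := key fun U ξ F' fst snd sq =>
    AlgSpc.surjective_map_of_repWith (AlgSpc.repWith_of_isPullback sq hcs)
  exact ⟨T, BasedFunctor.comp x q,
    repByAlgSpWith_comp' (Fib.isFibGrpd_overCat T) hQg respectsSrcIso_locP hc_locP k₁ h₁,
    repByAlgSpWith_comp' (Fib.isFibGrpd_overCat T) hQg respectsSrcIso_isSurjectiveMor
      hc_surjective k₂ h₂⟩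

theorem isAlgStack_of_repByAlgSp1 {𝒳 𝒴 : AlgSt.Cat S} (h𝒳 : FibCat.IsFibGrpd 𝒳.p)
    (h𝒴 : AlgSt.IsAlgStack Scheme.fppfPrecoverage 𝒴) {j : 𝒳 ⥤ᵇ 𝒴} (hj : AlgSt.RepByAlgSp1 j) :
    AlgSt.IsAlgStack Scheme.fppfPrecoverage 𝒳 := by
  refine ⟨isStack_of_repByAlgSp1 h𝒳 h𝒴.isStack hj, ?_, ?_⟩
  · refine repByAlgSp1_diag_of_forall fun U x => ?_
    let y := BasedFunctor.comp x j
    have hy := repByAlgSp1_of_diag h𝒴.isStack.1 h𝒴.diag U y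
    let s : FibCat.overCat U ⥤ᵇ FibCat.fp y j :=
      FibCat.fpLift (BasedFunctor.id _) x (Iso.refl y)
    exact repByAlgSp1_comp (f := s) (g := FibCat.fpSnd y j) (Fib.isFibGrpd_overCat U)
      (Fib.isFibGrpd_fp y j (Fib.isFibGrpd_overCat U) h𝒳 h𝒴.isStack.1)
      (repByAlgSp1_of_repByAlgSp (repByAlgSp_overCat U) (hj U y) s) (repByAlgSp1_fpSnd y j hy)
  · obtain ⟨U, p, h₁, h₂⟩ := h𝒴.atlas
    exact exists_atlas_repByAlgSp (hj U p) h𝒳 (FibCat.fpSnd p j) (repByAlgSpWith_fpSnd p j h₁)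
      (repByAlgSpWith_fpSnd p j h₂)

variable {𝒳₁ 𝒳₂ 𝒴₁ 𝒴₂ : AlgSt.Cat S}

theorem repByAlgSpWith_prodMap {P Q R : MorphismProperty (Sp S)} (hi : RespectsSrcIso P)
    (hc : ∀ ⦃X Y Z : Sp S⦄, IsAlgSpace X → IsAlgSpace Y → IsAlgSpace Z →
      ∀ (a : X ⟶ Y) (b : Y ⟶ Z), (∀ (T : Over S) (p : (yon S).obj T ⟶ Y), P (pullback.snd a p)) →
        Q b → R (a ≫ b))
    (h𝒳₂ : FibCat.IsFibGrpd 𝒳₂.p) (h𝒴₂ : FibCat.IsFibGrpd 𝒴₂.p)
    {f₁ : 𝒳₁ ⥤ᵇ 𝒴₁} {f₂ : 𝒳₂ ⥤ᵇ 𝒴₂} (hf₁ : AlgSt.RepByAlgSpWith Q f₁)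
    (hf₂ : AlgSt.RepByAlgSpWith P f₂)
    (e : BasedFunctor.comp (BasedFunctor.comp (FibCat.fpFst (FibCat.toSelf 𝒳₁) (FibCat.toSelf 𝒳₂)) f₁)
        (FibCat.toSelf 𝒴₁) ≅
      BasedFunctor.comp (BasedFunctor.comp (FibCat.fpSnd (FibCat.toSelf 𝒳₁) (FibCat.toSelf 𝒳₂)) f₂)
        (FibCat.toSelf 𝒴₂)) :
    AlgSt.RepByAlgSpWith R (FibCat.fpLift
      (BasedFunctor.comp (FibCat.fpFst (FibCat.toSelf 𝒳₁) (FibCat.toSelf 𝒳₂)) f₁)
      (BasedFunctor.comp (FibCat.fpSnd (FibCat.toSelf 𝒳₁) (FibCat.toSelf 𝒳₂)) f₂) e) := by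
  intro U y
  obtain ⟨Φ, hΦ, hΦ'⟩ := Fib.exists_prodMap_equiv e y
  let y₁ := BasedFunctor.comp y (FibCat.fpFst (FibCat.toSelf 𝒴₁) (FibCat.toSelf 𝒴₂))
  let y₂ := BasedFunctor.comp y (FibCat.fpSnd (FibCat.toSelf 𝒴₁) (FibCat.toSelf 𝒴₂))
  let z := BasedFunctor.comp (FibCat.fpFst y₁ f₁) y₂
  obtain ⟨F₁, e₁, he₁, hP₁⟩ := hf₁ U y₁
  obtain ⟨W, e₂, π, he₂, ⟨k⟩, hπ⟩ :=
    exists_fp_ofSp' h𝒳₂ h𝒴₂ hi hf₂ F₁.property (BasedFunctor.comp e₁ z)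
  obtain ⟨_, _⟩ := id_full_faithful 𝒴₂
  let M := Fib.fpMap e₁ (BasedFunctor.id 𝒳₂) (BasedFunctor.id 𝒴₂)
      (F' := BasedFunctor.comp e₁ z) (G' := f₂) (F := z) (G := f₂) (Iso.refl _) (Iso.refl _)
  refine ⟨W, BasedFunctor.comp e₂ (BasedFunctor.comp M Φ),
    Fib.isEquivOver_comp he₂ (Fib.isEquivOver_comp
      (Fib.isEquivOver_fpMap _ _ _ _ _ he₁ (Fib.isEquivOver_id _)) hΦ), ?_⟩
  have h := spMapOfOver_congr (Fib.isoWhiskerRight k (BasedFunctor.comp e₁ (FibCat.fpFst y₁ f₁)))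
  have h' : AlgSt.spMapOfOver (BasedFunctor.comp (BasedFunctor.comp e₂ (BasedFunctor.comp M Φ))
      (FibCat.fpFst y (FibCat.fpLift
      (BasedFunctor.comp (FibCat.fpFst (FibCat.toSelf 𝒳₁) (FibCat.toSelf 𝒳₂)) f₁)
      (BasedFunctor.comp (FibCat.fpSnd (FibCat.toSelf 𝒳₁) (FibCat.toSelf 𝒳₂)) f₂) e))) =
      π ≫ AlgSt.spMapOfOver (BasedFunctor.comp e₁ (FibCat.fpFst y₁ f₁)) := by
    rw [spMapOfOver_comp] at h
    refine Eq.trans ?_ h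
    have assoc : ∀ {𝒜 ℬ 𝒞 𝒟 : AlgSt.Cat S} (a : 𝒜 ⥤ᵇ ℬ) (b : ℬ ⥤ᵇ 𝒞) (c : 𝒞 ⥤ᵇ 𝒟),
        BasedFunctor.comp (BasedFunctor.comp a b) c = BasedFunctor.comp a (BasedFunctor.comp b c) :=
      fun _ _ _ => rfl
    rw [assoc, assoc, hΦ']
    rw [← assoc M, Fib.fpMap_fpFst, assoc (FibCat.fpFst _ f₂), ← assoc e₂]
  exact h' ▸ hc W.property F₁.property (IsAlgSpace.yon_obj U) _ _ hπ hP₁

theorem repByAlgSp1_prodMap (h𝒳₂ : FibCat.IsFibGrpd 𝒳₂.p) (h𝒴₂ : FibCat.IsFibGrpd 𝒴₂.p)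
    {f₁ : 𝒳₁ ⥤ᵇ 𝒴₁} {f₂ : 𝒳₂ ⥤ᵇ 𝒴₂} (hf₁ : AlgSt.RepByAlgSp1 f₁) (hf₂ : AlgSt.RepByAlgSp1 f₂)
    (e : BasedFunctor.comp (BasedFunctor.comp (FibCat.fpFst (FibCat.toSelf 𝒳₁) (FibCat.toSelf 𝒳₂)) f₁)
        (FibCat.toSelf 𝒴₁) ≅
      BasedFunctor.comp (BasedFunctor.comp (FibCat.fpSnd (FibCat.toSelf 𝒳₁) (FibCat.toSelf 𝒳₂)) f₂)
        (FibCat.toSelf 𝒴₂)) :
    AlgSt.RepByAlgSp1 (FibCat.fpLift
      (BasedFunctor.comp (FibCat.fpFst (FibCat.toSelf 𝒳₁) (FibCat.toSelf 𝒳₂)) f₁)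
      (BasedFunctor.comp (FibCat.fpSnd (FibCat.toSelf 𝒳₁) (FibCat.toSelf 𝒳₂)) f₂) e) :=
  repByAlgSp1_of_with (repByAlgSpWith_prodMap (P := ⊤) (Q := ⊤) (R := ⊤)
    (fun _ _ _ _ _ _ _ _ _ => trivial) (fun _ _ _ _ _ _ _ _ _ _ => trivial) h𝒳₂ h𝒴₂
    (repByAlgSpWith_top_iff.2 hf₁) (repByAlgSpWith_top_iff.2 hf₂) e)

theorem isAlgStack_prod {𝒳 𝒴 : AlgSt.Cat S}
    (h𝒳 : AlgSt.IsAlgStack Scheme.fppfPrecoverage 𝒳) (h𝒴 : AlgSt.IsAlgStack Scheme.fppfPrecoverage 𝒴) :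
    AlgSt.IsAlgStack Scheme.fppfPrecoverage (FibCat.fp (FibCat.toSelf 𝒳) (FibCat.toSelf 𝒴)) := by
  have hst := isStack_fp (QuotSh.J Scheme.fppfPrecoverage S) (FibCat.toSelf 𝒳) (FibCat.toSelf 𝒴)
    h𝒳.isStack h𝒴.isStack (isPrestack_of_isStack (isStack_selfOver _))
  refine ⟨hst, ?_, ?_⟩
  · refine repByAlgSp1_diag_of_forall fun U x => ?_
    let x₁ := BasedFunctor.comp x (FibCat.fpFst (FibCat.toSelf 𝒳) (FibCat.toSelf 𝒴))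
    let x₂ := BasedFunctor.comp x (FibCat.fpSnd (FibCat.toSelf 𝒳) (FibCat.toSelf 𝒴))
    let sU := FibCat.toSelf (FibCat.overCat U)
    let m : FibCat.fp sU sU ⥤ᵇ FibCat.fp (FibCat.toSelf 𝒳) (FibCat.toSelf 𝒴) :=
      FibCat.fpLift (BasedFunctor.comp (FibCat.fpFst sU sU) x₁)
        (BasedFunctor.comp (FibCat.fpSnd sU sU) x₂) (Fib.toSelfIso _ _)
    have hm : AlgSt.RepByAlgSp1 m := repByAlgSp1_prodMap (Fib.isFibGrpd_overCat U) h𝒴.isStack.1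
      (repByAlgSp1_of_diag h𝒳.isStack.1 h𝒳.diag U x₁) (repByAlgSp1_of_diag h𝒴.isStack.1 h𝒴.diag U x₂)
      (Fib.toSelfIso _ _)
    have hUU : AlgSt.RepByAlgSp (FibCat.fp sU sU) :=
      repByAlgSp_fp (Fib.isFibGrpd_overCat U) Fib.isFibGrpd_selfOver
        (repByAlgSp1_of_repByAlgSp (repByAlgSp_overCat U) repByAlgSp_selfOver sU) sU
        (repByAlgSp_overCat U)
    let i : BasedFunctor.comp (FibCat.diag sU) m ≅ x :=
      Fib.isoMk (fun a => Fib.fpIsoMk (Iso.refl _) (Iso.refl _)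
          (@Fib.self_iso_w (Over S) _ 𝒳 𝒴 (FibCat.toSelf 𝒳) (FibCat.toSelf 𝒴) _ _ _ _ _ _
            (𝟙 ((FibCat.overCat U).p.obj a)) (IsHomLift.id (x.w_obj a))
            (IsHomLift.id (x₂.w_obj a))))
        (fun φ => Fib.fp_hom_ext ((Category.comp_id _).trans (Category.id_comp _).symm)
          ((Category.comp_id _).trans (Category.id_comp _).symm))
        (fun a => Fib.fp_iso_isHomLift_id _ (IsHomLift.id (x.w_obj a)))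
    exact repByAlgSp1_of_iso i (repByAlgSp1_comp (Fib.isFibGrpd_overCat U)
      (Fib.isFibGrpd_fp sU sU (Fib.isFibGrpd_overCat U) (Fib.isFibGrpd_overCat U)
        Fib.isFibGrpd_selfOver)
      (repByAlgSp1_of_repByAlgSp (repByAlgSp_overCat U) hUU _) hm)
  · obtain ⟨U, p, hp₁, hp₂⟩ := h𝒳.atlas
    obtain ⟨V, q, hq₁, hq₂⟩ := h𝒴.atlas
    let sU := FibCat.toSelf (FibCat.overCat U)
    let sV := FibCat.toSelf (FibCat.overCat V)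
    have hUV : AlgSt.RepByAlgSp (FibCat.fp sU sV) :=
      repByAlgSp_fp (Fib.isFibGrpd_overCat V) Fib.isFibGrpd_selfOver
        (repByAlgSp1_of_repByAlgSp (repByAlgSp_overCat V) repByAlgSp_selfOver sV) sU
        (repByAlgSp_overCat U)
    exact exists_atlas_repByAlgSp hUV hst.1 _
      (repByAlgSpWith_prodMap respectsSrcIso_locP hc_locP (Fib.isFibGrpd_overCat V) h𝒴.isStack.1
        hp₁ hq₁ (Fib.toSelfIso _ _))
      (repByAlgSpWith_prodMap respectsSrcIso_isSurjectiveMor hc_surjective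
        (Fib.isFibGrpd_overCat V) h𝒴.isStack.1 hp₂ hq₂ (Fib.toSelfIso _ _))

theorem exists_twoCart_toProd {𝒳 𝒴 𝒵 : AlgSt.Cat S} (f : 𝒳 ⥤ᵇ 𝒵) (g : 𝒴 ⥤ᵇ 𝒵) :
    ∃ e : BasedFunctor.comp (FibCat.fpLift (FibCat.fpFst f g) (FibCat.fpSnd f g)
      (Fib.toSelfIso (BasedFunctor.comp (FibCat.fpFst f g) (FibCat.toSelf 𝒳))
        (BasedFunctor.comp (FibCat.fpSnd f g) (FibCat.toSelf 𝒴))))
      (FibCat.fpLift (F := FibCat.toSelf 𝒵) (G := FibCat.toSelf 𝒵)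
        (BasedFunctor.comp (FibCat.fpFst (FibCat.toSelf 𝒳) (FibCat.toSelf 𝒴)) f)
        (BasedFunctor.comp (FibCat.fpSnd (FibCat.toSelf 𝒳) (FibCat.toSelf 𝒴)) g)
        (Fib.toSelfIso _ _)) ≅
      BasedFunctor.comp (BasedFunctor.comp (FibCat.fpSnd f g) g)
        (FibCat.diag (FibCat.toSelf 𝒵)),
      FibCat.IsTwoCartOver (FibCat.fpLift (FibCat.fpFst f g) (FibCat.fpSnd f g)
      (Fib.toSelfIso (BasedFunctor.comp (FibCat.fpFst f g) (FibCat.toSelf 𝒳))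
        (BasedFunctor.comp (FibCat.fpSnd f g) (FibCat.toSelf 𝒴))))
        (BasedFunctor.comp (FibCat.fpSnd f g) g) e := by
  let sX := FibCat.toSelf 𝒳
  let sY := FibCat.toSelf 𝒴
  let sZ := FibCat.toSelf 𝒵
  let v := FibCat.fpLift (FibCat.fpFst f g) (FibCat.fpSnd f g)
      (Fib.toSelfIso (BasedFunctor.comp (FibCat.fpFst f g) sX) (BasedFunctor.comp (FibCat.fpSnd f g) sY))
  let m : FibCat.fp sX sY ⥤ᵇ FibCat.fp sZ sZ :=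
    FibCat.fpLift (BasedFunctor.comp (FibCat.fpFst sX sY) f) (BasedFunctor.comp (FibCat.fpSnd sX sY) g)
      (Fib.toSelfIso _ _)
  have hl : ∀ w : (FibCat.fp f g).obj, 𝒵.p.IsHomLift (𝟙 ((FibCat.fp f g).p.obj w))
      (Iso.refl (g.obj w.obj.snd)).hom := fun w =>
    IsHomLift.id ((g.w_obj _).trans (Fib.fp_snd_obj w))
  let e : BasedFunctor.comp v m ≅
      BasedFunctor.comp (BasedFunctor.comp (FibCat.fpSnd f g) g) (FibCat.diag sZ) :=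
    Fib.isoMk (fun w => Fib.fpIsoMk w.obj.iso (Iso.refl (g.obj w.obj.snd))
        (@Fib.self_iso_w (Over S) _ 𝒵 𝒵 sZ sZ _ _ _ _ _ _ (𝟙 ((FibCat.fp f g).p.obj w))
          w.property (hl w)))
      (fun φ => Fib.fp_hom_ext φ.hom.w ((Category.comp_id _).trans (Category.id_comp _).symm))
      (fun w => Fib.fp_iso_isHomLift_id _ w.property)
  refine ⟨e, ?_⟩
  let Φ := FibCat.fpLift v (BasedFunctor.comp (FibCat.fpSnd f g) g) e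
  have : Φ.toFunctor.Faithful := ⟨fun {a b} φ ψ h => Fib.fp_hom_ext
    (congrArg (fun t => t.hom.fst.hom.fst) h) (congrArg (fun t => t.hom.fst.hom.snd) h)⟩
  have : Φ.toFunctor.Full := ⟨fun {a b} φ => by
    have w₁ : f.map φ.hom.fst.hom.fst ≫ b.obj.iso.hom = a.obj.iso.hom ≫ φ.hom.snd :=
      congrArg (fun t => t.hom.fst) φ.hom.w
    have w₂ : g.map φ.hom.fst.hom.snd ≫ 𝟙 _ = 𝟙 _ ≫ φ.hom.snd :=
      congrArg (fun t => t.hom.snd) φ.hom.w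
    have w₂' : g.map φ.hom.fst.hom.snd = φ.hom.snd :=
      ((Category.comp_id _).symm.trans w₂).trans (Category.id_comp _)
    exact ⟨Fib.fpHomMk φ.hom.fst.hom.fst φ.hom.fst.hom.snd (by rw [w₂']; exact w₁),
      Fib.fp_hom_ext (Fib.fp_hom_ext rfl rfl) w₂'⟩⟩
  refine Fib.isEquivOver_of_exists_iso_over Φ fun η => ?_
  let j₁ := (FibCat.fpFst sZ sZ).toFunctor.mapIso η.obj.iso
  let j₂ := (FibCat.fpSnd sZ sZ).toFunctor.mapIso η.obj.iso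
  have h₁ : 𝒵.p.IsHomLift (𝟙 (𝒳.p.obj η.obj.fst.obj.fst)) j₁.hom :=
    (Fib.fp_isHomLift_iff _ _).1 η.property
  have h₂ : 𝒵.p.IsHomLift (𝟙 (𝒳.p.obj η.obj.fst.obj.fst)) j₂.hom :=
    Fib.fp_isHomLift_snd (h := η.property) _ _
  let B : (FibCat.fp f g).obj := Fib.fpMk η.obj.fst.obj.fst η.obj.fst.obj.snd (j₁ ≪≫ j₂.symm)
    (by simp only [Iso.trans_hom, Iso.symm_hom]; infer_instance)
  refine ⟨B, Fib.fpIsoMk (Fib.fpIsoMk (Iso.refl _) (Iso.refl _)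
      (@Fib.self_iso_w (Over S) _ 𝒳 𝒴 sX sY _ _ _ _ _ _ (𝟙 (𝒳.p.obj η.obj.fst.obj.fst))
        (IsHomLift.id rfl) (IsHomLift.id (Fib.fp_snd_obj η.obj.fst)))) j₂ (Fib.fp_hom_ext ?_ ?_),
    Fib.fp_iso_isHomLift_id _ ((Fib.fp_isHomLift_iff _ _).2 (IsHomLift.id rfl))⟩
  · change f.map (𝟙 η.obj.fst.obj.fst) ≫ j₁.hom = (j₁.hom ≫ j₂.inv) ≫ j₂.hom
    simp
  · change g.map (𝟙 η.obj.fst.obj.snd) ≫ j₂.hom = 𝟙 _ ≫ j₂.hom
    simp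

theorem repByAlgSp1_toProd {𝒳 𝒴 𝒵 : AlgSt.Cat S}
    (hΔ : AlgSt.RepByAlgSp1 (FibCat.diag (FibCat.toSelf 𝒵))) (f : 𝒳 ⥤ᵇ 𝒵) (g : 𝒴 ⥤ᵇ 𝒵) :
    AlgSt.RepByAlgSp1 (FibCat.fpLift (FibCat.fpFst f g) (FibCat.fpSnd f g)
      (Fib.toSelfIso (BasedFunctor.comp (FibCat.fpFst f g) (FibCat.toSelf 𝒳))
        (BasedFunctor.comp (FibCat.fpSnd f g) (FibCat.toSelf 𝒴)))) := by
  obtain ⟨e, he⟩ := exists_twoCart_toProd f g
  exact repByAlgSp1_of_twoCart _ _ (FibCat.diag (FibCat.toSelf 𝒵)) _ e he hΔ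

theorem isAlgStack_fp {𝒳 𝒴 𝒵 : AlgSt.Cat S}
    (h𝒵 : Stk.IsStack (QuotSh.J Scheme.fppfPrecoverage S) 𝒵)
    (hΔ : AlgSt.RepByAlgSp1 (FibCat.diag (FibCat.toSelf 𝒵)))
    (h𝒳 : AlgSt.IsAlgStack Scheme.fppfPrecoverage 𝒳) (h𝒴 : AlgSt.IsAlgStack Scheme.fppfPrecoverage 𝒴)
    (f : 𝒳 ⥤ᵇ 𝒵) (g : 𝒴 ⥤ᵇ 𝒵) : AlgSt.IsAlgStack Scheme.fppfPrecoverage (FibCat.fp f g) :=
  isAlgStack_of_repByAlgSp1 (Fib.isFibGrpd_fp f g h𝒳.isStack.1 h𝒴.isStack.1 h𝒵.1)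
    (isAlgStack_prod h𝒳 h𝒴) (repByAlgSp1_toProd hΔ f g)

end Groth.Agent.AlgStB
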