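import Groth.Agent.AlgStB.Points
import Groth.Agent.AlgStB.Algebraic
import Groth.Agent.AlgSpc.Compact

/-!
# The topology on the points of an algebraic stack
-/

set_option autoImplicit false
set_option backward.isDefEq.respectTransparency false
set_option backward.isDefEq.respectTransparency.types false

universe v₄ u₄ v₃ u₃ v₂ u₂ u

open CategoryTheory CategoryTheory.Limits AlgebraicGeometry Opposite

namespace Groth.Agent.AlgStB

open _root_.AlgSt (FPt Points)
open _root_.AlgSp (Sp Space LocP IsSurjectiveMor IsAlgSpace yon RepWith)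

variable {S : Scheme.{u}}

theorem locP_left {P : MorphismProperty Scheme.{u}} {U V : Over S} (k : U ⟶ V)
    (h : LocP P ((yon S).map k)) : P k.left :=
  h (𝟙 _) (𝟙 _) k (AlgSpc.repWith_iso _) (AlgSpc.repWith_iso _) (by simp)

/-- A smooth 1-morphism is flat and locally of finite presentation. -/
theorem flat_lfp_of_smooth {𝒳 : BasedCategory.{v₂, u₂} (Over S)}
    {𝒴 : BasedCategory.{v₃, u₃} (Over S)} {f : 𝒳 ⥤ᵇ 𝒴}
    (h : AlgSt.RepByAlgSpWith (LocP @Smooth) f) :
    AlgSt.RepByAlgSpWith (LocP @Flat) f ∧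
      AlgSt.RepByAlgSpWith (LocP @LocallyOfFinitePresentation) f :=
  ⟨repByAlgSpWith_mono (fun _ _ _ hm => AlgSpc.locP_mono (fun _ _ a (ha : Smooth a) => by
      haveI := ha; exact inferInstanceAs (Flat a)) hm) h,
    repByAlgSpWith_mono (fun _ _ _ hm => AlgSpc.locP_mono (fun _ _ a (ha : Smooth a) => by
      haveI := ha; exact inferInstanceAs (LocallyOfFinitePresentation a)) hm) h⟩

theorem isFibGrpd_ofSp {F : Sp S} (hF : IsAlgSpace F) : FibCat.IsFibGrpd (AlgSt.ofSp F).p :=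
  isFibGrpd_of_repByAlgSp ⟨⟨F, hF⟩, BasedFunctor.id _, Fib.isEquivOver_id _⟩

/-! ### The points map of a scheme-to-scheme functor over the base -/

theorem continuous_schPt_map {V T : Over S} (z : FibCat.overCat V ⥤ᵇ FibCat.overCat T) :
    Continuous fun t => schPt T (Points.map z (schMk V t)) := by
  let γ := AlgSt.spMapOfOver (BasedFunctor.comp (AlgSt.toOverCat V) z)
  let m := AlgSpc.pre γ
  have i := isoOfOver (BasedFunctor.comp (AlgSt.toOverCat V) z)
  have h : (fun t => schPt T (Points.map z (schMk V t))) = m.left := funext fun t => by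
    obtain ⟨w, hw⟩ := (bijective_map _ (isEquivOver_toOverCat V)).2 (schMk V t)
    rw [← hw, ← map_comp_apply, map_congr i, map_comp_apply, schPt_toOverCat, spPt_map]
    have hv : AlgSp.Points.toScheme V (spPt _ w) = t := by
      rw [← schPt_toOverCat, hw, schPt_schMk]
    rw [← AlgSp.Points.ofScheme_toScheme V (spPt _ w), hv]
    change AlgSp.Points.toScheme T (AlgSp.Points.map γ (AlgSp.Points.ofPt (𝟙 _) t)) = _
    rw [AlgSp.Points.map_ofPt, Category.id_comp, show γ = (yon S).map m from (AlgSpc.map_pre γ).symm,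
      AlgSp.Points.toScheme_ofPt]
  rw [h]
  exact m.left.continuous

/-! ### Charts of a base change -/

variable {𝒳 : BasedCategory.{v₂, u₂} (Over S)} {𝒴 : BasedCategory.{v₃, u₃} (Over S)}

/-- The chart of an atlas of the base change of `f` along a chart of the target. -/
theorem exists_cover_point_of_atlas (h𝒳 : FibCat.IsFibGrpd 𝒳.p) (h𝒴 : FibCat.IsFibGrpd 𝒴.p)
    (f : 𝒳 ⥤ᵇ 𝒴) {V : Over S} (y : FibCat.overCat V ⥤ᵇ 𝒴) {F : Sp S}
    (e : AlgSt.ofSp F ⥤ᵇ FibCat.fp y f) (he : FibCat.IsEquivOver e) {T : Over S}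
    (c : (yon S).obj T ⟶ F) (hc : Function.Surjective (AlgSp.Points.ofPt c)) :
    ∃ τ : FibCat.overCat T ⥤ᵇ 𝒳,
      Nonempty (BasedFunctor.comp τ f ≅ BasedFunctor.comp (AlgSt.overMap
        (AlgSpc.pre (c ≫ AlgSt.spMapOfOver (BasedFunctor.comp e (FibCat.fpFst y f))))) y) ∧
      ∀ (v : ↥V.left) (x : Points 𝒳), Points.map f x = Points.ofChart y v →
        ∃ t : ↥T.left,
          (AlgSpc.pre (c ≫ AlgSt.spMapOfOver (BasedFunctor.comp e (FibCat.fpFst y f)))).left t = v ∧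
            Points.ofChart τ t = x := by
  let φ := AlgSt.spMapOfOver (BasedFunctor.comp e (FibCat.fpFst y f))
  let k := AlgSpc.pre (c ≫ φ)
  have hk : (yon S).map k = c ≫ φ := AlgSpc.map_pre _
  let σ := BasedFunctor.comp (AlgSt.ofOverCat T) (BasedFunctor.comp (AlgSt.ofSpMap c) e)
  let i₁ : BasedFunctor.comp σ (FibCat.fpFst y f) ≅ AlgSt.overMap k :=
    Fib.isoWhiskerLeft (BasedFunctor.comp (AlgSt.ofOverCat T) (AlgSt.ofSpMap c))
        (isoOfOver (BasedFunctor.comp e (FibCat.fpFst y f))) ≪≫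
      eqToIso (congrArg (fun t => BasedFunctor.comp (BasedFunctor.comp (AlgSt.ofOverCat T)
        (AlgSt.ofSpMap t)) (AlgSt.toOverCat V)) hk.symm) ≪≫ overMapIso k
  refine ⟨BasedFunctor.comp σ (FibCat.fpSnd y f),
    ⟨Fib.isoWhiskerLeft σ (FibCat.fpIso y f).symm ≪≫ Fib.isoWhiskerRight i₁ y⟩, fun v x h => ?_⟩
  obtain ⟨w, hw₁, hw₂⟩ := exists_point_fp h𝒳 h𝒴 (Fib.isFibGrpd_overCat V) f y (schMk V v) x
    (by rw [← ofChart_eq_map]; exact h.symm)
  obtain ⟨z, rfl⟩ := (bijective_map e he).2 w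
  obtain ⟨t, ht⟩ := hc (spPt F z)
  have hz : z = Points.map (BasedFunctor.comp (AlgSt.ofOverCat T) (AlgSt.ofSpMap c)) (schMk T t) := by
    rw [← spMk_spPt z, ← ht, map_comp_apply,
      show Points.map (AlgSt.ofOverCat T) (schMk T t) = spMk _ (AlgSp.Points.ofScheme T t) from rfl,
      spMk_map, AlgSp.Points.ofPt_eq_map_ofScheme]
  refine ⟨t, ?_, ?_⟩
  · have h' : Points.map (FibCat.fpFst y f) (Points.map e z) =
        Points.map (AlgSt.overMap k) (schMk T t) := by
      rw [hz, ← map_comp_apply, ← map_comp_apply]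
      exact congrFun (map_congr i₁) _
    rw [hw₁] at h'
    have := congrArg (schPt V) h'
    rwa [schPt_schMk, schPt_map_overMap, schPt_schMk, eq_comm] at this
  · rw [← hw₂, ofChart_eq_map, hz, ← map_comp_apply, ← map_comp_apply]
    rfl

theorem exists_cover_point (h𝒳 : FibCat.IsFibGrpd 𝒳.p) (h𝒴 : FibCat.IsFibGrpd 𝒴.p)
    (f : 𝒳 ⥤ᵇ 𝒴) (hf : AlgSt.RepByAlgSp1 f) {V : Over S} (y : FibCat.overCat V ⥤ᵇ 𝒴) :
    ∃ (T : Over S) (k : T ⟶ V) (τ : FibCat.overCat T ⥤ᵇ 𝒳),
      Nonempty (BasedFunctor.comp τ f ≅ BasedFunctor.comp (AlgSt.overMap k) y) ∧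
      (∀ (v : ↥V.left) (x : Points 𝒳), Points.map f x = Points.ofChart y v →
        ∃ t : ↥T.left, k.left t = v ∧ Points.ofChart τ t = x) ∧
      (∀ P : MorphismProperty Scheme.{u}, AlgSt.RepByAlgSpWith (LocP P) f → P k.left) ∧
      (AlgSt.RepByAlgSpWith IsSurjectiveMor f → Function.Surjective k.left) := by
  obtain ⟨F, e, he⟩ := hf V y
  obtain ⟨T, c, hc, hcs⟩ := F.property.atlas
  obtain ⟨τ, hi, hp⟩ :=
    exists_cover_point_of_atlas h𝒳 h𝒴 f y e he c (AlgSpc.surjective_ofPt hcs)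
  refine ⟨T, _, τ, hi, hp, fun P hP => ?_, fun hs v => ?_⟩
  · obtain ⟨F', e', he', hm⟩ := hP V y
    obtain ⟨i, ⟨j⟩⟩ := exists_iso_of_reps e e' he he'
    have h := spMapOfOver_congr (Fib.isoWhiskerRight j (FibCat.fpFst y f))
    refine hm (c ≫ i.hom) (𝟙 _) _ ?_ (AlgSpc.repWith_iso _) ?_
    · exact AlgSpc.repWith_comp hc (AlgSpc.repWith_iso _)
    · rw [AlgSpc.map_pre, ← h, Category.comp_id]
      exact (Category.assoc _ _ _).trans (congrArg (c ≫ ·) (spMapOfOver_comp i.hom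
        (BasedFunctor.comp e' (FibCat.fpFst y f))).symm)
  · obtain ⟨F', e', he', hm⟩ := hs V y
    let φ' := AlgSt.spMapOfOver (BasedFunctor.comp e' (FibCat.fpFst y f))
    obtain ⟨z, hz⟩ := hm (AlgSp.Points.ofScheme V v)
    let w := Points.map e' (spMk F'.obj z)
    have hv : Points.map (FibCat.fpFst y f) w = schMk V v := by
      rw [← schMk_schPt V (Points.map _ _), ← map_comp_apply,
        map_congr (isoOfOver (BasedFunctor.comp e' (FibCat.fpFst y f))), map_comp_apply, spMk_map, hz,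
        schPt_toOverCat, spPt_spMk, AlgSp.Points.toScheme_ofScheme]
    have := hp v (Points.map (FibCat.fpSnd y f) w) (by
      rw [ofChart_eq_map, ← hv]
      exact (map_comp_apply _ _ w).symm.trans
        ((congrFun (map_congr (FibCat.fpIso y f)) w).symm.trans (map_comp_apply _ _ w)))
    obtain ⟨t, ht, -⟩ := this
    exact ⟨t, ht⟩

/-- A representable 1-morphism with surjective base changes is surjective on points. -/
theorem isSurjective_of_repWith (h𝒳 : FibCat.IsFibGrpd 𝒳.p) (h𝒴 : FibCat.IsFibGrpd 𝒴.p)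
    (f : 𝒳 ⥤ᵇ 𝒴) (hs : AlgSt.RepByAlgSpWith IsSurjectiveMor f) : AlgSt.IsSurjective f := by
  intro y
  obtain ⟨p, rfl⟩ := Points.mk_surjective y
  have := Fib.isFibered_of_isFibGrpd _ h𝒴
  obtain ⟨G, -, e, he⟩ := Fib.exists_basedFunctor (U := (Over.mk p.str : Over S)) ⟨p.obj, p.lies⟩
  obtain ⟨T, k, τ, ⟨i⟩, -, -, hk⟩ := exists_cover_point h𝒳 h𝒴 f (repByAlgSp1_of_with hs) G
  obtain ⟨t, -⟩ := hk hs (IsLocalRing.closedPoint p.K)
  refine ⟨Points.ofChart τ t, ?_⟩
  rw [ofChart_eq_map, ← map_comp_apply, map_congr i, ← ofChart_eq_map, ofChart_comp_overMap]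
  let q : FPt (FibCat.overCat (Over.mk p.str : Over S)) := ⟨p.K, p.str, Over.mk (𝟙 _), rfl⟩
  have hq : schMk _ (k.left t) = Points.mk q := by
    rw [← schMk_schPt _ (Points.mk q)]
    have : Subsingleton ↥(Over.mk p.str : Over S).left :=
      inferInstanceAs (Subsingleton ↥(Spec (CommRingCat.of p.K)))
    exact congrArg _ (Subsingleton.elim _ _)
  rw [ofChart_eq_map, hq, Points.map_mk]
  exact mk_eq_of_hom (q := p) (e.hom)

/-! ### Continuity and openness -/

theorem isQuotientMap_flat_lfp {X Y : Scheme.{u}} (f : X ⟶ Y) [Flat f] [LocallyOfFinitePresentation f]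
    (hs : Function.Surjective f) : Topology.IsQuotientMap f :=
  (isOpenMap_of_generalizingMap f (Flat.generalizingMap f)).isQuotientMap f.continuous hs

/-- The preimage of an open of points by any chart of a stack with a smooth atlas is open. -/
theorem continuous_ofChart (h𝒴 : FibCat.IsFibGrpd 𝒴.p) (hA : AlgSt.HasAtlas (LocP @Smooth) 𝒴)
    {V : Over S} (y : FibCat.overCat V ⥤ᵇ 𝒴) : Continuous (Points.ofChart y) := by
  refine continuous_def.2 fun W hW => ?_
  obtain ⟨U, x, hx, hxs⟩ := hA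
  obtain ⟨T, k, τ, ⟨i⟩, -, hk, hks⟩ :=
    exists_cover_point (Fib.isFibGrpd_overCat U) h𝒴 x (repByAlgSp1_of_with hx) y
  have : Flat k.left := hk _ (flat_lfp_of_smooth hx).1
  have : LocallyOfFinitePresentation k.left := hk _ (flat_lfp_of_smooth hx).2
  rw [← (isQuotientMap_flat_lfp k.left (hks hxs)).isOpen_preimage]
  have : k.left ⁻¹' (Points.ofChart y ⁻¹' W) =
      (fun t => schPt U (Points.map τ (schMk T t))) ⁻¹' (Points.ofChart x ⁻¹' W) := by
    ext t
    simp only [Set.mem_preimage]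
    rw [← ofChart_comp_overMap k y t, ofChart_eq_map, ← map_congr i, map_comp_apply,
      ofChart_eq_map x, schMk_schPt]
  rw [this]
  exact (hW U x hx).preimage (continuous_schPt_map τ)

theorem continuous_map (h𝒴 : FibCat.IsFibGrpd 𝒴.p) (hA : AlgSt.HasAtlas (LocP @Smooth) 𝒴)
    (f : 𝒳 ⥤ᵇ 𝒴) : Continuous (Points.map f) :=
  continuous_def.2 fun W hW U x _ => by
    have := hW.preimage (continuous_ofChart h𝒴 hA (BasedFunctor.comp x f))
    convert this using 1
    ext t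
    simp [ofChart_eq_map, map_comp_apply]

/-- Flat and locally finitely presented representable 1-morphisms are open. -/
theorem isOpenMap_map (h𝒳 : FibCat.IsFibGrpd 𝒳.p) (hA : AlgSt.HasAtlas (LocP @Smooth) 𝒳)
    (h𝒴 : FibCat.IsFibGrpd 𝒴.p) (f : 𝒳 ⥤ᵇ 𝒴) (h₁ : AlgSt.RepByAlgSpWith (LocP @Flat) f)
    (h₂ : AlgSt.RepByAlgSpWith (LocP @LocallyOfFinitePresentation) f) :
    IsOpenMap (Points.map f) := by
  intro W hW V y _
  obtain ⟨T, k, τ, ⟨i⟩, hp, hk, -⟩ := exists_cover_point h𝒳 h𝒴 f (repByAlgSp1_of_with h₁) y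
  have : Flat k.left := hk _ h₁
  have : LocallyOfFinitePresentation k.left := hk _ h₂
  have e : Points.ofChart y ⁻¹' (Points.map f '' W) = k.left '' (Points.ofChart τ ⁻¹' W) := by
    ext v
    constructor
    · rintro ⟨x, hx, h⟩
      obtain ⟨t, ht, rfl⟩ := hp v x h
      exact ⟨t, hx, ht⟩
    · rintro ⟨t, ht, rfl⟩
      refine ⟨Points.ofChart τ t, ht, ?_⟩
      rw [← ofChart_comp_overMap, ofChart_eq_map, ← map_comp_apply, map_congr i, ← ofChart_eq_map]
  rw [e]
  exact isOpenMap_of_generalizingMap k.left (Flat.generalizingMap k.left) _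
    (hW.preimage (continuous_ofChart h𝒳 hA τ))

/-! ### Algebraic spaces -/

theorem exists_ofChart_eq_ofPt {F : Sp S} {U : Over S} (x : FibCat.overCat U ⥤ᵇ AlgSt.ofSp F) :
    ∃ g : (yon S).obj U ⟶ F, ∀ t, spPt F (Points.ofChart x t) = AlgSp.Points.ofPt g t := by
  obtain ⟨g, ⟨i⟩⟩ := exists_ofSpMap (BasedFunctor.comp (AlgSt.toOverCat U) x)
  refine ⟨g, fun t => ?_⟩
  have h : Points.map (AlgSt.toOverCat U) (spMk _ (AlgSp.Points.ofScheme U t)) = schMk U t := by
    rw [← schMk_schPt U (Points.map _ _), schPt_toOverCat, spPt_spMk, AlgSp.Points.toScheme_ofScheme]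
  rw [ofChart_eq_map, ← h, ← map_comp_apply, map_congr i, spPt_map, spPt_spMk,
    AlgSp.Points.ofPt_eq_map_ofScheme]

theorem ofChart_ofSpMap {F : Sp S} {T : Over S} (c : (yon S).obj T ⟶ F) (t : ↥T.left) :
    Points.ofChart (BasedFunctor.comp (AlgSt.ofOverCat T) (AlgSt.ofSpMap c)) t =
      spMk F (AlgSp.Points.ofPt c t) := by
  rw [ofChart_eq_map, map_comp_apply, AlgSp.Points.ofPt_eq_map_ofScheme, ← spMk_map]
  rfl

theorem repByAlgSpWith_atlas {F : Sp S} (hF : IsAlgSpace F) {T : Over S}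
    (c : (yon S).obj T ⟶ F) (hc : RepWith @Etale c) (hcs : RepWith @Surjective c) :
    AlgSt.RepByAlgSpWith (LocP @Smooth) (BasedFunctor.comp (AlgSt.ofOverCat T) (AlgSt.ofSpMap c)) ∧
      AlgSt.RepByAlgSpWith IsSurjectiveMor
        (BasedFunctor.comp (AlgSt.ofOverCat T) (AlgSt.ofSpMap c)) := by
  have key : ∀ {Q : MorphismProperty (Sp S)},
      (∀ ⦃U : Over S⦄ (ξ : (yon S).obj U ⟶ F) ⦃F' : Sp S⦄ (fst : F' ⟶ (yon S).obj T)
        (snd : F' ⟶ (yon S).obj U), IsPullback fst snd c ξ → Q snd) →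
      AlgSt.RepByAlgSpWith Q (BasedFunctor.comp (AlgSt.ofOverCat T) (AlgSt.ofSpMap c)) := by
    intro Q hQ
    refine (repByAlgSpWith_iff_of_square _ (AlgSt.ofSpMap c) (AlgSt.toOverCat T) (BasedFunctor.id _)
      (isEquivOver_toOverCat T) (Fib.isEquivOver_id _) (eqToIso rfl)).2
      (repByAlgSpWith_of_repBySpWith ?_)
    exact (_root_.AlgSp.repBySpWith_hom_iff Q c).2 fun U ξ F' fst snd sq =>
      ⟨AlgSpc.isAlgSpace_of_isPullback (IsAlgSpace.yon_obj T) hF (IsAlgSpace.yon_obj U) sq,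
        hQ ξ fst snd sq⟩
  refine ⟨key fun U ξ F' fst snd sq => AlgSpc.locP_of_repWith
      (fun e f he hf => AlgSpc.EtLoc.precomp e f he hf)
      (AlgSpc.repWith_mono (fun _ _ f (hf : Etale f) => inferInstanceAs (Smooth f))
        (AlgSpc.repWith_of_isPullback sq hc)),
    key fun U ξ F' fst snd sq =>
      AlgSpc.surjective_map_of_repWith (AlgSpc.repWith_of_isPullback sq hcs)⟩

theorem hasAtlas_ofSp {F : Sp S} (hF : IsAlgSpace F) :
    AlgSt.HasAtlas (LocP @Smooth) (AlgSt.ofSp F) := by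
  obtain ⟨T, c, hc, hcs⟩ := hF.atlas
  exact ⟨T, _, repByAlgSpWith_atlas hF c hc hcs⟩

theorem hasAtlas_overCat (U : Over S) : AlgSt.HasAtlas (LocP @Smooth) (FibCat.overCat U) := by
  obtain ⟨T, x, hx, hxs⟩ := hasAtlas_ofSp (IsAlgSpace.yon_obj U)
  exact ⟨T, BasedFunctor.comp x (AlgSt.toOverCat U),
    (repByAlgSpWith_iff_of_square _ x (BasedFunctor.id _) (AlgSt.toOverCat U) (Fib.isEquivOver_id _)
      (isEquivOver_toOverCat U) (Iso.refl _)).2 hx,
    (repByAlgSpWith_iff_of_square _ x (BasedFunctor.id _) (AlgSt.toOverCat U) (Fib.isEquivOver_id _)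
      (isEquivOver_toOverCat U) (Iso.refl _)).2 hxs⟩

theorem isHomeomorph_spPt {F : Sp S} (hF : IsAlgSpace F) : IsHomeomorph (spPt F) := by
  refine ⟨continuous_def.2 fun W hW U x _ => ?_, fun W hW => ?_,
    ⟨fun a b h => by rw [← spMk_spPt a, h, spMk_spPt], fun z => ⟨spMk F z, spPt_spMk z⟩⟩⟩
  · obtain ⟨g, hg⟩ := exists_ofChart_eq_ofPt x
    convert AlgSp.Points.isOpen_iff.1 hW U g using 1
    ext t
    simp [hg]
  · obtain ⟨T, c, hc, hcs⟩ := hF.atlas
    rw [← (AlgSpc.isQuotientMap_ofPt hc hcs).isOpen_preimage]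
    convert hW T _ (repByAlgSpWith_atlas hF c hc hcs).1 using 1
    ext t
    simp only [Set.mem_preimage, ofChart_ofSpMap, Set.mem_image]
    exact ⟨fun ⟨a, ha, h⟩ => by rwa [← h, spMk_spPt], fun h => ⟨_, h, spPt_spMk _⟩⟩

theorem isHomeomorph_schPt (U : Over S) : IsHomeomorph (schPt U) := by
  refine ⟨continuous_def.2 fun W hW V x _ => ?_, fun W hW => ?_,
    ⟨fun a b h => by rw [← schMk_schPt U a, h, schMk_schPt], fun t => ⟨schMk U t, schPt_schMk U t⟩⟩⟩
  · exact hW.preimage (continuous_schPt_map x)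
  · have h := continuous_ofChart (Fib.isFibGrpd_overCat U) (hasAtlas_overCat U)
      (BasedFunctor.id (FibCat.overCat U))
    convert hW.preimage h using 1
    ext t
    exact ⟨fun ⟨a, ha, h⟩ => by
      rw [← h]
      change schMk U (schPt U a) ∈ W
      rwa [schMk_schPt],
      fun ht => ⟨schMk U t, ht, schPt_schMk U t⟩⟩

theorem continuous_schMk (U : Over S) : Continuous (schMk U) :=
  continuous_ofChart (Fib.isFibGrpd_overCat U) (hasAtlas_overCat U) _

/-- A chart which is flat and locally of finite presentation is open. -/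
theorem isOpenMap_ofChart (h𝒴 : FibCat.IsFibGrpd 𝒴.p) {U : Over S}
    (x : FibCat.overCat U ⥤ᵇ 𝒴) (h₁ : AlgSt.RepByAlgSpWith (LocP @Flat) x)
    (h₂ : AlgSt.RepByAlgSpWith (LocP @LocallyOfFinitePresentation) x) :
    IsOpenMap (Points.ofChart x) := by
  have ho := isOpenMap_map (Fib.isFibGrpd_overCat U) (hasAtlas_overCat U) h𝒴 x h₁ h₂
  intro W hW
  have hW' : IsOpen (schPt U ⁻¹' W) := hW.preimage (isHomeomorph_schPt U).continuous
  convert ho _ hW' using 1
  ext z
  constructor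
  · rintro ⟨t, ht, rfl⟩
    exact ⟨schMk U t, by simpa [schPt_schMk] using ht, rfl⟩
  · rintro ⟨w, hw, rfl⟩
    exact ⟨schPt U w, hw, by rw [ofChart_eq_map, schMk_schPt]⟩

theorem surjective_ofChart (h𝒴 : FibCat.IsFibGrpd 𝒴.p) {U : Over S}
    (x : FibCat.overCat U ⥤ᵇ 𝒴) (hs : AlgSt.RepByAlgSpWith IsSurjectiveMor x) :
    Function.Surjective (Points.ofChart x) := fun z => by
  obtain ⟨w, rfl⟩ := isSurjective_of_repWith (Fib.isFibGrpd_overCat U) h𝒴 x hs z
  exact ⟨schPt U w, by rw [ofChart_eq_map, schMk_schPt]⟩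

end Groth.Agent.AlgStB
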