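import Groth.Agent.AlgStB.PointsTop
import Groth.Agent.AlgStB.Invariance
import Groth.Agent.AlgStB.StackFp

/-!
# Categories representable by algebraic spaces are algebraic stacks
-/

set_option autoImplicit false
set_option backward.isDefEq.respectTransparency false
set_option backward.isDefEq.respectTransparency.types false

universe u

open CategoryTheory CategoryTheory.Limits AlgebraicGeometry Opposite

namespace Groth.Agent.AlgStB

open _root_.AlgSp

variable {S : Scheme.{u}}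

theorem isAlgStack_of_repByAlgSp {𝒳 : AlgSt.Cat S} (h𝒳 : FibCat.IsFibGrpd 𝒳.p)
    (hr : AlgSt.RepByAlgSp 𝒳) : AlgSt.IsAlgStack Scheme.fppfPrecoverage 𝒳 := by
  have h := repByAlgSp1_of_repByAlgSp hr repByAlgSp_selfOver (FibCat.toSelf 𝒳)
  refine ⟨isStack_of_repByAlgSp1 h𝒳 (isStack_selfOver _) h, ?_, ?_⟩
  · exact repByAlgSp1_of_repByAlgSp hr
      (repByAlgSp_fp h𝒳 Fib.isFibGrpd_selfOver h (FibCat.toSelf 𝒳) hr) _
  · obtain ⟨F, e, he⟩ := hr
    exact hasAtlas_of_isEquivOver he (hasAtlas_ofSp F.property)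

theorem isAlgStack_ofSp {F : Sp S} (hF : IsAlgSpace F) :
    AlgSt.IsAlgStack Scheme.fppfPrecoverage (AlgSt.ofSp F) :=
  isAlgStack_of_repByAlgSp (isFibGrpd_ofSp hF) ⟨⟨F, hF⟩, BasedFunctor.id _, Fib.isEquivOver_id _⟩

theorem isAlgStack_overCat (U : Over S) :
    AlgSt.IsAlgStack Scheme.fppfPrecoverage (FibCat.overCat U) :=
  isAlgStack_of_repByAlgSp (Fib.isFibGrpd_overCat U) (repByAlgSp_overCat U)

theorem isDM_of_repByAlgSp {𝒳 : AlgSt.Cat S} (h𝒳 : FibCat.IsFibGrpd 𝒳.p)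
    (hr : AlgSt.RepByAlgSp 𝒳) : AlgSt.IsDM Scheme.fppfPrecoverage 𝒳 := by
  refine ⟨isAlgStack_of_repByAlgSp h𝒳 hr, ?_⟩
  obtain ⟨F, e, he⟩ := hr
  refine hasAtlas_of_isEquivOver he ?_
  obtain ⟨T, c, hc, hcs⟩ := F.property.atlas
  refine ⟨T, BasedFunctor.comp (AlgSt.ofOverCat T) (AlgSt.ofSpMap c), ?_,
    (repByAlgSpWith_atlas F.property c hc hcs).2⟩
  refine (repByAlgSpWith_iff_of_square _ (AlgSt.ofSpMap c) (AlgSt.toOverCat T) (BasedFunctor.id _)
    (isEquivOver_toOverCat T) (Fib.isEquivOver_id _) (eqToIso rfl)).2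
    (repByAlgSpWith_of_repBySpWith ?_)
  exact (repBySpWith_hom_iff _ c).2 fun U ξ F' fst snd sq =>
    ⟨AlgSpc.isAlgSpace_of_isPullback (IsAlgSpace.yon_obj T) F.property (IsAlgSpace.yon_obj U) sq,
      fun V φ hφ => AlgSpc.repWith_comp hφ (AlgSpc.repWith_of_isPullback sq hc)⟩

end Groth.Agent.AlgStB
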