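import Groth.Agent.AlgStB.DiagLft
import Groth.Agent.AlgStB.PointsTop
import Groth.Agent.AlgStB.FpAlgebraic
import Groth.Agent.AlgStB.SpaceStack
import Groth.Agent.AlgStB.AlgClosedAlg
import Groth.Agent.Fib.Yoneda
import Mathlib.AlgebraicGeometry.AlgClosed.Basic

/-!
# Lifting points over algebraically closed fields
-/

set_option autoImplicit false
set_option maxHeartbeats 400000
set_option linter.style.haveILetI false
set_option backward.isDefEq.respectTransparency false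
set_option backward.isDefEq.respectTransparency.types false

universe v₃ u₃ v₂ u₂ u

open CategoryTheory CategoryTheory.Limits AlgebraicGeometry Opposite

namespace Groth.Agent.AlgStB

open _root_.AlgSt (FPt Points)
open _root_.AlgSp (Sp LocP IsAlgSpace yon)

noncomputable section

variable {S : Scheme.{u}}

theorem isHomLift_id_of_eq {𝒳 : BasedCategory.{v₂, u₂} (Over S)} {X Y : Over S} {a b : 𝒳.obj}
    {φ : a ⟶ b} (h : X = Y) (hφ : 𝒳.p.IsHomLift (𝟙 X) φ) : 𝒳.p.IsHomLift (𝟙 Y) φ := h ▸ hφ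

theorem schHom_key {U : Over S} {r p : FPt (FibCat.overCat U)} (a : r.obj ⟶ p.obj) :
    fptBase a ≫ schHom p = schHom r := by
  simp only [fptBase, schHom, Category.assoc, eqToHom_trans_assoc, eqToHom_refl, Category.id_comp]
  exact congrArg (eqToHom r.lies.symm ≫ ·) (Over.w a)

theorem fptBase_map {𝒳 : BasedCategory.{v₂, u₂} (Over S)} {𝒴 : BasedCategory.{v₃, u₃} (Over S)}
    (F : 𝒳 ⥤ᵇ 𝒴) {r p : FPt 𝒳} (a : r.obj ⟶ p.obj) :
    fptBase (r := r.map F) (p := p.map F) (F.map a) = fptBase a := by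
  simp [fptBase, FPt.map, Fib.w_map]

/-- the morphism of bases inducing a functor of slices -/
def slHom {T U : Over S} (Φ : FibCat.overCat T ⥤ᵇ FibCat.overCat U) : T ⟶ U :=
  eqToHom (Φ.w_obj (Over.mk (𝟙 T))).symm ≫ (Φ.obj (Over.mk (𝟙 T))).hom

theorem obj_hom_eq {T U : Over S} (Φ : FibCat.overCat T ⥤ᵇ FibCat.overCat U) {W : Over S} (g : W ⟶ T)
    (hw : (FibCat.overCat U).p.obj (Φ.obj (Over.mk g)) = W) :
    eqToHom hw.symm ≫ (Φ.obj (Over.mk g)).hom = g ≫ slHom Φ := by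
  have h : (Φ.map (Fib.toId (Over.mk g))).left =
      eqToHom (Φ.w_obj (Over.mk g)) ≫ (Over.mk g).hom ≫ eqToHom (Φ.w_obj (Over.mk (𝟙 T))).symm :=
    Fib.w_map Φ (Fib.toId (Over.mk g))
  have h2 := Over.w (Φ.map (Fib.toId (Over.mk g)))
  rw [h] at h2
  simp only [slHom]
  rw [← h2]
  simp

theorem exists_iso_of_hom_eq {U W : Over S} {a b : (FibCat.overCat U).obj}
    (ha : (FibCat.overCat U).p.obj a = W) (hb : (FibCat.overCat U).p.obj b = W)
    (h : eqToHom ha.symm ≫ a.hom = eqToHom hb.symm ≫ b.hom) :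
    ∃ γ : a ≅ b, (FibCat.overCat U).p.IsHomLift (𝟙 W) γ.hom := by
  refine ⟨Over.isoMk (eqToIso (ha.trans hb.symm)) ?_, IsHomLift.of_fac _ _ _ ha hb ?_⟩
  · rw [← cancel_epi (eqToHom ha.symm), h]
    simp
  · change 𝟙 W = eqToHom ha.symm ≫ eqToHom (ha.trans hb.symm) ≫ eqToHom hb
    simp

theorem schHom_map {T U : Over S} (Φ : FibCat.overCat T ⥤ᵇ FibCat.overCat U)
    (p : FPt (FibCat.overCat T)) : schHom (p.map Φ) = schHom p ≫ slHom Φ := by
  have h : (Φ.map (Fib.toId p.obj)).left =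
      eqToHom (Φ.w_obj p.obj) ≫ p.obj.hom ≫ eqToHom (Φ.w_obj (Over.mk (𝟙 T))).symm :=
    Fib.w_map Φ (Fib.toId p.obj)
  have h2 := Over.w (Φ.map (Fib.toId p.obj))
  rw [h] at h2
  simp only [schHom, slHom, FPt.map]
  rw [← h2]
  simp

theorem schHom_map_of_iso {T U : Over S} {Φ : FibCat.overCat T ⥤ᵇ FibCat.overCat U} {g : T ⟶ U}
    (i : Φ ≅ AlgSt.overMap g) (pt : FPt (FibCat.overCat T)) :
    schHom (pt.map Φ) = schHom pt ≫ g := by
  have hc := schHom_key (r := pt.map Φ) (p := pt.map (AlgSt.overMap g)) (i.hom.toNatTrans.app pt.obj)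
  have hid : fptBase (r := pt.map Φ) (p := pt.map (AlgSt.overMap g))
      (i.hom.toNatTrans.app pt.obj) = 𝟙 _ := by
    haveI : (FibCat.overCat U).p.IsHomLift (𝟙 (Over.mk pt.str)) (i.hom.toNatTrans.app pt.obj) :=
      haveI := i.hom.isHomLift' pt.obj
      isHomLift_id_of_eq pt.lies inferInstance
    exact (IsHomLift.fac (FibCat.overCat U).p (𝟙 (Over.mk pt.str)) (i.hom.toNatTrans.app pt.obj)).symm
  rw [hid, Category.id_comp] at hc
  refine hc.symm.trans ?_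
  show eqToHom _ ≫ (_ ≫ g) = (eqToHom _ ≫ _) ≫ g
  simp

/-- A field-valued point in the image of a map representable by spaces locally of finite type lifts. -/
theorem exists_lift_algClosed_of_lft {𝒜 ℬ : AlgSt.Cat S} (hA : FibCat.IsFibGrpd 𝒜.p)
    (hB : FibCat.IsFibGrpd ℬ.p) (g : 𝒜 ⥤ᵇ ℬ)
    (hg : AlgSt.RepByAlgSpWith (LocP @LocallyOfFiniteType) g)
    {k : Type u} [Field k] [IsAlgClosed k] {s : Spec (CommRingCat.of k) ⟶ S} (b : ℬ.obj)
    (hb : ℬ.p.obj b = Over.mk s) (h : Points.mk ⟨k, s, b, hb⟩ ∈ Set.range (Points.map g)) :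
    ∃ (a : 𝒜.obj) (φ : g.obj a ⟶ b), 𝒜.p.obj a = Over.mk s ∧ ℬ.p.IsHomLift (𝟙 (Over.mk s)) φ := by
  let V : Over S := Over.mk s
  haveI := Fib.isFibered_of_isFibGrpd _ hB
  obtain ⟨G, -, e, he⟩ := Fib.exists_basedFunctor (𝒳 := ℬ) (U := V) ⟨b, hb⟩
  obtain ⟨T, kT, τ, ⟨ι⟩, hp, hP, -⟩ := exists_cover_point hA hB g (repByAlgSp1_of_with hg) G
  haveI : LocallyOfFiniteType kT.left := hP _ hg
  obtain ⟨z, hz⟩ := h
  let v : ↥V.left := IsLocalRing.closedPoint k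
  have hv : Points.ofChart G v = Points.mk ⟨k, s, b, hb⟩ :=
    mk_eq_of_hom (p := ⟨_, _, G.obj (Over.mk (Over.homMk (V.left.fromSpecResidueField v) rfl :
      Over.mk (V.left.fromSpecResidueField v ≫ V.hom) ⟶ V)), G.w_obj _⟩) (q := ⟨k, s, b, hb⟩)
      (G.map (Fib.toId _) ≫ e.hom)
  obtain ⟨t, -, -⟩ := hp v z (hz.trans hv.symm)
  let kT' : T.left ⟶ Spec (CommRingCat.of k) := kT.left
  haveI : LocallyOfFiniteType kT' := hP _ hg
  haveI : JacobsonSpace ↥T.left := LocallyOfFiniteType.jacobsonSpace kT'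
  obtain ⟨x, -, hx⟩ := nonempty_inter_closedPoints (X := T.left) (Z := Set.univ) ⟨t, trivial⟩
    isClosed_univ.isLocallyClosed
  let p : Spec (CommRingCat.of k) ⟶ T.left := pointOfClosedPoint kT' x hx
  have hpk : p ≫ kT.left = 𝟙 _ := pointOfClosedPoint_comp kT' x hx
  let σ : V ⟶ T := Over.homMk p (by rw [← Over.w kT, reassoc_of% hpk])
  have hσ : σ ≫ kT = 𝟙 V := Over.OverMorphism.ext hpk
  haveI : ℬ.p.IsHomLift (𝟙 V) e.hom := he
  haveI : ℬ.p.IsHomLift (𝟙 V) (ι.hom.toNatTrans.app (Over.mk σ)) := ι.hom.isHomLift' (Over.mk σ)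
  have heq : (BasedFunctor.comp (AlgSt.overMap kT) G).obj (Over.mk σ) = G.obj (Over.mk (𝟙 V)) := by
    change G.obj (Over.mk (σ ≫ kT)) = _
    rw [hσ]
  haveI : ℬ.p.IsHomLift (𝟙 V) (eqToHom heq) :=
    IsHomLift.of_fac _ _ _ ((BasedFunctor.comp (AlgSt.overMap kT) G).w_obj (Over.mk σ))
      (G.w_obj (Over.mk (𝟙 V))) (by simp [eqToHom_map])
  exact ⟨τ.obj (Over.mk σ), ι.hom.toNatTrans.app (Over.mk σ) ≫ eqToHom heq ≫ e.hom, τ.w_obj _,
    inferInstance⟩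

variable {𝒳 𝒴 : AlgSt.Cat S} (h𝒳 : AlgSt.IsAlgStack Scheme.fppfPrecoverage 𝒳)
  (h𝒴 : AlgSt.IsAlgStack Scheme.fppfPrecoverage 𝒴) (f : 𝒳 ⥤ᵇ 𝒴)

include h𝒳 h𝒴

theorem exists_hom_of_isSurjective_diag (hΔ : AlgSt.IsSurjective (FibCat.diag f))
    {k : Type u} [Field k] [IsAlgClosed k] {s : Spec (CommRingCat.of k) ⟶ S} {a₁ a₂ : 𝒳.obj}
    (h₁ : 𝒳.p.obj a₁ = Over.mk s) (h₂ : 𝒳.p.obj a₂ = Over.mk s) (β : f.obj a₁ ⟶ f.obj a₂)
    [hβ : 𝒴.p.IsHomLift (𝟙 (Over.mk s)) β] :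
    ∃ α : a₁ ⟶ a₂, 𝒳.p.IsHomLift (𝟙 (Over.mk s)) α ∧ f.map α = β := by
  have hX := h𝒳.isStack.1
  have hY := h𝒴.isStack.1
  haveI : IsIso β := Fib.isIso_of_isHomLift 𝒴.p hY (𝟙 (Over.mk s)) β
  let z : (FibCat.fp f f).obj := Fib.fpMk (F := f) (G := f) a₁ a₂ (asIso β) (by
    rw [h₁]; exact hβ)
  obtain ⟨a, φ, -, hφ⟩ := exists_lift_algClosed_of_lft hX (Fib.isFibGrpd_fp f f hX hX hY)
    (FibCat.diag f) (repByAlgSpWith_lft_diag h𝒳 h𝒴 f) z h₁ (hΔ _)
  haveI h1 : 𝒳.p.IsHomLift (𝟙 (Over.mk s)) φ.hom.fst :=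
    (BasedFunctor.isHomLift_iff (FibCat.fpFst f f) _ φ).mpr hφ
  haveI h2 : 𝒳.p.IsHomLift (𝟙 (Over.mk s)) φ.hom.snd :=
    (BasedFunctor.isHomLift_iff (FibCat.fpSnd f f) _ φ).mpr hφ
  haveI : IsIso φ.hom.fst := Fib.isIso_of_isHomLift 𝒳.p hX (𝟙 (Over.mk s)) φ.hom.fst
  haveI : 𝒳.p.IsHomLift (𝟙 (Over.mk s)) (asIso φ.hom.fst).hom := h1
  haveI : 𝒳.p.IsHomLift (𝟙 (Over.mk s)) (inv φ.hom.fst) :=
    inferInstanceAs (𝒳.p.IsHomLift (𝟙 (Over.mk s)) (asIso φ.hom.fst).inv)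
  refine ⟨inv φ.hom.fst ≫ φ.hom.snd, inferInstance, ?_⟩
  have w : f.map φ.hom.fst ≫ β = 𝟙 _ ≫ f.map φ.hom.snd := φ.hom.w
  rw [Functor.map_comp, Functor.map_inv, IsIso.inv_comp_eq]
  exact (w.trans (Category.id_comp _)).symm

omit h𝒴 in
theorem isSurjective_diag_of_forall (h𝒴' : FibCat.IsFibGrpd 𝒴.p)
    (H : ∀ (k : Type u) [Field k] [IsAlgClosed k] (s : Spec (CommRingCat.of k) ⟶ S) (a₁ a₂ : 𝒳.obj)
        (_ : 𝒳.p.obj a₁ = Over.mk s) (_ : 𝒳.p.obj a₂ = Over.mk s) (β : f.obj a₁ ⟶ f.obj a₂),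
        𝒴.p.IsHomLift (𝟙 (Over.mk s)) β →
          ∃ α : a₁ ⟶ a₂, 𝒳.p.IsHomLift (𝟙 (Over.mk s)) α ∧ f.map α = β) :
    AlgSt.IsSurjective (FibCat.diag f) := by
  have hX := h𝒳.isStack.1
  intro ζ
  obtain ⟨p, rfl⟩ := Points.mk_surjective ζ
  let K := AlgebraicClosure p.K
  let w : Spec (CommRingCat.of K) ⟶ S :=
    Spec.map (CommRingCat.ofHom (algebraMap p.K K)) ≫ p.str
  obtain ⟨z, π, hz, hπ⟩ := exists_restrict (Fib.isFibGrpd_fp f f hX hX h𝒴') p
    (Over.homMk (Spec.map (CommRingCat.ofHom (algebraMap p.K K))) rfl :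
      (Over.mk w : Over S) ⟶ Over.mk p.str)
  have hz1 : 𝒳.p.obj z.obj.fst = Over.mk w := hz
  have hz2 : 𝒳.p.obj z.obj.snd = Over.mk w := ((FibCat.fpSnd f f).w_obj z).trans hz
  obtain ⟨α, hα, hαβ⟩ := H K w z.obj.fst z.obj.snd hz1 hz2 z.obj.iso.hom (hz1 ▸ z.property)
  refine ⟨Points.mk ⟨K, w, z.obj.fst, hz1⟩, ?_⟩
  rw [Points.map_mk]
  refine mk_eq_of_hom (p := (⟨K, w, z.obj.fst, hz1⟩ : FPt 𝒳).map (FibCat.diag f)) (q := p)
    ((ObjectProperty.homMk ⟨𝟙 _, α, ?_⟩ : (FibCat.diag f).obj z.obj.fst ⟶ z) ≫ π)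
  change f.map (𝟙 _) ≫ z.obj.iso.hom = 𝟙 _ ≫ f.map α
  rw [CategoryTheory.Functor.map_id, Category.id_comp, Category.id_comp]
  exact hαβ.symm

theorem exists_lift_algClosed_of_isSurjective_diag (hΔ : AlgSt.IsSurjective (FibCat.diag f))
    (k : Type u) [Field k] [IsAlgClosed k] (s : Spec (CommRingCat.of k) ⟶ S) (y : 𝒴.obj)
    (hy : 𝒴.p.obj y = Over.mk s)
    (h : Points.mk ⟨k, s, y, hy⟩ ∈ Set.range (Points.map f)) :
    ∃ (x : 𝒳.obj) (φ : f.obj x ⟶ y), 𝒳.p.obj x = Over.mk s ∧ 𝒴.p.IsHomLift (𝟙 (Over.mk s)) φ := by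
  have hX := h𝒳.isStack.1
  have hY := h𝒴.isStack.1
  let V : Over S := Over.mk s
  haveI := Fib.isFibered_of_isFibGrpd _ hY
  obtain ⟨G, -, e, he⟩ := Fib.exists_basedFunctor (𝒳 := 𝒴) (U := V) ⟨y, hy⟩
  haveI : 𝒴.p.IsHomLift (𝟙 V) e.hom := he
  -- the fibre
  let Z := FibCat.fp G f
  have hZ : AlgSt.IsAlgStack Scheme.fppfPrecoverage Z :=
    isAlgStack_fp' (isAlgStack_overCat V) h𝒳 h𝒴 G f
  have hVg := Fib.isFibGrpd_overCat V
  obtain ⟨z₀, hz₀⟩ := h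
  let v : ↥V.left := IsLocalRing.closedPoint k
  have hv : Points.map G (schMk V v) = Points.mk ⟨k, s, y, hy⟩ :=
    mk_eq_of_hom (p := ⟨_, _, G.obj (Over.mk (Over.homMk (V.left.fromSpecResidueField v) rfl :
      Over.mk (V.left.fromSpecResidueField v ≫ V.hom) ⟶ V)), G.w_obj _⟩) (q := ⟨k, s, y, hy⟩)
      (G.map (Fib.toId _) ≫ e.hom)
  obtain ⟨w₀, -, -⟩ := exists_point_fp hX hY hVg f G (schMk V v) z₀ (hv.trans hz₀.symm)
  -- a nonempty atlas
  obtain ⟨hZst, -, U, x, hxsm, hxs⟩ := hZ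
  have hZg : FibCat.IsFibGrpd Z.p := hZst.1
  have hUne : Nonempty ↥U.left := by
    obtain ⟨p₀, -⟩ := Points.mk_surjective w₀
    haveI := Fib.isFibered_of_isFibGrpd _ hZg
    obtain ⟨G₀, -, -, -⟩ := Fib.exists_basedFunctor (𝒳 := Z) (U := Over.mk p₀.str) ⟨p₀.obj, p₀.lies⟩
    obtain ⟨T, kT, τ, -, -, -, hs⟩ := exists_cover_point (Fib.isFibGrpd_overCat U) hZg x
      (repByAlgSp1_of_with hxsm) G₀
    obtain ⟨t, -⟩ := hs hxs (IsLocalRing.closedPoint p₀.K)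
    exact ⟨(slHom τ).left t⟩
  -- the structure map of the atlas
  let xi := x.obj (Over.mk (𝟙 U))
  let π : U ⟶ V := slHom (BasedFunctor.comp x (FibCat.fpFst G f))
  suffices hsec : ∃ σ : V ⟶ U, σ ≫ π = 𝟙 V by
    obtain ⟨σ, hσ⟩ := hsec
    let w := x.obj (Over.mk σ)
    have hw : (FibCat.overCat V).p.obj w.obj.fst = V := x.w_obj (Over.mk σ)
    have hhom : eqToHom hw.symm ≫ w.obj.fst.hom = 𝟙 V := by
      have h := schHom_map (BasedFunctor.comp x (FibCat.fpFst G f))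
        (⟨k, s, Over.mk σ, rfl⟩ : FPt (FibCat.overCat U))
      simp only [schHom, FPt.map] at h
      refine h.trans ?_
      simp only [eqToHom_refl, Category.id_comp]
      exact hσ
    have hhom' : w.obj.fst.hom = eqToHom hw := by
      rw [← cancel_epi (eqToHom hw.symm), hhom]; simp
    haveI hiso : 𝒴.p.IsHomLift (𝟙 V) w.obj.iso.hom := isHomLift_id_of_eq hw w.property
    haveI : (FibCat.overCat V).p.IsHomLift (𝟙 V) (Fib.toId w.obj.fst) :=
      IsHomLift.of_fac _ _ _ hw rfl (by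
        change 𝟙 V = eqToHom hw.symm ≫ w.obj.fst.hom ≫ eqToHom rfl
        rw [hhom']; simp)
    haveI : 𝒴.p.IsHomLift (𝟙 V) (G.map (Fib.toId w.obj.fst)) :=
      BasedFunctor.preserves_isHomLift G _ _
    exact ⟨w.obj.snd, w.obj.iso.inv ≫ G.map (Fib.toId w.obj.fst) ≫ e.hom,
      ((FibCat.fpSnd G f).w_obj w).trans hw, inferInstance⟩
  -- a closed point of an affine open
  obtain ⟨u₀⟩ := hUne
  obtain ⟨W, hW, hu₀, -⟩ :=
    TopologicalSpace.Opens.isBasis_iff_nbhd.1 U.left.isBasis_affineOpens (U := ⊤) (x := u₀) trivial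
  haveI : Nontrivial Γ(U.left, W) := by
    haveI : Nonempty ↥(W : Scheme.{u}) := ⟨⟨u₀, hu₀⟩⟩
    exact Scheme.component_nontrivial U.left W
  obtain ⟨m, hm⟩ := Ideal.exists_maximal Γ(U.left, W)
  let L := Γ(U.left, W) ⧸ m
  letI : Field L := Ideal.Quotient.field m
  let jm : Spec (CommRingCat.of L) ⟶ U.left :=
    Spec.map (CommRingCat.ofHom (Ideal.Quotient.mk m)) ≫ hW.fromSpec
  haveI : LocallyOfFiniteType jm := by
    haveI : IsClosedImmersion (Spec.map (CommRingCat.ofHom (Ideal.Quotient.mk m))) :=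
      IsClosedImmersion.spec_of_surjective _ Ideal.Quotient.mk_surjective
    infer_instance
  let sL : Spec (CommRingCat.of L) ⟶ S := jm ≫ U.hom
  let VL : Over S := Over.mk sL
  let j : VL ⟶ U := Over.homMk jm rfl
  let ι : k →+* L := (Spec.preimage (j ≫ π).left).hom
  have hι : Spec.map (CommRingCat.ofHom ι) = (j ≫ π).left := Spec.map_preimage _
  by_cases hsurj : Function.Surjective ι
  · haveI : IsIso (j ≫ π).left := by
      rw [← hι]
      haveI : IsIso (CommRingCat.ofHom ι) :=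
        (ConcreteCategory.isIso_iff_bijective _).mpr ⟨ι.injective, hsurj⟩
      infer_instance
    haveI : IsIso ((Over.forget S).map (j ≫ π)) := ‹IsIso (j ≫ π).left›
    haveI : IsIso (j ≫ π) := isIso_of_reflects_iso (j ≫ π) (Over.forget S)
    exact ⟨inv (j ≫ π) ≫ j, by rw [Category.assoc, IsIso.inv_hom_id]⟩
  exfalso
  simp only [Function.Surjective, not_forall] at hsurj
  obtain ⟨t₀, ht₀⟩ := hsurj
  have ht : t₀ ∉ Set.range ι := ht₀
  obtain ⟨Ω, _, _, a, b, hab, hgen⟩ := AlgClosed.exists_generic_pair ι t₀ ht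
  let sΩ : Spec (CommRingCat.of Ω) ⟶ S := Spec.map (CommRingCat.ofHom a) ≫ sL
  have hbπ : Spec.map (CommRingCat.ofHom a) ≫ (j ≫ π).left =
      Spec.map (CommRingCat.ofHom b) ≫ (j ≫ π).left := by
    rw [← hι, ← Spec.map_comp, ← Spec.map_comp, ← CommRingCat.ofHom_comp, ← CommRingCat.ofHom_comp, hab]
  let VΩ : Over S := Over.mk sΩ
  let da : VΩ ⟶ VL := Over.homMk (Spec.map (CommRingCat.ofHom a)) rfl
  let db : VΩ ⟶ VL := Over.homMk (Spec.map (CommRingCat.ofHom b)) (by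
    change _ ≫ sL = Spec.map _ ≫ sL
    rw [show sL = (j ≫ π).left ≫ s from (Over.w (j ≫ π)).symm, ← Category.assoc, ← Category.assoc, hbπ])
  have hd : da ≫ j ≫ π = db ≫ j ≫ π := Over.OverMorphism.ext hbπ
  -- the two objects and their identification
  let w₁ := x.obj (Over.mk (da ≫ j))
  let w₂ := x.obj (Over.mk (db ≫ j))
  have hw₁ : (FibCat.overCat V).p.obj w₁.obj.fst = VΩ := x.w_obj (Over.mk (da ≫ j))
  have hw₂ : (FibCat.overCat V).p.obj w₂.obj.fst = VΩ := x.w_obj (Over.mk (db ≫ j))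
  have hh : eqToHom hw₁.symm ≫ w₁.obj.fst.hom = eqToHom hw₂.symm ≫ w₂.obj.fst.hom :=
    (obj_hom_eq (BasedFunctor.comp x (FibCat.fpFst G f)) (da ≫ j) hw₁).trans
      (((Category.assoc _ _ _).trans (hd.trans (Category.assoc _ _ _).symm)).trans
        (obj_hom_eq (BasedFunctor.comp x (FibCat.fpFst G f)) (db ≫ j) hw₂).symm)
  obtain ⟨γ, hγ⟩ := exists_iso_of_hom_eq hw₁ hw₂ hh
  haveI : 𝒴.p.IsHomLift (𝟙 VΩ) w₁.obj.iso.hom := isHomLift_id_of_eq hw₁ w₁.property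
  haveI : 𝒴.p.IsHomLift (𝟙 VΩ) w₂.obj.iso.hom := isHomLift_id_of_eq hw₂ w₂.property
  haveI : 𝒴.p.IsHomLift (𝟙 VΩ) (G.map γ.hom) := BasedFunctor.preserves_isHomLift G _ _
  obtain ⟨α, hα, hαβ⟩ := exists_hom_of_isSurjective_diag h𝒳 h𝒴 f hΔ (s := sΩ)
    (((FibCat.fpSnd G f).w_obj w₁).trans hw₁) (((FibCat.fpSnd G f).w_obj w₂).trans hw₂)
    (w₁.obj.iso.inv ≫ G.map γ.hom ≫ w₂.obj.iso.hom)
  let Φw : w₁ ⟶ w₂ := ObjectProperty.homMk ⟨γ.hom, α, by rw [hαβ, Iso.hom_inv_id_assoc]⟩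
  haveI hΦ : Z.p.IsHomLift (𝟙 VΩ) Φw := (BasedFunctor.isHomLift_iff (FibCat.fpFst G f) _ Φw).mp hγ
  haveI : IsIso Φw := Fib.isIso_of_isHomLift Z.p hZg (𝟙 VΩ) Φw
  -- the point of the fibre product of the two charts
  let xL := BasedFunctor.comp (AlgSt.overMap j) x
  let wP : (FibCat.fp xL x).obj := Fib.fpMk (F := xL) (G := x) (Over.mk da) (Over.mk (db ≫ j))
    (asIso Φw) hΦ
  obtain ⟨F, eF, heF, hm⟩ := hxsm VL xL
  obtain ⟨T, c, hc, hcs⟩ := F.property.atlas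
  let φF := AlgSt.spMapOfOver (BasedFunctor.comp eF (FibCat.fpFst xL x))
  let kT := AlgSpc.pre (c ≫ φF)
  haveI : Smooth kT.left := hm c (𝟙 _) kT hc (AlgSpc.repWith_iso _) (by
    rw [AlgSpc.map_pre, Category.comp_id])
  let σT := BasedFunctor.comp (AlgSt.ofOverCat T) (BasedFunctor.comp (AlgSt.ofSpMap c) eF)
  have hkT : (yon S).map kT = c ≫ φF := AlgSpc.map_pre _
  let i₁ : BasedFunctor.comp σT (FibCat.fpFst xL x) ≅ AlgSt.overMap kT :=
    Fib.isoWhiskerLeft (BasedFunctor.comp (AlgSt.ofOverCat T) (AlgSt.ofSpMap c))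
        (isoOfOver (BasedFunctor.comp eF (FibCat.fpFst xL x))) ≪≫
      eqToIso (congrArg (fun t => BasedFunctor.comp (BasedFunctor.comp (AlgSt.ofOverCat T)
        (AlgSt.ofSpMap t)) (AlgSt.toOverCat VL)) hkT.symm) ≪≫ overMapIso kT
  let q : T ⟶ U := slHom (BasedFunctor.comp σT (FibCat.fpSnd xL x))
  let P : FPt (FibCat.fp xL x) := ⟨Ω, sΩ, wP, rfl⟩
  obtain ⟨z, hz⟩ := (bijective_map eF heF).2 (Points.mk P)
  obtain ⟨t, htz⟩ := AlgSpc.surjective_ofPt hcs (spPt F.obj z)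
  let pt : FPt (FibCat.overCat T) := ⟨↥(T.left.residueField t), T.left.fromSpecResidueField t ≫ T.hom,
    Over.mk (Over.homMk (T.left.fromSpecResidueField t) rfl :
      Over.mk (T.left.fromSpecResidueField t ≫ T.hom) ⟶ T), rfl⟩
  have hPt : Points.mk (pt.map σT) = Points.mk P := by
    rw [← hz, ← spMk_spPt z, ← htz, AlgSp.Points.ofPt_eq_map_ofScheme, ← spMk_map, ← map_comp_apply]
    rfl
  obtain ⟨r, ra, rb, -⟩ := rel_of_mk_eq (Fib.isFibGrpd_fp xL x (Fib.isFibGrpd_overCat VL)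
    (Fib.isFibGrpd_overCat U) hZg) hPt
  let d₁ : (Over.mk r.str : Over S) ⟶ Over.mk pt.str := fptBase (r := r) (p := pt.map σT) ra
  let d₂ : (Over.mk r.str : Over S) ⟶ VΩ := fptBase (r := r) (p := P) rb
  have e1 : d₁ ≫ schHom ((pt.map σT).map (FibCat.fpFst xL x)) =
      d₂ ≫ schHom (P.map (FibCat.fpFst xL x)) := by
    rw [show d₁ = fptBase (r := r.map (FibCat.fpFst xL x)) (p := (pt.map σT).map (FibCat.fpFst xL x))
      ((FibCat.fpFst xL x).map ra) from (fptBase_map _ _).symm,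
      show d₂ = fptBase (r := r.map (FibCat.fpFst xL x)) (p := P.map (FibCat.fpFst xL x))
      ((FibCat.fpFst xL x).map rb) from (fptBase_map _ _).symm, schHom_key, schHom_key]
  have e2 : d₁ ≫ schHom ((pt.map σT).map (FibCat.fpSnd xL x)) =
      d₂ ≫ schHom (P.map (FibCat.fpSnd xL x)) := by
    rw [show d₁ = fptBase (r := r.map (FibCat.fpSnd xL x)) (p := (pt.map σT).map (FibCat.fpSnd xL x))
      ((FibCat.fpSnd xL x).map ra) from (fptBase_map _ _).symm,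
      show d₂ = fptBase (r := r.map (FibCat.fpSnd xL x)) (p := P.map (FibCat.fpSnd xL x))
      ((FibCat.fpSnd xL x).map rb) from (fptBase_map _ _).symm, schHom_key, schHom_key]
  have hPa : schHom (P.map (FibCat.fpFst xL x)) = da := by
    show eqToHom _ ≫ da = da
    simp
  have hPb : schHom (P.map (FibCat.fpSnd xL x)) = db ≫ j := by
    show eqToHom _ ≫ (db ≫ j) = db ≫ j
    simp
  have hTa : schHom ((pt.map σT).map (FibCat.fpFst xL x)) = schHom pt ≫ kT :=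
    schHom_map_of_iso i₁ pt
  have hTb : schHom ((pt.map σT).map (FibCat.fpSnd xL x)) = schHom pt ≫ q :=
    schHom_map (BasedFunctor.comp σT (FibCat.fpSnd xL x)) pt
  rw [hTa, hPa] at e1
  rw [hTb, hPb] at e2
  let g : Spec (CommRingCat.of r.K) ⟶ T.left := (d₁ ≫ schHom pt).left
  have g1 : g ≫ kT.left = d₂.left ≫ Spec.map (CommRingCat.ofHom a) := by
    simpa [g, da] using congrArg CommaMorphism.left e1
  have g2 : g ≫ q.left = (d₂.left ≫ Spec.map (CommRingCat.ofHom b)) ≫ jm := by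
    simpa [g, db, j] using congrArg CommaMorphism.left e2
  -- restrict to the preimage of the closed point
  let T' := pullback q.left jm
  let g' : Spec (CommRingCat.of r.K) ⟶ T' := pullback.lift g _ g2
  obtain ⟨W', hW', ht', -⟩ := TopologicalSpace.Opens.isBasis_iff_nbhd.1 T'.isBasis_affineOpens
    (U := ⊤) (x := g' (IsLocalRing.closedPoint r.K)) trivial
  have hrange : Set.range g' ⊆ Set.range hW'.fromSpec := by
    rw [hW'.range_fromSpec]
    rintro _ ⟨p, rfl⟩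
    rw [Subsingleton.elim p (IsLocalRing.closedPoint r.K)]
    exact ht'
  let g'' := IsOpenImmersion.lift hW'.fromSpec g' hrange
  have hg'' : g'' ≫ hW'.fromSpec = g' := IsOpenImmersion.lift_fac _ _ _
  let m₁ : Spec Γ(T', W') ⟶ Spec (CommRingCat.of L) := hW'.fromSpec ≫ pullback.fst _ _ ≫ kT.left
  let m₂ : Spec Γ(T', W') ⟶ Spec (CommRingCat.of L) := hW'.fromSpec ≫ pullback.snd _ _
  haveI : LocallyOfFiniteType m₁ := inferInstanceAs
    (LocallyOfFiniteType (hW'.fromSpec ≫ pullback.fst q.left jm ≫ kT.left))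
  have hfin : (Spec.preimage m₁).hom.FiniteType := by
    rw [← HasRingHomProperty.Spec_iff (P := @LocallyOfFiniteType), Spec.map_preimage]
    infer_instance
  let ψ := Spec.preimage g''
  let ε := Spec.preimage d₂.left
  have k1 : (Spec.preimage m₁) ≫ ψ = CommRingCat.ofHom a ≫ ε := by
    apply Spec.map_injective
    simp only [Spec.map_comp, ψ, ε, Spec.map_preimage, m₁]
    rw [reassoc_of% hg'']
    exact (pullback.lift_fst_assoc _ _ g2 _).trans g1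
  have k2 : (Spec.preimage m₂) ≫ ψ = CommRingCat.ofHom b ≫ ε := by
    apply Spec.map_injective
    simp only [Spec.map_comp, ψ, ε, Spec.map_preimage, m₂]
    rw [reassoc_of% hg'']
    exact pullback.lift_snd _ _ _
  have k1' : ψ.hom.comp (Spec.preimage m₁).hom = ε.hom.comp a := congrArg CommRingCat.Hom.hom k1
  have k2' : ψ.hom.comp (Spec.preimage m₂).hom = ε.hom.comp b := congrArg CommRingCat.Hom.hom k2
  refine AlgClosed.not_injective_eval₂ ι t₀ ht (Spec.preimage m₁).hom (Spec.preimage m₂).hom hfin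
    (Ω := r.K) ψ.hom ?_ ?_
  · rw [k1', k2', RingHom.comp_assoc, RingHom.comp_assoc, hab]
  · have hp2 : ψ.hom ((Spec.preimage m₂).hom t₀) = ε.hom (b t₀) := RingHom.congr_fun k2' t₀
    have heq : Polynomial.eval₂RingHom (ε.hom.comp a) (ε.hom (b t₀)) =
        ε.hom.comp (Polynomial.eval₂RingHom a (b t₀)) :=
      Polynomial.ringHom_ext (fun c => by simp) (by simp)
    rw [k1', hp2, heq]
    exact ε.hom.injective.comp hgen

end

end Groth.Agent.AlgStB
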