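import Groth.Agent.AlgStB.OfPsh
import Groth.Agent.Fib.Setoid

/-!
# A category fibred in setoids is the category of a presheaf of sets
-/

set_option autoImplicit false
set_option backward.isDefEq.respectTransparency false
set_option backward.isDefEq.respectTransparency.types false

universe v₂ u₂ v u

open CategoryTheory Opposite

namespace Groth.Agent.AlgStB

variable {C : Type u} [Category.{v} C] {𝒲 : BasedCategory.{v₂, u₂} C}

/-- `a` and `b` are isomorphic over the identity of `U`. -/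
def IsoOver (U : C) (a b : 𝒲.obj) : Prop :=
  ∃ i : a ≅ b, 𝒲.p.IsHomLift (𝟙 U) i.hom

theorem IsoOver.symm {U : C} {a b : 𝒲.obj} (h : IsoOver U a b) : IsoOver U b a :=
  let ⟨i, _⟩ := h
  ⟨i.symm, inferInstanceAs (𝒲.p.IsHomLift (𝟙 U) i.inv)⟩

theorem IsoOver.trans {U : C} {a b c : 𝒲.obj} (h : IsoOver U a b) (h' : IsoOver U b c) :
    IsoOver U a c :=
  let ⟨i, _⟩ := h
  let ⟨j, _⟩ := h'
  ⟨i ≪≫ j, by rw [Iso.trans_hom]; infer_instance⟩

theorem isoOver_of_lifts (h : FibCat.IsFibGrpd 𝒲.p) {T' T : C} (f : T' ⟶ T) {a a' b b' : 𝒲.obj}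
    (φ : a ⟶ b) [𝒲.p.IsHomLift f φ] (φ' : a' ⟶ b') [𝒲.p.IsHomLift f φ'] (hb : IsoOver T b b') :
    IsoOver T' a a' := by
  obtain ⟨i, hi⟩ := hb
  have := Fib.isStronglyCartesian_of_isFibGrpd 𝒲.p h f φ'
  let χ := Functor.IsStronglyCartesian.map 𝒲.p f φ' (g := 𝟙 T') (f' := f) (by simp) (φ ≫ i.hom)
  have := Fib.isIso_of_isHomLift 𝒲.p h (𝟙 T') χ
  exact ⟨asIso χ, inferInstanceAs (𝒲.p.IsHomLift (𝟙 T') χ)⟩

/-- Objects over `U` up to isomorphism over `U`. -/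
def classSetoid (𝒲 : BasedCategory.{v₂, u₂} C) (U : C) : Setoid {a : 𝒲.obj // 𝒲.p.obj a = U} where
  r a b := IsoOver U a.1 b.1
  iseqv := ⟨fun a => ⟨Iso.refl _, IsHomLift.id a.2⟩, IsoOver.symm, IsoOver.trans⟩

/-- The presheaf of isomorphism classes of objects. -/
noncomputable def classes (h : FibCat.IsFibGrpd 𝒲.p) : Cᵒᵖ ⥤ Type u₂ where
  obj T := Quotient (classSetoid 𝒲 T.unop)
  map {T T'} g := ↾Quotient.lift (fun a : {a : 𝒲.obj // 𝒲.p.obj a = T.unop} =>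
      Quotient.mk (classSetoid 𝒲 T'.unop)
        ⟨(Fib.exists_lift 𝒲.p h a.2 g.unop).choose, by
          haveI := (Fib.exists_lift 𝒲.p h a.2 g.unop).choose_spec.choose_spec
          exact IsHomLift.domain_eq 𝒲.p g.unop
            (Fib.exists_lift 𝒲.p h a.2 g.unop).choose_spec.choose⟩)
    (fun a b r => Quotient.sound (@isoOver_of_lifts _ _ _ h _ _ g.unop _ _ _ _ _
      (Fib.exists_lift 𝒲.p h a.2 g.unop).choose_spec.choose_spec _
      (Fib.exists_lift 𝒲.p h b.2 g.unop).choose_spec.choose_spec r))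
  map_id T := by
    ext x
    induction x using Quotient.inductionOn with
    | h a =>
      apply Quotient.sound
      obtain ⟨φ, hφ⟩ : ∃ φ : a.1 ⟶ a.1, 𝒲.p.IsHomLift (𝟙 T.unop) φ := ⟨𝟙 _, IsHomLift.id a.2⟩
      exact @isoOver_of_lifts _ _ _ h _ _ (𝟙 T.unop) _ _ _ _ _
        (Fib.exists_lift 𝒲.p h a.2 (𝟙 T.unop)).choose_spec.choose_spec φ hφ
        ⟨Iso.refl _, IsHomLift.id a.2⟩
  map_comp {T T' T''} g g' := by
    ext x
    induction x using Quotient.inductionOn with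
    | h a =>
      apply Quotient.sound
      have h₁ := (Fib.exists_lift 𝒲.p h a.2 g.unop).choose_spec.choose_spec
      have e₁ : 𝒲.p.obj (Fib.exists_lift 𝒲.p h a.2 g.unop).choose = T'.unop :=
        IsHomLift.domain_eq 𝒲.p g.unop (Fib.exists_lift 𝒲.p h a.2 g.unop).choose_spec.choose
      have h₂ := (Fib.exists_lift 𝒲.p h e₁ g'.unop).choose_spec.choose_spec
      exact @isoOver_of_lifts _ _ _ h _ _ (g'.unop ≫ g.unop) _ _ _ _ _
        (Fib.exists_lift 𝒲.p h a.2 (g'.unop ≫ g.unop)).choose_spec.choose_spec _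
        (inferInstance : 𝒲.p.IsHomLift (g'.unop ≫ g.unop)
          ((Fib.exists_lift 𝒲.p h e₁ g'.unop).choose_spec.choose ≫
            (Fib.exists_lift 𝒲.p h a.2 g.unop).choose_spec.choose))
        ⟨Iso.refl _, IsHomLift.id a.2⟩

theorem classes_map_mk (h : FibCat.IsFibGrpd 𝒲.p) {T T' : C} (g : T' ⟶ T) {a b : 𝒲.obj}
    (ha : 𝒲.p.obj a = T') (hb : 𝒲.p.obj b = T) (φ : a ⟶ b) [𝒲.p.IsHomLift g φ] :
    (classes h).map g.op (Quotient.mk _ ⟨b, hb⟩) = Quotient.mk (classSetoid 𝒲 T') ⟨a, ha⟩ :=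
  Quotient.sound (@isoOver_of_lifts _ _ _ h _ _ g _ _ _ _ _
    (Fib.exists_lift 𝒲.p h hb g).choose_spec.choose_spec φ inferInstance
    ⟨Iso.refl _, IsHomLift.id hb⟩)

/-- The comparison with the category of the presheaf of classes. -/
noncomputable def toClasses (h : FibCat.IsFibGrpd 𝒲.p) : 𝒲 ⥤ᵇ Stk.ofPsh (classes h) where
  toFunctor :=
    { obj := fun a => ⟨𝒲.p.obj a, Quotient.mk _ ⟨a, rfl⟩⟩
      map := fun {a b} φ => ⟨𝒲.p.map φ,
        haveI := IsHomLift.map 𝒲.p φ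
        classes_map_mk h (𝒲.p.map φ) rfl rfl φ⟩
      map_id := fun a => Stk.EltObj.hom_ext (𝒲.p.map_id a)
      map_comp := fun φ ψ => Stk.EltObj.hom_ext (𝒲.p.map_comp φ ψ) }
  w := rfl

theorem isEquivOver_toClasses (h : FibCat.IsFibSetoid 𝒲.p) :
    FibCat.IsEquivOver (toClasses h.1) := by
  have hp := Fib.faithful_of_isFibSetoid _ h
  have : (toClasses h.1).toFunctor.Faithful :=
    ⟨fun {a b} φ ψ e => 𝒲.p.map_injective (congrArg Stk.EltObj.Hom.hom e)⟩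
  have : (toClasses h.1).toFunctor.Full := ⟨fun {a b} ψ => by
    obtain ⟨a', φ, hφ⟩ := Fib.exists_lift 𝒲.p h.1 (x := b) rfl ψ.hom
    have ha' : 𝒲.p.obj a' = 𝒲.p.obj a := IsHomLift.domain_eq 𝒲.p ψ.hom φ
    have e := (classes_map_mk h.1 ψ.hom ha' rfl φ).symm.trans ψ.map_sec
    obtain ⟨i, hi⟩ := (Quotient.exact e : IsoOver _ a' a)
    refine ⟨i.inv ≫ φ, Stk.EltObj.hom_ext ?_⟩
    have : 𝒲.p.IsHomLift ψ.hom (i.inv ≫ φ) := by
      have hh : 𝒲.p.IsHomLift (𝟙 _ ≫ ψ.hom) (i.inv ≫ φ) := inferInstance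
      simpa using hh
    exact (IsHomLift.eq_of_isHomLift 𝒲.p ψ.hom (i.inv ≫ φ)).symm⟩
  refine Fib.isEquivOver_of_exists_iso_over _ fun η => ?_
  obtain ⟨T, x⟩ := η
  induction x using Quotient.inductionOn with
  | h a =>
    obtain ⟨a, ha⟩ := a
    change 𝒲.p.obj a = T at ha
    subst ha
    exact ⟨a, Iso.refl _, IsHomLift.id rfl⟩

end Groth.Agent.AlgStB
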