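import Groth.Agent.AlgStB.RepWith

/-!
# Composition of 1-morphisms representable by algebraic spaces
-/

set_option autoImplicit false
set_option backward.isDefEq.respectTransparency false
set_option backward.isDefEq.respectTransparency.types false

universe u

open CategoryTheory CategoryTheory.Limits AlgebraicGeometry Opposite

namespace Groth.Agent.AlgStB

open _root_.AlgSp

variable {S : Scheme.{u}} {𝒳 𝒴 𝒵 : AlgSt.Cat S}

/-- Stability under base change of a property of morphisms of algebraic spaces. -/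
def StableBC (P : MorphismProperty (Sp S)) : Prop :=
  ∀ ⦃X₁ Y₁ X₂ Y₂ : Sp S⦄, IsAlgSpace X₁ → IsAlgSpace Y₁ → IsAlgSpace X₂ →
    IsAlgSpace Y₂ → ∀ (a : X₁ ⟶ Y₁) (b : Y₂ ⟶ Y₁) (a' : X₂ ⟶ Y₂) (b' : X₂ ⟶ X₁),
    IsPullback b' a' a b → P a → P a'

theorem isFppfCover_atlas {F : Sp S} {T : Over S} {p : (yon S).obj T ⟶ F} (hp : RepWith @Etale p)
    (hs : RepWith @Surjective p) :
    IsFppfCover (S := S) (fun _ : PUnit.{u + 1} => (yon S).obj T) (fun _ => p) := by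
  refine ⟨fun _ => ⟨?_, ?_⟩, fun x => ?_⟩
  · refine AlgSpc.locP_of_repWith (fun e f he hf => ?_)
      (AlgSpc.repWith_mono (fun _ _ f (hf : Etale f) => inferInstanceAs (Flat f)) hp)
    haveI := he
    haveI : Flat f := hf
    exact inferInstanceAs (Flat (e ≫ f))
  · refine AlgSpc.locP_of_repWith (fun e f he hf => ?_)
      (AlgSpc.repWith_mono (fun _ _ f (hf : Etale f) =>
        inferInstanceAs (LocallyOfFinitePresentation f)) hp)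
    haveI := he
    haveI : LocallyOfFinitePresentation f := hf
    exact inferInstanceAs (LocallyOfFinitePresentation (e ≫ f))
  · obtain ⟨y, hy⟩ := AlgSpc.surjective_map_of_repWith hs x
    exact ⟨⟨⟩, y, hy⟩

/-- Invariance of a property of morphisms of algebraic spaces under isomorphisms of the source. -/
def RespectsSrcIso (P : MorphismProperty (Sp S)) : Prop :=
  ∀ ⦃X X' Y : Sp S⦄, IsAlgSpace X → IsAlgSpace X' → IsAlgSpace Y →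
    ∀ (i : X' ≅ X) (m : X ⟶ Y), P m → P (i.hom ≫ m)

theorem StableBC.respectsSrcIso {P : MorphismProperty (Sp S)} (hb : StableBC P) : RespectsSrcIso P :=
  fun _ _ _ hX hX' hY i m h => hb hX hY hX' hY m (𝟙 _) _ i.hom
    (IsPullback.of_horiz_isIso ⟨by simp⟩) h

theorem respectsSrcIso_of_respectsIso {P : MorphismProperty (Sp S)} [P.RespectsIso] :
    RespectsSrcIso P :=
  fun _ _ _ _ _ _ i m h => (P.cancel_left_of_respectsIso i.hom m).2 h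

/-- The 2-fibre product with an algebraic space, and the property of its pullbacks to schemes. -/
theorem exists_fp_ofSp' (h𝒳 : FibCat.IsFibGrpd 𝒳.p) (h𝒴 : FibCat.IsFibGrpd 𝒴.p) {f : 𝒳 ⥤ᵇ 𝒴}
    {P : MorphismProperty (Sp S)} (hi : RespectsSrcIso P)
    (hf : AlgSt.RepByAlgSpWith P f) {Z : Sp S} (hZ : IsAlgSpace Z) (Γ : AlgSt.ofSp Z ⥤ᵇ 𝒴) :
    ∃ (W : Space S) (e : AlgSt.ofSp W.obj ⥤ᵇ FibCat.fp Γ f) (π : W.obj ⟶ Z),
      FibCat.IsEquivOver e ∧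
        Nonempty (BasedFunctor.comp e (FibCat.fpFst Γ f) ≅ AlgSt.ofSpMap π) ∧
        ∀ (T : Over S) (p : (yon S).obj T ⟶ Z), P (pullback.snd π p) := by
  obtain ⟨W, e, he⟩ := repByAlgSp_fp_ofSp h𝒳 h𝒴 (repByAlgSp1_of_with hf) hZ Γ
  obtain ⟨π, ⟨k⟩⟩ := exists_ofSpMap (BasedFunctor.comp e (FibCat.fpFst Γ f))
  refine ⟨W, e, π, he, ⟨k⟩, fun T p => ?_⟩
  have sq := IsPullback.of_hasPullback π p
  have hW' : IsAlgSpace (pullback π p) :=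
    AlgSpc.isAlgSpace_of_isPullback W.property hZ (IsAlgSpace.yon_obj T) sq
  let ξ : (pyon S).obj T ⟶ Z.obj := p.hom
  let y : FibCat.overCat T ⥤ᵇ AlgSt.ofSp Z :=
    BasedFunctor.comp (AlgSt.ofOverCat T) (Stk.ofPshMap ξ)
  obtain ⟨Φ₀, h₀, hπ₀⟩ := exists_fp_rep (a := π.hom) (ξ := ξ) (fst := (pullback.fst π p).hom)
    (snd := (pullback.snd π p).hom) (sq.map (sheafToPresheaf (J S) (Type (u + 1)))) y (Iso.refl _)
  obtain ⟨_, _⟩ := id_full_faithful (AlgSt.ofSp Z)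
  let M := Fib.fpMap (BasedFunctor.id _) e (BasedFunctor.id (AlgSt.ofSp Z))
    (F' := y) (G' := AlgSt.ofSpMap π) (F := y) (G := FibCat.fpFst Γ f) (Iso.refl _) k.symm
  let Φ : AlgSt.ofSp (pullback π p) ⥤ᵇ FibCat.fp (BasedFunctor.comp y Γ) f :=
    BasedFunctor.comp Φ₀ (BasedFunctor.comp M (Fib.fpBC y Γ f))
  have hΦ : FibCat.IsEquivOver Φ := Fib.isEquivOver_comp h₀ (Fib.isEquivOver_comp
    (Fib.isEquivOver_fpMap _ _ _ _ _ (Fib.isEquivOver_id _) he) (Fib.isEquivOver_fpBC y Γ f))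
  obtain ⟨Z', e', he', hP'⟩ := hf T (BasedFunctor.comp y Γ)
  obtain ⟨i, ⟨j⟩⟩ := exists_iso_of_reps Φ e' hΦ he'
  have h₁ : AlgSt.spMapOfOver (BasedFunctor.comp Φ (FibCat.fpFst _ f)) = pullback.snd π p := by
    refine Eq.trans ?_ (spMapOfOver_toOverCat (F := pullback π p) (U := T) (pullback.snd π p))
    exact congrArg AlgSt.spMapOfOver hπ₀
  have h₂ : AlgSt.spMapOfOver (BasedFunctor.comp Φ (FibCat.fpFst _ f)) =
      i.hom ≫ AlgSt.spMapOfOver (BasedFunctor.comp e' (FibCat.fpFst _ f)) := by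
    rw [← spMapOfOver_congr (Fib.isoWhiskerRight j (FibCat.fpFst _ f))]
    rfl
  rw [← h₁, h₂]
  exact hi Z'.property hW' (IsAlgSpace.yon_obj T) i _ hP'

theorem exists_fp_ofSp (h𝒳 : FibCat.IsFibGrpd 𝒳.p) (h𝒴 : FibCat.IsFibGrpd 𝒴.p) {f : 𝒳 ⥤ᵇ 𝒴}
    {P : MorphismProperty (Sp S)} (hb : StableBC P) (hl : IsLocalOnBase IsFppfCover P)
    (hf : AlgSt.RepByAlgSpWith P f) {Z : Sp S} (hZ : IsAlgSpace Z) (Γ : AlgSt.ofSp Z ⥤ᵇ 𝒴) :
    ∃ (W : Space S) (e : AlgSt.ofSp W.obj ⥤ᵇ FibCat.fp Γ f) (π : W.obj ⟶ Z),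
      FibCat.IsEquivOver e ∧
        Nonempty (BasedFunctor.comp e (FibCat.fpFst Γ f) ≅ AlgSt.ofSpMap π) ∧ P π := by
  obtain ⟨W, e, π, he, hk, hall⟩ := exists_fp_ofSp' h𝒳 h𝒴 hb.respectsSrcIso hf hZ Γ
  refine ⟨W, e, π, he, hk, ?_⟩
  obtain ⟨T, p, hp, hps⟩ := hZ.atlas
  exact (hl (ι := PUnit.{u + 1}) (fun _ => (yon S).obj T) (fun _ => p) hZ
    (fun _ => IsAlgSpace.yon_obj T) (isFppfCover_atlas hp hps) π W.property
    (fun _ => pullback π p) (fun _ => pullback.snd π p) (fun _ => pullback.fst π p)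
    (fun _ => AlgSpc.isAlgSpace_of_isPullback W.property hZ (IsAlgSpace.yon_obj T)
      (IsPullback.of_hasPullback π p))
    (fun _ => IsPullback.of_hasPullback π p)).2 fun _ => hall T p

theorem repByAlgSp1_comp (h𝒳 : FibCat.IsFibGrpd 𝒳.p) (h𝒴 : FibCat.IsFibGrpd 𝒴.p) {f : 𝒳 ⥤ᵇ 𝒴}
    {g : 𝒴 ⥤ᵇ 𝒵} (hf : AlgSt.RepByAlgSp1 f) (hg : AlgSt.RepByAlgSp1 g) :
    AlgSt.RepByAlgSp1 (BasedFunctor.comp f g) := by
  intro U y
  obtain ⟨F₁, e₁, he₁⟩ := hg U y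
  obtain ⟨_, _⟩ := id_full_faithful 𝒴
  exact repByAlgSp_of_isEquivOver _ (Fib.isEquivOver_comp
    (Fib.isEquivOver_fpMap e₁ (BasedFunctor.id 𝒳) (BasedFunctor.id 𝒴)
      (F' := BasedFunctor.comp e₁ (FibCat.fpSnd y g)) (G' := f) (F := FibCat.fpSnd y g) (G := f)
      (Iso.refl _) (Iso.refl _) he₁ (Fib.isEquivOver_id _))
    (Fib.isEquivOver_fpAssoc y g f)) (repByAlgSp_fp_ofSp h𝒳 h𝒴 hf F₁.property _)

theorem repByAlgSpWith_comp' (h𝒳 : FibCat.IsFibGrpd 𝒳.p) (h𝒴 : FibCat.IsFibGrpd 𝒴.p)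
    {f : 𝒳 ⥤ᵇ 𝒴} {g : 𝒴 ⥤ᵇ 𝒵} {P Q R : MorphismProperty (Sp S)} (hi : RespectsSrcIso P)
    (hc : ∀ ⦃X Y Z : Sp S⦄, IsAlgSpace X → IsAlgSpace Y → IsAlgSpace Z →
      ∀ (a : X ⟶ Y) (b : Y ⟶ Z), (∀ (T : Over S) (p : (yon S).obj T ⟶ Y), P (pullback.snd a p)) →
        Q b → R (a ≫ b))
    (hf : AlgSt.RepByAlgSpWith P f) (hg : AlgSt.RepByAlgSpWith Q g) :
    AlgSt.RepByAlgSpWith R (BasedFunctor.comp f g) := by
  intro U y
  obtain ⟨F₁, e₁, he₁, hP₁⟩ := hg U y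
  obtain ⟨W, e₂, π, he₂, ⟨k⟩, hπ⟩ :=
    exists_fp_ofSp' h𝒳 h𝒴 hi hf F₁.property (BasedFunctor.comp e₁ (FibCat.fpSnd y g))
  obtain ⟨_, _⟩ := id_full_faithful 𝒴
  let M := Fib.fpMap e₁ (BasedFunctor.id 𝒳) (BasedFunctor.id 𝒴)
      (F' := BasedFunctor.comp e₁ (FibCat.fpSnd y g)) (G' := f) (F := FibCat.fpSnd y g) (G := f)
      (Iso.refl _) (Iso.refl _)
  refine ⟨W, BasedFunctor.comp e₂ (BasedFunctor.comp M (Fib.fpAssoc y g f)),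
    Fib.isEquivOver_comp he₂ (Fib.isEquivOver_comp
      (Fib.isEquivOver_fpMap _ _ _ _ _ he₁ (Fib.isEquivOver_id _))
      (Fib.isEquivOver_fpAssoc y g f)), ?_⟩
  have h : AlgSt.spMapOfOver (BasedFunctor.comp (BasedFunctor.comp e₂
      (BasedFunctor.comp M (Fib.fpAssoc y g f))) (FibCat.fpFst y (BasedFunctor.comp f g))) =
      π ≫ AlgSt.spMapOfOver (BasedFunctor.comp e₁ (FibCat.fpFst y g)) :=
    spMapOfOver_congr (Fib.isoWhiskerRight k (BasedFunctor.comp e₁ (FibCat.fpFst y g)))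
  exact h ▸ hc W.property F₁.property (IsAlgSpace.yon_obj U) _ _ hπ hP₁

theorem repByAlgSpWith_comp (h𝒳 : FibCat.IsFibGrpd 𝒳.p) (h𝒴 : FibCat.IsFibGrpd 𝒴.p)
    {f : 𝒳 ⥤ᵇ 𝒴} {g : 𝒴 ⥤ᵇ 𝒵} {P : MorphismProperty (Sp S)} (hb : StableBC P)
    (hl : IsLocalOnBase IsFppfCover P)
    (hc : ∀ ⦃X Y Z : Sp S⦄, IsAlgSpace X → IsAlgSpace Y → IsAlgSpace Z →
      ∀ (a : X ⟶ Y) (b : Y ⟶ Z), P a → P b → P (a ≫ b))
    (hf : AlgSt.RepByAlgSpWith P f) (hg : AlgSt.RepByAlgSpWith P g) :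
    AlgSt.RepByAlgSpWith P (BasedFunctor.comp f g) :=
  repByAlgSpWith_comp' h𝒳 h𝒴 hb.respectsSrcIso (fun _ Y _ hX hY hZ a b ha => by
    obtain ⟨T, p, hp, hps⟩ := hY.atlas
    exact hc hX hY hZ a b ((hl (ι := PUnit.{u + 1}) (fun _ => (yon S).obj T) (fun _ => p) hY
      (fun _ => IsAlgSpace.yon_obj T) (isFppfCover_atlas hp hps) a hX
      (fun _ => pullback a p) (fun _ => pullback.snd a p) (fun _ => pullback.fst a p)
      (fun _ => AlgSpc.isAlgSpace_of_isPullback hX hY (IsAlgSpace.yon_obj T)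
        (IsPullback.of_hasPullback a p))
      (fun _ => IsPullback.of_hasPullback a p)).2 fun _ => ha T p)) hf hg

theorem repByAlgSp1_graph {f : 𝒳 ⥤ᵇ 𝒴} {g : 𝒴 ⥤ᵇ 𝒵} (h : AlgSt.RepByAlgSp1 (FibCat.diag g)) :
    AlgSt.RepByAlgSp1 (Fib.graph f g) := by
  obtain ⟨m, e, he⟩ := Fib.exists_twoCart_graph f g
  exact repByAlgSp1_of_twoCart _ m (FibCat.diag g) f e he h

theorem repByAlgSp1_of_comp (h𝒳 : FibCat.IsFibGrpd 𝒳.p) (h𝒴 : FibCat.IsFibGrpd 𝒴.p)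
    (h𝒵 : FibCat.IsFibGrpd 𝒵.p) {f : 𝒳 ⥤ᵇ 𝒴} {g : 𝒴 ⥤ᵇ 𝒵}
    (hgf : AlgSt.RepByAlgSp1 (BasedFunctor.comp f g))
    (hΔ : AlgSt.RepByAlgSp1 (FibCat.diag g)) : AlgSt.RepByAlgSp1 f :=
  repByAlgSp1_comp (f := Fib.graph f g) (g := FibCat.fpFst g (BasedFunctor.comp f g)) h𝒳
    (Fib.isFibGrpd_fp _ _ h𝒴 h𝒳 h𝒵) (repByAlgSp1_graph hΔ) (repByAlgSp1_fpFst _ g hgf)

end Groth.Agent.AlgStB
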