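import Groth.Agent.AlgStB.EtaleStackSpace
import Groth.Agent.AlgStB.Stack

/-!
# Stacks for the etale topology with a smooth surjective cover by a space
-/

set_option autoImplicit false
set_option backward.isDefEq.respectTransparency false
set_option backward.isDefEq.respectTransparency.types false

universe u

open CategoryTheory AlgebraicGeometry

namespace Groth.Agent.AlgStB

open _root_.AlgSp

variable {S : Scheme.{u}}

theorem J_etale_le : QuotSh.J Scheme.etalePrecoverage S ≤ QuotSh.J Scheme.fppfPrecoverage S := by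
  intro T R hR
  rw [GrothendieckTopology.mem_over_iff] at hR ⊢
  refine Precoverage.toGrothendieck_mono ?_ _ hR
  exact Scheme.precoverage_mono fun _ _ f (_ : Etale f) => ⟨inferInstance, inferInstance⟩

/-- A stack for the fppf topology is one for the etale topology. -/
theorem isStack_etale_of_fppf {𝒳 : AlgSt.Cat S} (h : Stk.IsStack (QuotSh.J Scheme.fppfPrecoverage S) 𝒳) :
    Stk.IsStack (QuotSh.J Scheme.etalePrecoverage S) 𝒳 :=
  ⟨h.1, fun _ R hR => h.2 R (J_etale_le _ hR)⟩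

theorem isStack_etale_overCat (T : Over S) :
    Stk.IsStack (QuotSh.J Scheme.etalePrecoverage S) (FibCat.overCat T) :=
  ⟨(isAlgStack_overCat T).isStack.1, fun _ R hR => (isAlgStack_overCat T).isStack.2 R (J_etale_le _ hR)⟩

theorem isAlgStack_etale_of_smooth_cover {𝒰 𝒳 : AlgSt.Cat S}
    (h𝒳 : Stk.IsStack (QuotSh.J Scheme.etalePrecoverage S) 𝒳) (hU : AlgSt.RepByAlgSp 𝒰)
    (u : 𝒰 ⥤ᵇ 𝒳) (hsm : AlgSt.RepByAlgSpWith (LocP @Smooth) u)
    (hsurj : AlgSt.RepByAlgSpWith IsSurjectiveMor u) :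
    AlgSt.IsAlgStack Scheme.etalePrecoverage 𝒳 := by
  refine ⟨h𝒳, repByAlgSp1_diag_of_forall fun V x T y => ?_,
    exists_atlas_repByAlgSp hU h𝒳.1 u hsm hsurj⟩
  have h𝒰 := isFibGrpd_of_repByAlgSp hU
  have hu := repByAlgSp1_of_with hsm
  have hg := Fib.isFibGrpd_fp x u (Fib.isFibGrpd_overCat V) h𝒰 h𝒳.1
  have hW : AlgSt.RepByAlgSp (FibCat.fp x u) := hu V x
  -- the composite `V ×_𝒳 𝒰 ⟶ 𝒳` is representable
  have hc : AlgSt.RepByAlgSp1 (BasedFunctor.comp (FibCat.fpFst x u) x) :=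
    repByAlgSp1_of_iso (FibCat.fpIso x u).symm
      (repByAlgSp1_comp hg h𝒰 (repByAlgSp1_of_repByAlgSp hW hU (FibCat.fpSnd x u)) hu)
  have hQ : AlgSt.RepByAlgSp (FibCat.fp (FibCat.fpSnd y x) (FibCat.fpFst x u)) := by
    obtain ⟨g, hg', -, -⟩ :=
      Fib.exists_quasiInverse (Fib.isEquivOver_fpAssoc y x (FibCat.fpFst x u))
    exact repByAlgSp_of_isEquivOver g hg' (hc T y)
  have hZst : Stk.IsStack (QuotSh.J Scheme.etalePrecoverage S) (FibCat.fp y x) :=
    isStack_fp _ y x (isStack_etale_overCat T) (isStack_etale_overCat V)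
      (isPrestack_of_isStack h𝒳)
  have : (FibCat.overCat T).p.Faithful := inferInstanceAs (Over.forget T).Faithful
  have : (FibCat.overCat V).p.Faithful := inferInstanceAs (Over.forget V).Faithful
  have : y.toFunctor.Faithful := Functor.Faithful.of_comp_eq y.w
  have hs : FibCat.IsFibSetoid (FibCat.fp y x).p :=
    Fib.isFibSetoid_fp y x (Fib.isFibGrpd_overCat T)
      (Fib.isFibSetoid_of_faithful _ (Fib.isFibGrpd_overCat V)) h𝒳.1
  refine repByAlgSp_of_isFibSetoid_etale_of_atlas hZst ?_ hs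
  exact exists_atlas_repByAlgSp hQ hs.1 (FibCat.fpFst (FibCat.fpSnd y x) (FibCat.fpFst x u))
    (repByAlgSpWith_fpFst _ _ (repByAlgSpWith_fpFst u x hsm))
    (repByAlgSpWith_fpFst _ _ (repByAlgSpWith_fpFst u x hsurj))

end Groth.Agent.AlgStB
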