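import Groth.Agent.AlgStB.SmoothQuotient
import Groth.Agent.AlgStB.EtaleSmoothQuotient
import Groth.Agent.AlgStB.FpAlgebraic

/-!
# Atlases composed with smooth covers of the target
-/

set_option autoImplicit false
set_option backward.isDefEq.respectTransparency false
set_option backward.isDefEq.respectTransparency.types false

universe u

open CategoryTheory AlgebraicGeometry

namespace Groth.Agent.AlgStB

open _root_.AlgSp

variable {S : Scheme.{u}} {𝒳 𝒴 𝒬 : AlgSt.Cat S}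

theorem exists_atlas_of_fp {P : MorphismProperty Scheme.{u}} [AlgSpc.EtLoc P] [P.IsStableUnderBaseChange]
    [P.IsStableUnderComposition] (h𝒳 : FibCat.IsFibGrpd 𝒳.p) (h𝒴 : FibCat.IsFibGrpd 𝒴.p)
    (h𝒬 : FibCat.IsFibGrpd 𝒬.p) (z : 𝒬 ⥤ᵇ 𝒴) (f : 𝒳 ⥤ᵇ 𝒴)
    (hz : AlgSt.RepByAlgSpWith (LocP P) z) (hzs : AlgSt.RepByAlgSpWith IsSurjectiveMor z)
    (h : AlgSt.HasAtlas (LocP P) (FibCat.fp z f)) : AlgSt.HasAtlas (LocP P) 𝒳 := by
  obtain ⟨U, x, hx, hxs⟩ := h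
  have hg := Fib.isFibGrpd_fp z f h𝒬 h𝒳 h𝒴
  exact ⟨U, BasedFunctor.comp x (FibCat.fpSnd z f),
    repByAlgSpWith_comp' (Fib.isFibGrpd_overCat U) hg respectsSrcIso_locP hc_locP hx
      (repByAlgSpWith_fpSnd z f hz),
    repByAlgSpWith_comp' (Fib.isFibGrpd_overCat U) hg respectsSrcIso_isSurjectiveMor hc_surjective hxs
      (repByAlgSpWith_fpSnd z f hzs)⟩

theorem isAlgStack_etale_of_hasAtlas (h : Stk.IsStack (QuotSh.J Scheme.etalePrecoverage S) 𝒳)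
    (hat : AlgSt.HasAtlas (LocP @Smooth) 𝒳) : AlgSt.IsAlgStack Scheme.etalePrecoverage 𝒳 := by
  obtain ⟨U, x, hx, hxs⟩ := hat
  exact isAlgStack_etale_of_smooth_cover h (repByAlgSp_overCat U) x hx hxs

theorem isAlgStack_of_hasAtlas (h : Stk.IsStack (QuotSh.J Scheme.fppfPrecoverage S) 𝒳)
    (hat : AlgSt.HasAtlas (LocP @Smooth) 𝒳) : AlgSt.IsAlgStack Scheme.fppfPrecoverage 𝒳 := by
  obtain ⟨U, x, hx, hxs⟩ := hat
  exact isAlgStack_of_smooth_cover h (repByAlgSp_overCat U) x hx hxs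

end Groth.Agent.AlgStB
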