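import Groth.Agent.AlgStB.RepWith
import Groth.Agent.Fib.DiagBC

/-!
# Base change of diagonals, graphs, comparison maps and sections
-/

set_option autoImplicit false
set_option backward.isDefEq.respectTransparency false
set_option backward.isDefEq.respectTransparency.types false

universe v₆ u₆ v₅ u₅ v₄ u₄ v₃ u₃ v₂ u₂ u

open CategoryTheory CategoryTheory.Limits AlgebraicGeometry Opposite

namespace Groth.Agent.AlgStB

open _root_.AlgSp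

variable {S : Scheme.{u}} {𝒳 : BasedCategory.{v₂, u₂} (Over S)}
  {𝒴 : BasedCategory.{v₃, u₃} (Over S)} {𝒵 : BasedCategory.{v₄, u₄} (Over S)}
  {𝒯 : BasedCategory.{v₅, u₅} (Over S)} {P : MorphismProperty (Sp S)}

theorem repByAlgSpWith_of_twoCart {𝒬 : BasedCategory.{v₆, u₆} (Over S)} (Γ : 𝒳 ⥤ᵇ 𝒬)
    (m : 𝒬 ⥤ᵇ 𝒵) (Δ : 𝒴 ⥤ᵇ 𝒵) (f : 𝒳 ⥤ᵇ 𝒴)
    (e : BasedFunctor.comp Γ m ≅ BasedFunctor.comp f Δ)
    (he : FibCat.IsTwoCartOver Γ f e) (h : AlgSt.RepByAlgSpWith P Δ) :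
    AlgSt.RepByAlgSpWith P Γ :=
  (repByAlgSpWith_iff_of_square (FibCat.fpFst m Δ) Γ (FibCat.fpLift Γ f e) (BasedFunctor.id _) he
    (Fib.isEquivOver_id _) (Iso.refl _)).1 (repByAlgSpWith_fpFst Δ m h)

theorem repByAlgSpWith_diag_fpFst (f : 𝒳 ⥤ᵇ 𝒵) (g : 𝒴 ⥤ᵇ 𝒵)
    (h : AlgSt.RepByAlgSpWith P (FibCat.diag f)) :
    AlgSt.RepByAlgSpWith P (FibCat.diag (FibCat.fpFst g f)) := by
  obtain ⟨e, he⟩ := Fib.exists_twoCart_diag_fpFst f g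
  exact repByAlgSpWith_of_twoCart _ (Fib.diagBCMap f g) _ _ e he h

theorem repByAlgSpWith_fpComparison (f : 𝒳 ⥤ᵇ 𝒵) (g : 𝒴 ⥤ᵇ 𝒵) (t : 𝒵 ⥤ᵇ 𝒯)
    (e : BasedFunctor.comp (FibCat.fpFst f g) (BasedFunctor.comp f t) ≅
      BasedFunctor.comp (FibCat.fpSnd f g) (BasedFunctor.comp g t))
    (he : ∀ x, e.hom.toNatTrans.app x = t.map x.obj.iso.hom)
    (h : AlgSt.RepByAlgSpWith P (FibCat.diag t)) :
    AlgSt.RepByAlgSpWith P (FibCat.fpLift (FibCat.fpFst f g) (FibCat.fpSnd f g) e) := by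
  obtain ⟨m, e', he'⟩ := Fib.exists_twoCart_fpComparison f g t e he
  exact repByAlgSpWith_of_twoCart _ m _ _ e' he' h

theorem repByAlgSpWith_graphOver (p : 𝒳 ⥤ᵇ 𝒯) (q : 𝒴 ⥤ᵇ 𝒯) (g : 𝒳 ⥤ᵇ 𝒴)
    (e : BasedFunctor.comp (BasedFunctor.id 𝒳) p ≅ BasedFunctor.comp g q)
    (h : AlgSt.RepByAlgSpWith P (FibCat.diag q)) :
    AlgSt.RepByAlgSpWith P (FibCat.fpLift (BasedFunctor.id 𝒳) g e) := by
  obtain ⟨m, e', he'⟩ := Fib.exists_twoCart_graphOver p q g e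
  exact repByAlgSpWith_of_twoCart _ m _ _ e' he' h

theorem repByAlgSpWith_section (f : 𝒳 ⥤ᵇ 𝒯) (s : 𝒯 ⥤ᵇ 𝒳)
    (e : BasedFunctor.comp s f ≅ BasedFunctor.id 𝒯)
    (h : AlgSt.RepByAlgSpWith P (FibCat.diag f)) : AlgSt.RepByAlgSpWith P s := by
  let e₀ : BasedFunctor.comp (BasedFunctor.id 𝒯) (BasedFunctor.id 𝒯) ≅ BasedFunctor.comp s f :=
    e.symm
  let Γ := FibCat.fpLift (BasedFunctor.id 𝒯) s e₀
  let i : BasedFunctor.comp s (Fib.fpIdLeft f) ≅ Γ :=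
    Fib.isoMk (fun t => Fib.fpIsoMk (Fib.appIso e t) (Iso.refl (s.obj t)) (by
        change (Fib.appIso e t).hom ≫ (Fib.appIso e t).inv = 𝟙 (f.obj (s.obj t)) ≫ f.map (𝟙 _)
        rw [Iso.hom_inv_id, CategoryTheory.Functor.map_id]
        exact (Category.comp_id _).symm))
      (fun φ => Fib.fp_hom_ext (Fib.appIso_natural e φ)
        ((Category.comp_id _).trans (Category.id_comp _).symm))
      (fun t => Fib.fp_iso_isHomLift_id _ (Fib.appIso_isHomLift e t))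
  exact (repByAlgSpWith_iff_of_square Γ s (BasedFunctor.id _) (Fib.fpIdLeft f)
    (Fib.isEquivOver_id _) (Fib.isEquivOver_fpIdLeft f) i).1
      (repByAlgSpWith_graphOver (BasedFunctor.id 𝒯) f s e₀ h)

end Groth.Agent.AlgStB
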