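import Groth.Agent.AlgStB.TargetDescent
import Groth.Agent.AlgStB.DiagBC
import Groth.Agent.AlgSpc.LocSurj
import Mathlib.AlgebraicGeometry.Sites.Pretopology

/-!
# Descent of properties of representable 1-morphisms along fppf coverings
-/

set_option autoImplicit false
set_option backward.isDefEq.respectTransparency false
set_option backward.isDefEq.respectTransparency.types false

universe v₄ u₄ v₃ u₃ v₂ u₂ u

open CategoryTheory CategoryTheory.Limits AlgebraicGeometry Opposite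

namespace Groth.Agent.AlgStB

open _root_.AlgSp

variable {S : Scheme.{u}} {𝒳 : BasedCategory.{v₂, u₂} (Over S)}
  {𝒴 : BasedCategory.{v₃, u₃} (Over S)} {𝒬 : BasedCategory.{v₄, u₄} (Over S)}

/-- `prop_snd_of_rep` for properties invariant under isomorphisms of the source. -/
theorem prop_snd_of_rep' {Q : MorphismProperty (Sp S)} (hi : RespectsSrcIso Q) (f : 𝒳 ⥤ᵇ 𝒴)
    {U U₂ : Over S} (y : FibCat.overCat U ⥤ᵇ 𝒴) {F : Sp S} (e : AlgSt.ofSp F ⥤ᵇ FibCat.fp y f)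
    (he : FibCat.IsEquivOver e) (k : U₂ ⟶ U) {F₂ : Sp S} (hF₂ : IsAlgSpace F₂) {p : F₂ ⟶ F}
    {φ₂ : F₂ ⟶ (yon S).obj U₂}
    (sq : IsPullback p φ₂ (AlgSt.spMapOfOver (BasedFunctor.comp e (FibCat.fpFst y f)))
      ((yon S).map k))
    {G : Sp S} (hG : IsAlgSpace G)
    (e₂ : AlgSt.ofSp G ⥤ᵇ FibCat.fp (BasedFunctor.comp (AlgSt.overMap k) y) f)
    (he₂ : FibCat.IsEquivOver e₂)
    (hQ : Q (AlgSt.spMapOfOver (BasedFunctor.comp e₂ (FibCat.fpFst _ f)))) : Q φ₂ := by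
  have sq' : IsPullback p.hom φ₂.hom
      (AlgSt.spMapOfOver (BasedFunctor.comp e (FibCat.fpFst y f))).hom ((yon S).map k).hom :=
    sq.map (sheafToPresheaf (J S) _)
  obtain ⟨Φ, hΦ, hπ⟩ := exists_fp_rep sq'
    (BasedFunctor.comp (AlgSt.ofOverCat U₂) (AlgSt.ofSpMap ((yon S).map k))) (Iso.refl _)
  have := Fib.full_of_isEquivOver (isEquivOver_toOverCat U)
  have := Fib.faithful_of_isEquivOver (isEquivOver_toOverCat U)
  let M := Fib.fpMap (BasedFunctor.id (FibCat.overCat U₂)) e (AlgSt.toOverCat U)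
    (F' := BasedFunctor.comp (AlgSt.ofOverCat U₂) (AlgSt.ofSpMap ((yon S).map k)))
    (G' := Stk.ofPshMap (AlgSt.spMapOfOver (BasedFunctor.comp e (FibCat.fpFst y f))).hom)
    (F := AlgSt.overMap k) (G := FibCat.fpFst y f) (overMapIso k)
    (isoOfOver (BasedFunctor.comp e (FibCat.fpFst y f))).symm
  let e₃ := BasedFunctor.comp (BasedFunctor.comp Φ M) (Fib.fpBC (AlgSt.overMap k) y f)
  have he₃ : FibCat.IsEquivOver e₃ := Fib.isEquivOver_comp (Fib.isEquivOver_comp hΦ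
    (Fib.isEquivOver_fpMap _ _ _ _ _ (Fib.isEquivOver_id _) he)) (Fib.isEquivOver_fpBC _ _ _)
  obtain ⟨i, ⟨j⟩⟩ := exists_iso_of_reps e₃ e₂ he₃ he₂
  have h : AlgSt.spMapOfOver (BasedFunctor.comp e₃ (FibCat.fpFst _ f)) =
      i.hom ≫ AlgSt.spMapOfOver (BasedFunctor.comp e₂ (FibCat.fpFst _ f)) := by
    rw [← spMapOfOver_congr (Fib.isoWhiskerRight j (FibCat.fpFst _ f))]
    exact spMapOfOver_comp i.hom (BasedFunctor.comp e₂ (FibCat.fpFst _ f))
  rw [show BasedFunctor.comp e₃ (FibCat.fpFst _ f) = _ from hπ] at h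
  exact ((spMapOfOver_toOverCat (F := F₂) (U := U₂) φ₂).symm.trans h) ▸
    hi hG hF₂ (IsAlgSpace.yon_obj U₂) i _ hQ

/-- The point at which a property is tested after a covering. -/
theorem repByAlgSpWith_of_local {P : MorphismProperty (Sp S)} (hi : RespectsSrcIso P)
    (hl : IsLocalOnBase IsFppfCover P) (f : 𝒳 ⥤ᵇ 𝒴) (hf : AlgSt.RepByAlgSp1 f)
    (H : ∀ (U : Over S) (y : FibCat.overCat U ⥤ᵇ 𝒴), ∃ (ι : Type u) (V : ι → Over S)
      (k : ∀ i, V i ⟶ U),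
      IsFppfCover (fun i => (yon S).obj (V i)) (fun i => (yon S).map (k i)) ∧
      ∀ i, ∃ (G : Space S) (e : AlgSt.ofSp G.obj ⥤ᵇ
        FibCat.fp (BasedFunctor.comp (AlgSt.overMap (k i)) y) f),
        FibCat.IsEquivOver e ∧ P (AlgSt.spMapOfOver (BasedFunctor.comp e (FibCat.fpFst _ f)))) :
    AlgSt.RepByAlgSpWith P f := by
  intro U y
  obtain ⟨F, e, he⟩ := hf U y
  refine ⟨F, e, he, ?_⟩
  let φ := AlgSt.spMapOfOver (BasedFunctor.comp e (FibCat.fpFst y f))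
  obtain ⟨ι, V, k, hc, hk⟩ := H U y
  have hA : ∀ i, IsAlgSpace (pullback φ ((yon S).map (k i))) := fun i =>
    AlgSpc.isAlgSpace_of_isPullback F.property (IsAlgSpace.yon_obj U) (IsAlgSpace.yon_obj (V i))
      (IsPullback.of_hasPullback _ _)
  refine (hl (fun i => (yon S).obj (V i)) (fun i => (yon S).map (k i)) (IsAlgSpace.yon_obj U)
    (fun i => IsAlgSpace.yon_obj _) hc φ F.property (fun i => pullback φ ((yon S).map (k i)))
    (fun i => pullback.snd _ _) (fun i => pullback.fst _ _) hA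
    (fun i => IsPullback.of_hasPullback _ _)).2 fun i => ?_
  obtain ⟨G, e₂, he₂, hP⟩ := hk i
  exact prop_snd_of_rep' hi f y e he (k i) (hA i) (IsPullback.of_hasPullback _ _) G.property e₂ he₂ hP

/-- Reading a base change at a point lifting the given one. -/
theorem exists_rep_of_lift {P : MorphismProperty (Sp S)} {f : 𝒳 ⥤ᵇ 𝒴} {q : 𝒬 ⥤ᵇ 𝒴}
    (h : AlgSt.RepByAlgSpWith P (FibCat.fpFst q f)) {V : Over S} (y : FibCat.overCat V ⥤ᵇ 𝒴)
    (z : FibCat.overCat V ⥤ᵇ 𝒬) (i : BasedFunctor.comp z q ≅ y) :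
    ∃ (G : Space S) (e : AlgSt.ofSp G.obj ⥤ᵇ FibCat.fp y f),
      FibCat.IsEquivOver e ∧ P (AlgSt.spMapOfOver (BasedFunctor.comp e (FibCat.fpFst _ f))) := by
  obtain ⟨G, e₂, he₂, hP⟩ := h V z
  obtain ⟨_, _⟩ := id_full_faithful 𝒴
  let D := Fib.fpMap (BasedFunctor.id (FibCat.overCat V)) (BasedFunctor.id 𝒳) (BasedFunctor.id 𝒴)
    (F' := BasedFunctor.comp z q) (G' := f) (F := y) (G := f) i (Iso.refl _)
  exact ⟨G, BasedFunctor.comp (BasedFunctor.comp e₂ (Fib.fpBC z q f)) D,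
    Fib.isEquivOver_comp (Fib.isEquivOver_comp he₂ (Fib.isEquivOver_fpBC _ _ _))
      (Fib.isEquivOver_fpMap _ _ _ _ _ (Fib.isEquivOver_id _) (Fib.isEquivOver_id _)), hP⟩

theorem isFppfCover_map {ι : Type u} {U : Over S} (V : ι → Over S) (k : ∀ i, V i ⟶ U)
    (hF : ∀ i, Flat (k i).left) (hP : ∀ i, LocallyOfFinitePresentation (k i).left)
    (hs : ∀ t : ↥U.left, ∃ i, t ∈ Set.range (k i).left) :
    IsFppfCover (S := S) (fun i => (yon S).obj (V i)) (fun i => (yon S).map (k i)) := by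
  refine ⟨fun i => ⟨AlgSpc.locP_of_repWith (fun e f he hf => AlgSpc.EtLoc.precomp e f he hf)
      ((repWith_yon_map_iff _ _).2 (hF i)),
    AlgSpc.locP_of_repWith (fun e f he hf => AlgSpc.EtLoc.precomp e f he hf)
      ((repWith_yon_map_iff _ _).2 (hP i))⟩, fun x => ?_⟩
  obtain ⟨t, rfl⟩ := (Points.schemeHomeo U).surjective x
  obtain ⟨i, s, hs⟩ := hs t
  refine ⟨i, Points.schemeHomeo (V i) s, ?_⟩
  rw [Points.map_yon_map_eq]
  simp [← hs]

theorem repByAlgSpWith_inf_self {f : 𝒬 ⥤ᵇ 𝒴} {P Q R : MorphismProperty (Sp S)} [Q.RespectsIso]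
    [R.RespectsIso] (hP : AlgSt.RepByAlgSpWith P f) (hQ : AlgSt.RepByAlgSpWith Q f)
    (hR : AlgSt.RepByAlgSpWith R f) : AlgSt.RepByAlgSpWith (P ⊓ (Q ⊓ R)) f := fun U y =>
  let ⟨F, e, he, hm⟩ := hP U y
  let ⟨_, e', he', hm'⟩ := hQ U y
  let ⟨_, e'', he'', hm''⟩ := hR U y
  ⟨F, e, he, hm, (prop_spMap_iff_of_reps Q (FibCat.fpFst y f) e' e he' he).1 hm',
    (prop_spMap_iff_of_reps R (FibCat.fpFst y f) e'' e he'' he).1 hm''⟩

/-- A flat, finitely presented, surjective representable 1-morphism gives local lifts. -/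
theorem exists_cover_lift (q : 𝒬 ⥤ᵇ 𝒴) (hq₁ : AlgSt.RepByAlgSpWith (LocP @Flat) q)
    (hq₂ : AlgSt.RepByAlgSpWith (LocP @LocallyOfFinitePresentation) q)
    (hq₃ : AlgSt.RepByAlgSpWith IsSurjectiveMor q) (U : Over S) (y : FibCat.overCat U ⥤ᵇ 𝒴) :
    ∃ (V : Over S) (k : V ⟶ U) (z : FibCat.overCat V ⥤ᵇ 𝒬),
      IsFppfCover (S := S) (fun _ : PUnit.{u + 1} => (yon S).obj V) (fun _ => (yon S).map k) ∧
        Nonempty (BasedFunctor.comp z q ≅ BasedFunctor.comp (AlgSt.overMap k) y) := by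
  obtain ⟨G, ε, hε, hs⟩ := repByAlgSpWith_inf_self hq₁ hq₂ hq₃ U y
  let ψ := AlgSt.spMapOfOver (BasedFunctor.comp ε (FibCat.fpFst y q))
  obtain ⟨V, c, hc, hcs⟩ := G.property.atlas
  let k : V ⟶ U := AlgSpc.pre (c ≫ ψ)
  have hk : (yon S).map k = c ≫ ψ := AlgSpc.map_pre _
  have hF : Flat k.left := hs.1 c (𝟙 _) k hc (AlgSpc.repWith_iso _) (by simp [k, ψ])
  have hP : LocallyOfFinitePresentation k.left :=
    hs.2.1 c (𝟙 _) k hc (AlgSpc.repWith_iso _) (by simp [k, ψ])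
  have hS : Surjective k.left := ((repWith_yon_map_iff (@Surjective : MorphismProperty Scheme.{u}) k).1
    ((AlgSpc.repWith_surjective_iff (((repWith_yon_map_iff (⊤ : MorphismProperty Scheme.{u}) k).2
      trivial).1)).2 (by
        rw [hk]
        intro x
        obtain ⟨g, rfl⟩ := hs.2.2 x
        obtain ⟨a, rfl⟩ := AlgSpc.surjective_map_of_repWith hcs g
        exact ⟨a, Points.map_comp c ψ a⟩)))
  let T := BasedFunctor.comp (AlgSt.ofOverCat V) (BasedFunctor.comp (AlgSt.ofSpMap c) ε)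
  let i₁ : BasedFunctor.comp T (FibCat.fpFst y q) ≅ AlgSt.overMap k :=
    Fib.isoWhiskerLeft (BasedFunctor.comp (AlgSt.ofOverCat V) (AlgSt.ofSpMap c))
        (isoOfOver (BasedFunctor.comp ε (FibCat.fpFst y q))) ≪≫
      eqToIso (congrArg (fun t => BasedFunctor.comp (BasedFunctor.comp (AlgSt.ofOverCat V)
        (AlgSt.ofSpMap t)) (AlgSt.toOverCat U)) hk.symm) ≪≫ overMapIso k
  exact ⟨V, k, BasedFunctor.comp T (FibCat.fpSnd y q),
    isFppfCover_map (fun _ => V) (fun _ => k) (fun _ => hF) (fun _ => hP)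
      (fun t => ⟨⟨⟩, hS.surj t⟩),
    ⟨Fib.isoWhiskerLeft T (FibCat.fpIso y q).symm ≪≫ Fib.isoWhiskerRight i₁ y⟩⟩

/-- Descent along a flat, finitely presented, surjective representable 1-morphism. -/
theorem repByAlgSpWith_of_fppf {P : MorphismProperty (Sp S)} (hi : RespectsSrcIso P)
    (hl : IsLocalOnBase IsFppfCover P) (f : 𝒳 ⥤ᵇ 𝒴) (hf : AlgSt.RepByAlgSp1 f) (q : 𝒬 ⥤ᵇ 𝒴)
    (hq₁ : AlgSt.RepByAlgSpWith (LocP @Flat) q)
    (hq₂ : AlgSt.RepByAlgSpWith (LocP @LocallyOfFinitePresentation) q)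
    (hq₃ : AlgSt.RepByAlgSpWith IsSurjectiveMor q)
    (h : AlgSt.RepByAlgSpWith P (FibCat.fpFst q f)) : AlgSt.RepByAlgSpWith P f :=
  repByAlgSpWith_of_local hi hl f hf fun U y => by
    obtain ⟨V, k, z, hc, ⟨i⟩⟩ := exists_cover_lift q hq₁ hq₂ hq₃ U y
    exact ⟨PUnit.{u + 1}, fun _ => V, fun _ => k, hc, fun _ => exists_rep_of_lift h _ z i⟩

/-- A covering sieve contains an fppf covering family. -/
theorem exists_cover_of_mem_J {U : Over S} {R : Sieve U}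
    (hR : R ∈ (QuotSh.J Scheme.fppfPrecoverage S) U) :
    ∃ (ι : Type u) (V : ι → Over S) (k : ∀ i, V i ⟶ U),
      IsFppfCover (S := S) (fun i => (yon S).obj (V i)) (fun i => (yon S).map (k i)) ∧
        ∀ i, R.arrows (k i) := by
  rw [GrothendieckTopology.mem_over_iff] at hR
  obtain ⟨𝒰, h𝒰⟩ := Scheme.mem_grothendieckTopology_iff.1 hR
  refine ⟨𝒰.I₀, fun i => Over.mk (𝒰.f i ≫ U.hom), fun i => Over.homMk (𝒰.f i) rfl,
    isFppfCover_map _ _ (fun i => (𝒰.map_prop i).1) (fun i => (𝒰.map_prop i).2) (fun t => ?_),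
    fun i => ?_⟩
  · exact ⟨𝒰.idx t, 𝒰.covers t⟩
  · exact (Sieve.overEquiv_iff _ _).1 (h𝒰 _ _ (Presieve.ofArrows.mk i))

/-- Descent of a property of a representable 1-morphism along local lifts. -/
theorem repByAlgSpWith_of_sieves {P : MorphismProperty (Sp S)} (hi : RespectsSrcIso P)
    (hl : IsLocalOnBase IsFppfCover P) (f : 𝒳 ⥤ᵇ 𝒴) (hf : AlgSt.RepByAlgSp1 f) (g : 𝒬 ⥤ᵇ 𝒴)
    (hg : ∀ (U : Over S) (y : FibCat.overCat U ⥤ᵇ 𝒴),
      ∃ R ∈ (QuotSh.J Scheme.fppfPrecoverage S) U,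
      ∀ ⦃V : Over S⦄ (h : V ⟶ U), R.arrows h → ∃ z : FibCat.overCat V ⥤ᵇ 𝒬,
        Nonempty (BasedFunctor.comp z g ≅ BasedFunctor.comp (AlgSt.overMap h) y))
    (h : AlgSt.RepByAlgSpWith P (FibCat.fpFst g f)) : AlgSt.RepByAlgSpWith P f :=
  repByAlgSpWith_of_local hi hl f hf fun U y => by
    obtain ⟨R, hR, hz⟩ := hg U y
    obtain ⟨ι, V, k, hc, hk⟩ := exists_cover_of_mem_J hR
    exact ⟨ι, V, k, hc, fun i => let ⟨z, ⟨j⟩⟩ := hz (k i) (hk i); exists_rep_of_lift h _ z j⟩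

end Groth.Agent.AlgStB
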