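import Groth.Agent.AlgStB.RepDiag
import Groth.Agent.AlgSpc.SepProper
import Groth.Agent.AlgSpLoc.EtLocMore

/-!
# Properties of the diagonal of a representable 1-morphism
-/

set_option autoImplicit false
set_option backward.isDefEq.respectTransparency false
set_option backward.isDefEq.respectTransparency.types false

universe v₃ u₃ v₂ u₂ u

open CategoryTheory CategoryTheory.Limits AlgebraicGeometry Opposite

namespace Groth.Agent.AlgStB

open _root_.AlgSp

variable {S : Scheme.{u}} {𝒳 : BasedCategory.{v₂, u₂} (Over S)}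
  {𝒴 : BasedCategory.{v₃, u₃} (Over S)}

theorem mono_map_of_isPullback_diagonal {F G : Sp S} {f : F ⟶ G} {W T : Over S}
    {fst : (yon S).obj W ⟶ F} {snd : W ⟶ T} {ξ : (yon S).obj T ⟶ pullback f f}
    (sq : IsPullback fst ((yon S).map snd) (pullback.diagonal f) ξ) : Mono ((yon S).map snd) :=
  ⟨fun {Z} a b w => by
    refine sq.hom_ext ((cancel_mono (pullback.diagonal f)).1 ?_) w
    rw [Category.assoc, Category.assoc, sq.w, reassoc_of% w]⟩

theorem lft_mono_left {F G : Sp S} (hF : IsAlgSpace F) {f : F ⟶ G} {W T : Over S}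
    {fst : (yon S).obj W ⟶ F} {snd : W ⟶ T} {ξ : (yon S).obj T ⟶ pullback f f}
    (sq : IsPullback fst ((yon S).map snd) (pullback.diagonal f) ξ) :
    LocallyOfFiniteType snd.left ∧ Mono snd.left :=
  (representable_lft_mono_diagonal hF f).2 _ _ _ sq

/-- The diagonal of a representable 1-morphism has every property shared by monomorphisms of
schemes locally of finite type. -/
theorem repByAlgSpWith_diag_repWith (P : MorphismProperty Scheme.{u}) [P.IsStableUnderBaseChange]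
    (hP : ∀ ⦃X Y : Scheme.{u}⦄ (f : X ⟶ Y), LocallyOfFiniteType f → Mono f → P f)
    (f : 𝒳 ⥤ᵇ 𝒴) (hf : AlgSt.RepByAlgSp1 f) :
    AlgSt.RepByAlgSpWith (RepWith P) (FibCat.diag f) := by
  refine repByAlgSpWith_diag_of_repByAlgSp1 f hf fun X hX U a T W fst snd ξ F' i sq => ?_
  obtain ⟨h₁, h₂⟩ := lft_mono_left hX sq
  have hs : RepWith P ((yon S).map snd) := (repWith_yon_map_iff P snd).2 (hP _ h₁ h₂)
  exact AlgSpc.repWith_of_isPullback (fst := i.hom) (g := 𝟙 _)
    (IsPullback.of_horiz_isIso ⟨(Category.comp_id _).symm⟩) hs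

theorem isMono_diag (f : 𝒳 ⥤ᵇ 𝒴) (hf : AlgSt.RepByAlgSp1 f) : AlgSt.IsMono (FibCat.diag f) :=
  repByAlgSpWith_mono
    (fun _ _ _ h => AlgSpc.mono_of_repWith (P := MorphismProperty.monomorphisms _)
      (fun _ _ _ h => h) h)
    (repByAlgSpWith_diag_repWith (MorphismProperty.monomorphisms _)
      (fun _ _ _ _ h => h) f hf)

theorem repByAlgSpWith_diag_locP (P : MorphismProperty Scheme.{u}) [P.IsStableUnderBaseChange]
    [AlgSpc.EtLoc P]
    (hP : ∀ ⦃X Y : Scheme.{u}⦄ (f : X ⟶ Y), LocallyOfFiniteType f → Mono f → P f)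
    (f : 𝒳 ⥤ᵇ 𝒴) (hf : AlgSt.RepByAlgSp1 f) :
    AlgSt.RepByAlgSpWith (LocP P) (FibCat.diag f) :=
  repByAlgSpWith_mono
    (fun _ _ _ h => AlgSpc.locP_of_repWith (fun e g he hg => AlgSpc.EtLoc.precomp e g he hg) h)
    (repByAlgSpWith_diag_repWith P hP f hf)

theorem isDMMor_of_repByAlgSp1 (f : 𝒳 ⥤ᵇ 𝒴) (hf : AlgSt.RepByAlgSp1 f) : AlgSt.IsDMMor f :=
  repByAlgSpWith_diag_locP (@LocallyOfFiniteType ⊓ @FormallyUnramified : MorphismProperty Scheme.{u})
    (fun _ _ g h (_ : Mono g) => ⟨h, inferInstance⟩) f hf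

theorem isSeparatedMor_diag (f : 𝒳 ⥤ᵇ 𝒴) (hf : AlgSt.RepByAlgSp1 f) :
    AlgSt.RepByAlgSpWith IsSeparatedMor (FibCat.diag f) :=
  repByAlgSpWith_mono (fun _ _ g (h : Mono g) => AlgSpc.repWith_iso (pullback.diagonal g))
    (isMono_diag f hf)

/-- The diagonal of a representable 1-morphism is representable by schemes. -/
theorem isRepresentable1_diag (f : 𝒳 ⥤ᵇ 𝒴) (hf : AlgSt.RepByAlgSp1 f) :
    FibCat.IsRepresentable1 (FibCat.diag f) := by
  intro U y
  obtain ⟨F, e, he, hQ⟩ := repByAlgSpWith_diag_of_repByAlgSp1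
    (Q := fun F' _ _ => ∃ W : Over S, Nonempty (F' ≅ (yon S).obj W)) f hf
    (fun X _ _ _ _ W _ _ _ _ i _ => ⟨W, ⟨i⟩⟩) U y
  obtain ⟨W, ⟨i⟩⟩ := hQ
  obtain ⟨g, hg, -, -⟩ := Fib.exists_quasiInverse he
  exact ⟨W, BasedFunctor.comp g (BasedFunctor.comp (AlgSt.ofSpMap i.hom) (AlgSt.toOverCat W)),
    Fib.isEquivOver_comp hg (Fib.isEquivOver_comp ((isEquivOver_ofSpMap_iff i.hom).2 inferInstance)
      (isEquivOver_toOverCat W))⟩

theorem locallyQuasiFinite_of_formallyUnramified {X Y : Scheme.{u}} (e : X ⟶ Y)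
    [LocallyOfFiniteType e] [FormallyUnramified e] : LocallyQuasiFinite e := by
  refine HasRingHomProperty.iff_appLE.2 fun U V h => ?_
  have h₁ := HasRingHomProperty.appLE (P := @LocallyOfFiniteType) e ‹_› U V h
  have h₂ := HasRingHomProperty.appLE (P := @FormallyUnramified) e ‹_› U V h
  algebraize [(e.appLE U.1 V.1 h).hom]
  change Algebra.QuasiFinite _ _
  infer_instance

theorem isQuasiDMMor_of_isDMMor (f : 𝒳 ⥤ᵇ 𝒴) (h : AlgSt.IsDMMor f) : AlgSt.IsQuasiDMMor f :=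
  repByAlgSpWith_mono (fun _ _ _ h => AlgSpc.locP_mono (fun _ _ g hg => by
    obtain ⟨h₁, h₂⟩ := hg
    exact ⟨locallyQuasiFinite_of_formallyUnramified g, h₁⟩) h) h

end Groth.Agent.AlgStB
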