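import Groth.Agent.AlgStB.TargetDescent
import Groth.Agent.AlgStB.DiagProps
import Mathlib.AlgebraicGeometry.Morphisms.FiniteType

/-!
# The diagonal of an algebraic stack is locally of finite type
-/

set_option autoImplicit false
set_option backward.isDefEq.respectTransparency false
set_option backward.isDefEq.respectTransparency.types false

universe v₄ u₄ v₃ u₃ v₂ u₂ u

open CategoryTheory CategoryTheory.Limits AlgebraicGeometry Opposite

namespace Groth.Agent.AlgStB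

open _root_.AlgSp

variable {S : Scheme.{u}}

/-- A morphism of spaces is the composite with a base change of itself along the identity. -/
theorem locP_of_repByAlgSpWith_ofSpMap {P : MorphismProperty Scheme.{u}} [AlgSpc.EtLoc P]
    [P.IsStableUnderBaseChange] {F G : Sp S} (hF : IsAlgSpace F) (hG : IsAlgSpace G) (a : F ⟶ G)
    (h : AlgSt.RepByAlgSpWith (LocP P) (AlgSt.ofSpMap a)) : LocP P a :=
  locP_of_forall_pullback hF hG a fun T p =>
    ((repBySpWith_hom_iff _ a).1 (repBySpWith_of_repByAlgSpWith h) p _ _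
      (IsPullback.of_hasPullback a p)).2

theorem repByAlgSpWith_ofSpMap_of_locP {P : MorphismProperty Scheme.{u}} [AlgSpc.EtLoc P]
    [P.IsStableUnderBaseChange] {F G : Sp S} (hF : IsAlgSpace F) (hG : IsAlgSpace G) (a : F ⟶ G)
    (h : LocP P a) : AlgSt.RepByAlgSpWith (LocP P) (AlgSt.ofSpMap a) :=
  repByAlgSpWith_of_repBySpWith ((repBySpWith_hom_iff _ a).2 fun U _ _ _ _ sq =>
    ⟨AlgSpc.isAlgSpace_of_isPullback hF hG (IsAlgSpace.yon_obj U) sq,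
      AlgSpc.locP_base_change hF hG (IsAlgSpace.yon_obj U) sq h⟩)

/-- Cancellation for `LocP` between categories representable by algebraic spaces. -/
theorem repByAlgSpWith_locP_of_comp {P Q : MorphismProperty Scheme.{u}} [AlgSpc.EtLoc P]
    [AlgSpc.EtLoc Q] [P.IsStableUnderBaseChange] [Q.IsStableUnderBaseChange]
    (hPQ : ∀ {X Y Z : Scheme.{u}} (f : X ⟶ Y) (g : Y ⟶ Z), Q (f ≫ g) → P f)
    {𝒜 : BasedCategory.{v₂, u₂} (Over S)} {ℬ : BasedCategory.{v₃, u₃} (Over S)} {T : Over S}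
    (hA : AlgSt.RepByAlgSp 𝒜) (hB : AlgSt.RepByAlgSp ℬ) (f : 𝒜 ⥤ᵇ ℬ)
    (g : ℬ ⥤ᵇ FibCat.overCat T)
    (h : AlgSt.RepByAlgSpWith (LocP Q) (BasedFunctor.comp f g)) :
    AlgSt.RepByAlgSpWith (LocP P) f := by
  obtain ⟨F, a, ha⟩ := hA
  obtain ⟨G, b, hb⟩ := hB
  obtain ⟨b', -, -, ⟨j⟩⟩ := Fib.exists_quasiInverse hb
  obtain ⟨φ, ⟨k⟩⟩ := exists_ofSpMap (BasedFunctor.comp a (BasedFunctor.comp f b'))
  let i : BasedFunctor.comp (AlgSt.ofSpMap φ) b ≅ BasedFunctor.comp a f :=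
    Fib.isoWhiskerRight k.symm b ≪≫ Fib.isoWhiskerLeft (BasedFunctor.comp a f) j
  let γ := AlgSt.spMapOfOver (BasedFunctor.comp b g)
  let i' : BasedFunctor.comp (AlgSt.ofSpMap (φ ≫ γ)) (AlgSt.toOverCat T) ≅
      BasedFunctor.comp a (BasedFunctor.comp f g) :=
    Fib.isoWhiskerLeft (AlgSt.ofSpMap φ) (isoOfOver (BasedFunctor.comp b g)).symm ≪≫
      Fib.isoWhiskerRight i g
  have h' := (repByAlgSpWith_iff_of_square (BasedFunctor.comp f g) (AlgSt.ofSpMap (φ ≫ γ)) a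
    (AlgSt.toOverCat T) ha (isEquivOver_toOverCat T) i').1 h
  have hφ : LocP P φ := AlgSpc.locP_of_comp (P := Q) (Q := ⊤) (R := P)
    (fun f g h _ => hPQ f g h) F.property G.property (IsAlgSpace.yon_obj T)
    (locP_of_repByAlgSpWith_ofSpMap F.property (IsAlgSpace.yon_obj T) _ h') (AlgSpc.locP_top γ)
  exact (repByAlgSpWith_iff_of_square f (AlgSt.ofSpMap φ) a b ha hb i).2
    (repByAlgSpWith_ofSpMap_of_locP F.property G.property φ hφ)

theorem repByAlgSpWith_lft_diag_toSelf {K : Precoverage Scheme.{u}} {𝒳 : AlgSt.Cat S}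
    (h𝒳 : AlgSt.IsAlgStack K 𝒳) :
    AlgSt.RepByAlgSpWith (LocP @LocallyOfFiniteType) (FibCat.diag (FibCat.toSelf 𝒳)) := by
  obtain ⟨hst, hΔ, T, x, hx, hxs⟩ := h𝒳
  let sT := FibCat.toSelf (FibCat.overCat T)
  let sX := FibCat.toSelf 𝒳
  let q : FibCat.fp sT sT ⥤ᵇ FibCat.fp sX sX :=
    FibCat.fpLift (BasedFunctor.comp (FibCat.fpFst sT sT) x)
      (BasedFunctor.comp (FibCat.fpSnd sT sT) x) (Fib.toSelfIso _ _)
  have hTT : AlgSt.RepByAlgSp (FibCat.fp sT sT) :=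
    repByAlgSp_fp (Fib.isFibGrpd_overCat T) Fib.isFibGrpd_selfOver
      (repByAlgSp1_of_repByAlgSp (repByAlgSp_overCat T) repByAlgSp_selfOver sT) sT
      (repByAlgSp_overCat T)
  refine repByAlgSpWith_locP_of_cover _ hΔ q
    (repByAlgSpWith_prodMap respectsSrcIso_locP hc_locP (Fib.isFibGrpd_overCat T) hst.1 hx hx
      (Fib.toSelfIso _ _))
    (repByAlgSpWith_prodMap respectsSrcIso_isSurjectiveMor hc_surjective (Fib.isFibGrpd_overCat T)
      hst.1 hxs hxs (Fib.toSelfIso _ _)) ?_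
  obtain ⟨e, he⟩ := exists_twoCart_toProd x x
  refine (repByAlgSpWith_iff_of_square (FibCat.fpFst q (FibCat.diag sX))
    (FibCat.fpLift (FibCat.fpFst x x) (FibCat.fpSnd x x) (Fib.toSelfIso _ _))
    (FibCat.fpLift _ _ e) (BasedFunctor.id _) he (Fib.isEquivOver_id _) (Iso.refl _)).2 ?_
  refine repByAlgSpWith_locP_of_comp (Q := @Smooth) (fun f g (h : Smooth (f ≫ g)) => ?_)
    (repByAlgSp_fp (Fib.isFibGrpd_overCat T) hst.1 (repByAlgSp1_of_with hx) x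
      (repByAlgSp_overCat T))
    hTT _ (FibCat.fpFst sT sT) (repByAlgSpWith_fpFst x x hx)
  have : LocallyOfFiniteType (f ≫ g) := inferInstance
  exact locallyOfFiniteType_of_comp f g

/-- Cancellation for a property containing all monomorphisms locally of finite type. -/
theorem repByAlgSpWith_locP_cancel {P : MorphismProperty Scheme.{u}} [AlgSpc.EtLoc P]
    [P.IsStableUnderBaseChange] [P.IsStableUnderComposition]
    (hP : ∀ ⦃X Y : Scheme.{u}⦄ (f : X ⟶ Y), LocallyOfFiniteType f → Mono f → P f)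
    {𝒳 𝒴 𝒵 : AlgSt.Cat S} (h𝒳 : FibCat.IsFibGrpd 𝒳.p) (h𝒴 : FibCat.IsFibGrpd 𝒴.p)
    (h𝒵 : FibCat.IsFibGrpd 𝒵.p) {f : 𝒳 ⥤ᵇ 𝒴} {g : 𝒴 ⥤ᵇ 𝒵} (hg : AlgSt.RepByAlgSp1 g)
    (h : AlgSt.RepByAlgSpWith (LocP P) (BasedFunctor.comp f g)) :
    AlgSt.RepByAlgSpWith (LocP P) f := by
  obtain ⟨m, e, he⟩ := Fib.exists_twoCart_graph f g
  exact repByAlgSpWith_comp' (f := Fib.graph f g) (g := FibCat.fpFst g (BasedFunctor.comp f g))
    h𝒳 (Fib.isFibGrpd_fp _ _ h𝒴 h𝒳 h𝒵) respectsSrcIso_locP hc_locP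
    (repByAlgSpWith_of_twoCart _ m _ f e he (repByAlgSpWith_diag_locP P hP g hg))
    (repByAlgSpWith_fpFst _ g h)

theorem repByAlgSpWith_lft_diag {𝒳 𝒴 : AlgSt.Cat S}
    (h𝒳 : AlgSt.IsAlgStack Scheme.fppfPrecoverage 𝒳)
    (h𝒴 : AlgSt.IsAlgStack Scheme.fppfPrecoverage 𝒴) (f : 𝒳 ⥤ᵇ 𝒴) :
    AlgSt.RepByAlgSpWith (LocP @LocallyOfFiniteType) (FibCat.diag f) := by
  let sX := FibCat.toSelf 𝒳
  let m : FibCat.fp f f ⥤ᵇ FibCat.fp sX sX :=
    FibCat.fpLift (FibCat.fpFst f f) (FibCat.fpSnd f f) (Fib.toSelfIso _ _)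
  have : (FibCat.selfOver (Over S)).p.Faithful := inferInstanceAs (𝟭 (Over S)).Faithful
  obtain ⟨i⟩ := nonempty_iso_fp_of_faithful (BasedFunctor.comp (FibCat.diag f) m)
    (FibCat.diag sX) (Iso.refl _) (Iso.refl _)
  exact repByAlgSpWith_locP_cancel (fun _ _ _ h _ => h) h𝒳.isStack.1
    (Fib.isFibGrpd_fp f f h𝒳.isStack.1 h𝒳.isStack.1 h𝒴.isStack.1)
    (Fib.isFibGrpd_fp sX sX h𝒳.isStack.1 h𝒳.isStack.1 Fib.isFibGrpd_selfOver)
    (repByAlgSp1_toProd h𝒴.diag f f)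
    (repByAlgSpWith_of_iso i.symm (repByAlgSpWith_lft_diag_toSelf h𝒳))

end Groth.Agent.AlgStB
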