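import Groth.Agent.AlgStB.LocQApps
import Groth.Agent.AlgStB.DiagLft

/-!
# Base change, morphisms of spaces and immersions for properties read on chart squares
-/

set_option autoImplicit false
set_option backward.isDefEq.respectTransparency false
set_option backward.isDefEq.respectTransparency.types false

universe u

open CategoryTheory CategoryTheory.Limits AlgebraicGeometry Opposite

namespace Groth.Agent.AlgStB

open _root_.AlgSt (FPt Points)
open _root_.AlgSp (Sp LocP IsAlgSpace IsSurjectiveMor yon RepWith IsSmoothLocalST)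

noncomputable section

variable {S : Scheme.{u}}

theorem immersion_le_lft :
    (@IsImmersion : MorphismProperty Scheme.{u}) ≤ @LocallyOfFiniteType := fun _ _ f h =>
  haveI : IsImmersion f := h
  inferInstance

theorem openImmersion_le_lfp :
    (@IsOpenImmersion : MorphismProperty Scheme.{u}) ≤ @LocallyOfFinitePresentation := fun _ _ f h =>
  haveI : IsOpenImmersion f := h
  inferInstance

/-- A property is preserved by base change on chart squares. -/
theorem locQ_fpFst {P : MorphismProperty (Sp S)}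
    (hPb : ∀ ⦃X₁ Y₁ X₂ Y₂ : Sp S⦄, IsAlgSpace X₁ → IsAlgSpace Y₁ → IsAlgSpace X₂ →
      IsAlgSpace Y₂ → ∀ (a : X₁ ⟶ Y₁) (b : Y₂ ⟶ Y₁) (a' : X₂ ⟶ Y₂) (b' : X₂ ⟶ X₁),
      IsPullback b' a' a b → P a → P a')
    {𝒳 𝒴 𝒴' : AlgSt.Cat S} (h𝒳 : AlgSt.IsAlgStack Scheme.fppfPrecoverage 𝒳)
    (h𝒴 : AlgSt.IsAlgStack Scheme.fppfPrecoverage 𝒴)
    (h𝒴' : AlgSt.IsAlgStack Scheme.fppfPrecoverage 𝒴') {f : 𝒳 ⥤ᵇ 𝒴} (g : 𝒴' ⥤ᵇ 𝒴)
    (hf : AlgSt.LocQ P f) : AlgSt.LocQ P (FibCat.fpFst g f) := by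
  obtain ⟨U, V, x, y, h, α, hx, hxs, hy, hh⟩ := hf
  obtain ⟨V', y', hy', hys'⟩ := h𝒴'.atlas
  let yg := BasedFunctor.comp y' g
  obtain ⟨T, W, p, q, n, n', σ, sq, -, hn', hσ, -, ⟨jσ⟩⟩ :=
    exists_chart_baseChange h𝒳 h𝒴 x y yg h α ⟨hx, hxs⟩ hy
  have := (id_full_faithful 𝒴).1
  have := (id_full_faithful 𝒴).2
  let θ : FibCat.fp f yg ⥤ᵇ FibCat.fp g f :=
    FibCat.fpLift (BasedFunctor.comp (FibCat.fpSnd f yg) y') (FibCat.fpFst f yg)
      (FibCat.fpIso f yg).symm
  let a := BasedFunctor.comp (Fib.fpBC y' g f) (Fib.fpSwap yg f)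
  have hθ : SmSurj θ := by
    refine (SmSurj.square (f := θ) (f' := FibCat.fpSnd y' (FibCat.fpFst g f)) a
      (BasedFunctor.id _) (Fib.isEquivOver_comp (Fib.isEquivOver_fpBC y' g f)
      (Fib.isEquivOver_fpSwap yg f)) (Fib.isEquivOver_id _) ?_).2
      (SmSurj.fpSnd _ ⟨hy', hys'⟩)
    exact Fib.isoMk
      (fun o => Fib.fpIsoMk o.obj.iso.symm (Iso.refl _) (by
        change g.map o.obj.iso.inv ≫ g.map o.obj.iso.hom ≫ o.obj.snd.obj.iso.hom =
          o.obj.snd.obj.iso.hom ≫ f.map (𝟙 _)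
        rw [← Functor.map_comp_assoc, Iso.inv_hom_id]
        simp))
      (fun {a b} φ => Fib.fp_hom_ext (by
        change φ.hom.snd.hom.fst ≫ b.obj.iso.inv = a.obj.iso.inv ≫ y'.map φ.hom.fst
        rw [← cancel_mono b.obj.iso.hom, Category.assoc, Category.assoc, Iso.inv_hom_id,
          Category.comp_id]
        erw [φ.hom.w]
        rw [Iso.inv_hom_id_assoc]
        rfl) ((Category.comp_id _).trans (Category.id_comp _).symm))
      (fun o => Fib.fp_iso_isHomLift_id _ (by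
        exact @IsHomLift.lift_id_inv _ _ _ _ 𝒴'.p _ _ _ o.obj.iso o.property))
  have hfp := Fib.isFibGrpd_fp f yg h𝒳.isStack.1 (Fib.isFibGrpd_overCat V') h𝒴.isStack.1
  have hx' := SmSurj.comp (Fib.isFibGrpd_overCat T) hfp hσ hθ
  refine ⟨T, W, BasedFunctor.comp σ θ, BasedFunctor.comp (AlgSt.overMap n') y', q,
    Fib.isoWhiskerRight jσ y' ≪≫ Fib.isoWhiskerRight (overMapComp q n').symm y', hx'.1, hx'.2,
    repByAlgSpWith_comp' (Fib.isFibGrpd_overCat W) (Fib.isFibGrpd_overCat V') respectsSrcIso_locP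
      hc_locP (repByAlgSpWith_overMap (P := @Smooth) n' hn') hy', ?_⟩
  exact hPb (IsAlgSpace.yon_obj U) (IsAlgSpace.yon_obj V) (IsAlgSpace.yon_obj T)
    (IsAlgSpace.yon_obj W) _ _ _ _ (sq.map (yon S)) hh

/-- A slice is the category of its representable presheaf. -/
def overCatIso (U : Over S) :
    BasedFunctor.comp (AlgSt.ofOverCat U) (AlgSt.toOverCat U) ≅ BasedFunctor.id (FibCat.overCat U) :=
  Fib.isoMk (fun g => Over.isoMk (Iso.refl g.left) (Category.id_comp _))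
    (fun φ => Over.OverMorphism.ext ((Category.comp_id _).trans (Category.id_comp _).symm))
    (fun g => IsHomLift.id rfl)

/-- A smooth chart of a space comes from a smooth map of sheaves. -/
theorem exists_chart_map {F : Sp S} (hF : IsAlgSpace F) {U : Over S}
    (x : FibCat.overCat U ⥤ᵇ AlgSt.ofSp F) (hx : AlgSt.RepByAlgSpWith (LocP @Smooth) x) :
    ∃ c : (yon S).obj U ⟶ F, LocP @Smooth c ∧
      Nonempty (BasedFunctor.comp (AlgSt.toOverCat U) x ≅ AlgSt.ofSpMap c) := by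
  obtain ⟨c, ⟨i⟩⟩ := exists_ofSpMap (BasedFunctor.comp (AlgSt.toOverCat U) x)
  refine ⟨c, locP_of_repByAlgSpWith_ofSpMap (IsAlgSpace.yon_obj U) hF c
    ((repByAlgSpWith_iff_of_square x (AlgSt.ofSpMap c) (AlgSt.toOverCat U) (BasedFunctor.id _)
      (isEquivOver_toOverCat U) (Fib.isEquivOver_id _) i.symm).1 hx), ⟨i⟩⟩

theorem locQ_ofSpMap_iff {P : MorphismProperty (Sp S)} (hP : IsSmoothLocalST P) {F G : Sp S}
    (hF : IsAlgSpace F) (hG : IsAlgSpace G) (a : F ⟶ G) :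
    AlgSt.LocQ P (AlgSt.ofSpMap a) ↔ P a := by
  constructor
  · rintro ⟨U, V, x, y, h, α, hx, hxs, hy, hh⟩
    obtain ⟨c, hc, ⟨ic⟩⟩ := exists_chart_map hF x hx
    obtain ⟨d, hd, ⟨id'⟩⟩ := exists_chart_map hG y hy
    have w : c ≫ a = (yon S).map h ≫ d := by
      have i : AlgSt.ofSpMap (c ≫ a) ≅ AlgSt.ofSpMap ((yon S).map h ≫ d) :=
        eqToIso (ofPshMap_comp c.hom a.hom).symm ≪≫ Fib.isoWhiskerRight ic.symm (AlgSt.ofSpMap a) ≪≫
          Fib.isoWhiskerLeft (AlgSt.toOverCat U) α ≪≫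
          Fib.isoWhiskerRight (overMapSquare h).symm y ≪≫
          Fib.isoWhiskerLeft (AlgSt.ofSpMap ((yon S).map h)) id' ≪≫
          eqToIso (ofPshMap_comp ((yon S).map h).hom d.hom)
      exact Sheaf.hom_ext (eq_of_iso_ofPshMap i)
    refine (hP.locality hF hG a).2 fun z => ?_
    obtain ⟨w', hw'⟩ := isSurjective_of_repWith (Fib.isFibGrpd_overCat U) (isFibGrpd_ofSp hF) x hxs
      (spMk F z)
    refine ⟨(yon S).obj U, (yon S).obj V, c, d, (yon S).map h,
      _root_.AlgSp.Points.ofScheme U (schPt U w'), IsAlgSpace.yon_obj U, IsAlgSpace.yon_obj V,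
      hc, hd, w, ?_, hh⟩
    have e : Points.map (AlgSt.toOverCat U) (spMk _ (_root_.AlgSp.Points.ofScheme U (schPt U w'))) =
        w' := by
      rw [← schMk_schPt U (Points.map _ _), schPt_toOverCat, spPt_spMk,
        _root_.AlgSp.Points.toScheme_ofScheme, schMk_schPt]
    rw [← e, ← map_comp_apply, map_congr ic] at hw'
    rw [← spPt_spMk (F := F) z, ← hw', spPt_map, spPt_spMk]
  · intro ha
    obtain ⟨V, d, hd, hds⟩ := hG.atlas
    let Z := pullback a d
    have sqZ := IsPullback.of_hasPullback a d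
    have hZ : IsAlgSpace Z := AlgSpc.isAlgSpace_of_isPullback hF hG (IsAlgSpace.yon_obj V) sqZ
    obtain ⟨U, c, hc, hcs⟩ := hZ.atlas
    let h : U ⟶ V := AlgSpc.pre (c ≫ pullback.snd a d)
    have hh : (yon S).map h = c ≫ pullback.snd a d := AlgSpc.map_pre _
    have hsm : LocP @Smooth d := AlgSpc.locP_of_repWith
      (fun e f he hf => AlgSpc.EtLoc.precomp (P := @Smooth) e f he hf)
      (AlgSpc.repWith_mono (fun _ _ f (hf : Etale f) => inferInstanceAs (Smooth f)) hd)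
    have hPh : P ((yon S).map h) := by
      rw [hh]
      exact hP.precomp (IsAlgSpace.yon_obj U) hZ (IsAlgSpace.yon_obj V) _ _
        (AlgSpc.locP_of_repWith (fun e f he hf => AlgSpc.EtLoc.precomp (P := @Smooth) e f he hf)
          (AlgSpc.repWith_mono (fun _ _ f (hf : Etale f) => inferInstanceAs (Smooth f)) hc))
        (hP.baseChange hF hG hZ (IsAlgSpace.yon_obj V) _ _ _ _ sqZ hsm ha)
    have he := AlgSpc.repWith_of_isPullback sqZ.flip hd
    have hs := AlgSpc.repWith_of_isPullback sqZ.flip hds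
    obtain ⟨h₁, h₂⟩ := repByAlgSpWith_atlas hF (c ≫ pullback.fst a d)
      (AlgSpc.repWith_comp hc he) (AlgSpc.repWith_comp hcs hs)
    obtain ⟨h₃, -⟩ := repByAlgSpWith_atlas hG d hd hds
    have w : (c ≫ pullback.fst a d) ≫ a = (yon S).map h ≫ d := by
      rw [hh, Category.assoc, Category.assoc, pullback.condition]
    refine ⟨U, V, _, _, h, ?_, h₁, h₂, h₃, hPh⟩
    exact Fib.isoWhiskerLeft (AlgSt.ofOverCat U)
        (eqToIso (ofPshMap_comp (c ≫ pullback.fst a d).hom a.hom) ≪≫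
          eqToIso (congrArg AlgSt.ofSpMap w) ≪≫
          eqToIso (ofPshMap_comp ((yon S).map h).hom d.hom).symm) ≪≫
      Fib.isoWhiskerLeft (BasedFunctor.comp (AlgSt.ofOverCat U) (AlgSt.ofSpMap ((yon S).map h)))
        (Fib.isoWhiskerRight (eqToIso (rfl : BasedFunctor.id (AlgSt.ofSch V) =
          BasedFunctor.comp (AlgSt.toOverCat V) (AlgSt.ofOverCat V))) (AlgSt.ofSpMap d)) ≪≫
      Fib.isoWhiskerRight (overMapIso h) (BasedFunctor.comp (AlgSt.ofOverCat V) (AlgSt.ofSpMap d))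

end

end Groth.Agent.AlgStB
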