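import Groth.Agent.AlgStB.DiagCover
import Groth.Agent.AlgStB.FpAlgebraic
import Groth.Agent.AlgStB.LocQMore
import Groth.Agent.AlgSpc.SepLQF
import Groth.Agent.AlgSpc.Compact
import Groth.Agent.AlgSpc.FppfGlue
import Groth.Agent.AlgSpc.FppfRep
import Groth.Agent.AlgSpLoc.Inst3
import Groth.Prelude.Def_AlgSt4

/-!
# Separated quasi-compact diagonals of Deligne–Mumford stacks are quasi-affine
-/

set_option autoImplicit false
set_option backward.isDefEq.respectTransparency false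
set_option backward.isDefEq.respectTransparency.types false

universe u

open CategoryTheory CategoryTheory.Limits AlgebraicGeometry Opposite

namespace Groth.Agent.AlgStB

open _root_.AlgSp Groth.Agent.AlgSpc

variable {S : Scheme.{u}}

/-- A cover with property `R` gives the diagonal `P`, with only the diagonal assumed representable. -/
theorem repByAlgSpWith_diag_toSelf_of_cover' {P R : MorphismProperty Scheme.{u}} [AlgSpc.EtLoc P]
    [AlgSpc.EtLoc R] [P.IsStableUnderBaseChange] [R.IsStableUnderBaseChange]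
    [R.IsStableUnderComposition]
    (hRP : ∀ {X Y Z : Scheme.{u}} (f : X ⟶ Y) (g : Y ⟶ Z), R (f ≫ g) → P f)
    (hl : IsLocalOnBase (IsFppfCover (S := S)) (LocP P))
    {𝒳 : AlgSt.Cat S} (hg' : FibCat.IsFibGrpd 𝒳.p)
    (hΔ : AlgSt.RepByAlgSp1 (FibCat.diag (FibCat.toSelf 𝒳))) (T : Over S)
    (x : FibCat.overCat T ⥤ᵇ 𝒳) (hx₁ : AlgSt.RepByAlgSpWith (LocP @Flat) x)
    (hx₂ : AlgSt.RepByAlgSpWith (LocP @LocallyOfFinitePresentation) x)
    (hx₃ : AlgSt.RepByAlgSpWith IsSurjectiveMor x) (hR : AlgSt.RepByAlgSpWith (LocP R) x) :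
    AlgSt.RepByAlgSpWith (LocP P) (FibCat.diag (FibCat.toSelf 𝒳)) := by
  let sT := FibCat.toSelf (FibCat.overCat T)
  let sX := FibCat.toSelf 𝒳
  let q : FibCat.fp sT sT ⥤ᵇ FibCat.fp sX sX :=
    FibCat.fpLift (BasedFunctor.comp (FibCat.fpFst sT sT) x)
      (BasedFunctor.comp (FibCat.fpSnd sT sT) x) (Fib.toSelfIso _ _)
  have hg := Fib.isFibGrpd_overCat T
  have hTT : AlgSt.RepByAlgSp (FibCat.fp sT sT) :=
    repByAlgSp_fp hg Fib.isFibGrpd_selfOver
      (repByAlgSp1_of_repByAlgSp (repByAlgSp_overCat T) repByAlgSp_selfOver sT) sT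
      (repByAlgSp_overCat T)
  refine repByAlgSpWith_of_fppf respectsSrcIso_locP hl _ hΔ q
    (repByAlgSpWith_prodMap respectsSrcIso_locP hc_locP hg hg' hx₁ hx₁ (Fib.toSelfIso _ _))
    (repByAlgSpWith_prodMap respectsSrcIso_locP hc_locP hg hg' hx₂ hx₂ (Fib.toSelfIso _ _))
    (repByAlgSpWith_prodMap respectsSrcIso_isSurjectiveMor hc_surjective hg hg' hx₃ hx₃
      (Fib.toSelfIso _ _)) ?_
  obtain ⟨e, he⟩ := exists_twoCart_toProd x x
  refine (repByAlgSpWith_iff_of_square (FibCat.fpFst q (FibCat.diag sX))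
    (FibCat.fpLift (FibCat.fpFst x x) (FibCat.fpSnd x x) (Fib.toSelfIso _ _))
    (FibCat.fpLift _ _ e) (BasedFunctor.id _) he (Fib.isEquivOver_id _) (Iso.refl _)).2 ?_
  exact repByAlgSpWith_locP_of_comp (Q := R) hRP
    (repByAlgSp_fp hg hg' (repByAlgSp1_of_with hR) x (repByAlgSp_overCat T))
    hTT _ (FibCat.fpFst sT sT) (repByAlgSpWith_fpFst x x hR)

/-- The diagonal of a stack with an etale atlas is unramified. -/
theorem unramified_diag_of_etale_atlas {K : Precoverage Scheme.{u}} {𝒳 : AlgSt.Cat S}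
    (h : AlgSt.IsDM K 𝒳) :
    AlgSt.RepByAlgSpWith (LocP (@LocallyOfFiniteType ⊓ @FormallyUnramified))
      (FibCat.diag (FibCat.toSelf 𝒳)) := by
  obtain ⟨T, x, hx, hxs⟩ := hasAtlas_etale_iff.1 h.2
  refine repByAlgSpWith_diag_toSelf_of_cover' (R := @LocallyOfFiniteType ⊓ @FormallyUnramified)
    (fun f g h => by
      have := h.1; have := h.2
      exact ⟨locallyOfFiniteType_of_comp f g, FormallyUnramified.of_comp f g⟩)
    (isLocalOnBase_fppf_of_fpqc AlgSpLoc.isLocalOnBase_unramified) h.1.isStack.1 h.1.diag T x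
    (repByAlgSpWith_mono (fun _ _ _ h => locP_mono (P := @Etale) (Q := @Flat) (fun _ _ g (hg : Etale g) => inferInstance) h) hx)
    (repByAlgSpWith_mono (fun _ _ _ h => locP_mono (P := @Etale) (Q := @LocallyOfFinitePresentation) (fun _ _ g (hg : Etale g) => inferInstance) h) hx)
    hxs
    (repByAlgSpWith_mono (fun _ _ _ h => locP_mono
      (fun _ _ g (hg : Etale g) => ⟨inferInstance, inferInstance⟩) h) hx)

/-- Separated, quasi-compact, locally quasi-finite morphisms of algebraic spaces are quasi-affine. -/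
theorem isQuasiAffineMor_of_lqf_separated_qc {X Y : Sp S} (hX : IsAlgSpace X) (hY : IsAlgSpace Y)
    {f : X ⟶ Y} (hqf : LocP (@LocallyQuasiFinite ⊓ @LocallyOfFiniteType) f)
    (hsep : AlgSp.IsSeparatedMor f) (hqc : AlgSp.IsQuasiCompactMor f) : IsQuasiAffineMor f := by
  intro Z hZ g
  obtain ⟨W, i, fst, sq⟩ := SepLQF.representable_of_lqf_separated hX hY f hqf hsep g
  obtain ⟨h₁, h₂⟩ := _root_.AlgSp.locP_yon_map (locP_base_change hX hY (IsAlgSpace.yon_obj Z) sq hqf)
  haveI := h₁; haveI := h₂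
  haveI : IsSeparated i.left := (isSeparatedMor_yon_map_iff i).1 (repWith_diagonal_base_change sq hsep)
  haveI := hZ
  have hW := hqc (IsAlgSpace.yon_obj Z) isQuasiCompactSp_yon g fst ((yon S).map i) sq
  haveI : CompactSpace ↥W.left := by
    haveI := compactSpace_points hW
    exact (Points.schemeHomeo W).symm.compactSpace
  exact ⟨W, i, fst, sq, FppfDescent.isQuasiAffine_of_locallyQuasiFinite i.left⟩

/-- Deligne–Mumford stacks with separated quasi-compact diagonal have quasi-affine diagonal. -/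
theorem isQuasiAffineMor_diag_of_isDM {K : Precoverage Scheme.{u}} {𝒳 : AlgSt.Cat S}
    (h : AlgSt.IsDM K 𝒳)
    (hsep : AlgSt.RepByAlgSpWith AlgSp.IsSeparatedMor (FibCat.diag (FibCat.toSelf 𝒳)))
    (hqc : AlgSt.RepByAlgSpWith AlgSp.IsQuasiCompactMor (FibCat.diag (FibCat.toSelf 𝒳))) :
    AlgSt.RepByAlgSpWith AlgSp.IsQuasiAffineMor (FibCat.diag (FibCat.toSelf 𝒳)) := by
  haveI : (AlgSp.IsSeparatedMor (S := S)).RespectsIso :=
    inferInstanceAs ((RepWith (S := S) @IsClosedImmersion).diagonal).RespectsIso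
  intro U y
  obtain ⟨F, e, he, hu, hs, hc⟩ := repByAlgSpWith_inf_self (unramified_diag_of_etale_atlas h) hsep hqc U y
  refine ⟨F, e, he, isQuasiAffineMor_of_lqf_separated_qc F.property (IsAlgSpace.yon_obj U)
    (locP_mono (fun _ _ g hg => ?_) hu) hs hc⟩
  obtain ⟨h₁, h₂⟩ := hg
  exact ⟨locallyQuasiFinite_of_formallyUnramified g, h₁⟩

end Groth.Agent.AlgStB
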