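import Groth.Agent.AlgStB.DiagLft
import Groth.Agent.AlgStB.DiagSep
import Groth.Agent.AlgSpLoc.Inst2
import Groth.Agent.AlgSpLoc.Diag
import Groth.Agent.AlgSpc.Compact
import Groth.Agent.S10505
import Groth.Agent.S10519
import Groth.Agent.S10520

/-!
# Separation conditions of composites; quasi-separated morphisms
-/

set_option autoImplicit false
set_option backward.isDefEq.respectTransparency false
set_option backward.isDefEq.respectTransparency.types false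

universe v₄ u₄ v₃ u₃ v₂ u₂ u

open CategoryTheory CategoryTheory.Limits AlgebraicGeometry Opposite

namespace Groth.Agent.AlgStB

open _root_.AlgSp

variable {S : Scheme.{u}}

theorem isLocalOnBase_fppf_of_fpqc {P : MorphismProperty (Sp S)}
    (h : IsLocalOnBase (IsFpqcCover (S := S)) P) : IsLocalOnBase (IsFppfCover (S := S)) P :=
  fun _ Y Yi g hY hYi hcov => h Yi g hY hYi
    (Groth.Agent.S10505.result (X := ⟨Y, hY⟩) (fun i => ⟨Yi i, hYi i⟩)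
      (fun i => ObjectProperty.homMk (g i)) hcov)

/-- Locality gives the composition hypothesis of `repByAlgSpWith_comp'`. -/
theorem hc_of_fpqcLocal {P : MorphismProperty (Sp S)}
    (hl : IsLocalOnBase (IsFpqcCover (S := S)) P)
    (hc : ∀ ⦃X Y Z : Sp S⦄, IsAlgSpace X → IsAlgSpace Y → IsAlgSpace Z →
      ∀ (a : X ⟶ Y) (b : Y ⟶ Z), P a → P b → P (a ≫ b)) :
    ∀ ⦃X Y Z : Sp S⦄, IsAlgSpace X → IsAlgSpace Y → IsAlgSpace Z →
      ∀ (a : X ⟶ Y) (b : Y ⟶ Z), (∀ (T : Over S) (p : (yon S).obj T ⟶ Y), P (pullback.snd a p)) →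
        P b → P (a ≫ b) := by
  intro X Y Z hX hY hZ a b ha hb
  obtain ⟨T, p, hp, hps⟩ := hY.atlas
  exact hc hX hY hZ a b ((isLocalOnBase_fppf_of_fpqc hl (ι := PUnit.{u + 1})
    (fun _ => (yon S).obj T) (fun _ => p) hY (fun _ => IsAlgSpace.yon_obj T)
    (isFppfCover_atlas hp hps) a hX (fun _ => pullback a p) (fun _ => pullback.snd a p)
    (fun _ => pullback.fst a p) (fun _ => AlgSpc.isAlgSpace_of_isPullback hX hY
      (IsAlgSpace.yon_obj T) (IsPullback.of_hasPullback a p))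
    (fun _ => IsPullback.of_hasPullback a p)).2 fun _ => ha T p) hb

theorem hc_proper : ∀ ⦃X Y Z : Sp S⦄, IsAlgSpace X → IsAlgSpace Y → IsAlgSpace Z →
      ∀ (a : X ⟶ Y) (b : Y ⟶ Z),
        (∀ (T : Over S) (p : (yon S).obj T ⟶ Y), IsProperMor (pullback.snd a p)) →
        IsProperMor b → IsProperMor (a ≫ b) :=
  hc_of_fpqcLocal AlgSpLoc.isLocalOnBase_proper
    fun _ _ _ hX hY hZ _ _ => AlgSpc.isProperMor_comp hX hY hZ

theorem hc_qcqs : ∀ ⦃X Y Z : Sp S⦄, IsAlgSpace X → IsAlgSpace Y → IsAlgSpace Z →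
      ∀ (a : X ⟶ Y) (b : Y ⟶ Z),
        (∀ (T : Over S) (p : (yon S).obj T ⟶ Y),
          (IsQuasiCompactMor ⊓ IsQuasiSeparatedMor : MorphismProperty (Sp S)) (pullback.snd a p)) →
        (IsQuasiCompactMor ⊓ IsQuasiSeparatedMor : MorphismProperty (Sp S)) b →
        (IsQuasiCompactMor ⊓ IsQuasiSeparatedMor : MorphismProperty (Sp S)) (a ≫ b) :=
  hc_of_fpqcLocal (AlgSpLoc.isLocalOnBase_inf (Groth.Agent.S10519.result (S := S))
      (Groth.Agent.S10520.result (S := S)))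
    fun _ _ _ _ hY hZ _ _ h h' =>
      ⟨AlgSpc.isQuasiCompactMor_comp hY hZ h.1 h'.1, AlgSpc.repWith_diagonal_comp h.2 h'.2⟩

theorem respectsSrcIso_proper : RespectsSrcIso (IsProperMor (S := S)) :=
  StableBC.respectsSrcIso fun _ _ _ _ hX hY hX' hY' _ _ _ _ sq h =>
    AlgSpc.isProperMor_base_change hX hY hY' sq h

theorem respectsSrcIso_qcqs :
    RespectsSrcIso (IsQuasiCompactMor ⊓ IsQuasiSeparatedMor : MorphismProperty (Sp S)) :=
  StableBC.respectsSrcIso fun _ _ _ _ _ _ _ _ _ _ _ _ sq h =>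
    ⟨AlgSpc.isQuasiCompactMor_base_change sq h.1, AlgSpc.repWith_diagonal_base_change sq h.2⟩

variable {𝒳 𝒴 𝒵 : AlgSt.Cat S}

/-- The diagonal of a composite factors through the diagonal of the first factor. -/
theorem exists_diag_comp_factor (f : 𝒳 ⥤ᵇ 𝒴) (g : 𝒴 ⥤ᵇ 𝒵) :
    ∃ (ι : FibCat.fp f f ⥤ᵇ FibCat.fp (BasedFunctor.comp f g) (BasedFunctor.comp f g)),
      Nonempty (BasedFunctor.comp (FibCat.diag f) ι ≅ FibCat.diag (BasedFunctor.comp f g)) ∧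
      ∀ {P : MorphismProperty (Sp S)}, AlgSt.RepByAlgSpWith P (FibCat.diag g) →
        AlgSt.RepByAlgSpWith P ι := by
  let e : BasedFunctor.comp (FibCat.fpFst f f) (BasedFunctor.comp f g) ≅
      BasedFunctor.comp (FibCat.fpSnd f f) (BasedFunctor.comp f g) :=
    Fib.isoWhiskerRight (FibCat.fpIso f f) g
  refine ⟨FibCat.fpLift (FibCat.fpFst f f) (FibCat.fpSnd f f) e, ⟨?_⟩,
    fun h => repByAlgSpWith_fpComparison f f g e (fun _ => rfl) h⟩
  exact Fib.isoMk (fun x => Fib.fpIsoMk (Iso.refl x) (Iso.refl x) (by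
      change g.map (f.map (𝟙 _)) ≫ 𝟙 _ = g.map (𝟙 _) ≫ g.map (f.map (𝟙 _))
      simp))
    (fun φ => Fib.fp_hom_ext ((Category.comp_id _).trans (Category.id_comp _).symm)
      ((Category.comp_id _).trans (Category.id_comp _).symm))
    (fun x => Fib.fp_iso_isHomLift_id _ (IsHomLift.id rfl))

variable (h𝒳 : FibCat.IsFibGrpd 𝒳.p) (h𝒴 : FibCat.IsFibGrpd 𝒴.p)

include h𝒳 h𝒴 in
theorem repByAlgSpWith_diag_comp {P : MorphismProperty (Sp S)} (hi : RespectsSrcIso P)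
    (hc : ∀ ⦃X Y Z : Sp S⦄, IsAlgSpace X → IsAlgSpace Y → IsAlgSpace Z →
      ∀ (a : X ⟶ Y) (b : Y ⟶ Z), (∀ (T : Over S) (p : (yon S).obj T ⟶ Y), P (pullback.snd a p)) →
        P b → P (a ≫ b))
    {f : 𝒳 ⥤ᵇ 𝒴} {g : 𝒴 ⥤ᵇ 𝒵} (hf : AlgSt.RepByAlgSpWith P (FibCat.diag f))
    (hg : AlgSt.RepByAlgSpWith P (FibCat.diag g)) :
    AlgSt.RepByAlgSpWith P (FibCat.diag (BasedFunctor.comp f g)) := by
  obtain ⟨ι, ⟨i⟩, hι⟩ := exists_diag_comp_factor f g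
  exact repByAlgSpWith_of_iso i
    (repByAlgSpWith_comp' h𝒳 (Fib.isFibGrpd_fp f f h𝒳 h𝒳 h𝒴) hi hc hf (hι hg))

variable (h𝒵 : FibCat.IsFibGrpd 𝒵.p)

include h𝒳 h𝒴 h𝒵 in
theorem repByAlgSpWith_cancel {P : MorphismProperty (Sp S)} (hi : RespectsSrcIso P)
    (hc : ∀ ⦃X Y Z : Sp S⦄, IsAlgSpace X → IsAlgSpace Y → IsAlgSpace Z →
      ∀ (a : X ⟶ Y) (b : Y ⟶ Z), (∀ (T : Over S) (p : (yon S).obj T ⟶ Y), P (pullback.snd a p)) →
        P b → P (a ≫ b))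
    {f : 𝒳 ⥤ᵇ 𝒴} {g : 𝒴 ⥤ᵇ 𝒵} (hg : AlgSt.RepByAlgSpWith P (FibCat.diag g))
    (h : AlgSt.RepByAlgSpWith P (BasedFunctor.comp f g)) : AlgSt.RepByAlgSpWith P f := by
  obtain ⟨m, e, he⟩ := Fib.exists_twoCart_graph f g
  exact repByAlgSpWith_comp' (f := Fib.graph f g) (g := FibCat.fpFst g (BasedFunctor.comp f g))
    h𝒳 (Fib.isFibGrpd_fp _ _ h𝒴 h𝒳 h𝒵) hi hc
    (repByAlgSpWith_of_twoCart _ m _ f e he hg) (repByAlgSpWith_fpFst _ g h)

include h𝒳 h𝒴 h𝒵 in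
theorem repByAlgSpWith_locP_diag_of_comp {P : MorphismProperty Scheme.{u}} [AlgSpc.EtLoc P]
    [P.IsStableUnderBaseChange] [P.IsStableUnderComposition]
    (hP : ∀ ⦃X Y : Scheme.{u}⦄ (f : X ⟶ Y), LocallyOfFiniteType f → Mono f → P f)
    {f : 𝒳 ⥤ᵇ 𝒴} {g : 𝒴 ⥤ᵇ 𝒵} (hg : AlgSt.RepByAlgSp1 (FibCat.diag g))
    (h : AlgSt.RepByAlgSpWith (LocP P) (FibCat.diag (BasedFunctor.comp f g))) :
    AlgSt.RepByAlgSpWith (LocP P) (FibCat.diag f) := by
  obtain ⟨ι, ⟨i⟩, hι⟩ := exists_diag_comp_factor f g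
  exact repByAlgSpWith_locP_cancel hP h𝒳 (Fib.isFibGrpd_fp f f h𝒳 h𝒳 h𝒴)
    (Fib.isFibGrpd_fp _ _ h𝒳 h𝒳 h𝒵)
    (repByAlgSp1_of_with (hι (repByAlgSpWith_top_iff.2 hg))) (repByAlgSpWith_of_iso i.symm h)

theorem qcqs_of_mono_qc {X Y : Sp S} (a : X ⟶ Y) [Mono a] (h : IsQuasiCompactMor a) :
    (IsQuasiCompactMor ⊓ IsQuasiSeparatedMor : MorphismProperty (Sp S)) a :=
  ⟨h, AlgSpc.repWith_iso (pullback.diagonal a)⟩

instance respectsIso_isQuasiCompactMor : (IsQuasiCompactMor (S := S)).RespectsIso := by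
  refine MorphismProperty.RespectsIso.mk _ (fun e f hf => ?_) (fun e f hf => ?_)
  · exact AlgSpc.isQuasiCompactMor_base_change (g := 𝟙 _)
      (IsPullback.of_horiz_isIso (fst := e.hom) ⟨(Category.comp_id _).symm⟩) hf
  · exact AlgSpc.isQuasiCompactMor_base_change (g := e.inv)
      (IsPullback.of_horiz_isIso (fst := 𝟙 _) ⟨by simp⟩) hf

section Quasiseparated

variable {𝒜 : BasedCategory.{v₂, u₂} (Over S)} {ℬ : BasedCategory.{v₃, u₃} (Over S)}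

theorem qc_diag_of_quasiSeparated (f : 𝒜 ⥤ᵇ ℬ)
    (hf : AlgSt.RepByAlgSpWith IsQuasiSeparatedMor f) :
    AlgSt.RepByAlgSpWith IsQuasiCompactMor (FibCat.diag f) :=
  repByAlgSpWith_mono (fun _ _ _ h => AlgSpc.isQuasiCompactMor_of_repWith h)
    (repByAlgSpWith_diag_of_repByAlgSpWith (Q := RepWith @QuasiCompact) f hf
      fun _ _ _ _ ha _ _ _ _ _ _ i sq => AlgSpc.repWith_of_isPullback (fst := i.hom) (g := 𝟙 _)
        (IsPullback.of_horiz_isIso ⟨(Category.comp_id _).symm⟩)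
        (AlgSpc.repWith_of_isPullback sq ha))

theorem quasiSeparated_of_qc_diag (f : 𝒜 ⥤ᵇ ℬ) (hf : AlgSt.RepByAlgSp1 f)
    (h : AlgSt.RepByAlgSpWith IsQuasiCompactMor (FibCat.diag f)) :
    AlgSt.RepByAlgSpWith IsQuasiSeparatedMor f := by
  intro U z
  obtain ⟨V, e, he⟩ := hf U z
  refine ⟨V, e, he, ?_⟩
  let φ := AlgSt.spMapOfOver (BasedFunctor.comp e (FibCat.fpFst z f))
  have h₁ := (repByAlgSpWith_diag_iff_of_square (FibCat.fpFst z f) (AlgSt.ofSpMap φ) e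
    (AlgSt.toOverCat U) he (isEquivOver_toOverCat U)
    (isoOfOver (BasedFunctor.comp e (FibCat.fpFst z f))).symm).1
      (repByAlgSpWith_diag_fpFst f z h)
  have h₂ := repBySpWith_diagonal_of_diag φ h₁
  refine ⟨AlgSpLoc.representable_diagonal_mor V.property φ, fun T W ξ fst snd sq => ?_⟩
  obtain ⟨_, _, hq⟩ := h₂ ξ.hom fst.hom ((yon S).map snd).hom (sq.map (sheafToPresheaf (J S) _))
  have hr : RepWith @QuasiCompact ((yon S).map snd) :=
    (AlgSpc.repWith_quasiCompact_iff ((repWith_yon_map_iff (⊤ : MorphismProperty Scheme.{u}) snd).2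
      trivial).1).2 hq
  exact (repWith_yon_map_iff _ _).1 hr

/-- Combining two properties of one 1-morphism. -/
theorem repByAlgSpWith_inf {P Q : MorphismProperty (Sp S)} [Q.RespectsIso] {f : 𝒜 ⥤ᵇ ℬ}
    (hP : AlgSt.RepByAlgSpWith P f) (hQ : AlgSt.RepByAlgSpWith Q f) :
    AlgSt.RepByAlgSpWith (P ⊓ Q) f := fun U y =>
  let ⟨F, e, he, hm⟩ := hP U y
  let ⟨_, e', he', hm'⟩ := hQ U y
  ⟨F, e, he, hm, (prop_spMap_iff_of_reps Q (FibCat.fpFst y f) e' e he' he).1 hm'⟩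

theorem isQuasiSeparatedMor_iff (f : 𝒜 ⥤ᵇ ℬ) (hf : AlgSt.RepByAlgSp1 f) :
    AlgSt.IsQuasiSeparatedMor f ↔ AlgSt.RepByAlgSpWith IsQuasiSeparatedMor f := by
  refine ⟨fun h => quasiSeparated_of_qc_diag f hf (repByAlgSpWith_mono inf_le_left h), fun h => ?_⟩
  have : (MorphismProperty.monomorphisms (Sp S)).RespectsIso := inferInstance
  refine repByAlgSpWith_mono (fun _ _ a ha => ?_)
    (repByAlgSpWith_inf (qc_diag_of_quasiSeparated f h) (isMono_diag f hf))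
  have : Mono a := ha.2
  exact qcqs_of_mono_qc a ha.1

theorem tfae_quasiSeparated (f : 𝒜 ⥤ᵇ ℬ) (hf : AlgSt.RepByAlgSp1 f) :
    [AlgSt.RepByAlgSpWith IsQuasiSeparatedMor f,
      AlgSt.RepByAlgSpWith IsQuasiCompactMor (FibCat.diag f),
      AlgSt.RepByAlgSpWith IsFiniteTypeMor (FibCat.diag f)].TFAE := by
  tfae_have 1 → 2 := qc_diag_of_quasiSeparated f
  tfae_have 2 → 3 := fun h => repByAlgSpWith_mono (fun _ _ _ h => h)
    (repByAlgSpWith_inf (repByAlgSpWith_diag_locP @LocallyOfFiniteType (fun _ _ _ h _ => h) f hf) h)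
  tfae_have 3 → 2 := repByAlgSpWith_mono fun _ _ _ h => h.2
  tfae_have 2 → 1 := quasiSeparated_of_qc_diag f hf
  tfae_finish

end Quasiseparated

end Groth.Agent.AlgStB
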