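import Groth.Agent.AlgStB.DiagLft
import Groth.Agent.AlgStB.DiagComp
import Groth.Agent.AlgStB.CoverDescent

/-!
# The diagonal of a stack with a covering by an algebraic space
-/

set_option autoImplicit false
set_option backward.isDefEq.respectTransparency false
set_option backward.isDefEq.respectTransparency.types false

universe u

open CategoryTheory CategoryTheory.Limits AlgebraicGeometry Opposite

namespace Groth.Agent.AlgStB

open _root_.AlgSp

variable {S : Scheme.{u}}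

/-- A covering by a scheme with property `R` whose cancellation is `P` gives the diagonal `P`. -/
theorem repByAlgSpWith_diag_toSelf_of_cover {P R : MorphismProperty Scheme.{u}} [AlgSpc.EtLoc P]
    [AlgSpc.EtLoc R] [P.IsStableUnderBaseChange] [R.IsStableUnderBaseChange]
    [R.IsStableUnderComposition]
    (hRP : ∀ {X Y Z : Scheme.{u}} (f : X ⟶ Y) (g : Y ⟶ Z), R (f ≫ g) → P f)
    (hl : IsLocalOnBase (IsFppfCover (S := S)) (LocP P))
    {𝒳 : AlgSt.Cat S} (h𝒳 : AlgSt.IsAlgStack Scheme.fppfPrecoverage 𝒳) (T : Over S)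
    (x : FibCat.overCat T ⥤ᵇ 𝒳) (hx₁ : AlgSt.RepByAlgSpWith (LocP @Flat) x)
    (hx₂ : AlgSt.RepByAlgSpWith (LocP @LocallyOfFinitePresentation) x)
    (hx₃ : AlgSt.RepByAlgSpWith IsSurjectiveMor x) (hR : AlgSt.RepByAlgSpWith (LocP R) x) :
    AlgSt.RepByAlgSpWith (LocP P) (FibCat.diag (FibCat.toSelf 𝒳)) := by
  obtain ⟨hst, hΔ, -⟩ := h𝒳
  let sT := FibCat.toSelf (FibCat.overCat T)
  let sX := FibCat.toSelf 𝒳
  let q : FibCat.fp sT sT ⥤ᵇ FibCat.fp sX sX :=
    FibCat.fpLift (BasedFunctor.comp (FibCat.fpFst sT sT) x)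
      (BasedFunctor.comp (FibCat.fpSnd sT sT) x) (Fib.toSelfIso _ _)
  have hg := Fib.isFibGrpd_overCat T
  have hTT : AlgSt.RepByAlgSp (FibCat.fp sT sT) :=
    repByAlgSp_fp hg Fib.isFibGrpd_selfOver
      (repByAlgSp1_of_repByAlgSp (repByAlgSp_overCat T) repByAlgSp_selfOver sT) sT
      (repByAlgSp_overCat T)
  refine repByAlgSpWith_of_fppf respectsSrcIso_locP hl _ hΔ q
    (repByAlgSpWith_prodMap respectsSrcIso_locP hc_locP hg hst.1 hx₁ hx₁ (Fib.toSelfIso _ _))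
    (repByAlgSpWith_prodMap respectsSrcIso_locP hc_locP hg hst.1 hx₂ hx₂ (Fib.toSelfIso _ _))
    (repByAlgSpWith_prodMap respectsSrcIso_isSurjectiveMor hc_surjective hg hst.1 hx₃ hx₃
      (Fib.toSelfIso _ _)) ?_
  obtain ⟨e, he⟩ := exists_twoCart_toProd x x
  refine (repByAlgSpWith_iff_of_square (FibCat.fpFst q (FibCat.diag sX))
    (FibCat.fpLift (FibCat.fpFst x x) (FibCat.fpSnd x x) (Fib.toSelfIso _ _))
    (FibCat.fpLift _ _ e) (BasedFunctor.id _) he (Fib.isEquivOver_id _) (Iso.refl _)).2 ?_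
  exact repByAlgSpWith_locP_of_comp (Q := R) hRP
    (repByAlgSp_fp hg hst.1 (repByAlgSp1_of_with hR) x (repByAlgSp_overCat T))
    hTT _ (FibCat.fpFst sT sT) (repByAlgSpWith_fpFst x x hR)

/-- The composite of an etale atlas with a 1-morphism from an algebraic space. -/
theorem exists_cover_of_space {W : Space S} {𝒳 : AlgSt.Cat S} (h𝒳 : FibCat.IsFibGrpd 𝒳.p)
    (w : AlgSt.ofSp W.obj ⥤ᵇ 𝒳) :
    ∃ (T : Over S) (x : FibCat.overCat T ⥤ᵇ 𝒳),
      (∀ {P : MorphismProperty Scheme.{u}} [AlgSpc.EtLoc P] [P.IsStableUnderBaseChange]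
        [P.IsStableUnderComposition],
        (∀ ⦃X Y : Scheme.{u}⦄ (e : X ⟶ Y), Etale e → P e) →
        AlgSt.RepByAlgSpWith (LocP P) w → AlgSt.RepByAlgSpWith (LocP P) x) ∧
      (AlgSt.RepByAlgSpWith IsSurjectiveMor w → AlgSt.RepByAlgSpWith IsSurjectiveMor x) := by
  obtain ⟨T, c, hc, hcs⟩ := W.property.atlas
  let a : FibCat.overCat T ⥤ᵇ AlgSt.ofSp W.obj :=
    BasedFunctor.comp (AlgSt.ofOverCat T) (AlgSt.ofSpMap c)
  have key : ∀ {Q : MorphismProperty (Sp S)},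
      AlgSt.RepByAlgSpWith Q (AlgSt.ofSpMap c) → AlgSt.RepByAlgSpWith Q a := fun h =>
    (repByAlgSpWith_iff_of_square a (AlgSt.ofSpMap c) (AlgSt.toOverCat T) (BasedFunctor.id _)
      (isEquivOver_toOverCat T) (Fib.isEquivOver_id _) (eqToIso rfl)).2 h
  have hW : FibCat.IsFibGrpd (AlgSt.ofSp W.obj).p :=
    isFibGrpd_of_repByAlgSp ⟨W, BasedFunctor.id _, Fib.isEquivOver_id _⟩
  refine ⟨T, BasedFunctor.comp a w, fun {P} _ _ _ hP hw => ?_, fun hw => ?_⟩
  · exact repByAlgSpWith_comp' (Fib.isFibGrpd_overCat T) hW respectsSrcIso_locP hc_locP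
      (key (repByAlgSpWith_ofSpMap_of_locP (IsAlgSpace.yon_obj T) W.property c
        (AlgSpc.locP_of_repWith (fun e f he hf => AlgSpc.EtLoc.precomp e f he hf)
          (AlgSpc.repWith_mono hP hc)))) hw
  · exact repByAlgSpWith_comp' (Fib.isFibGrpd_overCat T) hW respectsSrcIso_isSurjectiveMor
      hc_surjective
      (key (repByAlgSpWith_of_repBySpWith ((repBySpWith_hom_iff _ c).2 fun U _ _ _ _ sq =>
        ⟨AlgSpc.isAlgSpace_of_isPullback (IsAlgSpace.yon_obj T) W.property (IsAlgSpace.yon_obj U) sq,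
          AlgSpc.surjective_map_of_repWith (AlgSpc.repWith_of_isPullback sq hcs)⟩))) hw

/-- The diagonal of a stack covered by an algebraic space with property `R`. -/
theorem repByAlgSpWith_diag_toSelf_of_space {P R : MorphismProperty Scheme.{u}} [AlgSpc.EtLoc P]
    [AlgSpc.EtLoc R] [P.IsStableUnderBaseChange] [R.IsStableUnderBaseChange]
    [R.IsStableUnderComposition]
    (hRP : ∀ {X Y Z : Scheme.{u}} (f : X ⟶ Y) (g : Y ⟶ Z), R (f ≫ g) → P f)
    (hl : IsLocalOnBase (IsFppfCover (S := S)) (LocP P))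
    (hE : ∀ ⦃X Y : Scheme.{u}⦄ (e : X ⟶ Y), Etale e → R e)
    {𝒳 : AlgSt.Cat S} (h𝒳 : AlgSt.IsAlgStack Scheme.fppfPrecoverage 𝒳) (W : Space S)
    (w : AlgSt.ofSp W.obj ⥤ᵇ 𝒳) (hw₁ : AlgSt.RepByAlgSpWith (LocP @Flat) w)
    (hw₂ : AlgSt.RepByAlgSpWith (LocP @LocallyOfFinitePresentation) w)
    (hw₃ : AlgSt.RepByAlgSpWith IsSurjectiveMor w) (hR : AlgSt.RepByAlgSpWith (LocP R) w) :
    AlgSt.RepByAlgSpWith (LocP P) (FibCat.diag (FibCat.toSelf 𝒳)) := by
  obtain ⟨T, x, hx, hxs⟩ := exists_cover_of_space h𝒳.isStack.1 w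
  exact repByAlgSpWith_diag_toSelf_of_cover hRP hl h𝒳 T x
    (hx (fun _ _ e he => by infer_instance) hw₁) (hx (fun _ _ e he => by infer_instance) hw₂)
    (hxs hw₃) (hx hE hR)

end Groth.Agent.AlgStB
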