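import Groth.Agent.AlgStB.CoverDescent
import Groth.Agent.AlgStB.DiagComp

/-!
# Descent of separation conditions along fppf coverings of the target
-/

set_option autoImplicit false
set_option backward.isDefEq.respectTransparency false
set_option backward.isDefEq.respectTransparency.types false

universe v₄ u₄ v₃ u₃ v₂ u₂ u

open CategoryTheory CategoryTheory.Limits AlgebraicGeometry Opposite

namespace Groth.Agent.AlgStB

open _root_.AlgSp

variable {S : Scheme.{u}} {𝒳 : BasedCategory.{v₂, u₂} (Over S)}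
  {𝒴 : BasedCategory.{v₃, u₃} (Over S)} {𝒬 : BasedCategory.{v₄, u₄} (Over S)}

theorem repByAlgSpWith_diag_of_fppf {P : MorphismProperty (Sp S)} (hi : RespectsSrcIso P)
    (hl : IsLocalOnBase IsFppfCover P) (f : 𝒳 ⥤ᵇ 𝒴) (hf : AlgSt.RepByAlgSp1 (FibCat.diag f))
    (w : 𝒬 ⥤ᵇ 𝒴) (hw₁ : AlgSt.RepByAlgSpWith (LocP @Flat) w)
    (hw₂ : AlgSt.RepByAlgSpWith (LocP @LocallyOfFinitePresentation) w)
    (hw₃ : AlgSt.RepByAlgSpWith IsSurjectiveMor w)
    (h : AlgSt.RepByAlgSpWith P (FibCat.diag (FibCat.fpFst w f))) :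
    AlgSt.RepByAlgSpWith P (FibCat.diag f) := by
  obtain ⟨e, he⟩ := Fib.exists_twoCart_diag_fpFst f w
  have h' : AlgSt.RepByAlgSpWith P (FibCat.fpFst (Fib.diagBCMap f w) (FibCat.diag f)) :=
    (repByAlgSpWith_iff_of_square (FibCat.fpFst (Fib.diagBCMap f w) (FibCat.diag f))
      (FibCat.diag (FibCat.fpFst w f)) (FibCat.fpLift _ _ e) (BasedFunctor.id _) he
      (Fib.isEquivOver_id _) (Iso.refl _)).2 h
  refine repByAlgSpWith_of_local hi hl _ hf fun U y => ?_
  obtain ⟨V, k, t, hc, ⟨i⟩⟩ := exists_cover_lift w hw₁ hw₂ hw₃ U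
    (BasedFunctor.comp (BasedFunctor.comp y (FibCat.fpFst f f)) f)
  refine ⟨PUnit.{u + 1}, fun _ => V, fun _ => k, hc, fun _ => ?_⟩
  let y₂ := BasedFunctor.comp (AlgSt.overMap k) y
  let s₁ : FibCat.overCat V ⥤ᵇ FibCat.fp w f :=
    FibCat.fpLift t (BasedFunctor.comp y₂ (FibCat.fpFst f f)) i
  let s₂ : FibCat.overCat V ⥤ᵇ FibCat.fp w f :=
    FibCat.fpLift t (BasedFunctor.comp y₂ (FibCat.fpSnd f f))
      (i ≪≫ Fib.isoWhiskerLeft y₂ (FibCat.fpIso f f))
  let y' : FibCat.overCat V ⥤ᵇ FibCat.fp (FibCat.fpFst w f) (FibCat.fpFst w f) :=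
    FibCat.fpLift s₁ s₂ (Iso.refl t)
  refine exists_rep_of_lift h' y₂ y' (Fib.isoMk
    (fun v => Fib.fpIsoMk (Iso.refl (y₂.obj v).obj.fst) (Iso.refl (y₂.obj v).obj.snd) (by
      change f.map (𝟙 _) ≫ (y₂.obj v).obj.iso.hom =
        ((Fib.appIso i v).inv ≫ w.map (𝟙 _) ≫ (Fib.appIso i v).hom ≫ (y₂.obj v).obj.iso.hom) ≫
          f.map (𝟙 _)
      rw [CategoryTheory.Functor.map_id, CategoryTheory.Functor.map_id, CategoryTheory.Functor.map_id]
      refine (Category.id_comp _).trans (Eq.trans ?_ (Category.comp_id _).symm)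
      exact ((congrArg _ (Category.id_comp _)).trans (Iso.inv_hom_id_assoc _ _)).symm))
    (fun φ => Fib.fp_hom_ext ((Category.comp_id _).trans (Category.id_comp _).symm)
      ((Category.comp_id _).trans (Category.id_comp _).symm))
    (fun v => Fib.fp_iso_isHomLift_id _ (IsHomLift.id (y₂.w_obj v))))

end Groth.Agent.AlgStB
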