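import Groth.Agent.AlgStB.LiftSet
import Groth.Agent.Fib.Misc

/-!
# Quasi-compactness of the diagonal from automorphisms and generic isomorphy
-/

set_option autoImplicit false
set_option backward.isDefEq.respectTransparency false
set_option backward.isDefEq.respectTransparency.types false

universe u

open CategoryTheory CategoryTheory.Limits AlgebraicGeometry Opposite TopologicalSpace

namespace Groth.Agent.AlgStB

open _root_.AlgSt (FPt Points)
open _root_.AlgSp (Sp LocP IsAlgSpace IsSurjectiveMor IsQuasiCompactMor yon RepWith)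

noncomputable section

variable {S : Scheme.{u}} {𝒳 𝒴 : AlgSt.Cat S}

theorem overMap_inj {P U : Over S} {a b : P ⟶ U} (i : AlgSt.overMap a ≅ AlgSt.overMap b) : a = b := by
  have h := Fib.overHom_iso i
  simpa [Fib.overHom, AlgSt.overMap] using h

/-- Points of the base change of `f` over `A` are contained in a compact set. -/
def PtsCovered (f : 𝒴 ⥤ᵇ 𝒳) {U : Over S} (y : FibCat.overCat U ⥤ᵇ 𝒳) (A : Set ↥U.left) : Prop :=
  ∃ K : Set (Points (FibCat.fp y f)), IsCompact K ∧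
    ∀ z, schPt U (Points.map (FibCat.fpFst y f) z) ∈ A → z ∈ K

variable {f : 𝒴 ⥤ᵇ 𝒳}

theorem PtsCovered.mono {U : Over S} {y : FibCat.overCat U ⥤ᵇ 𝒳} {A B : Set ↥U.left}
    (h : PtsCovered f y B) (hAB : A ⊆ B) : PtsCovered f y A :=
  let ⟨K, hK, hB⟩ := h
  ⟨K, hK, fun z hz => hB z (hAB hz)⟩

theorem PtsCovered.union {U : Over S} {y : FibCat.overCat U ⥤ᵇ 𝒳} {A B : Set ↥U.left}
    (hA : PtsCovered f y A) (hB : PtsCovered f y B) : PtsCovered f y (A ∪ B) :=
  let ⟨K, hK, hA'⟩ := hA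
  let ⟨L, hL, hB'⟩ := hB
  ⟨K ∪ L, hK.union hL, fun z hz => hz.imp (hA' z) (hB' z)⟩

theorem PtsCovered.of_empty {U : Over S} {y : FibCat.overCat U ⥤ᵇ 𝒳} {A : Set ↥U.left}
    (h : A ∩ liftSet f y = ∅) : PtsCovered f y A :=
  ⟨∅, isCompact_empty, fun z hz => (Set.eq_empty_iff_forall_notMem.1 h _ ⟨hz, z, rfl⟩).elim⟩

theorem PtsCovered.biUnion {U : Over S} {y : FibCat.overCat U ⥤ᵇ 𝒳} {ι : Type*}
    (t : Finset ι) (A : ι → Set ↥U.left) (h : ∀ i ∈ t, PtsCovered f y (A i)) :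
    PtsCovered f y (⋃ i ∈ t, A i) := by
  classical
  induction t using Finset.induction with
  | empty => exact ⟨∅, isCompact_empty, by simp⟩
  | insert a t _ ih =>
    rw [Finset.set_biUnion_insert]
    exact (h a (Finset.mem_insert_self _ _)).union (ih fun i hi => h i (Finset.mem_insert_of_mem hi))

theorem compactSpace_fp_of_ptsCovered {U : Over S} {y : FibCat.overCat U ⥤ᵇ 𝒳}
    (h : PtsCovered f y Set.univ) : CompactSpace (Points (FibCat.fp y f)) := by
  obtain ⟨K, hK, hU⟩ := h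
  refine ⟨?_⟩
  rwa [← Set.eq_univ_of_forall fun z => hU z (Set.mem_univ _)]

section Stacks

variable (h𝒳 : AlgSt.IsAlgStack Scheme.fppfPrecoverage 𝒳)
  (h𝒴 : AlgSt.IsAlgStack Scheme.fppfPrecoverage 𝒴)

include h𝒳 h𝒴

theorem compactSpace_fp_of_iso {U : Over S} {y y' : FibCat.overCat U ⥤ᵇ 𝒳} (i : y ≅ y')
    [CompactSpace (Points (FibCat.fp y f))] : CompactSpace (Points (FibCat.fp y' f)) := by
  have h := isAlgStack_fp h𝒳.isStack h𝒳.diag (isAlgStack_overCat U) h𝒴 y f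
  have h' := isAlgStack_fp h𝒳.isStack h𝒳.diag (isAlgStack_overCat U) h𝒴 y' f
  have := (id_full_faithful 𝒳).1
  have := (id_full_faithful 𝒳).2
  let M : FibCat.fp y f ⥤ᵇ FibCat.fp y' f := Fib.fpMap (BasedFunctor.id (FibCat.overCat U))
    (BasedFunctor.id 𝒴) (BasedFunctor.id 𝒳) (F' := y) (G' := f) (F := y') (G := f) i
    (Iso.refl f)
  exact (isHomeomorph_map h h' M (Fib.isEquivOver_fpMap _ _ _ _ _ (Fib.isEquivOver_id _)
    (Fib.isEquivOver_id _))).homeomorph.compactSpace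

theorem PtsCovered.map {U V : Over S} {y : FibCat.overCat U ⥤ᵇ 𝒳} (k : V ⟶ U) {A : Set ↥V.left}
    (h : PtsCovered f (BasedFunctor.comp (AlgSt.overMap k) y) A) :
    PtsCovered f y (k.left '' A) := by
  obtain ⟨K, hK, hA⟩ := h
  have hY := isAlgStack_fp h𝒳.isStack h𝒳.diag (isAlgStack_overCat U) h𝒴 y f
  have hY' := isAlgStack_fp h𝒳.isStack h𝒳.diag (isAlgStack_overCat V) h𝒴
    (BasedFunctor.comp (AlgSt.overMap k) y) f
  have hP := isAlgStack_fp (isAlgStack_overCat U).isStack (isAlgStack_overCat U).diag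
    (isAlgStack_overCat V) hY (AlgSt.overMap k) (FibCat.fpFst y f)
  let B := Fib.fpBC (AlgSt.overMap k) y f
  have hB := isHomeomorph_map hP hY' B (Fib.isEquivOver_fpBC _ _ _)
  refine ⟨Points.map (FibCat.fpSnd (AlgSt.overMap k) (FibCat.fpFst y f)) '' (Points.map B ⁻¹' K),
    (hB.homeomorph.isCompact_preimage.2 hK).image (continuous_map hY.isStack.1 hY.atlas _), ?_⟩
  rintro z ⟨a, ha, haz⟩
  obtain ⟨w, hw₁, hw₂⟩ := exists_point_fp hY.isStack.1 (Fib.isFibGrpd_overCat U)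
    (Fib.isFibGrpd_overCat V) (FibCat.fpFst y f) (AlgSt.overMap k) (schMk V a) z (by
      rw [← schMk_schPt U (Points.map (AlgSt.overMap k) _), schPt_map_overMap, schPt_schMk, haz,
        schMk_schPt])
  refine ⟨w, hA _ ?_, hw₂⟩
  rw [← map_comp_apply, Fib.fpBC_fpFst, hw₁, schPt_schMk]
  exact ha

theorem compactSpace_fp_overMap_comp {V T : Over S} [QuasiSeparatedSpace ↥V.left]
    [CompactSpace ↥T.left] (m : T ⟶ V) (v : FibCat.overCat V ⥤ᵇ 𝒳)
    [CompactSpace (Points (FibCat.fp v f))] :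
    CompactSpace (Points (FibCat.fp (BasedFunctor.comp (AlgSt.overMap m) v) f)) := by
  have hV := isAlgStack_overCat V
  have hT := isAlgStack_overCat T
  have hY := isAlgStack_fp h𝒳.isStack h𝒳.diag hV h𝒴 v f
  have hY' := isAlgStack_fp h𝒳.isStack h𝒳.diag hT h𝒴 (BasedFunctor.comp (AlgSt.overMap m) v) f
  obtain ⟨Z, z, hZ, hz, hzs⟩ := (isQuasiCompact_iff hY).2 inferInstance
  have hZc : CompactSpace ↥Z.left := inferInstance
  let g := FibCat.fpFst v f
  let y := AlgSt.overMap m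
  obtain ⟨n, ⟨jn⟩⟩ := exists_iso_overMap (BasedFunctor.comp z g)
  let P : Over S := Over.mk (pullback.fst m.left n.left ≫ T.hom)
  let p₁ : P ⟶ T := Over.homMk (pullback.fst m.left n.left) rfl
  let p₂ : P ⟶ Z := Over.homMk (pullback.snd m.left n.left) (by
    change pullback.snd m.left n.left ≫ Z.hom = pullback.fst m.left n.left ≫ T.hom
    rw [← Over.w n, ← Over.w m, pullback.condition_assoc])
  have hp : p₁ ≫ m = p₂ ≫ n := Over.OverMorphism.ext pullback.condition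
  have : CompactSpace ↥P.left := by
    have : QuasiCompact n.left := inferInstance
    exact QuasiCompact.compactSpace_of_compactSpace (pullback.fst m.left n.left)
  let L : FibCat.overCat P ⥤ᵇ FibCat.fp y (BasedFunctor.comp z g) :=
    FibCat.fpLift (AlgSt.overMap p₁) (AlgSt.overMap p₂)
      (overMapComp p₁ m ≪≫ eqToIso (congrArg AlgSt.overMap hp) ≪≫ (overMapComp p₂ n).symm ≪≫
        Fib.isoWhiskerLeft (AlgSt.overMap p₂) jn.symm)
  have : (FibCat.overCat V).p.Faithful := inferInstanceAs (Over.forget V).Faithful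
  have hQ := isAlgStack_fp hV.isStack hV.diag hT (isAlgStack_overCat Z) y (BasedFunctor.comp z g)
  have hL : AlgSt.IsSurjective L := fun w => by
    obtain ⟨K, _, str, G, rfl⟩ := exists_ptFun hQ.isStack.1 w
    let P₀ : Over S := Over.mk str
    obtain ⟨a, ⟨ja⟩⟩ := exists_iso_overMap (BasedFunctor.comp G (FibCat.fpFst y _))
    obtain ⟨b, ⟨jb⟩⟩ := exists_iso_overMap (BasedFunctor.comp G (FibCat.fpSnd y _))
    have hab : a ≫ m = b ≫ n := overMap_inj ((overMapComp a m).symm ≪≫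
      Fib.isoWhiskerRight ja.symm y ≪≫ Fib.isoWhiskerLeft G (FibCat.fpIso y _) ≪≫
      Fib.isoWhiskerRight jb (BasedFunctor.comp z g) ≪≫ Fib.isoWhiskerLeft (AlgSt.overMap b) jn ≪≫ overMapComp b n)
    let d : P₀ ⟶ P := Over.homMk (pullback.lift a.left b.left (congrArg CommaMorphism.left hab)) (by
      change pullback.lift _ _ _ ≫ pullback.fst m.left n.left ≫ T.hom = str
      rw [pullback.lift_fst_assoc]
      exact Over.w a)
    have hd₁ : d ≫ p₁ = a := Over.OverMorphism.ext (pullback.lift_fst _ _ _)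
    have hd₂ : d ≫ p₂ = b := Over.OverMorphism.ext (pullback.lift_snd _ _ _)
    obtain ⟨κ⟩ := nonempty_iso_fp_of_faithful (BasedFunctor.comp (AlgSt.overMap d) L) G
      (overMapComp d p₁ ≪≫ eqToIso (congrArg AlgSt.overMap hd₁) ≪≫ ja.symm)
      (overMapComp d p₂ ≪≫ eqToIso (congrArg AlgSt.overMap hd₂) ≪≫ jb.symm)
    refine ⟨Points.map (AlgSt.overMap d) (schMk P₀ (IsLocalRing.closedPoint K)), ?_⟩
    rw [← map_comp_apply, map_congr κ]
  have := compactSpace_points_overCat P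
  have := compactSpace_of_isSurjective hQ L hL
  obtain ⟨b, hb, -, -⟩ := Fib.exists_quasiInverse (Fib.isEquivOver_fpAssoc y g z)
  refine compactSpace_of_isSurjective hY' (BasedFunctor.comp (BasedFunctor.comp b
    (FibCat.fpFst (FibCat.fpSnd y g) z)) (Fib.fpBC y v f)) fun w => ?_
  obtain ⟨w₁, rfl⟩ := (bijective_map _ (Fib.isEquivOver_fpBC y v f)).2 w
  have hyg := Fib.isFibGrpd_fp y g hT.isStack.1 hY.isStack.1 hV.isStack.1
  obtain ⟨w₂, rfl⟩ := isSurjective_fpFst (Fib.isFibGrpd_overCat Z) hY.isStack.1 hyg z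
    (FibCat.fpSnd y g) (isSurjective_of_repWith (Fib.isFibGrpd_overCat Z) hY.isStack.1 z hzs) w₁
  obtain ⟨w₃, rfl⟩ := (bijective_map b hb).2 w₂
  exact ⟨w₃, by rw [map_comp_apply, map_comp_apply]⟩

end Stacks

/-- Automorphism spaces of objects over affine schemes are quasi-compact. -/
def AutQC (𝒳 : AlgSt.Cat S) : Prop :=
  ∀ (U : Over S), IsAffine U.left → ∀ (x : FibCat.overCat U ⥤ᵇ 𝒳),
    ∃ (F : _root_.AlgSp.Space S) (e : AlgSt.ofSp F.obj ⥤ᵇ FibCat.fp (FibCat.fpLift x x (Iso.refl _))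
      (FibCat.diag (FibCat.toSelf 𝒳))),
      FibCat.IsEquivOver e ∧
        IsQuasiCompactMor (AlgSt.spMapOfOver (BasedFunctor.comp e (FibCat.fpFst _ _)))

/-- Objects isomorphic over a dense set of points are isomorphic over a dense open. -/
def GenIso (𝒳 : AlgSt.Cat S) : Prop :=
  ∀ (U : Over S), IsAffine U.left → IsIntegral U.left → ∀ (x y : FibCat.overCat U ⥤ᵇ 𝒳)
    (D : Set ↥U.left), Dense D →
    (∀ t ∈ D, ∃ (L : Type u) (_ : Field L) (g : Spec (CommRingCat.of L) ⟶ U.left),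
      Set.range g.base = {t} ∧
      Nonempty (BasedFunctor.comp (AlgSt.overMap (Over.homMk g rfl : Over.mk (g ≫ U.hom) ⟶ U)) x ≅
        BasedFunctor.comp (AlgSt.overMap (Over.homMk g rfl : Over.mk (g ≫ U.hom) ⟶ U)) y)) →
    ∃ V : U.left.Opens, Dense (V : Set ↥U.left) ∧
      Nonempty (BasedFunctor.comp (AlgSt.overMap (Over.homMk V.ι rfl : Over.mk (V.ι ≫ U.hom) ⟶ U)) x ≅
        BasedFunctor.comp (AlgSt.overMap (Over.homMk V.ι rfl : Over.mk (V.ι ≫ U.hom) ⟶ U)) y)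

theorem isAlgStack_selfOver :
    AlgSt.IsAlgStack Scheme.fppfPrecoverage (FibCat.selfOver (Over S)) :=
  isAlgStack_of_repByAlgSp Fib.isFibGrpd_selfOver repByAlgSp_selfOver

theorem isAlgStack_prodSelf (h𝒳 : AlgSt.IsAlgStack Scheme.fppfPrecoverage 𝒳) :
    AlgSt.IsAlgStack Scheme.fppfPrecoverage (FibCat.fp (FibCat.toSelf 𝒳) (FibCat.toSelf 𝒳)) :=
  isAlgStack_fp isAlgStack_selfOver.isStack isAlgStack_selfOver.diag h𝒳 h𝒳 _ _

theorem ptsCovered_diag_of_noetherian (h𝒳 : AlgSt.IsAlgStack Scheme.fppfPrecoverage 𝒳)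
    (hi : AutQC 𝒳) (hii : GenIso 𝒳) (R : CommRingCat.{u}) [IsNoetherianRing R] (s : Spec R ⟶ S)
    (v : FibCat.overCat (Over.mk s : Over S) ⥤ᵇ FibCat.fp (FibCat.toSelf 𝒳) (FibCat.toSelf 𝒳)) :
    PtsCovered (FibCat.diag (FibCat.toSelf 𝒳)) v Set.univ := by
  have hPP := isAlgStack_prodSelf h𝒳
  let Δ := FibCat.diag (FibCat.toSelf 𝒳)
  let sX := FibCat.toSelf 𝒳
  have : (FibCat.selfOver (Over S)).p.Faithful := inferInstanceAs (𝟭 (Over S)).Faithful
  have : NoetherianSpace ↥(Spec R) := inferInstanceAs (NoetherianSpace (PrimeSpectrum R))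
  let E : Set ↥(Spec R) := liftSet Δ v
  suffices H : ∀ C : Closeds ↥(Spec R), PtsCovered Δ v (C : Set ↥(Spec R)) by
    have := H ⊤
    rwa [Closeds.coe_top] at this
  intro C
  induction C using (wellFounded_lt (α := Closeds ↥(Spec R))).induction with
  | _ C ih =>
  by_cases hd : (C : Set ↥(Spec R)) ⊆ closure (E ∩ (C : Set ↥(Spec R)))
  swap
  · have h₁ : PtsCovered Δ v (closure (E ∩ (C : Set ↥(Spec R)))) :=
      ih ⟨closure (E ∩ (C : Set ↥(Spec R))), isClosed_closure⟩ (by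
      refine lt_of_le_of_ne (fun z hz => ?_) fun he => hd (le_of_eq (congrArg SetLike.coe he).symm)
      exact closure_minimal Set.inter_subset_right C.isClosed hz)
    have h₂ : PtsCovered Δ v ((C : Set ↥(Spec R)) \ E) :=
      PtsCovered.of_empty (Set.eq_empty_iff_forall_notMem.2 fun z hz => hz.1.2 hz.2)
    exact (h₁.union h₂).mono fun z hz => (em (z ∈ E)).imp
      (fun h => subset_closure ⟨h, hz⟩) (fun h => ⟨hz, h⟩)
  by_cases hC : IsIrreducible (C : Set ↥(Spec R))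
  swap
  · by_cases hne : (C : Set ↥(Spec R)).Nonempty
    swap
    · exact PtsCovered.of_empty (Set.eq_empty_iff_forall_notMem.2 fun z hz => hne ⟨z, hz.1⟩)
    have hC' : ¬ IsPreirreducible (C : Set ↥(Spec R)) := fun h => hC ⟨hne, h⟩
    rw [isPreirreducible_iff_isClosed_union_isClosed] at hC'
    push Not at hC'
    obtain ⟨z₁, z₂, h₁, h₂, hu, hn₁, hn₂⟩ := hC'
    have aux : ∀ z : Set ↥(Spec R), IsClosed z → ¬ (C : Set ↥(Spec R)) ⊆ z →
        PtsCovered Δ v ((C : Set ↥(Spec R)) ∩ z) := fun z hz hn =>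
      ih ⟨(C : Set ↥(Spec R)) ∩ z, C.isClosed.inter hz⟩
        (lt_of_le_of_ne (fun a ha => ha.1) fun he => hn fun a ha => by
          rw [← congrArg SetLike.coe he] at ha
          exact ha.2)
    exact ((aux z₁ h₁ hn₁).union (aux z₂ h₂ hn₂)).mono fun a ha =>
      (hu ha).elim (fun h => Or.inl ⟨ha, h⟩) fun h => Or.inr ⟨ha, h⟩
  obtain ⟨x, hx⟩ : ∃ x : PrimeSpectrum R, closure {x} = (C : Set ↥(Spec R)) :=
    QuasiSober.sober hC C.isClosed
  let A : Type u := R ⧸ x.asIdeal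
  let π : R ⟶ CommRingCat.of A := CommRingCat.ofHom (Ideal.Quotient.mk x.asIdeal)
  let W : Over S := Over.mk (Spec.map π ≫ s)
  let k : W ⟶ Over.mk s := Over.homMk (Spec.map π) rfl
  have hk : Topology.IsClosedEmbedding (k.left : ↥(Spec (CommRingCat.of A)) → ↥(Spec R)) :=
    PrimeSpectrum.isClosedEmbedding_comap_of_surjective _ _ Ideal.Quotient.mk_surjective
  have hrange : Set.range (k.left : ↥(Spec (CommRingCat.of A)) → ↥(Spec R)) =
      (C : Set ↥(Spec R)) := by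
    change Set.range (PrimeSpectrum.comap (Ideal.Quotient.mk x.asIdeal)) = _
    rw [range_comap_of_surjective _ _ Ideal.Quotient.mk_surjective, Ideal.mk_ker,
      ← PrimeSpectrum.closure_singleton, hx]
  let a := BasedFunctor.comp (AlgSt.overMap k) v
  have hD : liftSet Δ a = k.left ⁻¹' E := liftSet_eq_preimage hPP h𝒳 k (Iso.refl a)
  have hdense : Dense (liftSet Δ a) := by
    intro z
    rw [hD, hk.isInducing.closure_eq_preimage_closure_image, Set.image_preimage_eq_inter_range,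
      hrange]
    exact hd (hrange.subset (Set.mem_range_self z))
  let x₁ := BasedFunctor.comp a (FibCat.fpFst sX sX)
  let x₂ := BasedFunctor.comp a (FibCat.fpSnd sX sX)
  have hWa : IsAffine W.left := inferInstanceAs (IsAffine (Spec (CommRingCat.of A)))
  have hWi : IsIntegral W.left := inferInstanceAs (IsIntegral (Spec (CommRingCat.of A)))
  obtain ⟨O, hO, ⟨iO⟩⟩ := hii W hWa hWi x₁ x₂ (liftSet Δ a) hdense fun t ht => by
    obtain ⟨z, rfl⟩ := ht
    obtain ⟨L, _, str, G, rfl⟩ := exists_ptFun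
      (Fib.isFibGrpd_fp a Δ (Fib.isFibGrpd_overCat W) h𝒳.isStack.1 hPP.isStack.1) z
    obtain ⟨g, ⟨jg⟩⟩ := exists_iso_overMap (BasedFunctor.comp G (FibCat.fpFst a Δ))
    refine ⟨L, inferInstance, g.left, ?_, ?_⟩
    · have : Subsingleton ↥(Over.mk str : Over S).left :=
        inferInstanceAs (Subsingleton ↥(Spec (CommRingCat.of L)))
      refine Set.eq_singleton_iff_unique_mem.2 ⟨⟨IsLocalRing.closedPoint L, ?_⟩, ?_⟩
      · change g.left _ = schPt W _
        rw [← map_comp_apply, map_congr jg, schPt_map_overMap, schPt_schMk]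
      · rintro _ ⟨b, rfl⟩
        change g.left b = schPt W _
        rw [← map_comp_apply, map_congr jg, schPt_map_overMap, schPt_schMk]
        exact congrArg _ (Subsingleton.elim _ _)
    · let c : (Over.mk (g.left ≫ W.hom) : Over S) ⟶ Over.mk str := Over.homMk (𝟙 _)
        ((Category.id_comp _).trans (Over.w g).symm)
      have hc : c ≫ g = (Over.homMk g.left rfl : Over.mk (g.left ≫ W.hom) ⟶ W) :=
        Over.OverMorphism.ext (Category.id_comp _)
      let i₀ : BasedFunctor.comp (AlgSt.overMap (Over.homMk g.left rfl : Over.mk (g.left ≫ W.hom) ⟶ W)) a ≅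
          BasedFunctor.comp (AlgSt.overMap c) (BasedFunctor.comp (BasedFunctor.comp G (FibCat.fpSnd a Δ)) Δ) :=
        Fib.isoWhiskerRight ((eqToIso (congrArg AlgSt.overMap hc.symm)) ≪≫ (overMapComp c g).symm ≪≫
            Fib.isoWhiskerLeft (AlgSt.overMap c) jg.symm) a ≪≫
          Fib.isoWhiskerLeft (BasedFunctor.comp (AlgSt.overMap c) G) (FibCat.fpIso a Δ)
      exact ⟨Fib.isoWhiskerRight i₀ (FibCat.fpFst sX sX) ≪≫
        (Fib.isoWhiskerRight i₀ (FibCat.fpSnd sX sX)).symm⟩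
  have : Nonempty ↥(Spec (CommRingCat.of A)) := inferInstanceAs (Nonempty (PrimeSpectrum A))
  obtain ⟨w, hw⟩ := hO.nonempty
  obtain ⟨B, hB, hwB, hBO⟩ :=
    (Spec (CommRingCat.of A)).isBasis_affineOpens.exists_subset_of_mem_open
      (show w ∈ ((O : W.left.Opens) : Set ↥W.left) from hw) O.isOpen
  obtain ⟨(B : (Spec (CommRingCat.of A)).Opens), hB, rfl⟩ := hB
  have hle : B ≤ O := hBO
  let W' : Over S := Over.mk (B.ι ≫ W.hom)
  let W'' : Over S := Over.mk (O.ι ≫ W.hom)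
  let j : W' ⟶ W := Over.homMk B.ι rfl
  let jO : W'' ⟶ W := Over.homMk O.ι rfl
  let l : W' ⟶ W'' := Over.homMk ((Spec (CommRingCat.of A)).homOfLE hle)
    (Scheme.homOfLE_ι_assoc _ hle W.hom)
  have hl : l ≫ jO = j := Over.OverMorphism.ext (Scheme.homOfLE_ι _ hle)
  let aB := BasedFunctor.comp (AlgSt.overMap j) a
  let y₁ := BasedFunctor.comp aB (FibCat.fpFst sX sX)
  let eB : AlgSt.overMap j ≅ BasedFunctor.comp (AlgSt.overMap l) (AlgSt.overMap jO) :=
    eqToIso (congrArg AlgSt.overMap hl.symm) ≪≫ (overMapComp l jO).symm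
  let iB : y₁ ≅ BasedFunctor.comp aB (FibCat.fpSnd sX sX) :=
    Fib.isoWhiskerRight eB x₁ ≪≫ Fib.isoWhiskerLeft (AlgSt.overMap l) iO ≪≫
      Fib.isoWhiskerRight eB.symm x₂
  obtain ⟨κ⟩ := nonempty_iso_fp_of_faithful (FibCat.fpLift y₁ y₁ (Iso.refl _)) aB (Iso.refl _) iB
  have hW' : IsAffine W'.left := hB
  obtain ⟨F, e, he, hqc⟩ := hi W' hW' y₁
  have : CompactSpace (Points (FibCat.fp (FibCat.fpLift y₁ y₁ (Iso.refl _)) Δ)) := by
    have hF : _root_.AlgSp.IsQuasiCompactSp F.obj :=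
      hqc (IsAlgSpace.yon_obj W') AlgSpc.isQuasiCompactSp_yon (𝟙 _) (𝟙 _) _
        (IsPullback.of_horiz_isIso ⟨(Category.id_comp _).trans (Category.comp_id _).symm⟩)
    have := AlgSpc.compactSpace_points hF
    exact ((isHomeomorph_map (isAlgStack_ofSp F.property)
      (isAlgStack_of_isEquivOver he (isAlgStack_ofSp F.property)) e he).comp
      (isHomeomorph_spMk F.property)).homeomorph.compactSpace
  have := compactSpace_fp_of_iso hPP h𝒳 (f := Δ) κ
  have hcov : PtsCovered Δ aB Set.univ := ⟨Set.univ, isCompact_univ, fun _ _ => trivial⟩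
  have h₁ : PtsCovered Δ v (k.left '' (j.left '' Set.univ)) :=
    (hcov.map hPP h𝒳 j).map hPP h𝒳 k
  let C' : Closeds ↥(Spec R) := ⟨k.left '' (B : Set ↥(Spec (CommRingCat.of A)))ᶜ,
    hk.isClosedMap _ B.isOpen.isClosed_compl⟩
  have hC' : C' < C := by
    refine lt_of_le_of_ne ?_ ?_
    · rintro _ ⟨z, -, rfl⟩
      exact hrange.subset (Set.mem_range_self z)
    · intro he'
      have : k.left w ∈ (C' : Set ↥(Spec R)) := by
        rw [he']; exact hrange.subset (Set.mem_range_self w)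
      obtain ⟨z', hz', hzz⟩ := this
      exact hz' (hk.injective hzz ▸ hwB)
  refine (h₁.union (ih C' hC')).mono fun z hz => ?_
  obtain ⟨z', rfl⟩ : z ∈ Set.range k.left := by rw [hrange]; exact hz
  by_cases hz' : z' ∈ B
  · exact Or.inl ⟨z', ⟨⟨z', hz'⟩, trivial, rfl⟩, rfl⟩
  · exact Or.inr ⟨z', hz', rfl⟩

/-- Quasi-compactness of the diagonal of a stack locally of finite presentation over a locally
Noetherian base. -/
theorem repByAlgSpWith_diag_qc [IsLocallyNoetherian S]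
    (h𝒳 : AlgSt.IsAlgStack Scheme.fppfPrecoverage 𝒳)
    (hlfp : ∀ (U : Over S) (x : FibCat.overCat U ⥤ᵇ 𝒳),
      AlgSt.RepByAlgSpWith (LocP @Smooth) x → LocallyOfFinitePresentation U.hom)
    (hi : AutQC 𝒳) (hii : GenIso 𝒳) :
    AlgSt.RepByAlgSpWith IsQuasiCompactMor (FibCat.diag (FibCat.toSelf 𝒳)) := by
  let sX := FibCat.toSelf 𝒳
  let Δ := FibCat.diag sX
  have hPP := isAlgStack_prodSelf h𝒳
  have : (FibCat.selfOver (Over S)).p.Faithful := inferInstanceAs (𝟭 (Over S)).Faithful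
  obtain ⟨X, x, hx, hxs⟩ := h𝒳.atlas
  have : LocallyOfFinitePresentation X.hom := hlfp X x hx
  let X₂ : Over S := Over.mk (pullback.fst X.hom X.hom ≫ X.hom)
  have : IsLocallyNoetherian X.left := LocallyOfFiniteType.isLocallyNoetherian X.hom
  have : IsLocallyNoetherian X₂.left :=
    LocallyOfFiniteType.isLocallyNoetherian (pullback.fst X.hom X.hom)
  let p₁ : X₂ ⟶ X := Over.homMk (pullback.fst X.hom X.hom) rfl
  let p₂ : X₂ ⟶ X := Over.homMk (pullback.snd X.hom X.hom) pullback.condition.symm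
  let y₂ : FibCat.overCat X₂ ⥤ᵇ FibCat.fp sX sX :=
    FibCat.fpLift (BasedFunctor.comp (AlgSt.overMap p₁) x) (BasedFunctor.comp (AlgSt.overMap p₂) x)
      (Fib.toSelfIso _ _)
  suffices H : ∀ (U : Over S) [IsAffine U.left] (y : FibCat.overCat U ⥤ᵇ FibCat.fp sX sX),
      CompactSpace (Points (FibCat.fp y Δ)) by
    refine rep_of_isQuasiCompactMor Δ h𝒳.diag ?_
    intro 𝒵 h𝒵 ⟨U, z, hU, hz, hzs⟩ g
    have hP := isAlgStack_fp hPP.isStack hPP.diag h𝒵 h𝒳 g Δ
    have := H U (BasedFunctor.comp z g)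
    refine (isQuasiCompact_iff hP).2 ?_
    obtain ⟨b, hb, -, -⟩ := Fib.exists_quasiInverse (Fib.isEquivOver_fpBC z g Δ)
    refine compactSpace_of_isSurjective hP
      (BasedFunctor.comp b (FibCat.fpSnd z (FibCat.fpFst g Δ))) fun w => ?_
    obtain ⟨v, rfl⟩ := isSurjective_fpSnd hP.isStack.1 h𝒵.isStack.1 (Fib.isFibGrpd_overCat U)
      (FibCat.fpFst g Δ) z (isSurjective_of_repWith (Fib.isFibGrpd_overCat U) h𝒵.isStack.1 z hzs) w
    obtain ⟨v', rfl⟩ := (bijective_map b hb).2 v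
    exact ⟨v', map_comp_apply _ _ _⟩
  intro U _ y
  obtain ⟨T₁, k₁, τ₁, ⟨i₁⟩, -, hP₁, hs₁⟩ := exists_cover_point (Fib.isFibGrpd_overCat X) h𝒳.isStack.1 x
    (repByAlgSp1_of_with hx) (BasedFunctor.comp y (FibCat.fpFst sX sX))
  obtain ⟨T, k₂, τ₂, ⟨i₂⟩, -, hP₂, hs₂⟩ := exists_cover_point (Fib.isFibGrpd_overCat X) h𝒳.isStack.1 x
    (repByAlgSp1_of_with hx)
    (BasedFunctor.comp (BasedFunctor.comp (AlgSt.overMap k₁) y) (FibCat.fpSnd sX sX))
  have : Smooth k₁.left := hP₁ _ hx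
  have : Smooth k₂.left := hP₂ _ hx
  let k : T ⟶ U := k₂ ≫ k₁
  have : Smooth k.left := inferInstanceAs (Smooth (k₂.left ≫ k₁.left))
  obtain ⟨n₁, ⟨j₁⟩⟩ := exists_iso_overMap (BasedFunctor.comp (AlgSt.overMap k₂) τ₁)
  obtain ⟨n₂, ⟨j₂⟩⟩ := exists_iso_overMap τ₂
  let m : T ⟶ X₂ := Over.homMk (pullback.lift n₁.left n₂.left ((Over.w n₁).trans (Over.w n₂).symm)) (by
    change pullback.lift _ _ _ ≫ pullback.fst X.hom X.hom ≫ X.hom = T.hom
    rw [pullback.lift_fst_assoc]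
    exact Over.w n₁)
  have hm₁ : m ≫ p₁ = n₁ := Over.OverMorphism.ext (pullback.lift_fst _ _ _)
  have hm₂ : m ≫ p₂ = n₂ := Over.OverMorphism.ext (pullback.lift_snd _ _ _)
  obtain ⟨i⟩ := nonempty_iso_fp_of_faithful (BasedFunctor.comp (AlgSt.overMap m) y₂)
    (BasedFunctor.comp (AlgSt.overMap k) y)
    (Fib.isoWhiskerRight (overMapComp m p₁ ≪≫ eqToIso (congrArg AlgSt.overMap hm₁) ≪≫ j₁.symm) x ≪≫
      Fib.isoWhiskerLeft (AlgSt.overMap k₂) i₁ ≪≫
      Fib.isoWhiskerRight (overMapComp k₂ k₁) (BasedFunctor.comp y (FibCat.fpFst sX sX)))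
    (Fib.isoWhiskerRight (overMapComp m p₂ ≪≫ eqToIso (congrArg AlgSt.overMap hm₂) ≪≫ j₂.symm) x ≪≫
      i₂ ≪≫ Fib.isoWhiskerRight (overMapComp k₂ k₁) (BasedFunctor.comp y (FibCat.fpSnd sX sX)))
  have hopen : IsOpenMap (k.left : ↥T.left → ↥U.left) := k.left.isOpenMap
  have hcov : ∀ u : ↥U.left, ∃ (W : T.left.Opens) (V : X₂.left.Opens), IsAffineOpen W ∧
      IsAffineOpen V ∧ (W : Set ↥T.left) ⊆ m.left ⁻¹' (V : Set ↥X₂.left) ∧
      u ∈ k.left '' (W : Set ↥T.left) := fun u => by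
    obtain ⟨t₁, rfl⟩ := hs₁ hxs u
    obtain ⟨t, rfl⟩ := hs₂ hxs t₁
    obtain ⟨_, ⟨V, hV, rfl⟩, htV, -⟩ :=
      X₂.left.isBasis_affineOpens.exists_subset_of_mem_open (Set.mem_univ (m.left t)) isOpen_univ
    obtain ⟨_, ⟨W, hW, rfl⟩, htW, hWV⟩ := T.left.isBasis_affineOpens.exists_subset_of_mem_open
      (show t ∈ m.left ⁻¹' (V : Set ↥X₂.left) from htV) (V.isOpen.preimage m.left.continuous)
    exact ⟨W, V, hW, hV, hWV, t, htW, rfl⟩
  choose W V hW hV hWV hu using hcov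
  obtain ⟨F, hF⟩ := (isCompact_univ (X := ↥U.left)).elim_finite_subcover
    (fun u => k.left '' (W u : Set ↥T.left)) (fun u => hopen _ (W u).isOpen)
    fun u _ => Set.mem_iUnion.2 ⟨u, hu u⟩
  refine compactSpace_fp_of_ptsCovered ((PtsCovered.biUnion F
    (fun u => k.left '' (W u : Set ↥T.left)) fun u _ => ?_).mono hF)
  let O := W u
  let sV : Spec Γ(X₂.left, V u) ⟶ S := (hV u).fromSpec ≫ X₂.hom
  let eV : (Over.mk sV : Over S) ⟶ X₂ := Over.homMk (hV u).fromSpec rfl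
  let T' : Over S := Over.mk (O.ι ≫ T.hom)
  let jT : T' ⟶ T := Over.homMk O.ι rfl
  have hrange : Set.range (O.ι ≫ m.left) ⊆ Set.range (hV u).fromSpec := by
    rw [(hV u).range_fromSpec]
    rintro _ ⟨t, rfl⟩
    exact hWV u t.2
  let m' : T' ⟶ Over.mk sV := Over.homMk (IsOpenImmersion.lift (hV u).fromSpec (O.ι ≫ m.left) hrange) (by
    change IsOpenImmersion.lift _ _ hrange ≫ (hV u).fromSpec ≫ X₂.hom = O.ι ≫ T.hom
    rw [IsOpenImmersion.lift_fac_assoc, Category.assoc, Over.w m])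
  have hm' : m' ≫ eV = jT ≫ m :=
    Over.OverMorphism.ext (IsOpenImmersion.lift_fac (hV u).fromSpec (O.ι ≫ m.left) hrange)
  have : IsNoetherianRing Γ(X₂.left, V u) :=
    IsLocallyNoetherian.component_noetherian ⟨V u, hV u⟩
  have := compactSpace_fp_of_ptsCovered (ptsCovered_diag_of_noetherian h𝒳 hi hii Γ(X₂.left, V u) sV
    (BasedFunctor.comp (AlgSt.overMap eV) y₂))
  have : IsAffine T'.left := hW u
  have : QuasiSeparatedSpace ↥(Over.mk sV : Over S).left :=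
    inferInstanceAs (QuasiSeparatedSpace ↥(Spec Γ(X₂.left, V u)))
  have := compactSpace_fp_overMap_comp hPP h𝒳 (f := Δ) m'
    (BasedFunctor.comp (AlgSt.overMap eV) y₂)
  let i' : BasedFunctor.comp (AlgSt.overMap m') (BasedFunctor.comp (AlgSt.overMap eV) y₂) ≅
      BasedFunctor.comp (AlgSt.overMap (jT ≫ k)) y :=
    Fib.isoWhiskerRight (overMapComp m' eV ≪≫ eqToIso (congrArg AlgSt.overMap hm') ≪≫
        (overMapComp jT m).symm) y₂ ≪≫
      Fib.isoWhiskerLeft (AlgSt.overMap jT) i ≪≫ Fib.isoWhiskerRight (overMapComp jT k) y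
  have := compactSpace_fp_of_iso hPP h𝒳 (f := Δ) i'
  have hcov' : PtsCovered Δ (BasedFunctor.comp (AlgSt.overMap (jT ≫ k)) y) Set.univ :=
    ⟨Set.univ, isCompact_univ, fun _ _ => trivial⟩
  refine (hcov'.map hPP h𝒳 (jT ≫ k)).mono ?_
  rintro z ⟨t, ht, rfl⟩
  exact ⟨(⟨t, ht⟩ : ↥(O : Scheme.{u})), trivial, rfl⟩

end

end Groth.Agent.AlgStB
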