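import Groth.Agent.DVRDom.Scheme
import Groth.Agent.Unram.Mono
import Mathlib.AlgebraicGeometry.Morphisms.Immersion
import Mathlib.AlgebraicGeometry.Morphisms.FinitePresentation
import Mathlib.RingTheory.IntegralClosure.IsIntegralClosure.Basic
import Mathlib.Algebra.Polynomial.Reverse

/-!
# Monomorphisms of finite type to a Noetherian affine scheme which are immersions
-/

set_option autoImplicit false
set_option backward.isDefEq.respectTransparency false
set_option backward.isDefEq.respectTransparency.types false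

universe u

open CategoryTheory CategoryTheory.Limits AlgebraicGeometry IsLocalRing Topology Polynomial
  TopologicalSpace

namespace Groth.Agent.AlgStB

/-- An element of a field is integral as soon as it lies in every discrete valuation ring
dominating the Noetherian local base. -/
theorem isIntegral_of_forall_dvr {B K : Type u} [CommRing B] [IsNoetherianRing B] [IsLocalRing B]
    [Field K] [Algebra B K] (s : Finset K)
    (hs : Subfield.closure (Set.range (algebraMap B K) ∪ s) = ⊤) (x : K)
    (h : ∀ R : ValuationSubring K, IsDiscreteValuationRing R → (∀ b : B, algebraMap B K b ∈ R) →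
      (∀ b ∈ maximalIdeal B, R.valuation (algebraMap B K b) < 1) → x ∈ R) :
    IsIntegral B x := by
  classical
  by_contra hx
  have hx0 : x ≠ 0 := fun h0 => hx (h0 ▸ isIntegral_zero)
  let A : Subalgebra B K := Algebra.adjoin B {x⁻¹}
  have hxA : x ∉ A := fun hmem => by
    rw [show A = Algebra.adjoin B {x⁻¹} from rfl, Algebra.adjoin_singleton_eq_range_aeval] at hmem
    obtain ⟨p, hp⟩ := hmem
    let n := p.natDegree
    refine hx ⟨X ^ (n + 1) - reflect n p, ?_, ?_⟩
    · refine monic_X_pow_sub (lt_of_le_of_lt degree_le_natDegree ?_)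
      exact WithBot.coe_lt_coe.2 (Nat.lt_succ_of_le ((natDegree_reflect_le).trans (max_le le_rfl le_rfl)))
    · let : Invertible x⁻¹ := invertibleOfNonzero (inv_ne_zero hx0)
      have e := eval₂_reflect_mul_pow (algebraMap B K) x⁻¹ n p le_rfl
      rw [invOf_eq_inv, inv_inv, show eval₂ (algebraMap B K) x⁻¹ p = x from hp] at e
      rw [eval₂_sub, eval₂_X_pow, sub_eq_zero, pow_succ']
      rw [inv_pow, mul_inv_eq_iff_eq_mul₀ (pow_ne_zero _ hx0)] at e
      exact e.symm
  let y : A := ⟨x⁻¹, Algebra.subset_adjoin rfl⟩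
  have hy : ¬ IsUnit y := fun hu => hxA (by
    obtain ⟨w, hw⟩ := hu.exists_right_inv
    have := congrArg Subtype.val hw
    simp only [MulMemClass.coe_mul, OneMemClass.coe_one, y] at this
    rw [(inv_mul_eq_one₀ hx0).1 this]
    exact w.2)
  obtain ⟨M, hM, hyM⟩ := exists_max_ideal_of_mem_nonunits (show y ∈ nonunits A from hy)
  let ρ : B →+* A ⧸ M := (Ideal.Quotient.mk M).comp (algebraMap B A)
  have hρ : Function.Surjective ρ := fun z => by
    obtain ⟨⟨a, ha⟩, rfl⟩ := Ideal.Quotient.mk_surjective z
    induction ha using Algebra.adjoin_induction with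
    | mem w hw =>
      refine ⟨0, ?_⟩
      rw [map_zero, eq_comm, Ideal.Quotient.eq_zero_iff_mem]
      have : (⟨w, Algebra.subset_adjoin hw⟩ : A) = y := Subtype.ext hw
      exact this ▸ hyM
    | algebraMap r => exact ⟨r, rfl⟩
    | add p q hp hq hp' hq' =>
      obtain ⟨b, hb⟩ := hp'
      obtain ⟨c, hc⟩ := hq'
      exact ⟨b + c, by rw [map_add, hb, hc]; rfl⟩
    | mul p q hp hq hp' hq' =>
      obtain ⟨b, hb⟩ := hp'
      obtain ⟨c, hc⟩ := hq'
      exact ⟨b * c, by rw [map_mul, hb, hc]; rfl⟩
  have hker : (M.comap (algebraMap B A)) = maximalIdeal B := by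
    have : RingHom.ker ρ = M.comap (algebraMap B A) := by
      rw [← RingHom.comap_ker, Ideal.mk_ker]
    rw [← this]
    let := Ideal.Quotient.field M
    exact eq_maximalIdeal (RingHom.ker_isMaximal_of_surjective ρ hρ)
  have : Algebra.FiniteType B A :=
    (Subalgebra.fg_iff_finiteType A).mp (Subalgebra.fg_def.2 ⟨{x⁻¹}, Set.finite_singleton _, rfl⟩)
  have : IsNoetherianRing A := Algebra.FiniteType.isNoetherianRing B A
  let L := Localization.AtPrime M
  have hu : ∀ m : M.primeCompl, IsUnit (A.val.toRingHom (m : A)) := fun m =>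
    isUnit_iff_ne_zero.2 fun h0 => m.2 (by
      have : (m : A) = 0 := Subtype.ext h0
      rw [this]
      exact M.zero_mem)
  let ι : L →+* K := IsLocalization.lift hu
  have hι : ∀ a : A, ι (algebraMap A L a) = (a : K) := fun a => IsLocalization.lift_eq hu a
  let := ι.toAlgebra
  obtain ⟨R, hR, hmem, hval⟩ := DVRDom.exists_dvr_dominating (A := L) (L := K) s (by
      rw [eq_top_iff, ← hs]
      refine Subfield.closure_mono (Set.union_subset_union_left _ ?_)
      rintro _ ⟨b, rfl⟩
      exact ⟨algebraMap A L (algebraMap B A b), hι _⟩)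
    ⟨algebraMap A L y, (IsLocalization.AtPrime.to_map_mem_maximal_iff L M y).2 hyM, by
      change ι _ ≠ 0
      rw [hι]
      exact inv_ne_zero hx0⟩
  have key : ∀ a : A, a ∈ M → R.valuation (a : K) < 1 := fun a ha =>
    hι a ▸ hval _ ((IsLocalization.AtPrime.to_map_mem_maximal_iff L M a).2 ha)
  have hxR : x ∈ R := h R hR (fun b => by
      have : ι (algebraMap A L (algebraMap B A b)) ∈ R := hmem _
      rw [hι] at this
      exact this)
    fun b hb => key _ (hker.symm ▸ hb : b ∈ M.comap (algebraMap B A))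
  have h₁ : R.valuation x⁻¹ < 1 := key y hyM
  rw [← R.valuation_le_one_iff] at hxR
  have h₂ : R.valuation x * R.valuation x⁻¹ = 1 := by rw [← map_mul, mul_inv_cancel₀ hx0, map_one]
  have h₃ : R.valuation x * R.valuation x⁻¹ ≤ 1 * R.valuation x⁻¹ := mul_le_mul' hxR le_rfl
  rw [one_mul, h₂] at h₃
  exact absurd h₁ (not_lt_of_ge h₃)

/-- A local homomorphism essentially of finite type, unramified with trivial residue extension, whose
integral quotients are integral over the base, is surjective. -/
theorem surjective_of_forall_prime_integral {O O' : Type u} [CommRing O] [CommRing O'] [IsLocalRing O]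
    [IsLocalRing O'] [Algebra O O'] [IsLocalHom (algebraMap O O')] [Algebra.EssFiniteType O O']
    [Algebra.FormallyUnramified O O']
    (hres : Function.Surjective (IsLocalRing.ResidueField.map (algebraMap O O')))
    (H : ∀ (P : Ideal O'), P.IsPrime → ∀ x : O', IsIntegral O (Ideal.Quotient.mk P x)) :
    Function.Surjective (algebraMap O O') := by
  classical
  have hint : Algebra.IsIntegral O O' := ⟨fun x => by
    let Mx : Submonoid O' :=
      { carrier := {a | ∃ p : O[X], p.Monic ∧ aeval x p = a}
        one_mem' := ⟨1, monic_one, map_one _⟩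
        mul_mem' := by
          rintro _ _ ⟨p, hp, rfl⟩ ⟨q, hq, rfl⟩
          exact ⟨p * q, hp.mul hq, map_mul _ _ _⟩ }
    by_contra hx
    have hd : Disjoint ((⊥ : Ideal O') : Set O') (Mx : Set O') := by
      rw [Set.disjoint_left]
      rintro a (rfl : a = 0) ⟨p, hp, hp0⟩
      exact hx ⟨p, hp, hp0⟩
    obtain ⟨P, hP, -, hPd⟩ := Ideal.exists_le_prime_disjoint ⊥ Mx hd
    obtain ⟨p, hp, hp0⟩ := H P hP x
    refine Set.disjoint_left.1 hPd (?_ : aeval x p ∈ P) ⟨p, hp, rfl⟩
    rw [← Ideal.Quotient.eq_zero_iff_mem, ← Ideal.Quotient.mkₐ_eq_mk O, ← aeval_algHom_apply]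
    exact hp0⟩
  -- finiteness
  obtain ⟨σ, hσ⟩ := (Algebra.essFiniteType_iff O O').mp inferInstance
  let C : Subalgebra O O' := Algebra.adjoin O (σ : Set O')
  have : Algebra.IsIntegral C O' := ⟨fun z => (hint.isIntegral z).tower_top⟩
  have hC : C = ⊤ := top_le_iff.1 fun z _ => by
    obtain ⟨t, ht, htu, hzt⟩ := hσ z
    have htC : IsUnit (⟨t, ht⟩ : C) :=
      (Algebra.IsIntegral.isLocalHom (R := C) (S := O')).map_nonunit ⟨t, ht⟩ htu
    obtain ⟨w, hw⟩ := htC.exists_right_inv
    have hw' : t * (w : O') = 1 := congrArg Subtype.val hw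
    have : z = z * t * (w : O') := by rw [mul_assoc, hw', mul_one]
    rw [this]
    exact C.mul_mem hzt w.2
  have hfin : Module.Finite O O' :=
    ⟨by
      have := fg_adjoin_of_finite (R := O) σ.finite_toSet fun z _ => hint.isIntegral z
      rwa [show Algebra.adjoin O (σ : Set O') = ⊤ from hC, Algebra.top_toSubmodule] at this⟩
  -- Nakayama
  let N : Submodule O O' := LinearMap.range (Algebra.linearMap O O')
  have hle : (⊤ : Submodule O O') ≤ N := by
    refine Submodule.le_of_le_smul_of_le_jacobson_bot hfin.fg_top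
      (I := maximalIdeal O) (le_of_eq (jacobson_eq_maximalIdeal ⊥ bot_ne_top).symm) ?_
    rintro z -
    obtain ⟨w, hw⟩ := hres (residue O' z)
    obtain ⟨a, rfl⟩ := residue_surjective w
    rw [ResidueField.map_residue] at hw
    have hz : z - algebraMap O O' a ∈ maximalIdeal O' := by
      rw [← residue_eq_zero_iff, map_sub, hw, sub_self]
    rw [← Algebra.FormallyUnramified.map_maximalIdeal (R := O)] at hz
    have hz' : z - algebraMap O O' a ∈ (maximalIdeal O) • (⊤ : Submodule O O') := by
      rw [Ideal.smul_top_eq_map]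
      exact hz
    rw [← add_sub_cancel (algebraMap O O' a) z]
    exact Submodule.add_mem_sup ⟨a, rfl⟩ hz'
  intro z
  exact hle (show z ∈ (⊤ : Submodule O O') from trivial)

variable {R : CommRingCat.{u}} [IsNoetherianRing R] {Z : Scheme.{u}} (π : Z ⟶ Spec R)

/-- Discrete valuation rings with both points in the image lift. -/
def DVRLifts : Prop :=
  ∀ (A : Type u) [CommRing A] [IsDomain A] [IsDiscreteValuationRing A]
    (a : Spec (CommRingCat.of A) ⟶ Spec R),
    (∀ p, a p ∈ Set.range π) → ∃ l : Spec (CommRingCat.of A) ⟶ Z, l ≫ π = a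

omit [IsNoetherianRing R] in
/-- A morphism from a local scheme factors through the stalk at the image of the closed point. -/
theorem exists_stalk_factor {A : Type u} [CommRing A] [IsLocalRing A]
    (l : Spec (CommRingCat.of A) ⟶ Z) {z : Z} (hl : l (closedPoint A) = z) :
    ∃ β : Z.presheaf.stalk z ⟶ CommRingCat.of A, Spec.map β ≫ Z.fromSpecStalk z = l := by
  subst hl
  exact ⟨_, Scheme.Spec_stalkClosedPointTo_fromSpecStalk l⟩

omit [IsNoetherianRing R] in
/-- A lift of a valuation ring of a field-valued point of `Z`. -/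
theorem exists_lift_valuation [Mono π] [LocallyOfFiniteType π] (h : DVRLifts π) {K : Type u} [Field K]
    (A : ValuationSubring K) [IsDiscreteValuationRing A]
    (a : Spec (CommRingCat.of A) ⟶ Spec R) (e : Spec (CommRingCat.of K) ⟶ Z)
    (he : e ≫ π = Spec.map (CommRingCat.ofHom A.subtype) ≫ a) (z : Z)
    (hz : a (closedPoint A) = π z) :
    ∃ l : Spec (CommRingCat.of A) ⟶ Z, l ≫ π = a ∧ l (closedPoint A) = z ∧
      Spec.map (CommRingCat.ofHom A.subtype) ≫ l = e := by
  have hpts : ∀ p, a p ∈ Set.range π := fun p => by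
    by_cases hp : p.asIdeal = ⊥
    · refine ⟨e (closedPoint K), ?_⟩
      rw [← Scheme.Hom.comp_apply, he, Scheme.Hom.comp_apply]
      congr 1
      refine PrimeSpectrum.ext ?_
      rw [hp]
      change (maximalIdeal K).comap A.subtype = ⊥
      rw [IsLocalRing.isField_iff_maximalIdeal_eq.1 (Field.toIsField K),
        ← RingHom.ker_eq_comap_bot, (RingHom.injective_iff_ker_eq_bot _).1 Subtype.val_injective]
    · have : p = closedPoint A :=
        PrimeSpectrum.ext (eq_maximalIdeal (p.isPrime.isMaximal hp))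
      exact ⟨z, by rw [this, hz]⟩
  obtain ⟨l, hl⟩ := h A a hpts
  refine ⟨l, hl, ?_, ?_⟩
  · apply ((Unram.mono_iff_injective_and_stalk π).1 ‹_›).1
    rw [← hz, ← hl, Scheme.Hom.comp_apply]
  · rw [← cancel_mono π, Category.assoc, hl, he]

variable [Mono π] [LocallyOfFiniteType π]

theorem surjective_stalkMap_of_dvrLifts (h : DVRLifts π) (z : Z) :
    Function.Surjective (π.stalkMap z).hom := by
  have hm := (Unram.mono_iff_injective_and_stalk π).1 ‹_›
  let O := (Spec R).presheaf.stalk (π z)
  let O' := Z.presheaf.stalk z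
  have hess := LocallyOfFiniteType.stalkMap π z
  have hun := (hm.2 z).1
  algebraize [(π.stalkMap z).hom]
  have : IsLocalHom (algebraMap O O') := inferInstanceAs (IsLocalHom (π.stalkMap z).hom)
  refine surjective_of_forall_prime_integral (O := O) (O' := O') (hm.2 z).2 fun P _ x => ?_
  let D := O' ⧸ P
  let K := FractionRing D
  let ψ : O' ⟶ CommRingCat.of K :=
    CommRingCat.ofHom ((algebraMap D K).comp (Ideal.Quotient.mk P))
  let e : Spec (CommRingCat.of K) ⟶ Z := Spec.map ψ ≫ Z.fromSpecStalk z
  suffices hK : IsIntegral O (algebraMap D K (Ideal.Quotient.mk P x)) by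
    obtain ⟨p, hp, hp0⟩ := hK
    refine ⟨p, hp, IsFractionRing.injective D K ?_⟩
    rw [map_zero, ← aeval_def, ← aeval_algebraMap_apply]
    exact hp0
  obtain ⟨σ, hσ⟩ := (Algebra.essFiniteType_iff O O').mp inferInstance
  classical
  let F : Subfield K := Subfield.closure (Set.range (algebraMap O K) ∪ (σ.image ψ.hom : Finset K))
  have hle : ∀ w ∈ Algebra.adjoin O (σ : Set O'), ψ.hom w ∈ F := fun w hw => by
    induction hw using Algebra.adjoin_induction with
    | mem y hy => exact Subfield.subset_closure (Or.inr (Finset.mem_image_of_mem _ hy))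
    | algebraMap r => exact Subfield.subset_closure (Or.inl ⟨r, rfl⟩)
    | add p q _ _ hp hq => rw [map_add]; exact add_mem hp hq
    | mul p q _ _ hp hq => rw [map_mul]; exact mul_mem hp hq
  have himg : ∀ w : O', ψ.hom w ∈ F := fun w => by
    obtain ⟨t, ht, htu, hwt⟩ := hσ w
    have h0 : ψ.hom t ≠ 0 := (htu.map ψ.hom).ne_zero
    have : ψ.hom w = ψ.hom (w * t) * (ψ.hom t)⁻¹ := by
      rw [map_mul, mul_inv_cancel_right₀ h0]
    rw [this]
    exact mul_mem (hle _ hwt) (inv_mem (hle _ ht))
  have hF : F = ⊤ := top_le_iff.1 fun w _ => by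
    obtain ⟨a, b, -, rfl⟩ := IsFractionRing.div_surjective D w
    obtain ⟨a, rfl⟩ := Ideal.Quotient.mk_surjective a
    obtain ⟨b, rfl⟩ := Ideal.Quotient.mk_surjective b
    exact div_mem (himg a) (himg b)
  refine isIntegral_of_forall_dvr (σ.image ψ.hom) hF _ fun A hA hmem hval => ?_
  let α : O ⟶ CommRingCat.of A :=
    CommRingCat.ofHom ((algebraMap O K).codRestrict A.toSubring hmem)
  have hαl : IsLocalHom α.hom := ⟨fun c hc => by
    by_contra hu
    exact (ne_of_lt (hval c ((mem_maximalIdeal c).2 hu))) ((A.valuation_eq_one_iff _).1 hc)⟩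
  let a : Spec (CommRingCat.of A) ⟶ Spec R := Spec.map α ≫ (Spec R).fromSpecStalk (π z)
  have he : e ≫ π = Spec.map (CommRingCat.ofHom A.subtype) ≫ a := by
    change (Spec.map ψ ≫ Z.fromSpecStalk z) ≫ π = _
    rw [Category.assoc, ← Scheme.SpecMap_stalkMap_fromSpecStalk, ← Category.assoc,
      ← Spec.map_comp]
    change _ = _ ≫ Spec.map α ≫ (Spec R).fromSpecStalk (π z)
    rw [← Category.assoc, ← Spec.map_comp]
    rfl
  have hz : a (closedPoint A) = π z := by
    change (Spec R).fromSpecStalk (π z) (Spec.map α (closedPoint A)) = π z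
    rw [show Spec.map α (closedPoint A) = closedPoint O from IsLocalRing.comap_closedPoint α.hom,
      Scheme.fromSpecStalk_closedPoint]
  obtain ⟨l, hl, hlz, hle'⟩ := exists_lift_valuation π h A a e he z hz
  obtain ⟨β, hβ⟩ := exists_stalk_factor l hlz
  have hψ : β ≫ CommRingCat.ofHom A.subtype = ψ := by
    apply Spec.map_injective
    rw [← cancel_mono (Z.fromSpecStalk z), Spec.map_comp, Category.assoc, hβ, hle']
  change ψ.hom x ∈ A
  rw [← hψ]
  exact (β.hom x).2

variable [QuasiCompact π]

theorem isImmersion_of_dvrLifts (h : DVRLifts π) : IsImmersion π := by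
  have : NoetherianSpace ↥(Spec R) := inferInstanceAs (NoetherianSpace (PrimeSpectrum R))
  have : LocallyOfFinitePresentation π :=
    (HasRingHomProperty.iff_appLE (P := @LocallyOfFinitePresentation)).2 fun A B e => by
      have := IsLocallyNoetherian.component_noetherian (X := Spec R) A
      exact RingHom.FinitePresentation.of_finiteType.1
        (HasRingHomProperty.appLE (P := @LocallyOfFiniteType) π inferInstance A B e)
  have hinj := ((Unram.mono_iff_injective_and_stalk π).1 ‹_›).1
  have hsurj := surjective_stalkMap_of_dvrLifts π h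
  -- generalisations in the closure of a constructible set
  have hgen : ∀ (C : Set ↥(Spec R)), IsConstructible C → ∀ s ∈ closure C, ∃ η ∈ C, η ⤳ s := by
    intro C hC s hs
    obtain ⟨T, _, g, rfl⟩ :=
      PrimeSpectrum.exists_range_eq_of_isConstructible (R := R) (s := C) hC
    have : (⊥ : Ideal T).comap g ≤ s.asIdeal := by
      have hsub : closure (Set.range (PrimeSpectrum.comap g)) ⊆
          PrimeSpectrum.zeroLocus ((⊥ : Ideal T).comap g) :=
        closure_minimal (by rintro _ ⟨q, rfl⟩; exact Ideal.comap_mono bot_le)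
          (PrimeSpectrum.isClosed_zeroLocus _)
      exact hsub hs
    obtain ⟨q, -, hq, hqle⟩ := s.asIdeal.exists_ideal_comap_le_prime ⊥ this
    exact ⟨_, ⟨⟨q, hq⟩, rfl⟩, (PrimeSpectrum.le_iff_specializes _ _).1 hqle⟩
  -- specialisations lift
  have hspec : ∀ z' z : Z, π z' ⤳ π z → z' ⤳ z := by
    intro z' z hsp
    by_cases hne : π z = π z'
    · rw [hinj hne]
    obtain ⟨A, a, hA, ha, hcomm⟩ := DVRDom.exists_dvr_through_specialization π z' (π z) hsp hne
    obtain ⟨l, -, hl, hle⟩ := exists_lift_valuation π h A a (Z.fromSpecResidueField z') hcomm.symm z ha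
    let η := Spec.map (CommRingCat.ofHom A.subtype) (closedPoint (Z.residueField z'))
    have h1 : l η = z' := by
      rw [← Scheme.Hom.comp_apply, hle]
      exact Scheme.fromSpecResidueField_apply _ _
    have h2 : η ⤳ closedPoint A := specializes_closedPoint η
    rw [← h1, ← hl]
    exact h2.map l.continuous
  have hemb : IsEmbedding π := by
    refine ⟨isInducing_iff_nhds.2 fun z => le_antisymm π.continuous.continuousAt.le_comap ?_, hinj⟩
    intro s hs
    obtain ⟨O, hOs, hO, hzO⟩ := mem_nhds_iff.1 hs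
    have : NoetherianSpace ↥Z := by
      have : IsLocallyNoetherian Z := LocallyOfFiniteType.isLocallyNoetherian π
      have : CompactSpace ↥Z := QuasiCompact.compactSpace_of_compactSpace π
      have : IsNoetherian Z := {}
      infer_instance
    let C := π '' Oᶜ
    have hC : IsConstructible C := π.isConstructible_image
      ((NoetherianSpace.isCompact (O : Set Z)).isConstructible hO).compl
    refine Filter.mem_comap.2 ⟨(closure C)ᶜ, isClosed_closure.isOpen_compl.mem_nhds ?_, ?_⟩
    · intro hz
      obtain ⟨_, ⟨z', hz', rfl⟩, hsp⟩ := hgen C hC _ hz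
      exact hz' ((hspec z' z hsp).mem_open hO hzO)
    · intro w hw
      by_contra hws
      exact hw (subset_closure ⟨w, fun hwO => hws (hOs hwO), rfl⟩)
  have : SurjectiveOnStalks π := ⟨hsurj⟩
  have : IsPreimmersion π := ⟨hemb⟩
  refine ⟨?_⟩
  let E := Set.range π
  have hE : IsConstructible E := by
    rw [show E = π '' Set.univ from Set.image_univ.symm]
    exact π.isConstructible_image IsConstructible.univ
  let G := closure E ∩ Eᶜ
  have hG : IsConstructible G :=
    (((NoetherianSpace.isCompact (closure E)ᶜ).isConstructible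
      isClosed_closure.isOpen_compl).of_compl).inter hE.compl
  refine ⟨(closure G)ᶜ, closure E, isClosed_closure.isOpen_compl, isClosed_closure, ?_⟩
  ext s
  constructor
  · intro hs
    refine ⟨fun hsG => ?_, subset_closure hs⟩
    obtain ⟨t, ⟨htE, ht⟩, hts⟩ := hgen G hG s hsG
    obtain ⟨_, ⟨z', rfl⟩, hηt⟩ := hgen E hE t htE
    obtain ⟨z, rfl⟩ := hs
    -- `t` lies in the image of the closed set `Spec` of the stalk
    have hr := (Spec R).range_fromSpecStalk (x := π z)
    obtain ⟨τ, hτ⟩ : t ∈ Set.range ((Spec R).fromSpecStalk (π z)) := by rw [hr]; exact hts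
    obtain ⟨w, hw⟩ : z' ∈ Set.range (Z.fromSpecStalk z) := by
      rw [Scheme.range_fromSpecStalk]
      exact hspec z' z (hηt.trans hts)
    have hcl : IsClosed (Set.range (Spec.map (π.stalkMap z))) :=
      (PrimeSpectrum.isClosedEmbedding_comap_of_surjective _ _ (hsurj z)).isClosed_range
    have h1 : (Spec R).fromSpecStalk (π z) (Spec.map (π.stalkMap z) w) = π z' := by
      rw [← Scheme.Hom.comp_apply, Scheme.SpecMap_stalkMap_fromSpecStalk, Scheme.Hom.comp_apply, hw]
    have h2 : Spec.map (π.stalkMap z) w ⤳ τ := by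
      rw [← ((Spec R).fromSpecStalk (π z)).isEmbedding.isInducing.specializes_iff, h1, hτ]
      exact hηt
    obtain ⟨v, hv⟩ := h2.mem_closed hcl ⟨w, rfl⟩
    refine ht ⟨Z.fromSpecStalk z v, ?_⟩
    rw [← hτ, ← hv, ← Scheme.Hom.comp_apply, ← Scheme.Hom.comp_apply,
      Scheme.SpecMap_stalkMap_fromSpecStalk]
  · rintro ⟨hs₁, hs₂⟩
    by_contra hs
    exact hs₁ (subset_closure ⟨hs₂, hs⟩)

end Groth.Agent.AlgStB
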