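import Groth.Agent.AlgStB.LiftCrit
import Groth.Agent.AlgStB.DiagQC
import Groth.Agent.AlgStB.MonoImm
import Groth.Agent.AlgSpc.SepLQF2
import Groth.Agent.AlgSpLoc.Inst3
import Groth.Agent.AlgStB.DiagComp
import Mathlib.AlgebraicGeometry.Morphisms.FlatMono

/-!
# Monomorphisms to locally Noetherian stacks which are immersions
-/

set_option autoImplicit false
set_option backward.isDefEq.respectTransparency false
set_option backward.isDefEq.respectTransparency.types false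

universe u

open CategoryTheory CategoryTheory.Limits AlgebraicGeometry Opposite

namespace Groth.Agent.AlgStB

open _root_.AlgSp (Sp LocP IsAlgSpace IsSurjectiveMor IsQuasiCompactMor yon RepWith Space J
  representable_yon_map repWith_yon_map_iff)

noncomputable section

variable {S : Scheme.{u}} {𝒳 𝒴 : AlgSt.Cat S} {f : 𝒴 ⥤ᵇ 𝒳}

/-- Base change of a representation along a morphism of schemes. -/
theorem exists_rep_pullback {P : MorphismProperty (Sp S)} (hP : StableBC P)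
    {U U₂ : Over S} (y : FibCat.overCat U ⥤ᵇ 𝒳) (k : U₂ ⟶ U) (y₂ : FibCat.overCat U₂ ⥤ᵇ 𝒳)
    (i : BasedFunctor.comp (AlgSt.overMap k) y ≅ y₂)
    (h : ∃ (F : Space S) (e : AlgSt.ofSp F.obj ⥤ᵇ FibCat.fp y f),
      FibCat.IsEquivOver e ∧ P (AlgSt.spMapOfOver (BasedFunctor.comp e (FibCat.fpFst y f)))) :
    ∃ (F : Space S) (e : AlgSt.ofSp F.obj ⥤ᵇ FibCat.fp y₂ f),
      FibCat.IsEquivOver e ∧ P (AlgSt.spMapOfOver (BasedFunctor.comp e (FibCat.fpFst y₂ f))) := by
  obtain ⟨F, e, he, hφ⟩ := h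
  let φ := AlgSt.spMapOfOver (BasedFunctor.comp e (FibCat.fpFst y f))
  have sq := IsPullback.of_hasPullback φ ((yon S).map k)
  have hA : IsAlgSpace (pullback φ ((yon S).map k)) :=
    AlgSpc.isAlgSpace_of_isPullback F.property (IsAlgSpace.yon_obj U) (IsAlgSpace.yon_obj U₂) sq
  have hφ₂ : P (pullback.snd φ ((yon S).map k)) :=
    hP F.property (IsAlgSpace.yon_obj U) hA (IsAlgSpace.yon_obj U₂) _ _ _ _ sq hφ
  have sq' : IsPullback (pullback.fst φ ((yon S).map k)).hom (pullback.snd φ ((yon S).map k)).hom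
      φ.hom ((yon S).map k).hom :=
    sq.map (sheafToPresheaf (J S) _)
  obtain ⟨Φ, hΦ, hπ⟩ := exists_fp_rep sq'
    (BasedFunctor.comp (AlgSt.ofOverCat U₂) (AlgSt.ofSpMap ((yon S).map k))) (Iso.refl _)
  have := Fib.full_of_isEquivOver (isEquivOver_toOverCat U)
  have := Fib.faithful_of_isEquivOver (isEquivOver_toOverCat U)
  let M := Fib.fpMap (BasedFunctor.id (FibCat.overCat U₂)) e (AlgSt.toOverCat U)
    (F' := BasedFunctor.comp (AlgSt.ofOverCat U₂) (AlgSt.ofSpMap ((yon S).map k)))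
    (G' := Stk.ofPshMap φ.hom)
    (F := AlgSt.overMap k) (G := FibCat.fpFst y f) (overMapIso k)
    (isoOfOver (BasedFunctor.comp e (FibCat.fpFst y f))).symm
  let e₃ := BasedFunctor.comp (BasedFunctor.comp Φ M) (Fib.fpBC (AlgSt.overMap k) y f)
  have he₃ : FibCat.IsEquivOver e₃ := Fib.isEquivOver_comp (Fib.isEquivOver_comp hΦ
    (Fib.isEquivOver_fpMap _ _ _ _ _ (Fib.isEquivOver_id _) he)) (Fib.isEquivOver_fpBC _ _ _)
  obtain ⟨_, _⟩ := id_full_faithful 𝒳
  let D := Fib.fpMap (BasedFunctor.id (FibCat.overCat U₂)) (BasedFunctor.id 𝒴) (BasedFunctor.id 𝒳)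
    (F' := BasedFunctor.comp (AlgSt.overMap k) y) (G' := f) (F := y₂) (G := f) i (Iso.refl _)
  refine ⟨⟨_, hA⟩, BasedFunctor.comp e₃ D, Fib.isEquivOver_comp he₃
      (Fib.isEquivOver_fpMap _ _ _ _ _ (Fib.isEquivOver_id _) (Fib.isEquivOver_id _)), ?_⟩
  change P (AlgSt.spMapOfOver (BasedFunctor.comp e₃ (FibCat.fpFst _ f)))
  rw [show BasedFunctor.comp e₃ (FibCat.fpFst _ f) = _ from hπ]
  exact (spMapOfOver_toOverCat (F := pullback φ ((yon S).map k)) (U := U₂)
    (pullback.snd φ ((yon S).map k))).symm ▸ hφ₂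

theorem lqf_of_formallyUnramified {X Y : Scheme.{u}} (g : X ⟶ Y) [FormallyUnramified g]
    [LocallyOfFiniteType g] : LocallyQuasiFinite g where
  quasiFinite_appLE {U} hU {V} hV h := by
    have h₁ := HasRingHomProperty.appLE (P := @LocallyOfFiniteType) g inferInstance ⟨U, hU⟩ ⟨V, hV⟩ h
    have h₂ := HasRingHomProperty.appLE (P := @FormallyUnramified) g inferInstance ⟨U, hU⟩ ⟨V, hV⟩ h
    algebraize [(g.appLE U V h).hom]
    exact (inferInstance : Algebra.QuasiFinite Γ(Y, U) Γ(X, V))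

/-- A monomorphism, locally of finite presentation, to a scheme is locally quasi-finite. -/
theorem locP_lqf_of_mono {F : Sp S} {T : Over S} (φ : F ⟶ (yon S).obj T) [Mono φ]
    (h : LocP @LocallyOfFinitePresentation φ) :
    LocP (@LocallyQuasiFinite ⊓ @LocallyOfFiniteType) φ := by
  intro U V a b c ha hb hc
  let g : U ⟶ T := AlgSpc.pre (a ≫ φ)
  have hg : (yon S).map g = a ≫ φ := AlgSpc.map_pre _
  have hlfp : LocallyOfFinitePresentation g.left :=
    h a (𝟙 _) g ha (AlgSpc.repWith_iso _) (by simp [hg])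
  have hQ := (IsPullback.of_hasPullback g g).map (yon S)
  rw [hg] at hQ
  have hcomm : (yon S).map (pullback.fst g g) ≫ a = (yon S).map (pullback.snd g g) ≫ a := by
    rw [← cancel_mono φ, Category.assoc, Category.assoc]
    exact hQ.w
  have sq : IsPullback ((yon S).map (pullback.fst g g)) ((yon S).map (pullback.snd g g)) a a :=
    ⟨⟨hcomm⟩, ⟨PullbackCone.IsLimit.mk _ (fun c => hQ.lift c.fst c.snd (by
        rw [reassoc_of% c.condition]))
      (fun c => hQ.lift_fst _ _ _) (fun c => hQ.lift_snd _ _ _)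
      (fun c l h₁ h₂ => hQ.hom_ext (by rw [h₁, hQ.lift_fst]) (by rw [h₂, hQ.lift_snd]))⟩⟩
  have hsnd : Etale (pullback.snd g g).left :=
    (repWith_yon_map_iff _ _).1 (AlgSpc.repWith_of_isPullback sq ha)
  have sq' : IsPullback (pullback.fst g g).left (pullback.snd g g).left g.left g.left :=
    (IsPullback.of_hasPullback g g).map (Over.forget S)
  have : Etale (pullback.snd g.left g.left) := by
    rw [← sq'.isoPullback_inv_snd]
    exact (MorphismProperty.cancel_left_of_respectsIso @Etale _ _).2 hsnd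
  have : Etale (pullback.diagonal g.left ≫ pullback.snd g.left g.left) := by
    rw [pullback.diagonal_snd]
    infer_instance
  have : Etale (pullback.diagonal g.left) := Etale.of_comp _ (pullback.snd g.left g.left)
  have : IsOpenImmersion (pullback.diagonal g.left) := IsOpenImmersion.of_flat_of_mono _
  have : LocallyQuasiFinite g.left := lqf_of_formallyUnramified g.left
  have hcb : g = c ≫ AlgSpc.pre b := (yon S).map_injective (by simp [hg, hc])
  have hb' : LocallyOfFiniteType (c.left ≫ (AlgSpc.pre b).left) := by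
    rw [← Over.comp_left, ← hcb]; infer_instance
  have hb'' : LocallyQuasiFinite (c.left ≫ (AlgSpc.pre b).left) := by
    rw [← Over.comp_left, ← hcb]; infer_instance
  exact ⟨LocallyQuasiFinite.of_comp c.left (AlgSpc.pre b).left,
    locallyOfFiniteType_of_comp c.left (AlgSpc.pre b).left⟩

/-- Lifts over the points of discrete valuation rings. -/
def DVRPointLifts (f : 𝒴 ⥤ᵇ 𝒳) : Prop :=
  ∀ (A : Type u) [CommRing A] [IsDomain A] [IsDiscreteValuationRing A] (K : Type u) [Field K]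
    [Algebra A K] [IsFractionRing A K] (sA : Spec (CommRingCat.of A) ⟶ S)
    (a : FibCat.overCat (Over.mk sA : Over S) ⥤ᵇ 𝒳),
    Lifts f a (Over.homMk (Spec.map (CommRingCat.ofHom (algebraMap A K))) rfl :
      Over.mk (Spec.map (CommRingCat.ofHom (algebraMap A K)) ≫ sA) ⟶ Over.mk sA) →
    Lifts f a (Over.homMk (Spec.map (CommRingCat.ofHom (IsLocalRing.residue A))) rfl :
      Over.mk (Spec.map (CommRingCat.ofHom (IsLocalRing.residue A)) ≫ sA) ⟶ Over.mk sA) →
    ∃ y : FibCat.overCat (Over.mk sA : Over S) ⥤ᵇ 𝒴, Nonempty (BasedFunctor.comp y f ≅ a)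

/-- A field-valued point of the target in the image of a monomorphism lifts. -/
theorem exists_lift_field {Z Y : Scheme.{u}} (π : Z ⟶ Y) [Mono π] [LocallyOfFiniteType π]
    {K : Type u} [Field K] (e : Spec (CommRingCat.of K) ⟶ Y)
    (he : e (IsLocalRing.closedPoint K) ∈ Set.range π) :
    ∃ g : Spec (CommRingCat.of K) ⟶ Z, g ≫ π = e := by
  obtain ⟨⟨y, φ⟩, rfl⟩ := (Scheme.SpecToEquivOfField K Y).symm.surjective e
  change (Spec.map φ ≫ Y.fromSpecResidueField y) _ ∈ _ at he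
  rw [Scheme.Hom.comp_apply, Scheme.fromSpecResidueField_apply] at he
  obtain ⟨z, rfl⟩ := he
  have hr : Function.Bijective (π.residueFieldMap z).hom :=
    ⟨(π.residueFieldMap z).hom.injective, (((Unram.mono_iff_injective_and_stalk π).1 ‹_›).2 z).2⟩
  have : IsIso (π.residueFieldMap z) := (ConcreteCategory.isIso_iff_bijective _).2 hr
  refine ⟨Spec.map (inv (π.residueFieldMap z) ≫ φ) ≫ Z.fromSpecResidueField z, ?_⟩
  change _ = Spec.map φ ≫ Y.fromSpecResidueField (π z)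
  rw [Category.assoc, ← Scheme.Hom.SpecMap_residueFieldMap_fromSpecResidueField, ← Category.assoc,
    ← Spec.map_comp, IsIso.hom_inv_id_assoc]

/-- The base change to an affine Noetherian scheme is a quasi-compact immersion. -/
theorem rep_immQC_of_noetherian (h𝒳 : AlgSt.IsAlgStack Scheme.fppfPrecoverage 𝒳)
    (h𝒴 : AlgSt.IsAlgStack Scheme.fppfPrecoverage 𝒴) (hf : AlgSt.IsMono f)
    (hlfp : AlgSt.RepByAlgSpWith (LocP @LocallyOfFinitePresentation) f)
    (hqc : AlgSt.RepByAlgSpWith IsQuasiCompactMor f) (hb : DVRPointLifts f)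
    (R : CommRingCat.{u}) [IsNoetherianRing R] (s : Spec R ⟶ S)
    (v : FibCat.overCat (Over.mk s : Over S) ⥤ᵇ 𝒳) :
    ∃ (F : Space S) (e : AlgSt.ofSp F.obj ⥤ᵇ FibCat.fp v f), FibCat.IsEquivOver e ∧
      RepWith (@IsImmersion ⊓ @QuasiCompact)
        (AlgSt.spMapOfOver (BasedFunctor.comp e (FibCat.fpFst v f))) := by
  obtain ⟨F, e, he, hm, hq, hl⟩ := repByAlgSpWith_inf_self hf hqc hlfp (Over.mk s) v
  refine ⟨F, e, he, ?_⟩
  let φ := AlgSt.spMapOfOver (BasedFunctor.comp e (FibCat.fpFst v f))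
  have : Mono φ := hm
  obtain ⟨Z, ⟨χ⟩⟩ := AlgSpc.exists_yon_iso_of_mono_lqf F.property φ (locP_lqf_of_mono φ hl)
  let k : Z ⟶ Over.mk s := AlgSpc.pre (χ.hom ≫ φ)
  have hk : (yon S).map k = χ.hom ≫ φ := AlgSpc.map_pre _
  have : Mono k := (yon S).mono_of_mono_map (by rw [hk]; infer_instance)
  have : LocallyOfFinitePresentation k.left :=
    hl χ.hom (𝟙 _) k (AlgSpc.repWith_iso _) (AlgSpc.repWith_iso _) (by simp [hk, φ])
  have hkq : IsQuasiCompactMor ((yon S).map k) :=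
    AlgSpc.isQuasiCompactMor_base_change
      (IsPullback.of_horiz_isIso (fst := χ.hom) (g := 𝟙 _) ⟨by simp [hk, φ]⟩) hq
  have : QuasiCompact k.left := (repWith_yon_map_iff _ k).1
    ((AlgSpc.repWith_quasiCompact_iff (representable_yon_map k)).2 hkq)
  -- the chart of the 2-fibre product
  let τ : FibCat.overCat Z ⥤ᵇ FibCat.fp v f :=
    BasedFunctor.comp (BasedFunctor.comp (AlgSt.ofOverCat Z) (AlgSt.ofSpMap χ.hom)) e
  have hτ : FibCat.IsEquivOver τ := Fib.isEquivOver_comp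
    (Fib.isEquivOver_comp (isEquivOver_ofOverCat Z) ((isEquivOver_ofSpMap_iff _).2 inferInstance)) he
  let iτ : BasedFunctor.comp τ (FibCat.fpFst v f) ≅ AlgSt.overMap k :=
    Fib.isoWhiskerLeft (BasedFunctor.comp (AlgSt.ofOverCat Z) (AlgSt.ofSpMap χ.hom))
        (isoOfOver (BasedFunctor.comp e (FibCat.fpFst v f))) ≪≫
      eqToIso (congrArg (fun t => BasedFunctor.comp (BasedFunctor.comp (AlgSt.ofOverCat Z)
        (AlgSt.ofSpMap t)) (AlgSt.toOverCat _)) hk.symm) ≪≫ overMapIso k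
  have lifts_comp : ∀ {P : Over S} (g : P ⟶ Z), Lifts f v (g ≫ k) := fun {P} g =>
    ⟨BasedFunctor.comp (BasedFunctor.comp (AlgSt.overMap g) τ) (FibCat.fpSnd v f),
      ⟨Fib.isoWhiskerLeft (BasedFunctor.comp (AlgSt.overMap g) τ) (FibCat.fpIso v f).symm ≪≫
        Fib.isoWhiskerRight (Fib.isoWhiskerLeft (AlgSt.overMap g) iτ ≪≫ overMapComp g k) v⟩⟩
  have factor : ∀ {P : Over S} (p : P ⟶ Over.mk s), Lifts f v p → ∃ g : P ⟶ Z, g ≫ k = p := by
    rintro P p ⟨q, ⟨i⟩⟩
    let σ := FibCat.fpLift (AlgSt.overMap p) q i.symm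
    obtain ⟨b, -, -, ⟨ib⟩⟩ := Fib.exists_quasiInverse hτ
    obtain ⟨g, ⟨ig⟩⟩ := exists_iso_overMap (BasedFunctor.comp σ b)
    refine ⟨g, overMap_inj ?_⟩
    exact (overMapComp g k).symm ≪≫ Fib.isoWhiskerLeft (AlgSt.overMap g) iτ.symm ≪≫
      Fib.isoWhiskerRight ig.symm (BasedFunctor.comp τ (FibCat.fpFst v f)) ≪≫
      Fib.isoWhiskerLeft σ (Fib.isoWhiskerRight ib (FibCat.fpFst v f))
  have hlift : DVRLifts k.left := by
    intro A _ _ _ a₀ hpts
    let sA : Spec (CommRingCat.of A) ⟶ S := a₀ ≫ s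
    let m : (Over.mk sA : Over S) ⟶ Over.mk s := Over.homMk a₀ rfl
    let a := BasedFunctor.comp (AlgSt.overMap m) v
    have key : ∀ (K : Type u) [Field K] (j : Spec (CommRingCat.of K) ⟶ Spec (CommRingCat.of A)),
        Lifts f a (Over.homMk j rfl : Over.mk (j ≫ sA) ⟶ Over.mk sA) := fun K _ j => by
      obtain ⟨g, hg⟩ := exists_lift_field k.left (j ≫ a₀) (hpts _)
      let g' : (Over.mk (j ≫ sA) : Over S) ⟶ Z := Over.homMk g (by
        change g ≫ Z.hom = j ≫ a₀ ≫ s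
        rw [← Over.w k, ← Category.assoc g, hg, Category.assoc]; rfl)
      have e' : g' ≫ k = (Over.homMk j rfl : Over.mk (j ≫ sA) ⟶ Over.mk sA) ≫ m :=
        Over.OverMorphism.ext hg
      obtain ⟨q, ⟨i⟩⟩ := lifts_comp g'
      exact ⟨q, ⟨i ≪≫ Fib.isoWhiskerRight
        (eqToIso (congrArg AlgSt.overMap e') ≪≫ (overMapComp _ m).symm) v⟩⟩
    obtain ⟨y, hy⟩ := hb A (FractionRing A) sA a (key _ _) (key _ _)
    obtain ⟨g, hg⟩ := factor m ⟨y, hy⟩
    exact ⟨g.left, congrArg CommaMorphism.left hg⟩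
  have := isImmersion_of_dvrLifts k.left hlift
  have hrep : RepWith (@IsImmersion ⊓ @QuasiCompact) (χ.hom ≫ φ) := by
    rw [← hk]
    exact (repWith_yon_map_iff _ k).2 ⟨‹_›, ‹_›⟩
  exact ((RepWith (@IsImmersion ⊓ @QuasiCompact)).cancel_left_of_respectsIso χ.hom φ).1 hrep

theorem stableBC_repWith (P : MorphismProperty Scheme.{u}) : StableBC (RepWith (S := S) P) :=
  fun _ _ _ _ _ _ _ _ _ _ _ _ sq h => AlgSpc.repWith_of_isPullback sq h

/-- A monomorphism, locally of finite presentation, to a locally Noetherian stack with the lifting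
properties for discrete valuation rings and dense sets is a quasi-compact immersion. -/
theorem repByAlgSpWith_immQC_of_lifts (h𝒳 : AlgSt.IsAlgStack Scheme.fppfPrecoverage 𝒳)
    (h𝒴 : AlgSt.IsAlgStack Scheme.fppfPrecoverage 𝒴)
    (hnoeth : AlgSt.SmoothLocally (fun X => IsLocallyNoetherian X) 𝒳)
    (hf : AlgSt.IsMono f) (hlfp : AlgSt.RepByAlgSpWith (LocP @LocallyOfFinitePresentation) f)
    (hb : DVRPointLifts f) (hc : DenseLifts f) :
    AlgSt.RepByAlgSpWith (RepWith (@IsImmersion ⊓ @QuasiCompact)) f := by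
  have hqc := repByAlgSpWith_isQuasiCompactMor_of_denseLifts h𝒳 h𝒴 hf hlfp hc hnoeth
  refine repByAlgSpWith_of_local (stableBC_repWith _).respectsSrcIso
    (isLocalOnBase_fppf_of_fpqc AlgSpLoc.isLocalOnBase_qcImmersion) f (repByAlgSp1_of_with hf)
    fun U y => ?_
  obtain ⟨X, x, hx, hxs⟩ := h𝒳.atlas
  have : IsLocallyNoetherian X.left := hnoeth X x hx
  obtain ⟨T, k, τ, ⟨i⟩, -, hP, hs⟩ := exists_cover_point (Fib.isFibGrpd_overCat X) h𝒳.isStack.1 x
    (repByAlgSp1_of_with hx) y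
  obtain ⟨m, ⟨jm⟩⟩ := exists_iso_overMap τ
  have hsm : Smooth k.left := hP _ hx
  have hloc : ∀ t : ↥T.left, ∃ (W : T.left.Opens) (V : X.left.Opens), IsAffineOpen V ∧
      (W : Set ↥T.left) ⊆ m.left ⁻¹' (V : Set ↥X.left) ∧ t ∈ W := fun t => by
    obtain ⟨_, ⟨V, hV, rfl⟩, htV, -⟩ :=
      X.left.isBasis_affineOpens.exists_subset_of_mem_open (Set.mem_univ (m.left t)) isOpen_univ
    exact ⟨m.left ⁻¹ᵁ V, V, hV, subset_rfl, htV⟩
  choose W V hV hWV hu using hloc
  let T' : ↥T.left → Over S := fun t => Over.mk ((W t).ι ≫ T.hom)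
  let jT : ∀ t, T' t ⟶ T := fun t => Over.homMk (W t).ι rfl
  refine ⟨↥T.left, T', fun t => jT t ≫ k, isFppfCover_map T' (fun t => jT t ≫ k)
    (fun t => inferInstanceAs (Flat ((W t).ι ≫ k.left)))
    (fun t => inferInstanceAs (LocallyOfFinitePresentation ((W t).ι ≫ k.left))) (fun u => ?_),
    fun t => ?_⟩
  · obtain ⟨t, rfl⟩ := hs hxs u
    exact ⟨t, ⟨t, hu t⟩, rfl⟩
  let sV : Spec Γ(X.left, V t) ⟶ S := (hV t).fromSpec ≫ X.hom
  let eV : (Over.mk sV : Over S) ⟶ X := Over.homMk (hV t).fromSpec rfl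
  have hrange : Set.range ((W t).ι ≫ m.left) ⊆ Set.range (hV t).fromSpec := by
    rw [(hV t).range_fromSpec]
    rintro _ ⟨z, rfl⟩
    exact hWV t z.2
  let m' : T' t ⟶ Over.mk sV := Over.homMk (IsOpenImmersion.lift (hV t).fromSpec ((W t).ι ≫ m.left) hrange) (by
    change IsOpenImmersion.lift _ _ hrange ≫ (hV t).fromSpec ≫ X.hom = (W t).ι ≫ T.hom
    rw [IsOpenImmersion.lift_fac_assoc, Category.assoc, Over.w m])
  have hm' : m' ≫ eV = jT t ≫ m :=
    Over.OverMorphism.ext (IsOpenImmersion.lift_fac (hV t).fromSpec ((W t).ι ≫ m.left) hrange)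
  have : IsNoetherianRing Γ(X.left, V t) :=
    IsLocallyNoetherian.component_noetherian ⟨V t, hV t⟩
  let v := BasedFunctor.comp (AlgSt.overMap eV) x
  let i' : BasedFunctor.comp (AlgSt.overMap m') v ≅ BasedFunctor.comp (AlgSt.overMap (jT t ≫ k)) y :=
    Fib.isoWhiskerRight (overMapComp m' eV ≪≫ eqToIso (congrArg AlgSt.overMap hm') ≪≫
        (overMapComp (jT t) m).symm) x ≪≫
      Fib.isoWhiskerLeft (AlgSt.overMap (jT t)) (Fib.isoWhiskerRight jm.symm x ≪≫ i) ≪≫
      Fib.isoWhiskerRight (overMapComp (jT t) k) y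
  exact exists_rep_pullback (stableBC_repWith _) v m' _ i'
    (rep_immQC_of_noetherian h𝒳 h𝒴 hf hlfp hqc hb _ sV v)

end

end Groth.Agent.AlgStB
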