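import Groth.Agent.AlgStB.QCDescent
import Groth.Agent.AlgStB.DiagComp
import Groth.Agent.AlgStB.DiagProps
import Groth.Agent.AlgStB.MonoImmStack
import Groth.Agent.AlgStB.LocQMore
import Groth.Agent.Fib.Rep

/-!
# Quasi-compact and quasi-separated morphisms of algebraic stacks; immersions
-/

set_option autoImplicit false
set_option backward.isDefEq.respectTransparency false
set_option backward.isDefEq.respectTransparency.types false

universe u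

open CategoryTheory CategoryTheory.Limits AlgebraicGeometry Opposite TopologicalSpace

namespace Groth.Agent.AlgStB

open _root_.AlgSt (FPt Points)
open _root_.AlgSp (Sp LocP IsAlgSpace IsQuasiCompactMor IsQuasiSeparatedMor yon RepWith Space
  repWith_yon_map_iff)

noncomputable section

variable {S : Scheme.{u}} {𝒳 𝒴 𝒵 : AlgSt.Cat S}

theorem repByAlgSpWith_diag_toSelf_comp {P : MorphismProperty (Sp S)} (f : 𝒳 ⥤ᵇ 𝒴) :
    AlgSt.RepByAlgSpWith P (FibCat.diag (BasedFunctor.comp f (FibCat.toSelf 𝒴))) ↔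
      AlgSt.RepByAlgSpWith P (FibCat.diag (FibCat.toSelf 𝒳)) :=
  repByAlgSpWith_diag_iff_of_square _ _ (BasedFunctor.id 𝒳) (BasedFunctor.id _)
    (Fib.isEquivOver_id _) (Fib.isEquivOver_id _) (Fib.toSelfIso _ _)

variable (h𝒳 : AlgSt.IsAlgStack Scheme.fppfPrecoverage 𝒳)
  (h𝒴 : AlgSt.IsAlgStack Scheme.fppfPrecoverage 𝒴)

include h𝒳 h𝒴

theorem repByAlgSp1_diag (f : 𝒳 ⥤ᵇ 𝒴) : AlgSt.RepByAlgSp1 (FibCat.diag f) := by
  obtain ⟨ι, ⟨i⟩, hι⟩ := exists_diag_comp_factor f (FibCat.toSelf 𝒴)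
  have hS : FibCat.IsFibGrpd (FibCat.selfOver (Over S)).p := Fib.isFibGrpd_selfOver
  have hι' : AlgSt.RepByAlgSp1 ι :=
    repByAlgSp1_of_with (hι (repByAlgSpWith_top_iff.2 h𝒴.diag))
  exact repByAlgSp1_of_comp h𝒳.isStack.1 (Fib.isFibGrpd_fp f f h𝒳.isStack.1 h𝒳.isStack.1 h𝒴.isStack.1)
    (Fib.isFibGrpd_fp _ _ h𝒳.isStack.1 h𝒳.isStack.1 hS)
    (repByAlgSp1_of_iso i.symm (repByAlgSp1_of_with
      ((repByAlgSpWith_diag_toSelf_comp f).2 (repByAlgSpWith_top_iff.2 h𝒳.diag))))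
    (repByAlgSp1_of_with (isMono_diag ι hι'))

theorem isQuasiSeparatedMor_iff_diag (f : 𝒳 ⥤ᵇ 𝒴) :
    AlgSt.IsQuasiSeparatedMor f ↔ AlgSt.RepByAlgSpWith IsQuasiCompactMor (FibCat.diag f) ∧
      AlgSt.RepByAlgSpWith IsQuasiCompactMor (FibCat.diag (FibCat.diag f)) := by
  have hd := repByAlgSp1_diag h𝒳 h𝒴 f
  refine ⟨fun h => ⟨repByAlgSpWith_mono inf_le_left h,
    qc_diag_of_quasiSeparated _ (repByAlgSpWith_mono inf_le_right h)⟩, fun h => ?_⟩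
  exact repByAlgSpWith_mono (fun _ _ _ hm => ⟨hm.2, hm.1⟩)
    (repByAlgSpWith_inf (quasiSeparated_of_qc_diag _ hd h.2) h.1)

theorem isQuasiCompactMor_fpFst (h𝒵 : AlgSt.IsAlgStack Scheme.fppfPrecoverage 𝒵) {f : 𝒳 ⥤ᵇ 𝒴}
    (g : 𝒵 ⥤ᵇ 𝒴) (hf : AlgSt.IsQuasiCompactMor Scheme.fppfPrecoverage f) :
    AlgSt.IsQuasiCompactMor Scheme.fppfPrecoverage (FibCat.fpFst g f) := by
  have hP := isAlgStack_fp h𝒴.isStack h𝒴.diag h𝒵 h𝒳 g f
  refine isQuasiCompactMor_of_affine hP h𝒵 fun U _ y => ?_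
  have := compactSpace_fp_of_qcMor h𝒳 h𝒴 hf U (BasedFunctor.comp y g)
  obtain ⟨b, hb, -, -⟩ := Fib.exists_quasiInverse (Fib.isEquivOver_fpBC y g f)
  exact compactSpace_of_isSurjective
    (isAlgStack_fp h𝒵.isStack h𝒵.diag (isAlgStack_overCat U) hP y _) b (bijective_map b hb).2

theorem isQuasiCompactMor_comp (h𝒵 : AlgSt.IsAlgStack Scheme.fppfPrecoverage 𝒵) {f : 𝒳 ⥤ᵇ 𝒴}
    {g : 𝒴 ⥤ᵇ 𝒵} (hf : AlgSt.IsQuasiCompactMor Scheme.fppfPrecoverage f)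
    (hg : AlgSt.IsQuasiCompactMor Scheme.fppfPrecoverage g) :
    AlgSt.IsQuasiCompactMor Scheme.fppfPrecoverage (BasedFunctor.comp f g) := by
  refine isQuasiCompactMor_of_affine h𝒳 h𝒵 fun U _ y => ?_
  have hP := isAlgStack_fp h𝒵.isStack h𝒵.diag (isAlgStack_overCat U) h𝒴 y g
  have := compactSpace_fp_of_qcMor h𝒴 h𝒵 hg U y
  have hQ := isAlgStack_fp h𝒴.isStack h𝒴.diag hP h𝒳 (FibCat.fpSnd y g) f
  have := (isQuasiCompact_iff hQ).1 (hf _ hP ((isQuasiCompact_iff hP).2 inferInstance) (FibCat.fpSnd y g))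
  exact compactSpace_of_isSurjective
    (isAlgStack_fp h𝒵.isStack h𝒵.diag (isAlgStack_overCat U) h𝒳 y _) (Fib.fpAssoc y g f)
    (bijective_map _ (Fib.isEquivOver_fpAssoc y g f)).2

theorem isQuasiCompactMor_of_comp (h𝒵 : AlgSt.IsAlgStack Scheme.fppfPrecoverage 𝒵) {f : 𝒳 ⥤ᵇ 𝒴}
    {g : 𝒴 ⥤ᵇ 𝒵} (h : AlgSt.IsQuasiCompactMor Scheme.fppfPrecoverage (BasedFunctor.comp f g))
    (hg : AlgSt.IsQuasiSeparatedMor g) : AlgSt.IsQuasiCompactMor Scheme.fppfPrecoverage f := by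
  obtain ⟨m, e, he⟩ := Fib.exists_twoCart_graph f g
  have hP := isAlgStack_fp h𝒵.isStack h𝒵.diag h𝒴 h𝒳 g (BasedFunctor.comp f g)
  exact isQuasiCompactMor_comp h𝒳 hP (f := Fib.graph f g)
    (g := FibCat.fpFst g (BasedFunctor.comp f g)) h𝒴
    (isQuasiCompactMor_of_rep h𝒳 hP _
      (repByAlgSpWith_of_twoCart _ m _ f e he (repByAlgSpWith_mono inf_le_left hg)))
    (isQuasiCompactMor_fpFst h𝒳 h𝒵 h𝒴 g h)

/-- Quasi-separatedness of the first morphism of a composite. -/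
theorem isQuasiSeparatedMor_of_comp' {𝒯 : BasedCategory.{u, u + 1} (Over S)}
    (h𝒯 : FibCat.IsFibGrpd 𝒯.p) {f : 𝒳 ⥤ᵇ 𝒴} {t : 𝒴 ⥤ᵇ 𝒯} (ht : AlgSt.IsQuasiSeparatedMor t)
    (h : AlgSt.IsQuasiSeparatedMor (BasedFunctor.comp f t)) : AlgSt.IsQuasiSeparatedMor f := by
  obtain ⟨ι, ⟨i⟩, hι⟩ := exists_diag_comp_factor f t
  have hι' := hι ht
  have hdι : AlgSt.RepByAlgSpWith (IsQuasiCompactMor ⊓ IsQuasiSeparatedMor) (FibCat.diag ι) :=
    repByAlgSpWith_mono (fun _ _ a ha => by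
        have : Mono a := ha.2
        exact qcqs_of_mono_qc a ha.1)
      (repByAlgSpWith_inf (qc_diag_of_quasiSeparated ι (repByAlgSpWith_mono inf_le_right hι'))
        (isMono_diag ι (repByAlgSp1_of_with hι')))
  exact repByAlgSpWith_cancel h𝒳.isStack.1
    (Fib.isFibGrpd_fp f f h𝒳.isStack.1 h𝒳.isStack.1 h𝒴.isStack.1)
    (Fib.isFibGrpd_fp _ _ h𝒳.isStack.1 h𝒳.isStack.1 h𝒯) respectsSrcIso_qcqs hc_qcqs hdι
    (repByAlgSpWith_of_iso i.symm h)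

theorem isQuasiSeparatedOver_of_isQuasiSeparatedMor {f : 𝒳 ⥤ᵇ 𝒴} (hf : AlgSt.IsQuasiSeparatedMor f)
    (hY : AlgSt.IsQuasiSeparatedOver 𝒴) : AlgSt.IsQuasiSeparatedOver 𝒳 :=
  (repByAlgSpWith_diag_toSelf_comp f).1
    (repByAlgSpWith_diag_comp h𝒳.isStack.1 h𝒴.isStack.1 respectsSrcIso_qcqs hc_qcqs hf hY)

theorem qcqs_fp [QuasiSeparatedSpace S] (h𝒵 : AlgSt.IsAlgStack Scheme.fppfPrecoverage 𝒵)
    (a : 𝒳 ⥤ᵇ 𝒴) (b : 𝒵 ⥤ᵇ 𝒴) (hXc : AlgSt.IsQuasiCompact 𝒳) (hXs : AlgSt.IsQuasiSeparatedOver 𝒳)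
    (hYs : AlgSt.IsQuasiSeparatedOver 𝒴) (hZc : AlgSt.IsQuasiCompact 𝒵)
    (hZs : AlgSt.IsQuasiSeparatedOver 𝒵) :
    AlgSt.IsQuasiCompact (FibCat.fp a b) ∧ AlgSt.IsQuasiSeparatedOver (FibCat.fp a b) := by
  have hP := isAlgStack_fp h𝒴.isStack h𝒴.diag h𝒳 h𝒵 a b
  refine ⟨isQuasiCompactMor_of_qc h𝒵 h𝒴 b hZc (repByAlgSpWith_mono inf_le_left hYs) 𝒳 h𝒳 hXc a, ?_⟩
  have hb : AlgSt.IsQuasiSeparatedMor b :=
    isQuasiSeparatedMor_of_comp' h𝒵 h𝒴 Fib.isFibGrpd_selfOver hYs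
      ((repByAlgSpWith_diag_toSelf_comp b).2 hZs)
  exact isQuasiSeparatedOver_of_isQuasiSeparatedMor hP h𝒳 (f := FibCat.fpFst a b)
    (repByAlgSpWith_diag_fpFst b a hb) hXs

omit h𝒳 in
/-- A property local on the base holds if it holds over Noetherian affine schemes. -/
theorem repByAlgSpWith_of_noetherian {P : MorphismProperty (Sp S)} (hP : StableBC P)
    (hl : _root_.AlgSp.IsLocalOnBase _root_.AlgSp.IsFppfCover P)
    (hnoeth : AlgSt.SmoothLocally (fun X => IsLocallyNoetherian X) 𝒴) {f : 𝒳 ⥤ᵇ 𝒴}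
    (hf : AlgSt.RepByAlgSp1 f)
    (H : ∀ (R : CommRingCat.{u}) [IsNoetherianRing R] (s : Spec R ⟶ S)
      (v : FibCat.overCat (Over.mk s : Over S) ⥤ᵇ 𝒴),
      ∃ (F : Space S) (e : AlgSt.ofSp F.obj ⥤ᵇ FibCat.fp v f), FibCat.IsEquivOver e ∧
        P (AlgSt.spMapOfOver (BasedFunctor.comp e (FibCat.fpFst v f)))) :
    AlgSt.RepByAlgSpWith P f := by
  refine repByAlgSpWith_of_local hP.respectsSrcIso hl f hf fun U y => ?_
  obtain ⟨X, x, hx, hxs⟩ := h𝒴.atlas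
  have : IsLocallyNoetherian X.left := hnoeth X x hx
  obtain ⟨T, k, τ, ⟨i⟩, -, hP', hs⟩ := exists_cover_point (Fib.isFibGrpd_overCat X) h𝒴.isStack.1 x
    (repByAlgSp1_of_with hx) y
  obtain ⟨m, ⟨jm⟩⟩ := exists_iso_overMap τ
  have hsm : Smooth k.left := hP' _ hx
  have hloc : ∀ t : ↥T.left, ∃ V : X.left.Opens, IsAffineOpen V ∧ m.left t ∈ V := fun t => by
    obtain ⟨_, ⟨V, hV, rfl⟩, htV, -⟩ :=
      X.left.isBasis_affineOpens.exists_subset_of_mem_open (Set.mem_univ (m.left t)) isOpen_univ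
    exact ⟨V, hV, htV⟩
  choose V hV hu using hloc
  let W : ↥T.left → T.left.Opens := fun t => m.left ⁻¹ᵁ V t
  let T' : ↥T.left → Over S := fun t => Over.mk ((W t).ι ≫ T.hom)
  let jT : ∀ t, T' t ⟶ T := fun t => Over.homMk (W t).ι rfl
  refine ⟨↥T.left, T', fun t => jT t ≫ k, isFppfCover_map T' (fun t => jT t ≫ k)
    (fun t => inferInstanceAs (Flat ((W t).ι ≫ k.left)))
    (fun t => inferInstanceAs (LocallyOfFinitePresentation ((W t).ι ≫ k.left))) (fun u => ?_),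
    fun t => ?_⟩
  · obtain ⟨t, rfl⟩ := hs hxs u
    exact ⟨t, ⟨t, hu t⟩, rfl⟩
  let sV : Spec Γ(X.left, V t) ⟶ S := (hV t).fromSpec ≫ X.hom
  let eV : (Over.mk sV : Over S) ⟶ X := Over.homMk (hV t).fromSpec rfl
  have hrange : Set.range ((W t).ι ≫ m.left) ⊆ Set.range (hV t).fromSpec := by
    rw [(hV t).range_fromSpec]
    rintro _ ⟨z, rfl⟩
    exact z.2
  let m' : T' t ⟶ Over.mk sV := Over.homMk (IsOpenImmersion.lift (hV t).fromSpec ((W t).ι ≫ m.left) hrange) (by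
    change IsOpenImmersion.lift _ _ hrange ≫ (hV t).fromSpec ≫ X.hom = (W t).ι ≫ T.hom
    rw [IsOpenImmersion.lift_fac_assoc, Category.assoc, Over.w m])
  have hm' : m' ≫ eV = jT t ≫ m :=
    Over.OverMorphism.ext (IsOpenImmersion.lift_fac (hV t).fromSpec ((W t).ι ≫ m.left) hrange)
  have : IsNoetherianRing Γ(X.left, V t) :=
    IsLocallyNoetherian.component_noetherian ⟨V t, hV t⟩
  let v := BasedFunctor.comp (AlgSt.overMap eV) x
  let i' : BasedFunctor.comp (AlgSt.overMap m') v ≅ BasedFunctor.comp (AlgSt.overMap (jT t ≫ k)) y :=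
    Fib.isoWhiskerRight (overMapComp m' eV ≪≫ eqToIso (congrArg AlgSt.overMap hm') ≪≫
        (overMapComp (jT t) m).symm) x ≪≫
      Fib.isoWhiskerLeft (AlgSt.overMap (jT t)) (Fib.isoWhiskerRight jm.symm x ≪≫ i) ≪≫
      Fib.isoWhiskerRight (overMapComp (jT t) k) y
  exact exists_rep_pullback hP v m' _ i' (H _ sV v)

omit h𝒳 in
/-- An immersion into a locally Noetherian stack is quasi-compact. -/
theorem repByAlgSpWith_immQC_of_isImm
    (hnoeth : AlgSt.SmoothLocally (fun X => IsLocallyNoetherian X) 𝒴) {j : 𝒳 ⥤ᵇ 𝒴}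
    (hj : AlgSt.IsImm j) :
    AlgSt.RepByAlgSpWith (RepWith (@IsImmersion ⊓ @QuasiCompact)) j := by
  refine repByAlgSpWith_of_noetherian h𝒴 (stableBC_repWith _)
    (isLocalOnBase_fppf_of_fpqc AlgSpLoc.isLocalOnBase_qcImmersion) hnoeth (repByAlgSp1_of_with hj)
    fun R _ s v => ?_
  obtain ⟨F, e, he, hφ⟩ := hj (Over.mk s) v
  refine ⟨F, e, he, ?_⟩
  let φ := AlgSt.spMapOfOver (BasedFunctor.comp e (FibCat.fpFst v j))
  obtain ⟨Z, fst, k, sq⟩ := AlgSpc.exists_sq hφ.1 (𝟙 ((yon S).obj (Over.mk s)))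
  have hk : IsImmersion k.left := hφ.2 _ _ k sq
  have : NoetherianSpace ↥(Spec R) := inferInstanceAs (NoetherianSpace (PrimeSpectrum R))
  have : NoetherianSpace ↥(Over.mk s : Over S).left := inferInstanceAs (NoetherianSpace ↥(Spec R))
  have : NoetherianSpace ↥Z.left := k.left.isEmbedding.isInducing.noetherianSpace
  have : IsAffine (Over.mk s : Over S).left := inferInstanceAs (IsAffine (Spec R))
  have hqc : QuasiCompact k.left := (quasiCompact_iff_compactSpace k.left).2 inferInstance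
  have : IsIso fst := sq.isIso_fst_of_isIso
  have hrep : RepWith (@IsImmersion ⊓ @QuasiCompact) (fst ≫ φ) := by
    rw [show fst ≫ φ = (yon S).map k from sq.w.trans (Category.comp_id _)]
    exact (repWith_yon_map_iff _ k).2 ⟨hk, hqc⟩
  exact ((RepWith (@IsImmersion ⊓ @QuasiCompact)).cancel_left_of_respectsIso fst φ).1 hrep

theorem noetherian_qc_of_isImm
    (hnoeth : AlgSt.SmoothLocally (fun X => IsLocallyNoetherian X) 𝒴) {j : 𝒳 ⥤ᵇ 𝒴}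
    (hj : AlgSt.IsImm j) :
    AlgSt.SmoothLocally (fun X => IsLocallyNoetherian X) 𝒳 ∧
      AlgSt.IsQuasiCompactMor Scheme.fppfPrecoverage j := by
  refine ⟨smoothLocally_noetherian_of_lft h𝒳 h𝒴 (locQ_of_repByAlgSpWith h𝒳 h𝒴
    (fun _ _ k (hk : Smooth k) => inferInstanceAs (LocallyOfFiniteType k))
    (repByAlgSpWith_mono (fun _ _ _ hm => AlgSpc.locP_of_repWith (fun a b ha hb => AlgSpc.EtLoc.precomp a b ha hb)
      (AlgSpc.repWith_mono immersion_le_lft hm)) hj)) hnoeth, ?_⟩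
  exact isQuasiCompactMor_of_rep h𝒳 h𝒴 j (repByAlgSpWith_mono
    (fun _ _ _ hm => AlgSpc.isQuasiCompactMor_of_repWith (AlgSpc.repWith_mono (fun _ _ _ hk => hk.2) hm))
    (repByAlgSpWith_immQC_of_isImm h𝒴 hnoeth hj))

theorem isQuasiSeparatedMor_of_isImm {j : 𝒳 ⥤ᵇ 𝒴} (hj : AlgSt.IsImm j) :
    AlgSt.IsQuasiSeparatedMor j := by
  refine (isQuasiSeparatedMor_iff j (repByAlgSp1_of_with hj)).2 (repByAlgSpWith_mono (fun _ _ a ha => ?_) hj)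
  have : Mono a := AlgSpc.mono_of_repWith (fun _ _ k (hk : IsImmersion k) => inferInstance) ha
  exact AlgSpc.repWith_iso (pullback.diagonal a)

theorem noetherian_of_isImm (hYc : AlgSt.IsQuasiCompact 𝒴) (hYs : AlgSt.IsQuasiSeparatedOver 𝒴)
    (hnoeth : AlgSt.SmoothLocally (fun X => IsLocallyNoetherian X) 𝒴) {j : 𝒳 ⥤ᵇ 𝒴}
    (hj : AlgSt.IsImm j) :
    AlgSt.IsQuasiCompact 𝒳 ∧ AlgSt.IsQuasiSeparatedOver 𝒳 ∧
      AlgSt.SmoothLocally (fun X => IsLocallyNoetherian X) 𝒳 := by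
  obtain ⟨hN, hq⟩ := noetherian_qc_of_isImm h𝒳 h𝒴 hnoeth hj
  refine ⟨?_, isQuasiSeparatedOver_of_isQuasiSeparatedMor h𝒳 h𝒴
    (isQuasiSeparatedMor_of_isImm h𝒳 h𝒴 hj) hYs, hN⟩
  have hP := isAlgStack_fp h𝒴.isStack h𝒴.diag h𝒴 h𝒳 (BasedFunctor.id 𝒴) j
  have := (isQuasiCompact_iff hP).1 (hq 𝒴 h𝒴 hYc (BasedFunctor.id 𝒴))
  obtain ⟨b, hb, -, -⟩ := Fib.exists_quasiInverse (Fib.isEquivOver_fpIdLeft j)
  have := compactSpace_of_isSurjective h𝒳 b (bijective_map b hb).2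
  exact (isQuasiCompact_iff h𝒳).2 this

end

end Groth.Agent.AlgStB
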