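import Groth.Agent.AlgStB.DiagBC
import Groth.Agent.AlgStB.DiagComp
import Groth.Agent.AlgStB.CoverDescent
import Groth.Agent.AlgStB.QCSep

/-!
# Diagonals with a property local on the base for etale coverings
-/

set_option autoImplicit false
set_option backward.isDefEq.respectTransparency false
set_option backward.isDefEq.respectTransparency.types false

universe u

open CategoryTheory CategoryTheory.Limits AlgebraicGeometry Opposite

namespace Groth.Agent.AlgStB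

open _root_.AlgSp

variable {S : Scheme.{u}}

theorem isEtCover_atlas {F : Sp S} (hF : IsAlgSpace F) {T : Over S} {p : (yon S).obj T ⟶ F}
    (hp : RepWith @Etale p) (hs : RepWith @Surjective p) :
    IsEtCover (S := S) (fun _ : PUnit.{u + 1} => (yon S).obj T) (fun _ => p) := by
  refine ⟨fun _ => (AlgSpc.isEtaleMor_iff_locP (IsAlgSpace.yon_obj T) hF).2
    (AlgSpc.locP_of_repWith (fun e f he hf => MorphismProperty.comp_mem (W := (@Etale : MorphismProperty Scheme.{u})) e f he hf) hp),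
    fun x => ?_⟩
  obtain ⟨y, hy⟩ := AlgSpc.surjective_map_of_repWith hs x
  exact ⟨⟨⟩, y, hy⟩

theorem hc_of_etLocal {P : MorphismProperty (Sp S)}
    (hl : IsLocalOnBase (IsEtCover (S := S)) P)
    (hc : ∀ ⦃X Y Z : Sp S⦄, IsAlgSpace X → IsAlgSpace Y → IsAlgSpace Z →
      ∀ (a : X ⟶ Y) (b : Y ⟶ Z), P a → P b → P (a ≫ b)) :
    ∀ ⦃X Y Z : Sp S⦄, IsAlgSpace X → IsAlgSpace Y → IsAlgSpace Z →
      ∀ (a : X ⟶ Y) (b : Y ⟶ Z), (∀ (T : Over S) (p : (yon S).obj T ⟶ Y), P (pullback.snd a p)) →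
        P b → P (a ≫ b) := by
  intro X Y Z hX hY hZ a b ha hb
  obtain ⟨T, p, hp, hps⟩ := hY.atlas
  exact hc hX hY hZ a b ((hl (ι := PUnit.{u + 1})
    (fun _ => (yon S).obj T) (fun _ => p) hY (fun _ => IsAlgSpace.yon_obj T)
    (isEtCover_atlas hY hp hps) a hX (fun _ => pullback a p) (fun _ => pullback.snd a p)
    (fun _ => pullback.fst a p) (fun _ => AlgSpc.isAlgSpace_of_isPullback hX hY
      (IsAlgSpace.yon_obj T) (IsPullback.of_hasPullback a p))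
    (fun _ => IsPullback.of_hasPullback a p)).2 fun _ => ha T p) hb

theorem repByAlgSpWith_diag_iff_forall {𝒳 𝒴 : AlgSt.Cat S}
    {P : MorphismProperty (Sp S)} (f : 𝒳 ⥤ᵇ 𝒴) :
    AlgSt.RepByAlgSpWith P (FibCat.diag f) ↔
      ∀ (T : Over S) (y : FibCat.overCat T ⥤ᵇ 𝒴),
        AlgSt.RepByAlgSpWith P (FibCat.diag (FibCat.fpFst y f)) := by
  refine ⟨fun h T y => repByAlgSpWith_diag_fpFst f y h, fun h U q => ?_⟩
  let a := BasedFunctor.comp q (FibCat.fpFst f f)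
  let b := BasedFunctor.comp q (FibCat.fpSnd f f)
  let y := BasedFunctor.comp a f
  obtain ⟨e, he⟩ := Fib.exists_twoCart_diag_fpFst f y
  have hm : AlgSt.RepByAlgSpWith P (FibCat.fpFst (Fib.diagBCMap f y) (FibCat.diag f)) :=
    (repByAlgSpWith_iff_of_square (FibCat.fpFst (Fib.diagBCMap f y) (FibCat.diag f))
      (FibCat.diag (FibCat.fpFst y f)) (FibCat.fpLift (FibCat.diag (FibCat.fpFst y f)) (FibCat.fpSnd y f) e)
      (BasedFunctor.id _) he (Fib.isEquivOver_id _) (Iso.refl _)).2 (h U y)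
  let la : FibCat.overCat U ⥤ᵇ FibCat.fp y f := FibCat.fpLift (BasedFunctor.id _) a (Iso.refl y)
  let lb : FibCat.overCat U ⥤ᵇ FibCat.fp y f :=
    FibCat.fpLift (BasedFunctor.id _) b (Fib.isoWhiskerLeft q (FibCat.fpIso f f))
  let z : FibCat.overCat U ⥤ᵇ FibCat.fp (FibCat.fpFst y f) (FibCat.fpFst y f) :=
    FibCat.fpLift la lb (Iso.refl (BasedFunctor.id _))
  let i : BasedFunctor.comp z (Fib.diagBCMap f y) ≅ q :=
    Fib.isoMk (fun t => Fib.fpIsoMk (Iso.refl _) (Iso.refl _) (by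
        change f.map (𝟙 _) ≫ (q.obj t).obj.iso.hom =
          (𝟙 _ ≫ y.map (𝟙 t) ≫ (q.obj t).obj.iso.hom) ≫ f.map (𝟙 _)
        simp))
      (fun φ => Fib.fp_hom_ext ((Category.comp_id _).trans (Category.id_comp _).symm)
        ((Category.comp_id _).trans (Category.id_comp _).symm))
      (fun t => Fib.fp_iso_isHomLift_id _ (IsHomLift.id (q.w_obj t)))
  exact exists_rep_of_lift hm q z i

theorem repByAlgSpWith_diag_of_comp_of_cancel {P : MorphismProperty (Sp S)} (hb : StableBC P)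
    (hcancel : ∀ ⦃X Y Z : Sp S⦄, IsAlgSpace X → IsAlgSpace Y → IsAlgSpace Z →
      ∀ (a : X ⟶ Y) (b : Y ⟶ Z), P b → P (a ≫ b) → P a)
    {𝒳 𝒴 𝒵 : AlgSt.Cat S} (h𝒳 : FibCat.IsFibGrpd 𝒳.p) (h𝒴 : FibCat.IsFibGrpd 𝒴.p)
    (h𝒵 : FibCat.IsFibGrpd 𝒵.p) {f : 𝒳 ⥤ᵇ 𝒴} {g : 𝒴 ⥤ᵇ 𝒵}
    (hg : AlgSt.RepByAlgSpWith P (FibCat.diag g))
    (h : AlgSt.RepByAlgSpWith P (FibCat.diag (BasedFunctor.comp f g))) :
    AlgSt.RepByAlgSpWith P (FibCat.diag f) := by
  obtain ⟨ι, ⟨i⟩, hι⟩ := exists_diag_comp_factor f g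
  have hff := Fib.isFibGrpd_fp f f h𝒳 h𝒳 h𝒴
  have hd : AlgSt.RepByAlgSp1 (FibCat.diag f) :=
    repByAlgSp1_of_comp h𝒳 hff (Fib.isFibGrpd_fp _ _ h𝒳 h𝒳 h𝒵)
      (repByAlgSp1_of_iso i.symm (repByAlgSp1_of_with h))
      (repByAlgSp1_of_with (isMono_diag ι (repByAlgSp1_of_with (hι hg))))
  intro U q
  let y := BasedFunctor.comp q ι
  obtain ⟨F₁, e₁, he₁, hP₁⟩ := hι hg U y
  let Γ := BasedFunctor.comp e₁ (FibCat.fpSnd y ι)
  obtain ⟨W, e₂, π, he₂, ⟨k⟩, -⟩ := exists_fp_ofSp' (P := ⊤) h𝒳 hff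
    (fun _ _ _ _ _ _ _ _ _ => trivial) (repByAlgSpWith_top_iff.2 hd) F₁.property Γ
  obtain ⟨_, _⟩ := id_full_faithful (FibCat.fp f f)
  obtain ⟨_, _⟩ := id_full_faithful (FibCat.fp (BasedFunctor.comp f g) (BasedFunctor.comp f g))
  let M := Fib.fpMap e₁ (BasedFunctor.id 𝒳) (BasedFunctor.id (FibCat.fp f f))
      (F' := Γ) (G' := FibCat.diag f) (F := FibCat.fpSnd y ι) (G := FibCat.diag f)
      (Iso.refl _) (Iso.refl _)
  let N := Fib.fpMap (BasedFunctor.id (FibCat.overCat U)) (BasedFunctor.id 𝒳)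
      (BasedFunctor.id (FibCat.fp (BasedFunctor.comp f g) (BasedFunctor.comp f g)))
      (F' := y) (G' := BasedFunctor.comp (FibCat.diag f) ι) (F := y)
      (G := FibCat.diag (BasedFunctor.comp f g)) (Iso.refl _) i
  let Φ := BasedFunctor.comp e₂ (BasedFunctor.comp M
    (BasedFunctor.comp (Fib.fpAssoc y ι (FibCat.diag f)) N))
  have hΦ : FibCat.IsEquivOver Φ := Fib.isEquivOver_comp he₂ (Fib.isEquivOver_comp
    (Fib.isEquivOver_fpMap _ _ _ _ _ he₁ (Fib.isEquivOver_id _))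
    (Fib.isEquivOver_comp (Fib.isEquivOver_fpAssoc y ι (FibCat.diag f))
      (Fib.isEquivOver_fpMap _ _ _ _ _ (Fib.isEquivOver_id _) (Fib.isEquivOver_id _))))
  obtain ⟨Z, e', he', hP'⟩ := h U y
  obtain ⟨j, ⟨l⟩⟩ := exists_iso_of_reps Φ e' hΦ he'
  let b₀ := BasedFunctor.comp e₁ (FibCat.fpFst y ι)
  have h₁ : AlgSt.spMapOfOver (BasedFunctor.comp Φ (FibCat.fpFst y _)) =
      π ≫ AlgSt.spMapOfOver b₀ := spMapOfOver_congr (Fib.isoWhiskerRight k b₀)
  have h₂ : AlgSt.spMapOfOver (BasedFunctor.comp Φ (FibCat.fpFst y _)) =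
      j.hom ≫ AlgSt.spMapOfOver (BasedFunctor.comp e' (FibCat.fpFst y _)) := by
    rw [← spMapOfOver_congr (Fib.isoWhiskerRight l (FibCat.fpFst y _))]
    rfl
  have hπ : P π := hcancel W.property F₁.property (IsAlgSpace.yon_obj U) π _ hP₁
    ((h₁.symm.trans h₂) ▸ hb.respectsSrcIso Z.property W.property (IsAlgSpace.yon_obj U) j _ hP')
  have hrep : AlgSt.RepByAlgSpWith P (AlgSt.ofSpMap π) := by
    refine repByAlgSpWith_of_repBySpWith ((repBySpWith_hom_iff P π).2 fun V ξ F' fst snd sq => ?_)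
    have hF' := AlgSpc.isAlgSpace_of_isPullback W.property F₁.property (IsAlgSpace.yon_obj V) sq
    exact ⟨hF', hb W.property F₁.property hF' (IsAlgSpace.yon_obj V) π ξ snd fst sq hπ⟩
  have hbc : AlgSt.RepByAlgSpWith P (FibCat.fpFst Γ (FibCat.diag f)) :=
    (repByAlgSpWith_iff_of_square (FibCat.fpFst Γ (FibCat.diag f)) (AlgSt.ofSpMap π) e₂
      (BasedFunctor.id _) he₂ (Fib.isEquivOver_id _) k.symm).2 hrep
  obtain ⟨g₁, -, -, ⟨j₁⟩⟩ := Fib.exists_quasiInverse he₁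
  let L : FibCat.overCat U ⥤ᵇ FibCat.fp y ι := FibCat.fpLift (BasedFunctor.id _) q (Iso.refl y)
  exact exists_rep_of_lift hbc q (BasedFunctor.comp L g₁)
    (Fib.isoWhiskerLeft L (Fib.isoWhiskerRight j₁ (FibCat.fpSnd y ι)))

end Groth.Agent.AlgStB
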