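import Groth.Agent.AlgStB.DiagBC
import Groth.Agent.AlgStB.Spaces
import Groth.Agent.AlgStB.SpDiag
import Groth.Prelude.Def_AlgSt3

/-!
# Diagonals of 1-morphisms representable by algebraic spaces
-/

set_option autoImplicit false
set_option backward.isDefEq.respectTransparency false
set_option backward.isDefEq.respectTransparency.types false

universe v₆ u₆ v₅ u₅ v₄ u₄ v₃ u₃ v₂ u₂ v u

open CategoryTheory CategoryTheory.Limits AlgebraicGeometry Opposite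

namespace Groth.Agent.AlgStB

open _root_.AlgSp

/-- Functors into a 2-fibre product over a category with faithful structure functor. -/
theorem nonempty_iso_fp_of_faithful {C : Type u} [Category.{v} C] {𝒳 : BasedCategory.{v₂, u₂} C}
    {𝒴 : BasedCategory.{v₃, u₃} C} {𝒮 : BasedCategory.{v₄, u₄} C}
    {𝒲 : BasedCategory.{v₅, u₅} C} [𝒮.p.Faithful] {F : 𝒳 ⥤ᵇ 𝒮} {G : 𝒴 ⥤ᵇ 𝒮}
    (A B : 𝒲 ⥤ᵇ FibCat.fp F G)
    (i₁ : BasedFunctor.comp A (FibCat.fpFst F G) ≅ BasedFunctor.comp B (FibCat.fpFst F G))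
    (i₂ : BasedFunctor.comp A (FibCat.fpSnd F G) ≅ BasedFunctor.comp B (FibCat.fpSnd F G)) :
    Nonempty (A ≅ B) := by
  refine ⟨Fib.isoMk (fun w => Fib.fpIsoMk (Fib.appIso i₁ w) (Fib.appIso i₂ w) ?_)
    (fun φ => Fib.fp_hom_ext (Fib.appIso_natural i₁ φ) (Fib.appIso_natural i₂ φ))
    (fun w => Fib.fp_iso_isHomLift_id _ (Fib.appIso_isHomLift i₁ w))⟩
  apply 𝒮.p.map_injective
  have hA : 𝒳.p.obj (A.obj w).obj.fst = 𝒲.p.obj w := A.w_obj w
  have hB : 𝒳.p.obj (B.obj w).obj.fst = 𝒲.p.obj w := B.w_obj w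
  have : 𝒮.p.IsHomLift (𝟙 (𝒲.p.obj w)) (F.map (Fib.appIso i₁ w).hom) :=
    BasedFunctor.preserves_isHomLift F _ _
  have : 𝒮.p.IsHomLift (𝟙 (𝒲.p.obj w)) (G.map (Fib.appIso i₂ w).hom) :=
    BasedFunctor.preserves_isHomLift G _ _
  have : 𝒮.p.IsHomLift (𝟙 (𝒲.p.obj w)) (A.obj w).obj.iso.hom := hA ▸ (A.obj w).property
  have : 𝒮.p.IsHomLift (𝟙 (𝒲.p.obj w)) (B.obj w).obj.iso.hom := hB ▸ (B.obj w).property
  rw [IsHomLift.fac' 𝒮.p (𝟙 (𝒲.p.obj w))
      (F.map (Fib.appIso i₁ w).hom ≫ (B.obj w).obj.iso.hom),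
    IsHomLift.fac' 𝒮.p (𝟙 (𝒲.p.obj w))
      ((A.obj w).obj.iso.hom ≫ G.map (Fib.appIso i₂ w).hom)]

variable {S : Scheme.{u}} {𝒳 : BasedCategory.{v₂, u₂} (Over S)}
  {𝒴 : BasedCategory.{v₃, u₃} (Over S)} {𝒳' : BasedCategory.{v₄, u₄} (Over S)}
  {𝒴' : BasedCategory.{v₅, u₅} (Over S)} {Q : MorphismProperty (Sp S)}

theorem repByAlgSpWith_diag_iff_of_square (f : 𝒳 ⥤ᵇ 𝒴) (f' : 𝒳' ⥤ᵇ 𝒴') (a : 𝒳' ⥤ᵇ 𝒳)
    (b : 𝒴' ⥤ᵇ 𝒴) (ha : FibCat.IsEquivOver a) (hb : FibCat.IsEquivOver b)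
    (e : BasedFunctor.comp f' b ≅ BasedFunctor.comp a f) :
    AlgSt.RepByAlgSpWith Q (FibCat.diag f) ↔ AlgSt.RepByAlgSpWith Q (FibCat.diag f') := by
  have := Fib.full_of_isEquivOver hb
  have := Fib.faithful_of_isEquivOver hb
  refine repByAlgSpWith_iff_of_square (FibCat.diag f) (FibCat.diag f') a
    (Fib.fpMap a a b (F' := f') (G' := f') (F := f) (G := f) e e) ha
    (Fib.isEquivOver_fpMap _ _ _ _ _ ha ha) ?_
  refine Fib.isoMk (fun x => Fib.fpIsoMk (Iso.refl (a.obj x)) (Iso.refl (a.obj x)) ?_)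
    (fun φ => Fib.fp_hom_ext ((Category.comp_id _).trans (Category.id_comp _).symm)
      ((Category.comp_id _).trans (Category.id_comp _).symm))
    (fun x => Fib.fp_iso_isHomLift_id _ (IsHomLift.id (a.w_obj x)))
  change f.map (𝟙 _) ≫ 𝟙 _ =
    ((Fib.appIso e x).inv ≫ b.map (𝟙 _) ≫ (Fib.appIso e x).hom) ≫ f.map (𝟙 _)
  rw [CategoryTheory.Functor.map_id, CategoryTheory.Functor.map_id]
  refine (Category.comp_id _).trans (Eq.trans ?_ (Category.comp_id _).symm)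
  exact ((congrArg _ (Category.id_comp _)).trans (Iso.inv_hom_id _)).symm

/-- The diagonal of `f` is detected on the base changes of `f` to schemes. -/
theorem repByAlgSpWith_diag_of_local (f : 𝒳 ⥤ᵇ 𝒴)
    (h : ∀ (U : Over S) (z : FibCat.overCat U ⥤ᵇ 𝒴),
      AlgSt.RepByAlgSpWith Q (FibCat.diag (FibCat.fpFst z f))) :
    AlgSt.RepByAlgSpWith Q (FibCat.diag f) := by
  intro U y
  let z := BasedFunctor.comp (BasedFunctor.comp y (FibCat.fpFst f f)) f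
  let s₁ : FibCat.overCat U ⥤ᵇ FibCat.fp z f :=
    FibCat.fpLift (BasedFunctor.id _) (BasedFunctor.comp y (FibCat.fpFst f f)) (Iso.refl z)
  let s₂ : FibCat.overCat U ⥤ᵇ FibCat.fp z f :=
    FibCat.fpLift (BasedFunctor.id _) (BasedFunctor.comp y (FibCat.fpSnd f f))
      (Fib.isoWhiskerLeft y (FibCat.fpIso f f))
  let y' : FibCat.overCat U ⥤ᵇ FibCat.fp (FibCat.fpFst z f) (FibCat.fpFst z f) :=
    FibCat.fpLift s₁ s₂ (Iso.refl (BasedFunctor.id _))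
  let i : BasedFunctor.comp y' (Fib.diagBCMap f z) ≅ y :=
    Fib.isoMk (fun v => Fib.fpIsoMk (Iso.refl (y.obj v).obj.fst) (Iso.refl (y.obj v).obj.snd) (by
        change f.map (𝟙 _) ≫ (y.obj v).obj.iso.hom =
          (𝟙 _ ≫ z.map (𝟙 _) ≫ (y.obj v).obj.iso.hom) ≫ f.map (𝟙 _)
        simp))
      (fun φ => Fib.fp_hom_ext ((Category.comp_id _).trans (Category.id_comp _).symm)
        ((Category.comp_id _).trans (Category.id_comp _).symm))
      (fun v => Fib.fp_iso_isHomLift_id _ (IsHomLift.id (y.w_obj v)))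
  obtain ⟨e, he⟩ := Fib.exists_twoCart_diag_fpFst f z
  obtain ⟨F, ε, hε, hQ⟩ := h U z U y'
  obtain ⟨_, _⟩ := id_full_faithful (FibCat.fp (FibCat.fpFst z f) (FibCat.fpFst z f))
  obtain ⟨_, _⟩ := id_full_faithful (FibCat.fp f f)
  let A := Fib.fpMap (BasedFunctor.id _) (FibCat.fpLift _ _ e) (BasedFunctor.id _) (F' := y')
    (G' := FibCat.diag (FibCat.fpFst z f)) (F := y')
    (G := FibCat.fpFst (Fib.diagBCMap f z) (FibCat.diag f)) (Iso.refl _) (Iso.refl _)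
  let B := Fib.fpBC y' (Fib.diagBCMap f z) (FibCat.diag f)
  let D := Fib.fpMap (BasedFunctor.id _) (BasedFunctor.id _) (BasedFunctor.id _)
    (F' := BasedFunctor.comp y' (Fib.diagBCMap f z)) (G' := FibCat.diag f) (F := y)
    (G := FibCat.diag f) i (Iso.refl _)
  exact ⟨F, BasedFunctor.comp (BasedFunctor.comp (BasedFunctor.comp ε A) B) D,
    Fib.isEquivOver_comp (Fib.isEquivOver_comp (Fib.isEquivOver_comp hε
      (Fib.isEquivOver_fpMap _ _ _ _ _ (Fib.isEquivOver_id _) he)) (Fib.isEquivOver_fpBC _ _ _))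
      (Fib.isEquivOver_fpMap _ _ _ _ _ (Fib.isEquivOver_id _) (Fib.isEquivOver_id _)), hQ⟩

instance faithful_ofSp_p (F : Sp S) : (AlgSt.ofSp F).p.Faithful :=
  ⟨fun {_ _} _ _ e => Stk.EltObj.hom_ext e⟩

/-- The diagonal of a map of sheaves, as a 1-morphism. -/
theorem repByAlgSpWith_diag_ofSpMap_iff' {F G : Sp S} (a : F ⟶ G) :
    AlgSt.RepByAlgSpWith Q (FibCat.diag (AlgSt.ofSpMap a)) ↔
      AlgSt.RepByAlgSpWith Q (Stk.ofPshMap (pullback.diagonal a).hom) := by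
  have sq : IsPullback (pullback.snd a a).hom (pullback.fst a a).hom a.hom a.hom :=
    (IsPullback.of_hasPullback a a).flip.map (sheafToPresheaf (J S) _)
  obtain ⟨Φ, hΦ, h₁, h₂⟩ := isEquivOver_fpLift sq
  have e₁ : BasedFunctor.comp (Stk.ofPshMap (pullback.diagonal a).hom) (BasedFunctor.comp Φ
      (FibCat.fpFst (AlgSt.ofSpMap a) (AlgSt.ofSpMap a))) = BasedFunctor.id _ := by
    change BasedFunctor.comp _ (BasedFunctor.comp Φ (FibCat.fpFst (Stk.ofPshMap a.hom) _)) = _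
    rw [h₁, ofPshMap_comp, ← ofPshMap_id]
    exact congrArg (fun t => Stk.ofPshMap t)
      (congrArg (fun t : F ⟶ F => t.hom) (pullback.diagonal_fst a))
  have e₂ : BasedFunctor.comp (Stk.ofPshMap (pullback.diagonal a).hom) (BasedFunctor.comp Φ
      (FibCat.fpSnd (AlgSt.ofSpMap a) (AlgSt.ofSpMap a))) = BasedFunctor.id _ := by
    change BasedFunctor.comp _ (BasedFunctor.comp Φ (FibCat.fpSnd (Stk.ofPshMap a.hom) _)) = _
    rw [h₂, ofPshMap_comp, ← ofPshMap_id]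
    exact congrArg (fun t => Stk.ofPshMap t)
      (congrArg (fun t : F ⟶ F => t.hom) (pullback.diagonal_snd a))
  obtain ⟨i⟩ := nonempty_iso_fp_of_faithful
    (BasedFunctor.comp (Stk.ofPshMap (pullback.diagonal a).hom) Φ)
    (FibCat.diag (AlgSt.ofSpMap a)) (eqToIso e₁) (eqToIso e₂)
  exact repByAlgSpWith_iff_of_square (FibCat.diag (AlgSt.ofSpMap a))
    (Stk.ofPshMap (pullback.diagonal a).hom) (BasedFunctor.id _) Φ (Fib.isEquivOver_id _) hΦ i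

theorem repByAlgSpWith_diag_ofSpMap {F G : Sp S} (a : F ⟶ G)
    (h : RepBySpWith Q (pullback.diagonal a).hom) :
    AlgSt.RepByAlgSpWith Q (FibCat.diag (AlgSt.ofSpMap a)) :=
  (repByAlgSpWith_diag_ofSpMap_iff' a).2 (repByAlgSpWith_of_repBySpWith h)

theorem repBySpWith_diagonal_of_diag [Q.RespectsIso] {F G : Sp S} (a : F ⟶ G)
    (h : AlgSt.RepByAlgSpWith Q (FibCat.diag (AlgSt.ofSpMap a))) :
    RepBySpWith Q (pullback.diagonal a).hom :=
  repBySpWith_of_repByAlgSpWith ((repByAlgSpWith_diag_ofSpMap_iff' a).1 h)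

/-- The diagonal of a 1-morphism representable by algebraic spaces. -/
theorem repByAlgSpWith_diag_of_repByAlgSpWith {P₀ : MorphismProperty (Sp S)} (f : 𝒳 ⥤ᵇ 𝒴)
    (hf : AlgSt.RepByAlgSpWith P₀ f)
    (h : ∀ ⦃X : Sp S⦄, IsAlgSpace X → ∀ ⦃U : Over S⦄ (a : X ⟶ (yon S).obj U), P₀ a →
      ∀ ⦃T W : Over S⦄
      (fst : (yon S).obj W ⟶ X) (snd : W ⟶ T) (ξ : (yon S).obj T ⟶ pullback a a)
      ⦃F' : Sp S⦄ (i : F' ≅ (yon S).obj W),
      IsPullback fst ((yon S).map snd) (pullback.diagonal a) ξ → Q (i.hom ≫ (yon S).map snd)) :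
    AlgSt.RepByAlgSpWith Q (FibCat.diag f) := by
  refine repByAlgSpWith_diag_of_local f fun U z => ?_
  obtain ⟨V, e, he, hφ⟩ := hf U z
  let φ := AlgSt.spMapOfOver (BasedFunctor.comp e (FibCat.fpFst z f))
  refine (repByAlgSpWith_diag_iff_of_square (FibCat.fpFst z f) (AlgSt.ofSpMap φ) e
    (AlgSt.toOverCat U) he (isEquivOver_toOverCat U)
    (isoOfOver (BasedFunctor.comp e (FibCat.fpFst z f))).symm).2 (repByAlgSpWith_diag_ofSpMap φ ?_)
  refine (repBySpWith_hom_iff Q _).2 fun T ξ F' p q sq => ?_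
  obtain ⟨W, fst, snd, sW⟩ :=
    AlgSpc.exists_sq (AlgSpLoc.representable_diagonal_mor V.property φ) ξ
  let i := sq.isoIsPullback _ _ sW
  have hq : i.hom ≫ (yon S).map snd = q := sq.isoIsPullback_hom_snd _ _ sW
  exact ⟨(IsAlgSpace.yon_obj W).of_iso i.symm,
    hq ▸ h V.property φ hφ fst snd ξ i sW⟩

theorem repByAlgSpWith_diag_of_repByAlgSp1 (f : 𝒳 ⥤ᵇ 𝒴) (hf : AlgSt.RepByAlgSp1 f)
    (h : ∀ ⦃X : Sp S⦄, IsAlgSpace X → ∀ ⦃U : Over S⦄ (a : X ⟶ (yon S).obj U) ⦃T W : Over S⦄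
      (fst : (yon S).obj W ⟶ X) (snd : W ⟶ T) (ξ : (yon S).obj T ⟶ pullback a a)
      ⦃F' : Sp S⦄ (i : F' ≅ (yon S).obj W),
      IsPullback fst ((yon S).map snd) (pullback.diagonal a) ξ → Q (i.hom ≫ (yon S).map snd)) :
    AlgSt.RepByAlgSpWith Q (FibCat.diag f) :=
  repByAlgSpWith_diag_of_repByAlgSpWith f (repByAlgSpWith_top_iff.2 hf)
    fun _ hX _ a _ => h hX a

end Groth.Agent.AlgStB
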