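import Groth.Agent.AlgStB.DiagEtLocal
import Groth.Agent.AlgStB.RepDiag
import Groth.Agent.Fib.FpPaste

/-!
# The diagonal of a morphism induced on 2-fibre products
-/

set_option autoImplicit false
set_option backward.isDefEq.respectTransparency false
set_option backward.isDefEq.respectTransparency.types false

universe u

open CategoryTheory CategoryTheory.Limits AlgebraicGeometry Opposite

namespace Groth.Agent.AlgStB

open _root_.AlgSp

variable {S : Scheme.{u}}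

theorem repByAlgSpWith_diag_fpMap {P : MorphismProperty (Sp S)} (hi : RespectsSrcIso P)
    (hc : ∀ ⦃X Y Z : Sp S⦄, IsAlgSpace X → IsAlgSpace Y → IsAlgSpace Z →
      ∀ (a : X ⟶ Y) (b : Y ⟶ Z), (∀ (T : Over S) (p : (yon S).obj T ⟶ Y), P (pullback.snd a p)) →
        P b → P (a ≫ b))
    {𝒳 𝒳' 𝒴 𝒴' 𝒵 : AlgSt.Cat S} (h𝒳 : FibCat.IsFibGrpd 𝒳.p) (h𝒳' : FibCat.IsFibGrpd 𝒳'.p)
    (h𝒴 : FibCat.IsFibGrpd 𝒴.p) (h𝒵 : FibCat.IsFibGrpd 𝒵.p)
    (p' : 𝒳' ⥤ᵇ 𝒵) (q' : 𝒴' ⥤ᵇ 𝒵) (f : 𝒳 ⥤ᵇ 𝒳') (g : 𝒴 ⥤ᵇ 𝒴')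
    (e : BasedFunctor.comp (BasedFunctor.comp (FibCat.fpFst (BasedFunctor.comp f p') (BasedFunctor.comp g q')) f) p' ≅
      BasedFunctor.comp (BasedFunctor.comp (FibCat.fpSnd (BasedFunctor.comp f p') (BasedFunctor.comp g q')) g) q')
    (he : ∀ x, e.hom.toNatTrans.app x = x.obj.iso.hom)
    (hf : AlgSt.RepByAlgSpWith P (FibCat.diag f)) (hg : AlgSt.RepByAlgSpWith P (FibCat.diag g)) :
    AlgSt.RepByAlgSpWith P (FibCat.diag
      (FibCat.fpLift (BasedFunctor.comp (FibCat.fpFst (BasedFunctor.comp f p') (BasedFunctor.comp g q')) f)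
        (BasedFunctor.comp (FibCat.fpSnd (BasedFunctor.comp f p') (BasedFunctor.comp g q')) g) e)) := by
  let qg := BasedFunctor.comp g q'
  let pf := BasedFunctor.comp f p'
  let a₂ := Fib.fpMap f (BasedFunctor.id 𝒴) (BasedFunctor.id 𝒵) (F' := pf) (G' := qg) (F := p') (G := qg)
    (Iso.refl _) (Iso.refl _)
  let a₁ := Fib.fpMap (BasedFunctor.id 𝒳') g (BasedFunctor.id 𝒵) (F' := p') (G' := qg) (F := p') (G := q')
    (Iso.refl _) (Iso.refl _)
  have h₁ : AlgSt.RepByAlgSpWith P (FibCat.diag a₁) :=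
    (repByAlgSpWith_diag_iff_of_square a₁ (FibCat.fpFst (FibCat.fpSnd p' q') g) (Fib.fpAssoc p' q' g)
      (BasedFunctor.id _) (Fib.isEquivOver_fpAssoc p' q' g) (Fib.isEquivOver_id _)
      (Fib.isoMk (fun x => Fib.fpIsoMk (Iso.refl _) x.obj.iso (by
          change p'.map (𝟙 _) ≫ 𝟙 _ ≫ (x.obj.fst.obj.iso.hom ≫ q'.map x.obj.iso.hom) ≫ 𝟙 _ =
            x.obj.fst.obj.iso.hom ≫ q'.map x.obj.iso.hom
          simp))
        (fun φ => Fib.fp_hom_ext ((Category.comp_id _).trans (Category.id_comp _).symm) φ.hom.w)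
        (fun x => Fib.fp_iso_isHomLift_id _ (IsHomLift.id rfl)))).2
      (repByAlgSpWith_diag_fpFst g (FibCat.fpSnd p' q') hg)
  have h₂ : AlgSt.RepByAlgSpWith P (FibCat.diag a₂) :=
    (repByAlgSpWith_diag_iff_of_square a₂ (FibCat.fpFst (FibCat.fpFst p' qg) f)
      (BasedFunctor.comp (Fib.fpSwap (FibCat.fpFst p' qg) f) (Fib.fpBC f p' qg))
      (BasedFunctor.id _) (Fib.isEquivOver_comp (Fib.isEquivOver_fpSwap _ _) (Fib.isEquivOver_fpBC f p' qg))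
      (Fib.isEquivOver_id _)
      (Fib.isoMk (fun x => Fib.fpIsoMk x.obj.iso (Iso.refl _) (by
          change p'.map x.obj.iso.hom ≫ 𝟙 _ ≫ (p'.map x.obj.iso.inv ≫ x.obj.fst.obj.iso.hom) ≫ 𝟙 _ =
            x.obj.fst.obj.iso.hom ≫ qg.map (𝟙 _)
          rw [Category.id_comp, Category.comp_id, ← Functor.map_comp_assoc, Iso.hom_inv_id]
          simp))
        (fun φ => Fib.fp_hom_ext φ.hom.w ((Category.comp_id _).trans (Category.id_comp _).symm))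
        (fun x => Fib.fp_iso_isHomLift_id _ x.property))).2
      (repByAlgSpWith_diag_fpFst f (FibCat.fpFst p' qg) hf)
  refine (repByAlgSpWith_diag_iff_of_square (BasedFunctor.comp a₂ a₁)
    (FibCat.fpLift (BasedFunctor.comp (FibCat.fpFst pf qg) f) (BasedFunctor.comp (FibCat.fpSnd pf qg) g) e)
    (BasedFunctor.id _) (BasedFunctor.id _)
    (Fib.isEquivOver_id _) (Fib.isEquivOver_id _)
    (Fib.isoMk (fun x => Fib.fpIsoMk (Iso.refl (f.obj x.obj.fst)) (Iso.refl (g.obj x.obj.snd)) (by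
        change p'.map (𝟙 _) ≫ 𝟙 _ ≫ (𝟙 _ ≫ x.obj.iso.hom ≫ 𝟙 _) ≫ 𝟙 _ = e.hom.toNatTrans.app x ≫ q'.map (𝟙 _)
        rw [he]
        simp
        exact (Category.comp_id _).symm))
      (fun φ => Fib.fp_hom_ext ((Category.comp_id _).trans (Category.id_comp _).symm)
        ((Category.comp_id _).trans (Category.id_comp _).symm))
      (fun x => Fib.fp_iso_isHomLift_id _ (IsHomLift.id (f.w_obj x.obj.fst))))).1 ?_
  exact repByAlgSpWith_diag_comp (Fib.isFibGrpd_fp _ _ h𝒳 h𝒴 h𝒵) (Fib.isFibGrpd_fp _ _ h𝒳' h𝒴 h𝒵) hi hc h₂ h₁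

end Groth.Agent.AlgStB
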