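import Groth.Agent.AlgStB.SchemeSlice

/-!
# A smooth surjection has sections locally for the etale topology
-/

set_option autoImplicit false
set_option backward.isDefEq.respectTransparency false

universe u

open CategoryTheory CategoryTheory.Limits AlgebraicGeometry

namespace Groth.Agent.AlgStB

variable {S : Scheme.{u}}

theorem exists_etale_piece {T V : Scheme.{u}} (s : V ⟶ T) [Smooth s] (x : V) :
    ∃ (W : Scheme.{u}) (v : W ⟶ V), Etale (v ≫ s) ∧ s x ∈ Set.range (v ≫ s) := by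
  obtain ⟨Z, j, -, H⟩ := _root_.AlgStB.SchemeSlice.exists_slice (s ≫ (coprod.inl : T ⟶ T ⨿ V)) (coprod.inr : V ⟶ T ⨿ V)
    (fun a b _ h => (cancel_mono (coprod.inr : V ⟶ T ⨿ V)).1 h) x
  obtain ⟨W, hW, w, hw, hwx⟩ := H (pullback.fst j _) (pullback.snd j _) (IsPullback.of_hasPullback _ _)
  refine ⟨W, W.ι ≫ pullback.snd j _, ?_, ⟨w, hw⟩, ?_⟩
  · have : Etale (((W.ι ≫ pullback.snd j _) ≫ s) ≫ (coprod.inl : T ⟶ T ⨿ V)) := by
      simp only [Category.assoc]
      exact hW
    exact Etale.of_comp _ (coprod.inl : T ⟶ T ⨿ V)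
  · exact (coprod.inl : T ⟶ T ⨿ V).isOpenEmbedding.injective hwx

/-- A smooth surjection lifts along an etale surjection. -/
theorem exists_etale_lift {T V : Over S} (s : V ⟶ T) [Smooth s.left] [Surjective s.left] :
    ∃ (T' : Over S) (c : T' ⟶ T) (v : T' ⟶ V), Etale c.left ∧ Surjective c.left ∧ v ≫ s = c := by
  choose W v hv hx using exists_etale_piece s.left
  let T' : Over S := Over.mk (Sigma.desc fun x => v x ≫ V.hom)
  let l : T' ⟶ V := Over.homMk (Sigma.desc v) (Sigma.hom_ext _ _ fun x => by simp [T'])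
  have hl : ∀ x, Sigma.ι W x ≫ (l ≫ s).left = v x ≫ s.left := fun x => by
    rw [Over.comp_left, ← Category.assoc]
    exact congrArg (· ≫ s.left) (Sigma.ι_desc v x)
  refine ⟨T', l ≫ s, l, ?_, ⟨fun t => ?_⟩, rfl⟩
  · have : (l ≫ s).left = Sigma.desc fun x => v x ≫ s.left :=
      Sigma.hom_ext _ _ fun x => by rw [Sigma.ι_desc]; exact hl x
    rw [this]
    exact IsZariskiLocalAtSource.sigmaDesc hv
  · obtain ⟨x, rfl⟩ := s.left.surjective t
    obtain ⟨w, hw⟩ := hx x
    refine ⟨Sigma.ι W x w, ?_⟩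
    rw [← hl x] at hw
    exact hw

end Groth.Agent.AlgStB
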