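import Groth.Agent.AlgStB.TrivialStab
import Groth.Agent.AlgStB.EtaleSheafSmooth
import Groth.Prelude.Def_StGerb

/-!
# Algebraic stacks for the etale topology with trivial stabilisers
-/

set_option autoImplicit false
set_option linter.style.haveILetI false
set_option backward.isDefEq.respectTransparency false
set_option backward.isDefEq.respectTransparency.types false

universe u

open CategoryTheory CategoryTheory.Limits AlgebraicGeometry Opposite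

namespace Groth.Agent.AlgStB

open _root_.AlgSp

variable {S : Scheme.{u}} {𝒳 : AlgSt.Cat S}

theorem repByAlgSp_of_isFibSetoid_etale_of_atlas
    (hst : Stk.IsStack (QuotSh.J Scheme.etalePrecoverage S) 𝒳) (hat : AlgSt.HasAtlas (LocP @Smooth) 𝒳)
    (hs : FibCat.IsFibSetoid 𝒳.p) : AlgSt.RepByAlgSp 𝒳 := by
  have he := isEquivOver_toClasses hs
  have hsh : Presheaf.IsSheaf (QuotSh.J Scheme.etalePrecoverage S) (classes hs.1) :=
    (isSheaf_iff_isSheaf_of_type _ _).2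
      (isSheaf_of_isStack_ofPsh ((isStack_iff_of_isEquivOver he _).1 hst))
  obtain ⟨U, x, hx, hx'⟩ := hat
  let x₀ : AlgSt.ofSch U ⥤ᵇ Stk.ofPsh (classes hs.1) :=
    BasedFunctor.comp (AlgSt.toOverCat U) (BasedFunctor.comp x (toClasses hs.1))
  have key : ∀ {Q : MorphismProperty (Sp S)} [Q.RespectsIso],
      AlgSt.RepByAlgSpWith Q x → RepBySpWith Q (pshMapOf x₀) := by
    intro Q _ hQ
    refine repBySpWith_of_repByAlgSpWith (repByAlgSpWith_of_iso (isoPshMap x₀) ?_)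
    exact (repByAlgSpWith_iff_of_square (BasedFunctor.comp x (toClasses hs.1)) x₀ (AlgSt.toOverCat U)
      (BasedFunctor.id _) (isEquivOver_toOverCat U) (Fib.isEquivOver_id _) (Iso.refl _)).1
      (repByAlgSpWith_comp_equiv he hQ)
  have hq : RepBySpWith (IsSurjectiveMor ⊓ LocP @Smooth) (pshMapOf x₀) := fun V ξ F' fst snd sq => by
    obtain ⟨h₁, h₂, h₃⟩ := key hx' ξ fst snd sq
    obtain ⟨_, _, h₄⟩ := key hx ξ fst snd sq
    exact ⟨h₁, h₂, h₃, h₄⟩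
  obtain ⟨hF, hA⟩ := AlgSpc.isAlgSpaceP_of_etale_sheaf_scheme hsh _ hq
  obtain ⟨g, hg, -, -⟩ := Fib.exists_quasiInverse he
  exact ⟨⟨⟨_, hF⟩, hA⟩, g, hg⟩

theorem repByAlgSp_of_isFibSetoid_etale (h : AlgSt.IsAlgStack Scheme.etalePrecoverage 𝒳)
    (hs : FibCat.IsFibSetoid 𝒳.p) : AlgSt.RepByAlgSp 𝒳 :=
  repByAlgSp_of_isFibSetoid_etale_of_atlas h.isStack h.atlas hs

/-- Trivial stabilisers at geometric points make the fibres setoids. -/
theorem isFibSetoid_of_trivial_geometric {K : Precoverage Scheme.{u}} (h : AlgSt.IsAlgStack K 𝒳)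
    (htriv : ∀ (k : Type u) [Field k] [IsAlgClosed k] (s : Spec (CommRingCat.of k) ⟶ S) (x : 𝒳.obj),
      𝒳.p.obj x = Over.mk s → ∀ (ξ : 𝒳.obj) (_ : ξ ⟶ x) (σ : ξ ⟶ ξ),
        𝒳.p.map σ = 𝟙 (𝒳.p.obj ξ) → σ = 𝟙 ξ) :
    FibCat.IsFibSetoid 𝒳.p := by
  have hg := h.isStack.1
  have hΔ := unramified_diag_of_trivial hg (repByAlgSpWith_lft_diag_toSelf h) htriv
  suffices 𝒳.p.Faithful from Fib.isFibSetoid_of_faithful _ hg
  have hk : TrivialKernel (FibCat.toSelf 𝒳) := by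
    intro a φ hp _
    have := Fib.isFibered_of_isFibGrpd _ hg
    obtain ⟨G, hG, e, he⟩ := Fib.exists_basedFunctor (⟨a, rfl⟩ : 𝒳.p.Fiber (𝒳.p.obj a))
    haveI : 𝒳.p.IsHomLift (𝟙 (𝒳.p.obj a)) e.hom := he
    haveI : 𝒳.p.IsHomLift (𝟙 (𝒳.p.obj a)) φ := hp ▸ inferInstance
    haveI := Fib.isIso_of_isHomLift 𝒳.p hg (𝟙 (𝒳.p.obj a)) φ
    have hl : 𝒳.p.IsHomLift (𝟙 (𝒳.p.obj a)) (e ≪≫ asIso φ ≪≫ e.symm).hom := by
      simp only [Iso.trans_hom, asIso_hom, Iso.symm_hom]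
      infer_instance
    obtain ⟨α, hα⟩ := Fib.exists_iso_app_id hg (e ≪≫ asIso φ ≪≫ e.symm) hl
    have key := app_eq_id_of_geometric hg hΔ α fun k _ _ s => by
      let v : Over (𝒳.p.obj a) :=
        Over.mk (Over.homMk s rfl : Over.mk (s ≫ (𝒳.p.obj a).hom) ⟶ 𝒳.p.obj a)
      refine htriv k (s ≫ (𝒳.p.obj a).hom) (G.obj v) (G.w_obj v) _ (𝟙 _) _ ?_
      haveI : 𝒳.p.IsHomLift (𝟙 (𝒳.p.obj (G.obj v))) (Fib.appIso α v).hom := by
        rw [G.w_obj v]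
        exact Fib.appIso_isHomLift α v
      exact (IsHomLift.eq_of_isHomLift 𝒳.p (𝟙 (𝒳.p.obj (G.obj v))) (Fib.appIso α v).hom).symm
    change α.hom.toNatTrans.app _ = 𝟙 _ at key
    rw [hα] at key
    simp only [Iso.trans_hom, asIso_hom, Iso.symm_hom] at key
    calc φ = e.inv ≫ (e.hom ≫ φ ≫ e.inv) ≫ e.hom := by simp
      _ = 𝟙 a := by rw [key]; simp
  have := faithful_of_trivialKernel hg Fib.isFibGrpd_selfOver hk
  exact inferInstanceAs (FibCat.toSelf 𝒳).toFunctor.Faithful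

theorem repByAlgSp_iff_autO (h : AlgSt.IsAlgStack Scheme.etalePrecoverage 𝒳) :
    AlgSt.RepByAlgSp 𝒳 ↔
      ∀ (k : Type u) [Field k] (sk : Spec (CommRingCat.of k) ⟶ S)
        (x : FibCat.overCat (Over.mk sk) ⥤ᵇ 𝒳) (T : Over (Over.mk sk)),
        Subsingleton (Gerb.AutO (x.obj T)) := by
  refine ⟨fun hr k _ sk x T => ⟨fun α β => ?_⟩, fun H => ?_⟩
  · have := (isFibSetoid_of_repByAlgSp h.isStack.1 hr).2 (𝒳.p.obj (x.obj T))
    exact Iso.ext (Subsingleton.elim _ _)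
  · refine repByAlgSp_of_isFibSetoid_etale h (isFibSetoid_of_trivial_geometric h ?_)
    intro k _ _ s x₁ hx₁ ξ m σ hσ
    have hg := h.isStack.1
    have := Fib.isFibered_of_isFibGrpd _ hg
    obtain ⟨G, -, e, he⟩ := Fib.exists_basedFunctor (⟨x₁, hx₁⟩ : 𝒳.p.Fiber (Over.mk s))
    haveI : 𝒳.p.IsHomLift (𝟙 (Over.mk s)) e.hom := he
    -- transport the endomorphism to the pullback chosen by `G`
    let g : 𝒳.p.obj ξ ⟶ Over.mk s := 𝒳.p.map m ≫ eqToHom hx₁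
    let T : Over (Over.mk s) := Over.mk g
    have hm : 𝒳.p.IsHomLift g m := IsHomLift.of_fac 𝒳.p g m rfl hx₁ (by simp [g])
    have hc := Fib.map_toId_isHomLift G T
    haveI : 𝒳.p.IsHomLift g (G.map (Fib.toId T) ≫ e.hom) := by
      have : 𝒳.p.IsHomLift (T.hom ≫ 𝟙 (Over.mk s)) (G.map (Fib.toId T) ≫ e.hom) := inferInstance
      rwa [Category.comp_id] at this
    have := Fib.isStronglyCartesian_of_isFibGrpd _ hg g (G.map (Fib.toId T) ≫ e.hom)
    let θ := Functor.IsCartesian.map 𝒳.p g (G.map (Fib.toId T) ≫ e.hom) m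
    haveI : IsIso θ := Fib.isIso_of_isHomLift 𝒳.p hg (𝟙 (𝒳.p.obj ξ)) θ
    let σ' : G.obj T ⟶ G.obj T := inv θ ≫ σ ≫ θ
    haveI hσl : 𝒳.p.IsHomLift (𝟙 (𝒳.p.obj ξ)) σ := hσ ▸ inferInstance
    haveI : 𝒳.p.IsHomLift (𝟙 (𝒳.p.obj ξ)) σ' := inferInstance
    have hT : 𝒳.p.obj (G.obj T) = 𝒳.p.obj ξ := G.w_obj T
    haveI : 𝒳.p.IsHomLift (𝟙 (𝒳.p.obj (G.obj T))) σ' := by
      rw [hT]; infer_instance
    haveI := Fib.isIso_of_isHomLift 𝒳.p hg (𝟙 (𝒳.p.obj (G.obj T))) σ'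
    haveI : 𝒳.p.IsHomLift (𝟙 (𝒳.p.obj (G.obj T))) (inv σ') := inferInstance
    let F := Gerb.fib (G.obj T)
    let A : Gerb.AutO (G.obj T) :=
      { hom := (⟨σ', inferInstance⟩ : F ⟶ F)
        inv := (⟨inv σ', inferInstance⟩ : F ⟶ F)
        hom_inv_id := Subtype.ext (IsIso.hom_inv_id σ')
        inv_hom_id := Subtype.ext (IsIso.inv_hom_id σ') }
    have := H k s G T
    have hA : A = Iso.refl _ := Subsingleton.elim _ _
    have h₁ : σ' = 𝟙 (G.obj T) := congrArg (fun A => A.hom.1) hA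
    calc σ = θ ≫ σ' ≫ inv θ := by simp [σ']
      _ = 𝟙 ξ := by rw [h₁]; simp

end Groth.Agent.AlgStB
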