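import Groth.Agent.AlgStB.DiagComp
import Groth.Agent.AlgStB.CoverDescent
import Groth.Agent.HomLocus.Instances

/-!
# Relative inertia and the diagonal
-/

set_option autoImplicit false
set_option backward.isDefEq.respectTransparency false
set_option backward.isDefEq.respectTransparency.types false

universe v₃ u₃ v₂ u₂ u

open CategoryTheory CategoryTheory.Limits AlgebraicGeometry Opposite

namespace Groth.Agent.AlgStB

open _root_.AlgSp

section

variable {S : Scheme.{u}} {𝒳 : BasedCategory.{v₂, u₂} (Over S)}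
  {𝒴 : BasedCategory.{v₃, u₃} (Over S)}

theorem repByAlgSpWith_inertiaToBase_iff {P : MorphismProperty (Sp S)} (f : 𝒳 ⥤ᵇ 𝒴) :
    AlgSt.RepByAlgSpWith P (FibCat.inertiaToBase f) ↔
      AlgSt.RepByAlgSpWith P (FibCat.fpFst (FibCat.diag f) (FibCat.diag f)) := by
  obtain ⟨E, hE, h₁, -⟩ := Fib.inertia_equivOver_fp_diag f
  exact (repByAlgSpWith_iff_of_square (FibCat.fpFst (FibCat.diag f) (FibCat.diag f))
    (FibCat.inertiaToBase f) E (BasedFunctor.id _) hE (Fib.isEquivOver_id _)
    (eqToIso h₁.symm)).symm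

theorem repByAlgSpWith_inertiaNeutral_iff {P : MorphismProperty (Sp S)} (f : 𝒳 ⥤ᵇ 𝒴) :
    AlgSt.RepByAlgSpWith P (FibCat.inertiaNeutral f) ↔
      AlgSt.RepByAlgSpWith P (FibCat.diag (FibCat.diag f)) :=
  (repByAlgSpWith_iff_of_square (FibCat.diag (FibCat.diag f)) (FibCat.inertiaNeutral f)
    (BasedFunctor.id _) _ (Fib.isEquivOver_id _) (Fib.isEquivOver_inertiaDiag f)
    (Fib.inertiaNeutralDiagIso f)).symm

/-- The inertia is a section of the neutral section. -/
noncomputable def inertiaSectionIso (f : 𝒳 ⥤ᵇ 𝒴) :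
    BasedFunctor.comp (FibCat.inertiaNeutral f) (FibCat.inertiaToBase f) ≅ BasedFunctor.id 𝒳 :=
  Fib.isoMk (fun x => Iso.refl x)
    (fun φ => (Category.comp_id _).trans (Category.id_comp _).symm) (fun x => IsHomLift.id rfl)

end

noncomputable section

variable {S : Scheme.{u}}

/-- A property of morphisms descending from the projection of a self-product. -/
def SelfDescent (P : MorphismProperty Scheme.{u}) : Prop :=
  ∀ {X Y : Scheme.{u}} (k : X ⟶ Y), LocallyOfFiniteType k → P (pullback.snd k k) → P k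

theorem selfDescent_unramified :
    SelfDescent (@LocallyOfFiniteType ⊓ @FormallyUnramified : MorphismProperty Scheme.{u}) := by
  intro X Y k hk h
  have := h.2
  refine ⟨hk, (Unram.formallyUnramified_iff_stalkMap k).2 fun x => ?_⟩
  have e : pullback.fst k k (pullback.diagonal k x) = x := by
    rw [← Scheme.Hom.comp_apply, pullback.diagonal_fst]; rfl
  have := UnramFibre.formallyUnramified_stalkMap_of_baseChange k k (pullback.diagonal k x)
    (FormallyUnramified.stalkMap (pullback.snd k k) _)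
  rwa [e] at this

theorem selfDescent_lqf :
    SelfDescent (@LocallyQuasiFinite ⊓ @LocallyOfFiniteType : MorphismProperty Scheme.{u}) := by
  intro X Y k hk h
  have := h.1
  have := h.2
  refine ⟨k.quasiFiniteLocus_eq_top_iff.1 (TopologicalSpace.Opens.ext (Set.eq_univ_of_forall fun x =>
    (k.mem_quasiFiniteLocus).2 ?_)), hk⟩
  have hall := (pullback.snd k k).quasiFiniteLocus_eq_top
  have hx : (pullback.diagonal k x) ∈ (pullback.snd k k).quasiFiniteLocus := hall ▸ trivial
  have e : pullback.fst k k (pullback.diagonal k x) = x := by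
    rw [← Scheme.Hom.comp_apply, pullback.diagonal_fst]; rfl
  have := HomLocus.quasiFiniteAt_of_baseChange k k (pullback.diagonal k x)
    ((pullback.snd k k).mem_quasiFiniteLocus.1 hx)
  rwa [e] at this

/-- A representable morphism locally of finite type whose base change by itself has `P`. -/
theorem repByAlgSpWith_of_fpFst_self {P : MorphismProperty Scheme.{u}} [AlgSpc.EtLoc P]
    [P.IsStableUnderBaseChange] (hd : SelfDescent P) {𝒳 : BasedCategory.{v₂, u₂} (Over S)}
    {𝒴 : BasedCategory.{v₃, u₃} (Over S)} (d : 𝒳 ⥤ᵇ 𝒴)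
    (hd₁ : AlgSt.RepByAlgSpWith (LocP @LocallyOfFiniteType) d)
    (h : AlgSt.RepByAlgSpWith (LocP P) (FibCat.fpFst d d)) :
    AlgSt.RepByAlgSpWith (LocP P) d := by
  intro U y
  obtain ⟨F, e, he, hlft⟩ := hd₁ U y
  refine ⟨F, e, he, ?_⟩
  let φ := AlgSt.spMapOfOver (BasedFunctor.comp e (FibCat.fpFst y d))
  obtain ⟨T, c, hc, hcs⟩ := F.property.atlas
  let k : T ⟶ U := AlgSpc.pre (c ≫ φ)
  have hk : (yon S).map k = c ≫ φ := AlgSpc.map_pre _
  have hkl : LocallyOfFiniteType k.left :=
    hlft c (𝟙 _) k hc (AlgSpc.repWith_iso _) (by simp [hk, φ])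
  refine AlgSpc.locP_of_chart (b := 𝟙 _) (h := k) hc hcs (AlgSpc.repWith_iso _)
    (by simp [hk, φ]) (hd k.left hkl ?_)
  let σ := BasedFunctor.comp (AlgSt.ofOverCat T) (BasedFunctor.comp (AlgSt.ofSpMap c) e)
  let i₁ : BasedFunctor.comp σ (FibCat.fpFst y d) ≅ AlgSt.overMap k :=
    Fib.isoWhiskerLeft (BasedFunctor.comp (AlgSt.ofOverCat T) (AlgSt.ofSpMap c))
        (isoOfOver (BasedFunctor.comp e (FibCat.fpFst y d))) ≪≫
      eqToIso (congrArg (fun t => BasedFunctor.comp (BasedFunctor.comp (AlgSt.ofOverCat T)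
        (AlgSt.ofSpMap t)) (AlgSt.toOverCat U)) hk.symm) ≪≫ overMapIso k
  obtain ⟨G, e₂, he₂, hG⟩ := exists_rep_of_lift h (BasedFunctor.comp (AlgSt.overMap k) y)
    (BasedFunctor.comp σ (FibCat.fpSnd y d))
    (Fib.isoWhiskerLeft σ (FibCat.fpIso y d).symm ≪≫ Fib.isoWhiskerRight i₁ y)
  have sqW := IsPullback.of_hasPullback φ ((yon S).map k)
  have hW : IsAlgSpace (pullback φ ((yon S).map k)) :=
    AlgSpc.isAlgSpace_of_isPullback F.property (IsAlgSpace.yon_obj U) (IsAlgSpace.yon_obj T) sqW
  have hπ : LocP P (pullback.snd φ ((yon S).map k)) :=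
    prop_snd_of_rep' respectsSrcIso_locP d y e he k hW sqW G.property e₂ he₂ hG
  have sqT : IsPullback ((yon S).map (pullback.fst k k)) ((yon S).map (pullback.snd k k))
      ((yon S).map k) ((yon S).map k) := (IsPullback.of_hasPullback k k).map (yon S)
  have w : ((yon S).map (pullback.fst k k) ≫ c) ≫ φ =
      (yon S).map (pullback.snd k k) ≫ (yon S).map k := by
    exact (Category.assoc _ _ _).trans ((congrArg _ hk.symm).trans sqT.w)
  let l := pullback.lift ((yon S).map (pullback.fst k k) ≫ c) ((yon S).map (pullback.snd k k)) w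
  have top : IsPullback ((yon S).map (pullback.fst k k)) l c (pullback.fst φ ((yon S).map k)) := by
    refine IsPullback.of_bot (v₂₁ := pullback.snd φ ((yon S).map k)) ?_ (pullback.lift_fst _ _ _).symm sqW
    exact (congrArg₂ (fun a b => IsPullback ((yon S).map (pullback.fst k k)) a b ((yon S).map k))
      (pullback.lift_snd _ _ w) hk.symm).mpr sqT
  have hl : RepWith @Etale l := AlgSpc.repWith_of_isPullback top hc
  have hP := hπ l (𝟙 _) (pullback.snd k k) hl (AlgSpc.repWith_iso _)
    ((pullback.lift_snd _ _ _).trans (Category.comp_id _).symm)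
  have e' := ((IsPullback.of_hasPullback k k).map (Over.forget S)).isoPullback_inv_snd
  rw [← P.cancel_left_of_respectsIso
    ((IsPullback.of_hasPullback k k).map (Over.forget S)).isoPullback.inv] at hP
  exact e' ▸ hP

end

end Groth.Agent.AlgStB
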