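import Groth.Agent.AlgStB.SetoidSpace
import Groth.Agent.AlgStB.DiagSep
import Groth.Agent.AlgStB.InertiaDiag

/-!
# Faithful 1-morphisms, trivial inertia, and representability
-/

set_option autoImplicit false
set_option backward.isDefEq.respectTransparency false
set_option backward.isDefEq.respectTransparency.types false

universe v₃ u₃ v₂ u₂ v u

open CategoryTheory AlgebraicGeometry

namespace Groth.Agent.AlgStB

variable {C : Type u} [Category.{v} C] {𝒳 : BasedCategory.{v₂, u₂} C} {𝒴 : BasedCategory.{v₃, u₃} C}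

/-- No nontrivial automorphism over the base is killed by `f`. -/
def TrivialKernel (f : 𝒳 ⥤ᵇ 𝒴) : Prop :=
  ∀ (a : 𝒳.obj) (φ : a ⟶ a), 𝒳.p.map φ = 𝟙 (𝒳.p.obj a) → f.map φ = 𝟙 (f.obj a) → φ = 𝟙 a

theorem trivialKernel_of_faithful (f : 𝒳 ⥤ᵇ 𝒴) [f.toFunctor.Faithful] : TrivialKernel f :=
  fun a φ _ h => f.toFunctor.map_injective (h.trans (f.toFunctor.map_id a).symm)

theorem faithful_of_trivialKernel (h𝒳 : FibCat.IsFibGrpd 𝒳.p) (h𝒴 : FibCat.IsFibGrpd 𝒴.p)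
    {f : 𝒳 ⥤ᵇ 𝒴} (h : TrivialKernel f) : f.toFunctor.Faithful := by
  refine ⟨fun {a b} φ ψ e => ?_⟩
  have hp : 𝒳.p.map ψ = 𝒳.p.map φ := by
    have h₁ := Fib.w_map f φ
    have h₂ := Fib.w_map f ψ
    rw [show f.map φ = f.map ψ from e] at h₁
    exact (cancel_mono _).1 ((cancel_epi _).1 (h₁.symm.trans h₂).symm)
  have := h𝒳.isStronglyCartesian φ
  have : 𝒳.p.IsHomLift (𝒳.p.map φ) ψ := hp ▸ inferInstance
  have := Fib.isStronglyCartesian_of_isFibGrpd _ h𝒳 (𝒳.p.map φ) ψ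
  let α : a ≅ a := Functor.IsCartesian.domainUniqueUpToIso 𝒳.p (𝒳.p.map φ) φ ψ
  have hα : α.hom ≫ φ = ψ := Functor.IsCartesian.fac 𝒳.p (𝒳.p.map φ) φ ψ
  have hl : 𝒳.p.IsHomLift (𝟙 (𝒳.p.obj a)) α.hom := inferInstance
  have hpα : 𝒳.p.map α.hom = 𝟙 _ :=
    (IsHomLift.eq_of_isHomLift 𝒳.p (𝟙 (𝒳.p.obj a)) α.hom).symm
  have : 𝒴.p.IsHomLift (𝒳.p.map φ) (f.map φ) := inferInstance
  have := Fib.isStronglyCartesian_of_isFibGrpd _ h𝒴 (𝒳.p.map φ) (f.map φ)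
  have hfα : f.map α.hom = 𝟙 (f.obj a) := by
    have h₁ : f.map α.hom ≫ f.map φ = f.map φ := by
      rw [← Functor.map_comp, hα]; exact e.symm
    haveI : 𝒴.p.IsHomLift (𝟙 (𝒳.p.obj a)) (f.map α.hom) := inferInstance
    haveI : 𝒴.p.IsHomLift (𝟙 (𝒳.p.obj a)) (𝟙 (f.obj a)) := IsHomLift.id (f.w_obj a)
    exact Functor.IsCartesian.ext 𝒴.p (𝒳.p.map φ) (f.map φ) _ _ (h₁.trans (Category.id_comp _).symm)
  rw [h a α.hom hpα hfα, Category.id_comp] at hα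
  exact hα

theorem trivialKernel_of_inertia_iso (h𝒳 : FibCat.IsFibGrpd 𝒳.p) {f : 𝒳 ⥤ᵇ 𝒴}
    (h : ∀ x : FibCat.InertiaObj f, x.aut.hom = 𝟙 x.pt) : TrivialKernel f := fun a φ hp hf => by
  have : 𝒳.p.IsHomLift (𝟙 (𝒳.p.obj a)) φ := hp ▸ inferInstance
  have := Fib.isIso_of_isHomLift 𝒳.p h𝒳 (𝟙 (𝒳.p.obj a)) φ
  exact h ⟨a, asIso φ, hf⟩

theorem trivialKernel_of_isEquivOver_inertiaToBase (h𝒳 : FibCat.IsFibGrpd 𝒳.p) {f : 𝒳 ⥤ᵇ 𝒴}
    (h : FibCat.IsEquivOver (FibCat.inertiaToBase f)) : TrivialKernel f := by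
  refine trivialKernel_of_inertia_iso h𝒳 fun x => ?_
  have := Fib.full_of_isEquivOver h
  obtain ⟨m, hm⟩ := (FibCat.inertiaToBase f).toFunctor.map_surjective (X := x)
    (Y := (⟨x.pt, Iso.refl _, f.map_id x.pt⟩ : FibCat.InertiaObj f)) (𝟙 x.pt)
  have hc := m.comm
  rw [show m.hom = 𝟙 x.pt from hm] at hc
  simpa using hc

theorem trivialKernel_of_isEquivOver_inertiaNeutral (h𝒳 : FibCat.IsFibGrpd 𝒳.p) {f : 𝒳 ⥤ᵇ 𝒴}
    (h : FibCat.IsEquivOver (FibCat.inertiaNeutral f)) : TrivialKernel f := by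
  refine trivialKernel_of_inertia_iso h𝒳 fun x => ?_
  obtain ⟨g, -, -, ⟨k⟩⟩ := Fib.exists_quasiInverse h
  let m := (Fib.appIso k x).hom
  have hc := m.comm
  change 𝟙 _ ≫ m.hom = m.hom ≫ x.aut.hom at hc
  have hinv : (Fib.appIso k x).inv.hom ≫ m.hom = 𝟙 _ :=
    congrArg FibCat.InertiaObj.Hom.hom (Fib.appIso k x).inv_hom_id
  have := congrArg (fun t => (Fib.appIso k x).inv.hom ≫ t) hc
  simp only [Category.id_comp] at this
  rw [hinv, ← Category.assoc, hinv, Category.id_comp] at this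
  exact this.symm

theorem aut_eq_id_of_trivialKernel {f : 𝒳 ⥤ᵇ 𝒴} (h : TrivialKernel f) (x : FibCat.InertiaObj f) :
    x.aut.hom = 𝟙 x.pt := by
  refine h _ _ ?_ x.map_aut
  have h₁ := Fib.w_map f x.aut.hom
  rw [x.map_aut, CategoryTheory.Functor.map_id] at h₁
  have h₂ := congrArg (fun t => eqToHom (f.w_obj x.pt).symm ≫ t ≫ eqToHom (f.w_obj x.pt)) h₁
  simpa using h₂.symm

theorem isEquivOver_inertia_of_trivialKernel {f : 𝒳 ⥤ᵇ 𝒴} (h : TrivialKernel f) :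
    FibCat.IsEquivOver (FibCat.inertiaToBase f) ∧ FibCat.IsEquivOver (FibCat.inertiaNeutral f) := by
  have ha := aut_eq_id_of_trivialKernel h
  constructor
  · have : (FibCat.inertiaToBase f).toFunctor.Faithful :=
      ⟨fun {_ _} _ _ e => FibCat.InertiaObj.hom_ext e⟩
    have : (FibCat.inertiaToBase f).toFunctor.Full :=
      ⟨fun {x y} φ => ⟨⟨φ, by rw [ha x, ha y, Category.id_comp]; exact (Category.comp_id _).symm⟩, rfl⟩⟩
    exact Fib.isEquivOver_of_exists_iso_over _ fun a =>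
      ⟨⟨a, Iso.refl a, f.map_id a⟩, Iso.refl _, IsHomLift.id rfl⟩
  · have : (FibCat.inertiaNeutral f).toFunctor.Faithful :=
      ⟨fun {_ _} _ _ e => congrArg FibCat.InertiaObj.Hom.hom e⟩
    have : (FibCat.inertiaNeutral f).toFunctor.Full :=
      ⟨fun {x y} φ => ⟨φ.hom, FibCat.InertiaObj.hom_ext rfl⟩⟩
    refine Fib.isEquivOver_of_exists_iso_over _ fun x => ⟨x.pt,
      { hom := ⟨𝟙 _, ?_⟩, inv := ⟨𝟙 _, ?_⟩, hom_inv_id := ?_, inv_hom_id := ?_ }, ?_⟩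
    · change 𝟙 _ ≫ 𝟙 _ = 𝟙 _ ≫ x.aut.hom
      rw [ha x]
    · change x.aut.hom ≫ 𝟙 _ = 𝟙 _ ≫ 𝟙 _
      rw [ha x]
    · exact FibCat.InertiaObj.hom_ext (Category.comp_id _)
    · exact FibCat.InertiaObj.hom_ext (Category.comp_id _)
    · exact IsHomLift.of_fac' (FibCat.inertia f).p (𝟙 _) _ rfl rfl (by simp [FibCat.InertiaObj.forget])

theorem isEquivOver_diag_diag_iff (f : 𝒳 ⥤ᵇ 𝒴) :
    FibCat.IsEquivOver (FibCat.diag (FibCat.diag f)) ↔ FibCat.IsEquivOver (FibCat.inertiaNeutral f) :=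
  ⟨fun h => isEquivOver_of_comp_right (Fib.isEquivOver_inertiaDiag f)
    (Fib.isEquivOver_of_iso (Fib.inertiaNeutralDiagIso f).symm h),
   fun h => Fib.isEquivOver_of_iso (Fib.inertiaNeutralDiagIso f)
    (Fib.isEquivOver_comp h (Fib.isEquivOver_inertiaDiag f))⟩

theorem trivialKernel_of_full_diag (f : 𝒳 ⥤ᵇ 𝒴) [(FibCat.diag f).toFunctor.Full] :
    TrivialKernel f := fun a φ _ hf => by
  obtain ⟨ψ, hψ⟩ := (FibCat.diag f).toFunctor.map_surjective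
    (Fib.fpHomMk (a := (FibCat.diag f).obj a) (b := (FibCat.diag f).obj a) φ (𝟙 a) (by
      change f.map φ ≫ 𝟙 _ = 𝟙 _ ≫ f.map (𝟙 a)
      rw [hf, f.map_id]))
  have h₁ : ψ = φ := congrArg (fun t => t.hom.fst) hψ
  have h₂ : ψ = 𝟙 a := congrArg (fun t => t.hom.snd) hψ
  exact h₁.symm.trans h₂

variable {S : Scheme.{u}} {𝒳' 𝒴' : AlgSt.Cat S}

theorem repByAlgSp1_iff_trivialKernel (h𝒳 : AlgSt.IsAlgStack Scheme.fppfPrecoverage 𝒳')
    (h𝒴 : AlgSt.IsAlgStack Scheme.fppfPrecoverage 𝒴') (f : 𝒳' ⥤ᵇ 𝒴') :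
    AlgSt.RepByAlgSp1 f ↔ TrivialKernel f :=
  ⟨fun h => have := faithful_of_repByAlgSp1 h𝒳.isStack.1 h𝒴.isStack.1 h
    trivialKernel_of_faithful f,
  fun h => have := faithful_of_trivialKernel h𝒳.isStack.1 h𝒴.isStack.1 h
    repByAlgSp1_of_faithful h𝒳 h𝒴 f⟩

theorem repByAlgSp1_iff_inertia (h𝒳 : AlgSt.IsAlgStack Scheme.fppfPrecoverage 𝒳')
    (h𝒴 : AlgSt.IsAlgStack Scheme.fppfPrecoverage 𝒴') (f : 𝒳' ⥤ᵇ 𝒴') :
    AlgSt.RepByAlgSp1 f ↔ FibCat.IsEquivOver (FibCat.inertiaToBase f) :=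
  (repByAlgSp1_iff_trivialKernel h𝒳 h𝒴 f).trans
    ⟨fun h => (isEquivOver_inertia_of_trivialKernel h).1,
     trivialKernel_of_isEquivOver_inertiaToBase h𝒳.isStack.1⟩

theorem repByAlgSp1_iff_diag_diag (h𝒳 : AlgSt.IsAlgStack Scheme.fppfPrecoverage 𝒳')
    (h𝒴 : AlgSt.IsAlgStack Scheme.fppfPrecoverage 𝒴') (f : 𝒳' ⥤ᵇ 𝒴') :
    AlgSt.RepByAlgSp1 f ↔ FibCat.IsEquivOver (FibCat.diag (FibCat.diag f)) :=
  (repByAlgSp1_iff_trivialKernel h𝒳 h𝒴 f).trans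
    ((Iff.intro (fun h => (isEquivOver_inertia_of_trivialKernel h).2)
      (trivialKernel_of_isEquivOver_inertiaNeutral h𝒳.isStack.1)).trans (isEquivOver_diag_diag_iff f).symm)

theorem repByAlgSp1_of_isMono_diag (h𝒳 : AlgSt.IsAlgStack Scheme.fppfPrecoverage 𝒳')
    (h𝒴 : AlgSt.IsAlgStack Scheme.fppfPrecoverage 𝒴') (f : 𝒳' ⥤ᵇ 𝒴')
    (h : AlgSt.IsMono (FibCat.diag f)) : AlgSt.RepByAlgSp1 f := by
  have := (full_faithful_of_isMono h𝒳.isStack.1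
    (Fib.isFibGrpd_fp f f h𝒳.isStack.1 h𝒳.isStack.1 h𝒴.isStack.1) _ h).1
  exact (repByAlgSp1_iff_trivialKernel h𝒳 h𝒴 f).2 (trivialKernel_of_full_diag f)

theorem repByAlgSp_iff_inertia (h𝒳 : AlgSt.IsAlgStack Scheme.fppfPrecoverage 𝒳') :
    FibCat.IsEquivOver (FibCat.inertiaToBase (FibCat.toSelf 𝒳')) ↔ AlgSt.RepByAlgSp 𝒳' := by
  rw [← isFibSetoid_iff_repByAlgSp h𝒳]
  constructor
  · intro h
    have := Fib.faithful_p_of_isEquivOver_inertiaToBase h𝒳.isStack.1 h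
    exact Fib.isFibSetoid_of_faithful _ h𝒳.isStack.1
  · intro h
    have := Fib.faithful_of_isFibSetoid _ h
    exact (isEquivOver_inertia_of_trivialKernel fun a φ hp _ =>
      𝒳'.p.map_injective (hp.trans (𝒳'.p.map_id a).symm)).1

end Groth.Agent.AlgStB
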