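import Groth.Agent.AlgStB.MonoSurj
import Groth.Agent.AlgStB.LocQApps
import Groth.Agent.AlgStB.SmoothLocal
import Groth.Agent.AlgSpDesc.OnePoint

/-!
# Stacks flatly covered by the spectrum of a field
-/

set_option autoImplicit false
set_option backward.isDefEq.respectTransparency false
set_option backward.isDefEq.respectTransparency.types false

universe u

open CategoryTheory CategoryTheory.Limits AlgebraicGeometry Opposite

namespace Groth.Agent.AlgStB

open _root_.AlgSt (Points)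
open _root_.AlgSp (Sp Space LocP IsSurjectiveMor IsAlgSpace yon RepWith)

noncomputable section

variable {S : Scheme.{u}} {𝒳 : AlgSt.Cat S}

/-- A smooth chart and a covering point are dominated by a scheme smooth over the point. -/
theorem exists_chart_fieldCover (h𝒳 : FibCat.IsFibGrpd 𝒳.p) {P U : Over S}
    (z : FibCat.overCat P ⥤ᵇ 𝒳) (hzf : AlgSt.RepByAlgSpWith (LocP @Flat) z)
    (hzs : AlgSt.RepByAlgSpWith IsSurjectiveMor z)
    (x : FibCat.overCat U ⥤ᵇ 𝒳) (hx : AlgSt.RepByAlgSpWith (LocP @Smooth) x) :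
    ∃ (T : Over S) (a : T ⟶ P) (b : T ⟶ U),
      Smooth a.left ∧ Flat b.left ∧ Surjective b.left ∧
        (AlgSt.RepByAlgSpWith (LocP @LocallyOfFinitePresentation) z →
          LocallyOfFinitePresentation b.left) := by
  obtain ⟨F, e, he⟩ := repByAlgSp1_of_with hx P z
  obtain ⟨T, c, hc, hcs⟩ := F.property.atlas
  obtain ⟨h₁, h₂⟩ := repByAlgSpWith_atlas F.property c hc hcs
  let σ := BasedFunctor.comp (BasedFunctor.comp (AlgSt.ofOverCat T) (AlgSt.ofSpMap c)) e
  have k₁ : AlgSt.RepByAlgSpWith (LocP @Smooth) σ := repByAlgSpWith_comp_equiv he h₁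
  have k₂ : AlgSt.RepByAlgSpWith IsSurjectiveMor σ := repByAlgSpWith_comp_equiv he h₂
  obtain ⟨a, ⟨i⟩⟩ := exists_iso_overMap (BasedFunctor.comp σ (FibCat.fpFst z x))
  obtain ⟨b, ⟨j⟩⟩ := exists_iso_overMap (BasedFunctor.comp σ (FibCat.fpSnd z x))
  have hT := Fib.isFibGrpd_overCat T
  have hfp := Fib.isFibGrpd_fp z x (Fib.isFibGrpd_overCat P) (Fib.isFibGrpd_overCat U) h𝒳
  refine ⟨T, a, b, left_of_repByAlgSpWith_overMap (P := @Smooth) a (repByAlgSpWith_of_iso i
      (repByAlgSpWith_comp' hT hfp respectsSrcIso_locP hc_locP k₁ (repByAlgSpWith_fpFst x z hx))),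
    left_of_repByAlgSpWith_overMap (P := @Flat) b (repByAlgSpWith_of_iso j
      (repByAlgSpWith_comp' hT hfp respectsSrcIso_locP hc_locP (flat_lfp_of_smooth k₁).1
        (repByAlgSpWith_fpSnd z x hzf))),
    ⟨surjective_left_of_repByAlgSpWith_overMap b (repByAlgSpWith_of_iso j
      (repByAlgSpWith_comp' hT hfp respectsSrcIso_isSurjectiveMor hc_surjective k₂
        (repByAlgSpWith_fpSnd z x hzs)))⟩,
    fun hzp => left_of_repByAlgSpWith_overMap (P := @LocallyOfFinitePresentation) b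
      (repByAlgSpWith_of_iso j (repByAlgSpWith_comp' hT hfp respectsSrcIso_locP hc_locP
        (flat_lfp_of_smooth k₁).2 (repByAlgSpWith_fpSnd z x hzp)))⟩

theorem points_of_fieldCover (h𝒳 : FibCat.IsFibGrpd 𝒳.p) {k : Type u} [Field k]
    (a : Spec (CommRingCat.of k) ⟶ S) (z : FibCat.overCat (Over.mk a) ⥤ᵇ 𝒳)
    (hzs : AlgSt.RepByAlgSpWith IsSurjectiveMor z) :
    Nonempty (Points 𝒳) ∧ Subsingleton (Points 𝒳) := by
  have : Subsingleton ↥(Over.mk a : Over S).left :=
    inferInstanceAs (Subsingleton ↥(Spec (CommRingCat.of k)))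
  refine ⟨⟨Points.ofChart z (IsLocalRing.closedPoint k)⟩, ⟨fun p q => ?_⟩⟩
  obtain ⟨v, rfl⟩ := surjective_ofChart h𝒳 z hzs p
  obtain ⟨w, rfl⟩ := surjective_ofChart h𝒳 z hzs q
  rw [Subsingleton.elim v w]

theorem smoothLocally_reduced_of_fieldCover (h𝒳 : FibCat.IsFibGrpd 𝒳.p) {k : Type u} [Field k]
    (a : Spec (CommRingCat.of k) ⟶ S) (z : FibCat.overCat (Over.mk a) ⥤ᵇ 𝒳)
    (hzs : AlgSt.RepByAlgSpWith IsSurjectiveMor z) (hzf : AlgSt.RepByAlgSpWith (LocP @Flat) z) :
    AlgSt.SmoothLocally (fun T => IsReduced T) 𝒳 := by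
  intro U x hx
  obtain ⟨T, c, b, hc, hb, hbs, -⟩ := exists_chart_fieldCover h𝒳 z hzf hzs x hx
  have : IsReduced (Over.mk a : Over S).left :=
    inferInstanceAs (IsReduced (Spec (CommRingCat.of k)))
  have := SmoothReduced.isReduced_of_smooth_scheme c.left
  exact FpqcDescent.isReduced_of_flat_surjective b.left

theorem smoothLocally_noetherian_of_fieldCover (h𝒳 : FibCat.IsFibGrpd 𝒳.p) {k : Type u} [Field k]
    (a : Spec (CommRingCat.of k) ⟶ S) (z : FibCat.overCat (Over.mk a) ⥤ᵇ 𝒳)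
    (hzp : AlgSt.RepByAlgSpWith (LocP @LocallyOfFinitePresentation) z)
    (hzs : AlgSt.RepByAlgSpWith IsSurjectiveMor z) (hzf : AlgSt.RepByAlgSpWith (LocP @Flat) z) :
    AlgSt.SmoothLocally (fun T => IsLocallyNoetherian T) 𝒳 := by
  intro U x hx
  obtain ⟨T, c, b, hc, hb, hbs, hbp⟩ := exists_chart_fieldCover h𝒳 z hzf hzs x hx
  have := hbp hzp
  have : IsLocallyNoetherian (Over.mk a : Over S).left :=
    inferInstanceAs (IsLocallyNoetherian (Spec (CommRingCat.of k)))
  have := LocallyOfFiniteType.isLocallyNoetherian c.left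
  exact FpqcDescent.isLocallyNoetherian_of_flat_surjective_universallyOpen b.left

/-- A reduced stack with one point is flatly covered by a field. -/
theorem exists_fieldCover (h𝒳 : AlgSt.IsAlgStack Scheme.fppfPrecoverage 𝒳)
    (hred : AlgSt.SmoothLocally (fun T => IsReduced T) 𝒳) [Nonempty (Points 𝒳)]
    [Subsingleton (Points 𝒳)] :
    ∃ (k : Type u) (_ : Field k) (a : Spec (CommRingCat.of k) ⟶ S)
      (z : FibCat.overCat (Over.mk a) ⥤ᵇ 𝒳),
      AlgSt.RepByAlgSpWith IsSurjectiveMor z ∧ AlgSt.RepByAlgSpWith (LocP @Flat) z := by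
  obtain ⟨U, x, hx, hxs⟩ := h𝒳.atlas
  have : IsReduced U.left := hred U x hx
  obtain ⟨u, -⟩ := surjective_ofChart h𝒳.isStack.1 x hxs (Classical.arbitrary (Points 𝒳))
  obtain ⟨η, -, hη⟩ := AlgSpc.exists_codim_zero (show u ∈ (⊤ : U.left.Opens) from trivial)
  have hF := AlgSpDesc.isField_stalk_of_maximal ((AlgSpc.ringKrullDim_stalk_eq_zero_iff η).1 hη)
  let P : Over S := Over.mk (U.left.fromSpecResidueField η ≫ U.hom)
  let j : P ⟶ U := Over.homMk (U.left.fromSpecResidueField η) rfl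
  have : Flat j.left := AlgSpDesc.flat_of_isField_stalks _ fun t => by
    have e : j.left t = η := Scheme.fromSpecResidueField_apply η t
    rw [e]; exact hF
  let z := BasedFunctor.comp (AlgSt.overMap j) x
  have hz : AlgSt.RepByAlgSpWith (LocP @Flat) z :=
    repByAlgSpWith_comp' (Fib.isFibGrpd_overCat P) (Fib.isFibGrpd_overCat U) respectsSrcIso_locP
      hc_locP (repByAlgSpWith_overMap (P := @Flat) j inferInstance) (flat_lfp_of_smooth hx).1
  exact ⟨U.left.residueField η, inferInstance, _, z,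
    repWith_surjective_of_isSurjective (Fib.isFibGrpd_overCat P) h𝒳.isStack.1 z
      (repByAlgSp1_of_with hz) (fun p =>
      ⟨schMk P (IsLocalRing.closedPoint (U.left.residueField η)), Subsingleton.elim _ _⟩), hz⟩

/-- A field covering can be chosen locally of finite type, and finitely presented in the Noetherian case. -/
theorem exists_lft_fieldCover (h𝒳 : AlgSt.IsAlgStack Scheme.fppfPrecoverage 𝒳) {k : Type u}
    [Field k] (a : Spec (CommRingCat.of k) ⟶ S) (z : FibCat.overCat (Over.mk a) ⥤ᵇ 𝒳)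
    (hzs : AlgSt.RepByAlgSpWith IsSurjectiveMor z) (hzf : AlgSt.RepByAlgSpWith (LocP @Flat) z) :
    ∃ (k' : Type u) (_ : Field k') (a' : Spec (CommRingCat.of k') ⟶ S)
      (z' : FibCat.overCat (Over.mk a') ⥤ᵇ 𝒳),
      AlgSt.RepByAlgSpWith (LocP @LocallyOfFiniteType) z' ∧
      (AlgSt.SmoothLocally (fun T => IsLocallyNoetherian T) 𝒳 →
        AlgSt.RepByAlgSpWith (LocP @LocallyOfFinitePresentation) z') ∧
      AlgSt.RepByAlgSpWith IsSurjectiveMor z' ∧ AlgSt.RepByAlgSpWith (LocP @Flat) z' := by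
  obtain ⟨U, x, hx, hxs⟩ := h𝒳.atlas
  obtain ⟨u, -⟩ := surjective_ofChart h𝒳.isStack.1 x hxs
    (points_of_fieldCover h𝒳.isStack.1 a z hzs).1.some
  obtain ⟨W, hW, huW, -⟩ := exists_isAffineOpen_mem_and_subset (show u ∈ (⊤ : U.left.Opens) from trivial)
  have : IsAffine (W : Scheme.{u}) := hW
  have : CompactSpace ↥(W : Scheme.{u}) := inferInstance
  obtain ⟨w, -, hw⟩ := IsClosed.exists_closed_singleton (S := (Set.univ : Set ↥(W : Scheme.{u})))
    isClosed_univ ⟨⟨u, huW⟩, trivial⟩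
  have : IsClosedImmersion ((W : Scheme.{u}).fromSpecResidueField w) :=
    isClosed_singleton_iff_isClosedImmersion.1 hw
  let i : Spec ((W : Scheme.{u}).residueField w) ⟶ U.left :=
    (W : Scheme.{u}).fromSpecResidueField w ≫ W.ι
  let P : Over S := Over.mk (i ≫ U.hom)
  let j : P ⟶ U := Over.homMk i rfl
  have : LocallyOfFiniteType j.left := inferInstanceAs (LocallyOfFiniteType
    ((W : Scheme.{u}).fromSpecResidueField w ≫ W.ι))
  have hP := Fib.isFibGrpd_overCat P
  have hU := Fib.isFibGrpd_overCat U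
  let z' := BasedFunctor.comp (AlgSt.overMap j) x
  have hl : AlgSt.RepByAlgSpWith (LocP @LocallyOfFiniteType) z' :=
    repByAlgSpWith_comp' hP hU respectsSrcIso_locP hc_locP
      (repByAlgSpWith_overMap (P := @LocallyOfFiniteType) j inferInstance)
      (repByAlgSpWith_mono (fun _ _ _ h => AlgSpc.locP_mono (P := @Smooth)
        (Q := @LocallyOfFiniteType) (fun _ _ f (h : Smooth f) => (inferInstance : LocallyOfFiniteType f)) h) hx)
  obtain ⟨h₁, h₂⟩ := flat_surjective_fieldPt h𝒳 a z hzs hzf (i ≫ U.hom) z'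
  refine ⟨(W : Scheme.{u}).residueField w, inferInstance, i ≫ U.hom, z', hl, fun hN => ?_, h₁, h₂⟩
  have : IsLocallyNoetherian U.left := hN U x hx
  exact repByAlgSpWith_comp' hP hU respectsSrcIso_locP hc_locP
    (repByAlgSpWith_overMap (P := @LocallyOfFinitePresentation) j (lfp_of_lft_noetherian j.left))
    (flat_lfp_of_smooth hx).2

end

end Groth.Agent.AlgStB
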