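import Groth.Agent.AlgStB.FieldCover
import Groth.Agent.GeomRegH.Basic
import Groth.Agent.S0565

/-!
# Regularity of stacks covered by a field
-/

set_option autoImplicit false
set_option backward.isDefEq.respectTransparency false
set_option backward.isDefEq.respectTransparency.types false

universe u

open CategoryTheory CategoryTheory.Limits AlgebraicGeometry Opposite

namespace Groth.Agent.AlgStB

open _root_.AlgSt (Points)
open _root_.AlgSp (Sp Space LocP IsSurjectiveMor IsAlgSpace yon RepWith)

noncomputable section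

variable {S : Scheme.{u}} {𝒳 : AlgSt.Cat S}

/-- Stalks of a scheme smooth over a field are regular. -/
theorem isRegularLocalRing_stalk_of_smooth_field {k : Type u} [Field k] {X : Scheme.{u}}
    (f : X ⟶ Spec (CommRingCat.of k)) [Smooth f] (x : X) :
    IsRegularLocalRing (X.presheaf.stalk x) := by
  obtain ⟨U, hU, hxU, -⟩ := exists_isAffineOpen_mem_and_subset (U := (⊤ : X.Opens)) (x := x) trivial
  let A := Γ(X, U)
  letI : Algebra k A := (((Scheme.ΓSpecIso (CommRingCat.of k)).inv ≫ f.appLE ⊤ U le_top)).hom.toAlgebra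
  have : Algebra.Smooth k A := by
    refine (RingHom.smooth_algebraMap).1 ?_
    exact RingHom.Smooth.respectsIso.2 (f.appLE ⊤ U le_top).hom (Scheme.ΓSpecIso (CommRingCat.of k)).symm.commRingCatIsoToRingEquiv
      (f.smooth_appLE (isAffineOpen_top _) hU le_top)
  have : IsRegularRing A := Groth.Agent.GeomRegH.isRegularRing_of_smooth k A
  let p := (hU.primeIdealOf ⟨x, hxU⟩).asIdeal
  letI : Algebra A (X.presheaf.stalk x) := (X.presheaf.germ U x hxU).hom.toAlgebra
  have hloc : IsLocalization.AtPrime (X.presheaf.stalk x) p := hU.isLocalization_stalk ⟨x, hxU⟩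
  have := IsRegularRing.isRegularLocalRing_localization (R := A) p
  exact IsRegularLocalRing.of_ringEquiv (IsLocalization.algEquiv p.primeCompl (Localization.AtPrime p) _).toRingEquiv

theorem smoothLocally_regular_of_fieldCover (h𝒳 : FibCat.IsFibGrpd 𝒳.p) {k : Type u} [Field k]
    (a : Spec (CommRingCat.of k) ⟶ S) (z : FibCat.overCat (Over.mk a) ⥤ᵇ 𝒳)
    (hzp : AlgSt.RepByAlgSpWith (LocP @LocallyOfFinitePresentation) z)
    (hzs : AlgSt.RepByAlgSpWith IsSurjectiveMor z) (hzf : AlgSt.RepByAlgSpWith (LocP @Flat) z) :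
    AlgSt.SmoothLocally (fun T => ∀ t : T, IsRegularLocalRing (T.presheaf.stalk t)) 𝒳 := by
  intro U x hx u
  have := smoothLocally_noetherian_of_fieldCover h𝒳 a z hzp hzs hzf U x hx
  obtain ⟨T, c, b, hc, hb, hbs, -⟩ := exists_chart_fieldCover h𝒳 z hzf hzs x hx
  obtain ⟨v, rfl⟩ := b.left.surjective u
  have : Smooth (c.left : T.left ⟶ Spec (CommRingCat.of k)) := hc
  have := isRegularLocalRing_stalk_of_smooth_field (c.left : T.left ⟶ Spec (CommRingCat.of k)) v
  let := (b.left.stalkMap v).hom.toAlgebra
  have : Module.FaithfullyFlat (U.left.presheaf.stalk (b.left v)) (T.left.presheaf.stalk v) :=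
    FpqcDescent.faithfullyFlat_stalkMap b.left v (Flat.stalkMap b.left v)
  have : IsLocalHom (algebraMap (U.left.presheaf.stalk (b.left v)) (T.left.presheaf.stalk v)) :=
    inferInstanceAs (IsLocalHom (b.left.stalkMap v).hom)
  exact S0565.result (U.left.presheaf.stalk (b.left v)) (T.left.presheaf.stalk v)

end

end Groth.Agent.AlgStB
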