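import Groth.Agent.Fib.Yoneda
import Groth.Agent.AlgStB.StackFp

/-!
# Automorphisms in a stack which are locally trivial are trivial
-/

set_option autoImplicit false
set_option backward.isDefEq.respectTransparency false
set_option backward.isDefEq.respectTransparency.types false

universe v₂ u₂ v u

open CategoryTheory

namespace Groth.Agent.AlgStB

variable {C : Type u} [Category.{v} C] {J : GrothendieckTopology C} {𝒳 : BasedCategory.{v₂, u₂} C}

/-- An endomorphism over the identity which becomes trivial on a covering is trivial. -/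
theorem eq_id_of_locally (h : Stk.IsStack J 𝒳) {U : C} {a : 𝒳.obj} (ha : 𝒳.p.obj a = U) (φ : a ⟶ a)
    [𝒳.p.IsHomLift (𝟙 U) φ] (R : Sieve U) (hR : R ∈ J U)
    (hloc : ∀ ⦃V : C⦄ (g : V ⟶ U), R g → ∀ (a' : 𝒳.obj) (ψ : a' ⟶ a), 𝒳.p.IsHomLift g ψ → ψ ≫ φ = ψ) :
    φ = 𝟙 a := by
  have := Fib.isFibered_of_isFibGrpd _ h.1
  obtain ⟨G, hG, e, he⟩ := Fib.exists_basedFunctor (⟨a, ha⟩ : 𝒳.p.Fiber U)
  haveI : 𝒳.p.IsHomLift (𝟙 U) e.hom := he
  haveI : 𝒳.p.IsHomLift (𝟙 U) (e.hom ≫ φ ≫ e.inv) := inferInstance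
  obtain ⟨α, hα⟩ := Fib.exists_natTrans_app_id (G := G) (H := G) hG (e.hom ≫ φ ≫ e.inv)
  have hres : (Stk.resSieve R 𝒳).IsEquivalence := h.2 R hR
  have hid : α = 𝟙 G := by
    refine (Stk.resSieve R 𝒳).map_injective (Fib.hom_ext' fun b => ?_)
    change α.toNatTrans.app b.obj = 𝟙 (G.obj b.obj)
    have hs := Fib.map_toId_isStronglyCartesian G hG b.obj
    have hl := Fib.map_toId_isHomLift G b.obj
    haveI : 𝒳.p.IsHomLift b.obj.hom (G.map (Fib.toId b.obj) ≫ e.hom) := inferInstance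
    have k := hloc b.obj.hom b.property _ (G.map (Fib.toId b.obj) ≫ e.hom) inferInstance
    haveI : 𝒳.p.IsHomLift (𝟙 b.obj.left) (α.toNatTrans.app b.obj) :=
      BasedNatTrans.isHomLift α rfl
    haveI : 𝒳.p.IsHomLift (𝟙 b.obj.left) (𝟙 (G.obj b.obj)) := IsHomLift.id (G.w_obj b.obj)
    refine Functor.IsStronglyCartesian.ext 𝒳.p b.obj.hom (G.map (Fib.toId b.obj)) (𝟙 b.obj.left) ?_
    rw [← NatTrans.naturality, hα, Category.id_comp]
    rw [Category.assoc] at k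
    rw [← cancel_mono e.hom]
    simpa using k
  have : e.hom ≫ φ ≫ e.inv = 𝟙 _ := by
    rw [← hα, hid]; rfl
  calc φ = e.inv ≫ (e.hom ≫ φ ≫ e.inv) ≫ e.hom := by simp
    _ = 𝟙 a := by rw [this]; simp

end Groth.Agent.AlgStB
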