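import Groth.Agent.AlgStB.PointsUniv
import Groth.Agent.AlgStB.SmoothLocal
import Groth.Agent.Fib.DiagBC

/-!
# Quasi-compact and universally injective morphisms of stacks on points
-/

set_option autoImplicit false
set_option backward.isDefEq.respectTransparency false
set_option backward.isDefEq.respectTransparency.types false

universe u

open CategoryTheory CategoryTheory.Limits AlgebraicGeometry Opposite

namespace Groth.Agent.AlgStB

open _root_.AlgSt (FPt Points)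
open _root_.AlgSp (Sp LocP IsAlgSpace IsSurjectiveMor IsQuasiCompactMor IsQuasiCompactSp yon)

noncomputable section

variable {S : Scheme.{u}}

theorem isSurjective_fpFst {𝒳 𝒴 𝒵 : AlgSt.Cat S} (h𝒳 : FibCat.IsFibGrpd 𝒳.p)
    (h𝒴 : FibCat.IsFibGrpd 𝒴.p) (h𝒵 : FibCat.IsFibGrpd 𝒵.p) (f : 𝒳 ⥤ᵇ 𝒴) (g : 𝒵 ⥤ᵇ 𝒴)
    (hf : AlgSt.IsSurjective f) : AlgSt.IsSurjective (FibCat.fpFst g f) := fun z => by
  obtain ⟨x, hx⟩ := hf (Points.map g z)
  obtain ⟨w, hw, -⟩ := exists_point_fp h𝒳 h𝒴 h𝒵 f g z x hx.symm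
  exact ⟨w, hw⟩

theorem isSurjective_fpSnd {𝒳 𝒴 𝒵 : AlgSt.Cat S} (h𝒳 : FibCat.IsFibGrpd 𝒳.p)
    (h𝒴 : FibCat.IsFibGrpd 𝒴.p) (h𝒵 : FibCat.IsFibGrpd 𝒵.p) (f : 𝒳 ⥤ᵇ 𝒴) (g : 𝒵 ⥤ᵇ 𝒴)
    (hg : AlgSt.IsSurjective g) : AlgSt.IsSurjective (FibCat.fpSnd g f) := fun x => by
  obtain ⟨z, hz⟩ := hg (Points.map f x)
  obtain ⟨w, -, hw⟩ := exists_point_fp h𝒳 h𝒴 h𝒵 f g z x hz
  exact ⟨w, hw⟩

theorem isSurjective_of_twoCart {𝒜 ℬ 𝒳 𝒴 : AlgSt.Cat S} (h𝒳 : FibCat.IsFibGrpd 𝒳.p)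
    (h𝒴 : FibCat.IsFibGrpd 𝒴.p) (hℬ : FibCat.IsFibGrpd ℬ.p) (a : 𝒜 ⥤ᵇ ℬ) (m : ℬ ⥤ᵇ 𝒴)
    (f : 𝒳 ⥤ᵇ 𝒴) (b : 𝒜 ⥤ᵇ 𝒳) (e : BasedFunctor.comp a m ≅ BasedFunctor.comp b f)
    (he : FibCat.IsTwoCartOver a b e) (hf : AlgSt.IsSurjective f) : AlgSt.IsSurjective a := fun z => by
  obtain ⟨w, hw⟩ := isSurjective_fpFst h𝒳 h𝒴 hℬ f m hf z
  obtain ⟨v, rfl⟩ := (bijective_map _ he).2 w
  exact ⟨v, by rw [← hw, ← map_comp_apply]; rfl⟩

/-- A point as a chart from the spectrum of a field. -/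
theorem exists_ptFun {𝒳 : AlgSt.Cat S} (h𝒳 : FibCat.IsFibGrpd 𝒳.p) (z : Points 𝒳) :
    ∃ (K : Type u) (_ : Field K) (str : Spec (CommRingCat.of K) ⟶ S)
      (G : FibCat.overCat (Over.mk str : Over S) ⥤ᵇ 𝒳),
      Points.map G (schMk (Over.mk str : Over S) (IsLocalRing.closedPoint K)) = z := by
  obtain ⟨p, rfl⟩ := Points.mk_surjective z
  have := Fib.isFibered_of_isFibGrpd _ h𝒳
  obtain ⟨G, -, j, -⟩ := Fib.exists_basedFunctor (U := (Over.mk p.str : Over S)) ⟨p.obj, p.lies⟩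
  refine ⟨p.K, inferInstance, p.str, G, ?_⟩
  let q₀ : FPt (FibCat.overCat (Over.mk p.str : Over S)) := ⟨p.K, p.str, Over.mk (𝟙 _), rfl⟩
  have : Subsingleton ↥(Over.mk p.str : Over S).left :=
    inferInstanceAs (Subsingleton ↥(Spec (CommRingCat.of p.K)))
  have hq₀ : schMk _ (IsLocalRing.closedPoint p.K) = Points.mk q₀ := by
    rw [← schMk_schPt _ (Points.mk q₀)]
    exact congrArg _ (Subsingleton.elim _ _)
  rw [hq₀, Points.map_mk]
  exact mk_eq_of_hom (q := p) j.hom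

theorem compactSpace_of_isSurjective {𝒳 𝒴 : AlgSt.Cat S}
    (h𝒴 : AlgSt.IsAlgStack Scheme.fppfPrecoverage 𝒴) (f : 𝒳 ⥤ᵇ 𝒴) (hf : AlgSt.IsSurjective f)
    [CompactSpace (Points 𝒳)] : CompactSpace (Points 𝒴) := by
  refine ⟨?_⟩
  rw [← hf.range_eq]
  exact isCompact_range (continuous_map h𝒴.isStack.1 h𝒴.atlas f)

theorem compactSpace_points_overCat (U : Over S) [CompactSpace ↥U.left] :
    CompactSpace (Points (FibCat.overCat U)) := by
  refine ⟨?_⟩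
  rw [← (schMk_bijective U).surjective.range_eq]
  exact isCompact_range (continuous_schMk U)

theorem compactSpace_fp_chart {𝒳 𝒴 : AlgSt.Cat S} (f : 𝒳 ⥤ᵇ 𝒴)
    (hf : AlgSt.RepByAlgSpWith IsQuasiCompactMor f) (U : Over S) [CompactSpace ↥U.left]
    (y : FibCat.overCat U ⥤ᵇ 𝒴) : CompactSpace (Points (FibCat.fp y f)) := by
  obtain ⟨F, e, he, hφ⟩ := hf U y
  have hF : IsQuasiCompactSp F.obj :=
    hφ (IsAlgSpace.yon_obj U) AlgSpc.isQuasiCompactSp_yon (𝟙 _) (𝟙 _) _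
      (IsPullback.of_horiz_isIso ⟨(Category.id_comp _).trans (Category.comp_id _).symm⟩)
  have := AlgSpc.compactSpace_points hF
  have h := (isHomeomorph_map (isAlgStack_ofSp F.property)
    (isAlgStack_of_isEquivOver he (isAlgStack_ofSp F.property)) e he).comp
    (isHomeomorph_spMk F.property)
  exact h.homeomorph.compactSpace

theorem isQuasiCompactMor_of_rep {𝒳 𝒴 : AlgSt.Cat S}
    (h𝒳 : AlgSt.IsAlgStack Scheme.fppfPrecoverage 𝒳)
    (h𝒴 : AlgSt.IsAlgStack Scheme.fppfPrecoverage 𝒴) (f : 𝒳 ⥤ᵇ 𝒴)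
    (h : AlgSt.RepByAlgSpWith IsQuasiCompactMor f) :
    AlgSt.IsQuasiCompactMor Scheme.fppfPrecoverage f := by
  intro 𝒵 h𝒵 ⟨U, z, hU, hz, hzs⟩ g
  have hP := isAlgStack_fp h𝒴.isStack h𝒴.diag h𝒵 h𝒳 g f
  have := compactSpace_fp_chart f h U (BasedFunctor.comp z g)
  refine (isQuasiCompact_iff hP).2 ?_
  obtain ⟨b, hb, -, -⟩ := Fib.exists_quasiInverse (Fib.isEquivOver_fpBC z g f)
  refine compactSpace_of_isSurjective hP
    (BasedFunctor.comp b (FibCat.fpSnd z (FibCat.fpFst g f))) fun w => ?_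
  obtain ⟨v, rfl⟩ := isSurjective_fpSnd hP.isStack.1 h𝒵.isStack.1 (Fib.isFibGrpd_overCat U)
    (FibCat.fpFst g f) z (isSurjective_of_repWith (Fib.isFibGrpd_overCat U) h𝒵.isStack.1 z hzs) w
  obtain ⟨v', rfl⟩ := (bijective_map b hb).2 v
  exact ⟨v', map_comp_apply _ _ _⟩

theorem rep_of_isQuasiCompactMor {𝒳 𝒴 : AlgSt.Cat S} (f : 𝒳 ⥤ᵇ 𝒴) (hf : AlgSt.RepByAlgSp1 f)
    (h : AlgSt.IsQuasiCompactMor Scheme.fppfPrecoverage f) :
    AlgSt.RepByAlgSpWith IsQuasiCompactMor f := by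
  intro U y
  obtain ⟨F, e, he⟩ := hf U y
  refine ⟨F, e, he, fun Z Z' hZ hZc gg fst snd sq => ?_⟩
  have hZ' : IsAlgSpace Z' :=
    AlgSpc.isAlgSpace_of_isPullback F.property (IsAlgSpace.yon_obj U) hZ sq
  obtain ⟨Φ₀, h₀, -, -⟩ := isEquivOver_fpLift
    (sq.map (sheafToPresheaf (_root_.AlgSp.J S) (Type (u + 1))))
  have := Fib.full_of_isEquivOver (isEquivOver_toOverCat U)
  have := Fib.faithful_of_isEquivOver (isEquivOver_toOverCat U)
  let M := Fib.fpMap (BasedFunctor.id (AlgSt.ofSp Z)) e (AlgSt.toOverCat U)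
    (F' := AlgSt.ofSpMap gg)
    (G' := AlgSt.ofSpMap (AlgSt.spMapOfOver (BasedFunctor.comp e (FibCat.fpFst y f))))
    (F := BasedFunctor.comp (AlgSt.ofSpMap gg) (AlgSt.toOverCat U)) (G := FibCat.fpFst y f)
    (Iso.refl _) (isoOfOver (BasedFunctor.comp e (FibCat.fpFst y f))).symm
  let Γ := BasedFunctor.comp (BasedFunctor.comp (AlgSt.ofSpMap gg) (AlgSt.toOverCat U)) y
  let e₂ : AlgSt.ofSp Z' ⥤ᵇ FibCat.fp Γ f :=
    BasedFunctor.comp (BasedFunctor.comp Φ₀ M) (Fib.fpBC _ y f)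
  have he₂ : FibCat.IsEquivOver e₂ := Fib.isEquivOver_comp (Fib.isEquivOver_comp h₀
    (Fib.isEquivOver_fpMap _ _ _ _ _ (Fib.isEquivOver_id _) he)) (Fib.isEquivOver_fpBC _ _ _)
  have hfp := isAlgStack_of_isEquivOver he₂ (isAlgStack_ofSp hZ')
  have hqc : AlgSt.IsQuasiCompact (AlgSt.ofSp Z) := by
    refine (isQuasiCompact_iff (isAlgStack_ofSp hZ)).2 ?_
    have := AlgSpc.compactSpace_points hZc
    exact (isHomeomorph_spMk hZ).homeomorph.compactSpace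
  have := (isQuasiCompact_iff hfp).1 (h _ (isAlgStack_ofSp hZ) hqc Γ)
  have : CompactSpace (_root_.AlgSp.Points Z') :=
    ((isHomeomorph_map (isAlgStack_ofSp hZ') hfp e₂ he₂).comp
      (isHomeomorph_spMk hZ')).homeomorph.symm.compactSpace
  obtain ⟨T, c, hc, hcs⟩ := hZ'.atlas
  obtain ⟨W, q, hW, hq, hqs⟩ := AlgSpc.exists_affine_atlas_of_compact hc hcs
  exact (AlgSpc.isQuasiCompactSp_iff_affine hZ').2 ⟨W, q, hW, hq, hqs⟩

/-- The 2-fibre product of two quasi-compact charts of a stack with quasi-compact diagonal. -/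
theorem compactSpace_fp_charts [QuasiSeparatedSpace S] {𝒴 : AlgSt.Cat S}
    (h𝒴 : AlgSt.IsAlgStack Scheme.fppfPrecoverage 𝒴)
    (hΔ : AlgSt.RepByAlgSpWith IsQuasiCompactMor (FibCat.diag (FibCat.toSelf 𝒴)))
    {U W : Over S} [IsAffine U.left] [IsAffine W.left] (a : FibCat.overCat U ⥤ᵇ 𝒴)
    (b : FibCat.overCat W ⥤ᵇ 𝒴) : CompactSpace (Points (FibCat.fp a b)) := by
  obtain ⟨e₀, he₀⟩ := exists_twoCart_toProd a b
  let sU := FibCat.toSelf (FibCat.overCat U)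
  let sW := FibCat.toSelf (FibCat.overCat W)
  let sY := FibCat.toSelf 𝒴
  let m : FibCat.fp sU sW ⥤ᵇ FibCat.fp sY sY :=
    FibCat.fpLift (BasedFunctor.comp (FibCat.fpFst sU sW) a) (BasedFunctor.comp (FibCat.fpSnd sU sW) b)
      (Fib.toSelfIso _ _)
  let P : Over S := Over.mk (pullback.fst U.hom W.hom ≫ U.hom)
  let p₁ : P ⟶ U := Over.homMk (pullback.fst U.hom W.hom) rfl
  let p₂ : P ⟶ W := Over.homMk (pullback.snd U.hom W.hom) pullback.condition.symm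
  let ψ : FibCat.overCat P ⥤ᵇ FibCat.fp sU sW :=
    FibCat.fpLift (AlgSt.overMap p₁) (AlgSt.overMap p₂) (Fib.toSelfIso _ _)
  have : (FibCat.selfOver (Over S)).p.Faithful := inferInstanceAs (𝟭 (Over S)).Faithful
  have : CompactSpace ↥P.left :=
    QuasiCompact.compactSpace_of_compactSpace (pullback.fst U.hom W.hom)
  have hg := h𝒴.isStack.1
  have hUW : FibCat.IsFibGrpd (FibCat.fp sU sW).p := Fib.isFibGrpd_fp sU sW (Fib.isFibGrpd_overCat U)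
    (Fib.isFibGrpd_overCat W) Fib.isFibGrpd_selfOver
  have hψ : AlgSt.IsSurjective ψ := fun z => by
    obtain ⟨K, _, str, G, rfl⟩ := exists_ptFun hUW z
    let P₀ : Over S := Over.mk str
    obtain ⟨m₁, ⟨j₁⟩⟩ := exists_iso_overMap (BasedFunctor.comp G (FibCat.fpFst sU sW))
    obtain ⟨m₂, ⟨j₂⟩⟩ := exists_iso_overMap (BasedFunctor.comp G (FibCat.fpSnd sU sW))
    let n : P₀ ⟶ P := Over.homMk (pullback.lift m₁.left m₂.left
      ((Over.w m₁).trans (Over.w m₂).symm)) (by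
        simp only [P, Over.mk_hom, pullback.lift_fst_assoc]
        exact Over.w m₁)
    have hn₁ : n ≫ p₁ = m₁ := Over.OverMorphism.ext (pullback.lift_fst _ _ _)
    have hn₂ : n ≫ p₂ = m₂ := Over.OverMorphism.ext (pullback.lift_snd _ _ _)
    obtain ⟨κ⟩ := nonempty_iso_fp_of_faithful (BasedFunctor.comp (AlgSt.overMap n) ψ) G
      (overMapComp n p₁ ≪≫ eqToIso (congrArg AlgSt.overMap hn₁) ≪≫ j₁.symm)
      (overMapComp n p₂ ≪≫ eqToIso (congrArg AlgSt.overMap hn₂) ≪≫ j₂.symm)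
    exact ⟨Points.map (AlgSt.overMap n) (schMk P₀ (IsLocalRing.closedPoint K)),
      by rw [← map_comp_apply, map_congr κ]⟩
  have hYY := Fib.isFibGrpd_fp sY sY hg hg Fib.isFibGrpd_selfOver
  have := compactSpace_fp_chart (FibCat.diag sY) hΔ P (BasedFunctor.comp ψ m)
  have hfab : AlgSt.IsAlgStack Scheme.fppfPrecoverage (FibCat.fp a b) :=
    isAlgStack_fp h𝒴.isStack h𝒴.diag (isAlgStack_overCat U) (isAlgStack_overCat W) a b
  obtain ⟨c, hc, -, -⟩ := Fib.exists_quasiInverse (Fib.isEquivOver_fpBC ψ m (FibCat.diag sY))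
  obtain ⟨d, hd, -, -⟩ := Fib.exists_quasiInverse
    (show FibCat.IsEquivOver (FibCat.fpLift _ _ e₀) from he₀)
  refine compactSpace_of_isSurjective hfab
    (BasedFunctor.comp (BasedFunctor.comp c (FibCat.fpSnd ψ (FibCat.fpFst m (FibCat.diag sY)))) d)
    fun w => ?_
  obtain ⟨w', rfl⟩ := (bijective_map d hd).2 w
  obtain ⟨v, rfl⟩ := isSurjective_fpSnd (Fib.isFibGrpd_fp m (FibCat.diag sY) hUW hg hYY) hUW
    (Fib.isFibGrpd_overCat P) (FibCat.fpFst m (FibCat.diag sY)) ψ hψ w'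
  obtain ⟨v', rfl⟩ := (bijective_map c hc).2 v
  exact ⟨v', by rw [map_comp_apply, map_comp_apply]⟩

theorem isQuasiCompactMor_of_qc [QuasiSeparatedSpace S] {𝒳 𝒴 : AlgSt.Cat S}
    (h𝒳 : AlgSt.IsAlgStack Scheme.fppfPrecoverage 𝒳)
    (h𝒴 : AlgSt.IsAlgStack Scheme.fppfPrecoverage 𝒴) (f : 𝒳 ⥤ᵇ 𝒴) (hX : AlgSt.IsQuasiCompact 𝒳)
    (hΔ : AlgSt.RepByAlgSpWith IsQuasiCompactMor (FibCat.diag (FibCat.toSelf 𝒴))) :
    AlgSt.IsQuasiCompactMor Scheme.fppfPrecoverage f := by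
  intro 𝒵 h𝒵 ⟨U, a, hU, ha, has⟩ g
  obtain ⟨W, b, hW, hb, hbs⟩ := hX
  have hP := isAlgStack_fp h𝒴.isStack h𝒴.diag h𝒵 h𝒳 g f
  refine (isQuasiCompact_iff hP).2 ?_
  have hfU := Fib.isFibGrpd_overCat U
  have hfW := Fib.isFibGrpd_overCat W
  have := compactSpace_fp_charts h𝒴 hΔ (BasedFunctor.comp a g) (BasedFunctor.comp b f)
  let ν : FibCat.fp (BasedFunctor.comp a g) (BasedFunctor.comp b f) ⥤ᵇ FibCat.fp g f :=
    FibCat.fpLift (BasedFunctor.comp (FibCat.fpFst _ _) a) (BasedFunctor.comp (FibCat.fpSnd _ _) b)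
      (FibCat.fpIso (BasedFunctor.comp a g) (BasedFunctor.comp b f))
  refine compactSpace_of_isSurjective hP ν fun w => ?_
  obtain ⟨K, _, str, G, rfl⟩ := exists_ptFun hP.isStack.1 w
  let P₀ : Over S := Over.mk str
  let g₁ := BasedFunctor.comp G (FibCat.fpFst g f)
  let g₂ := BasedFunctor.comp G (FibCat.fpSnd g f)
  obtain ⟨v, hv, -⟩ := exists_point_fp hfU h𝒵.isStack.1 (Fib.isFibGrpd_overCat P₀) a g₁
    (schMk P₀ (IsLocalRing.closedPoint K))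
    ((isSurjective_of_repWith hfU h𝒵.isStack.1 a has) (Points.map g₁ (schMk P₀ (IsLocalRing.closedPoint K)))).choose
    ((isSurjective_of_repWith hfU h𝒵.isStack.1 a has) (Points.map g₁ (schMk P₀ (IsLocalRing.closedPoint K)))).choose_spec.symm
  let q₁ := BasedFunctor.comp (FibCat.fpFst g₁ a) g₂
  obtain ⟨x, hx⟩ := isSurjective_of_repWith hfW h𝒳.isStack.1 b hbs (Points.map q₁ v)
  obtain ⟨t, ht, -⟩ := exists_point_fp hfW h𝒳.isStack.1
    (Fib.isFibGrpd_fp g₁ a (Fib.isFibGrpd_overCat P₀) hfU h𝒵.isStack.1) b q₁ v x hx.symm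
  let r₀ := BasedFunctor.comp (FibCat.fpFst q₁ b) (FibCat.fpFst g₁ a)
  let ra := BasedFunctor.comp (FibCat.fpFst q₁ b) (FibCat.fpSnd g₁ a)
  let rb := FibCat.fpSnd q₁ b
  let i₁ : BasedFunctor.comp r₀ g₁ ≅ BasedFunctor.comp ra a :=
    Fib.isoWhiskerLeft (FibCat.fpFst q₁ b) (FibCat.fpIso g₁ a)
  let i₂ : BasedFunctor.comp r₀ g₂ ≅ BasedFunctor.comp rb b := FibCat.fpIso q₁ b
  let κ : BasedFunctor.comp ra (BasedFunctor.comp a g) ≅ BasedFunctor.comp rb (BasedFunctor.comp b f) :=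
    Fib.isoWhiskerRight i₁.symm g ≪≫
      Fib.isoWhiskerLeft (BasedFunctor.comp r₀ G) (FibCat.fpIso g f) ≪≫ Fib.isoWhiskerRight i₂ f
  let L := FibCat.fpLift ra rb κ
  refine ⟨Points.map L t, ?_⟩
  obtain ⟨η⟩ : Nonempty (BasedFunctor.comp L ν ≅ BasedFunctor.comp r₀ G) :=
    ⟨Fib.isoMk (fun o => Fib.fpIsoMk (Fib.appIso i₁ o).symm (Fib.appIso i₂ o).symm (by
        change g.map (Fib.appIso i₁ o).inv ≫ (G.obj (r₀.obj o)).obj.iso.hom =
          (g.map (Fib.appIso i₁ o).inv ≫ (G.obj (r₀.obj o)).obj.iso.hom ≫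
            f.map (Fib.appIso i₂ o).hom) ≫ f.map (Fib.appIso i₂ o).inv
        simp only [Category.assoc, ← Functor.map_comp, Iso.hom_inv_id]
        simp))
      (fun φ => Fib.fp_hom_ext (Fib.appIso_natural i₁.symm φ) (Fib.appIso_natural i₂.symm φ))
      (fun o => Fib.fp_iso_isHomLift_id _ (Fib.appIso_isHomLift i₁.symm o))⟩
  rw [← map_comp_apply, map_congr η, map_comp_apply]
  congr 1
  rw [← hv, ← ht, ← map_comp_apply]

/-! ### Universal injectivity -/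

theorem injective_of_isUnivInjective {𝒳 : AlgSt.Cat S} {U : Over S} (h : FibCat.IsFibGrpd 𝒳.p)
    (F : 𝒳 ⥤ᵇ FibCat.overCat U) (hF : AlgSt.IsUnivInjective Scheme.fppfPrecoverage F) :
    Function.Injective (Points.map F) := by
  intro x y hxy
  have hU := Fib.isFibGrpd_overCat U
  have hid : ∀ z : Points 𝒳, ∃ w : Points (FibCat.fp (BasedFunctor.id (FibCat.overCat U)) F),
      Points.map (FibCat.fpFst _ F) w = Points.map F z ∧ Points.map (FibCat.fpSnd _ F) w = z :=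
    fun z => exists_point_fp h hU hU F (BasedFunctor.id _) _ z (map_id_apply _)
  obtain ⟨a, ha, rfl⟩ := hid x
  obtain ⟨b, hb, rfl⟩ := hid y
  exact congrArg _ (hF _ (isAlgStack_overCat U) (BasedFunctor.id _) (ha.trans (hxy.trans hb.symm)))

theorem isUnivInjective_of_affine {𝒳 𝒴 : AlgSt.Cat S}
    (h𝒳 : AlgSt.IsAlgStack Scheme.fppfPrecoverage 𝒳)
    (h𝒴 : AlgSt.IsAlgStack Scheme.fppfPrecoverage 𝒴) (f : 𝒳 ⥤ᵇ 𝒴)
    (h : ∀ (Z : Over S) [IsAffine Z.left] (z : FibCat.overCat Z ⥤ᵇ 𝒴),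
      AlgSt.IsUnivInjective Scheme.fppfPrecoverage (FibCat.fpFst z f)) :
    AlgSt.IsUnivInjective Scheme.fppfPrecoverage f := by
  intro 𝒵 h𝒵 g w₁ w₂ hw
  obtain ⟨K, _, str, G, hG⟩ := exists_ptFun h𝒵.isStack.1 (Points.map (FibCat.fpFst g f) w₁)
  let P₀ : Over S := Over.mk str
  have hfp := Fib.isFibGrpd_fp g f h𝒵.isStack.1 h𝒳.isStack.1 h𝒴.isStack.1
  have hP₀ := Fib.isFibGrpd_overCat P₀
  have : IsAffine P₀.left := inferInstanceAs (IsAffine (Spec (CommRingCat.of K)))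
  obtain ⟨u₁, hu₁, rfl⟩ := exists_point_fp hfp h𝒵.isStack.1 hP₀ (FibCat.fpFst g f) G
    (schMk P₀ (IsLocalRing.closedPoint K)) w₁ hG
  obtain ⟨u₂, hu₂, rfl⟩ := exists_point_fp hfp h𝒵.isStack.1 hP₀ (FibCat.fpFst g f) G
    (schMk P₀ (IsLocalRing.closedPoint K)) w₂ (hG.trans hw)
  have hinj := injective_of_isUnivInjective
    (Fib.isFibGrpd_fp (BasedFunctor.comp G g) f hP₀ h𝒳.isStack.1 h𝒴.isStack.1) _
    (h P₀ (BasedFunctor.comp G g))
  have := (bijective_map _ (Fib.isEquivOver_fpBC G g f)).1 (a₁ := u₁) (a₂ := u₂) (hinj (by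
    rw [← map_comp_apply, ← map_comp_apply, Fib.fpBC_fpFst]
    exact hu₁.trans hu₂.symm))
  rw [this]

theorem isUnivInjective_iff_diag {𝒳 𝒴 : AlgSt.Cat S}
    (h𝒳 : AlgSt.IsAlgStack Scheme.fppfPrecoverage 𝒳)
    (h𝒴 : AlgSt.IsAlgStack Scheme.fppfPrecoverage 𝒴) (f : 𝒳 ⥤ᵇ 𝒴) :
    AlgSt.IsUnivInjective Scheme.fppfPrecoverage f ↔ AlgSt.IsSurjective (FibCat.diag f) := by
  have hX := h𝒳.isStack.1
  have hY := h𝒴.isStack.1
  constructor
  · intro h w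
    refine ⟨Points.map (FibCat.fpFst f f) w, h 𝒳 h𝒳 f ?_⟩
    rw [← map_comp_apply]
    exact map_id_apply _
  · intro h 𝒵 h𝒵 g w₁ w₂ hw
    let F' := FibCat.fpFst g f
    obtain ⟨e, he⟩ := Fib.exists_twoCart_diag_fpFst f g
    have hfp := Fib.isFibGrpd_fp g f h𝒵.isStack.1 hX hY
    have hs : AlgSt.IsSurjective (FibCat.diag F') :=
      isSurjective_of_twoCart hX (Fib.isFibGrpd_fp f f hX hX hY)
        (Fib.isFibGrpd_fp F' F' hfp hfp h𝒵.isStack.1) _ _ _ _ e he h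
    obtain ⟨v, hv₁, hv₂⟩ := exists_point_fp hfp h𝒵.isStack.1 hfp F' F' w₁ w₂ hw
    obtain ⟨a, rfl⟩ := hs v
    rw [← map_comp_apply] at hv₁ hv₂
    exact hv₁.symm.trans hv₂

end

end Groth.Agent.AlgStB
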