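import Groth.Agent.AlgStB.OpenSubstack
import Groth.Agent.AlgStB.PointsTop
import Groth.Agent.AlgStB.PointsQC

/-!
# Points of open substacks
-/

set_option autoImplicit false
set_option backward.isDefEq.respectTransparency false
set_option backward.isDefEq.respectTransparency.types false

universe u

open CategoryTheory CategoryTheory.Limits CategoryTheory.Functor AlgebraicGeometry Opposite
open _root_.AlgSt (FPt Points)

namespace Groth.Agent.AlgStB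

open _root_.AlgSp (Sp Space LocP IsSurjectiveMor IsAlgSpace yon RepWith)

variable {S : Scheme.{u}}

/-- The trace of an open immersion of stacks on a chart. -/
theorem exists_open_trace {𝒳 𝒴 : AlgSt.Cat S} (h𝒳 : FibCat.IsFibGrpd 𝒳.p)
    (h𝒴 : FibCat.IsFibGrpd 𝒴.p) (j : 𝒳 ⥤ᵇ 𝒴) (hj : AlgSt.IsOpenImm j) {U : Over S}
    (y : FibCat.overCat U ⥤ᵇ 𝒴) :
    ∃ (T : Over S) (g : T ⟶ U) (τ : FibCat.overCat T ⥤ᵇ 𝒳), IsOpenImmersion g.left ∧
      Nonempty (BasedFunctor.comp τ j ≅ BasedFunctor.comp (AlgSt.overMap g) y) ∧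
      Set.range g.left = Points.ofChart y ⁻¹' Set.range (Points.map j) := by
  obtain ⟨F, e, he, hφ⟩ := hj U y
  let φ := AlgSt.spMapOfOver (BasedFunctor.comp e (FibCat.fpFst y j))
  have hφ' : RepWith @IsOpenImmersion φ := hφ
  have sq := hφ'.rep.isPullback (𝟙 ((yon S).obj U))
  have : IsIso (hφ'.rep.fst (𝟙 ((yon S).obj U))) := sq.isIso_fst_of_isIso
  let c := hφ'.rep.fst (𝟙 ((yon S).obj U))
  obtain ⟨τ, hi, hp⟩ := exists_cover_point_of_atlas h𝒳 h𝒴 j y e he c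
    (AlgSpc.surjective_ofPt (p := c) (AlgSpc.repWith_iso c))
  have hg : AlgSpc.pre (c ≫ φ) = hφ'.rep.snd (𝟙 ((yon S).obj U)) :=
    (yon S).map_injective (by rw [AlgSpc.map_pre, sq.w, Category.comp_id])
  refine ⟨_, AlgSpc.pre (c ≫ φ), τ, ?_, hi, ?_⟩
  · rw [hg]
    exact hφ'.property_snd (𝟙 _)
  · ext v
    constructor
    · rintro ⟨t, rfl⟩
      obtain ⟨i⟩ := hi
      refine ⟨Points.ofChart τ t, ?_⟩
      rw [← ofChart_comp_overMap, ofChart_eq_map, ← map_comp_apply, map_congr i, ← ofChart_eq_map]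
    · rintro ⟨x, hx⟩
      obtain ⟨t, ht, -⟩ := hp v x hx
      exact ⟨t, ht⟩

variable {𝒳 : AlgSt.Cat S}

/-- Membership in an open substack is stable under pullback. -/
theorem openSubstack_pull (h𝒳 : FibCat.IsFibGrpd 𝒳.p) {Q : 𝒳.obj → Prop}
    (hQ : AlgSt.IsOpenSubstack 𝒳 Q Scheme.fppfPrecoverage) {a b : 𝒳.obj} (φ : a ⟶ b) (hb : Q b) :
    Q a := by
  obtain ⟨⟨c, hc⟩, ψ, hψ⟩ := hQ.2.1.isStack.1.exists_lift (x := ⟨b, hb⟩) (𝒳.p.map φ)
  have h₁ : 𝒳.p.IsHomLift (𝒳.p.map φ) ψ.hom :=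
    BasedFunctor.preserves_isHomLift (AlgSt.subIncl 𝒳 Q) (𝒳.p.map φ) ψ
  have := Fib.isStronglyCartesian_of_isFibGrpd 𝒳.p h𝒳 (𝒳.p.map φ) ψ.hom
  let θ := Functor.IsCartesian.map 𝒳.p (𝒳.p.map φ) ψ.hom φ
  have : IsIso θ := Fib.isIso_of_isHomLift 𝒳.p h𝒳 (𝟙 (𝒳.p.obj a)) θ
  exact hQ.1.of_iso (asIso θ).symm hc

/-- The points of the object `b`. -/
def objPts (b : 𝒳.obj) : Set (Points 𝒳) :=
  {z | ∃ (r : FPt 𝒳) (_ : r.obj ⟶ b), Points.mk r = z}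

theorem objPts_mono {a b : 𝒳.obj} (φ : a ⟶ b) : objPts a ⊆ objPts b :=
  fun _ ⟨r, m, h⟩ => ⟨r, m ≫ φ, h⟩

theorem objPts_subset_range (h𝒳 : FibCat.IsFibGrpd 𝒳.p) {Q : 𝒳.obj → Prop}
    (hQ : AlgSt.IsOpenSubstack 𝒳 Q Scheme.fppfPrecoverage) {b : 𝒳.obj} (hb : Q b) :
    objPts b ⊆ Set.range (Points.map (AlgSt.subIncl 𝒳 Q)) := by
  rintro _ ⟨r, m, rfl⟩
  exact ⟨Points.mk ⟨r.K, r.str, ⟨r.obj, openSubstack_pull h𝒳 hQ m hb⟩, r.lies⟩, rfl⟩

theorem range_ofChart_subset {U : Over S} (y : FibCat.overCat U ⥤ᵇ 𝒳) :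
    Set.range (Points.ofChart y) ⊆ objPts (y.obj (Over.mk (𝟙 U))) := by
  rintro _ ⟨t, rfl⟩
  exact ⟨_, y.map (Over.homMk (Over.homMk (U.left.fromSpecResidueField t) rfl) (Category.comp_id _)),
    rfl⟩

theorem exists_chart (h𝒳 : FibCat.IsFibGrpd 𝒳.p) (b : 𝒳.obj) :
    ∃ (y : FibCat.overCat (𝒳.p.obj b) ⥤ᵇ 𝒳) (e : y.obj (Over.mk (𝟙 (𝒳.p.obj b))) ≅ b),
      𝒳.p.IsHomLift (𝟙 (𝒳.p.obj b)) e.hom := by
  have := Fib.isFibered_of_isFibGrpd _ h𝒳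
  obtain ⟨y, -, e, he⟩ := Fib.exists_basedFunctor (U := 𝒳.p.obj b) ⟨b, rfl⟩
  exact ⟨y, e, he⟩

theorem chart_isHomLift {U : Over S} (y : FibCat.overCat U ⥤ᵇ 𝒳) {b : 𝒳.obj}
    (e : y.obj (Over.mk (𝟙 U)) ≅ b) (he : 𝒳.p.IsHomLift (𝟙 U) e.hom) {T : Over S} (g : T ⟶ U) :
    𝒳.p.IsHomLift g (y.map (Over.homMk g (Category.comp_id _) : Over.mk g ⟶ Over.mk (𝟙 U)) ≫ e.hom) := by
  have : (FibCat.overCat U).p.IsHomLift g
      (Over.homMk g (Category.comp_id _) : Over.mk g ⟶ Over.mk (𝟙 U)) :=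
    IsHomLift.of_fac' _ _ _ rfl rfl (by simp; rfl)
  have := BasedFunctor.preserves_isHomLift y g
    (Over.homMk g (Category.comp_id _) : Over.mk g ⟶ Over.mk (𝟙 U))
  infer_instance

/-- Membership in an open substack is read on points. -/
theorem openSubstack_iff (h𝒳 : FibCat.IsFibGrpd 𝒳.p) {Q : 𝒳.obj → Prop}
    (hQ : AlgSt.IsOpenSubstack 𝒳 Q Scheme.fppfPrecoverage) (b : 𝒳.obj) :
    Q b ↔ objPts b ⊆ Set.range (Points.map (AlgSt.subIncl 𝒳 Q)) := by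
  refine ⟨objPts_subset_range h𝒳 hQ, fun h => ?_⟩
  obtain ⟨y, e, -⟩ := exists_chart h𝒳 b
  obtain ⟨T, g, τ, hg, ⟨i⟩, hrange⟩ := exists_open_trace hQ.2.1.isStack.1 h𝒳 _ hQ.2.2 y
  have hs : Function.Surjective g.left := fun t => by
    have : Points.ofChart y t ∈ Set.range (Points.map (AlgSt.subIncl 𝒳 Q)) :=
      h (objPts_mono e.hom (range_ofChart_subset y ⟨t, rfl⟩))
    exact (Set.ext_iff.1 hrange t).2 this
  have : Surjective g.left := ⟨hs⟩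
  have : IsIso g.left := isIso_of_isOpenImmersion_of_opensRange_eq_top g.left
    (TopologicalSpace.Opens.ext (Set.range_eq_univ.2 hs))
  have : IsIso ((Over.forget S).map g) := ‹IsIso g.left›
  have : IsIso g := isIso_of_reflects_iso g (Over.forget S)
  let ψ : (AlgSt.overMap g).obj (Over.mk (inv g)) ≅ Over.mk (𝟙 (𝒳.p.obj b)) :=
    Over.isoMk (Iso.refl _) (by
      change 𝟙 _ ≫ 𝟙 (𝒳.p.obj b) = inv g ≫ g
      simp)
  let k := ((BasedNatTrans.forgetful _ _).mapIso i).app (Over.mk (inv g))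
  exact hQ.1.of_iso ((k ≪≫ y.toFunctor.mapIso ψ) ≪≫ e) (τ.obj (Over.mk (inv g))).property

/-- The points of an open substack form an open set. -/
theorem isOpen_range (h𝒳 : FibCat.IsFibGrpd 𝒳.p) {Q : 𝒳.obj → Prop}
    (hQ : AlgSt.IsOpenSubstack 𝒳 Q Scheme.fppfPrecoverage) :
    IsOpen (Set.range (Points.map (AlgSt.subIncl 𝒳 Q))) := by
  intro U y _
  obtain ⟨T, g, τ, hg, -, hrange⟩ := exists_open_trace hQ.2.1.isStack.1 h𝒳 _ hQ.2.2 y
  rw [← hrange]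
  exact g.left.isOpenEmbedding.isOpen_range

/-- The open substack of an open set of points. -/
theorem isOpenSubstack_objPts (h𝒳 : AlgSt.IsAlgStack Scheme.fppfPrecoverage 𝒳)
    {W : Set (Points 𝒳)} (hW : IsOpen W) :
    AlgSt.IsOpenSubstack 𝒳 (fun b => objPts b ⊆ W) Scheme.fppfPrecoverage := by
  have hG := h𝒳.isStack.1
  refine isOpenSubstack_of_open h𝒳 _ (fun φ hb => (objPts_mono φ).trans hb) fun b => ?_
  obtain ⟨y, e, he⟩ := exists_chart hG b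
  let V : (𝒳.p.obj b).left.Opens :=
    ⟨Points.ofChart y ⁻¹' W, hW.preimage (continuous_ofChart hG h𝒳.atlas y)⟩
  refine ⟨V, fun a φ => ?_⟩
  let A : Over (𝒳.p.obj b) := Over.mk (𝒳.p.map φ)
  obtain ⟨z, i, hi⟩ := exists_chart hG a
  let m : y.obj A ⟶ b := y.map (Over.homMk A.hom (Category.comp_id _) : A ⟶ Over.mk (𝟙 _)) ≫ e.hom
  have hm : 𝒳.p.IsHomLift (𝒳.p.map φ) m := by
    exact chart_isHomLift y e he (𝒳.p.map φ)
  have := Fib.isStronglyCartesian_of_isFibGrpd 𝒳.p hG (𝒳.p.map φ) m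
  let θ := Functor.IsCartesian.map 𝒳.p (𝒳.p.map φ) m φ
  have : IsIso θ := Fib.isIso_of_isHomLift 𝒳.p hG (𝟙 (𝒳.p.obj a)) θ
  constructor
  · rintro ha _ ⟨p, rfl⟩
    refine ha ?_
    have h : Points.ofChart y ((𝒳.p.map φ).left p) =
        Points.ofChart (BasedFunctor.comp (AlgSt.overMap (𝒳.p.map φ)) y) p :=
      (ofChart_comp_overMap _ y p).symm
    rw [h]
    refine objPts_mono ?_ (range_ofChart_subset _ ⟨p, rfl⟩)
    exact y.map (Over.homMk (𝟙 _) (by simp [A, AlgSt.overMap]) :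
      (AlgSt.overMap (𝒳.p.map φ)).obj (Over.mk (𝟙 _)) ⟶ A) ≫ inv θ
  · rintro hr _ ⟨r, n, rfl⟩
    obtain ⟨p, hp⟩ : ∃ p, Points.ofChart z p = Points.mk r := by
      let q : FPt (FibCat.overCat (𝒳.p.obj a)) :=
        ⟨r.K, r.str, Over.mk (eqToHom r.lies.symm ≫ 𝒳.p.map n), rfl⟩
      refine ⟨schPt _ (Points.mk q), ?_⟩
      rw [ofChart_eq_map, schMk_schPt, Points.map_mk]
      let m' : z.obj q.obj ⟶ a :=
        z.map (Over.homMk q.obj.hom (Category.comp_id _) : q.obj ⟶ Over.mk (𝟙 _)) ≫ i.hom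
      have hm' : 𝒳.p.IsHomLift (eqToHom r.lies.symm ≫ 𝒳.p.map n) m' := by
        exact chart_isHomLift z i hi (eqToHom r.lies.symm ≫ 𝒳.p.map n)
      have : 𝒳.p.IsHomLift (eqToHom r.lies.symm ≫ 𝒳.p.map n) n :=
        IsHomLift.of_fac' _ _ _ r.lies rfl (by simp)
      have := Fib.isStronglyCartesian_of_isFibGrpd 𝒳.p hG (eqToHom r.lies.symm ≫ 𝒳.p.map n) m'
      exact (mk_eq_of_hom
        (Functor.IsCartesian.map 𝒳.p (eqToHom r.lies.symm ≫ 𝒳.p.map n) m' n)).symm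
    have h₁ : Points.ofChart y ((𝒳.p.map φ).left p) ∈ W := hr ⟨p, rfl⟩
    rw [← hp]
    convert h₁ using 1
    rw [← ofChart_comp_overMap, ofChart_eq_map, ofChart_eq_map]
    obtain ⟨q', hq'⟩ := Points.mk_surjective (schMk (𝒳.p.obj a) p)
    rw [← hq', Points.map_mk, Points.map_mk]
    let nz : z.obj q'.obj ⟶ a :=
      z.map (Over.homMk q'.obj.hom (Category.comp_id _) : q'.obj ⟶ Over.mk (𝟙 _)) ≫ i.hom
    let ny : y.obj ((AlgSt.overMap (𝒳.p.map φ)).obj q'.obj) ⟶ y.obj A :=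
      y.map (Over.homMk q'.obj.hom (by simp [A, AlgSt.overMap]))
    have hny : 𝒳.p.IsHomLift q'.obj.hom (ny ≫ inv θ) := by
      refine IsHomLift.of_fac' _ _ _ (y.w_obj _) rfl ?_
      simp only [ny, Functor.map_comp, Fib.w_map y, Functor.map_inv]
      simp [IsHomLift.fac' 𝒳.p (𝟙 (𝒳.p.obj a)) θ, A]
      rfl
    have hnz : 𝒳.p.IsHomLift q'.obj.hom nz := by
      exact chart_isHomLift z i hi q'.obj.hom
    have := Fib.isStronglyCartesian_of_isFibGrpd 𝒳.p hG q'.obj.hom (ny ≫ inv θ)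
    exact mk_eq_of_hom (p := q'.map z) (Functor.IsCartesian.map 𝒳.p q'.obj.hom (ny ≫ inv θ) nz)

theorem range_objPts (W : Set (Points 𝒳)) :
    Set.range (Points.map (AlgSt.subIncl 𝒳 (fun b => objPts b ⊆ W))) = W := by
  ext z
  constructor
  · rintro ⟨w, rfl⟩
    obtain ⟨q, rfl⟩ := Points.mk_surjective w
    exact q.obj.property ⟨q.map (AlgSt.subIncl 𝒳 _), 𝟙 _, rfl⟩
  · intro hz
    obtain ⟨p, rfl⟩ := Points.mk_surjective z
    have : objPts p.obj ⊆ W := by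
      rintro _ ⟨r, m, rfl⟩
      rwa [mk_eq_of_hom m]
    exact ⟨Points.mk ⟨p.K, p.str, ⟨p.obj, this⟩, p.lies⟩, rfl⟩

end Groth.Agent.AlgStB
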