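import Groth.Agent.AlgStB.FaithfulRep
import Groth.Agent.AlgStB.SubstackPoints
import Groth.Agent.AlgStB.Separation
import Groth.Agent.AlgStB.DiagCover
import Groth.Agent.AlgStB.DiagEtLocal
import Groth.Agent.AlgSpFormal.UnramDiag
import Mathlib.FieldTheory.IsAlgClosed.AlgebraicClosure

/-!
# Automorphisms over an unramified diagonal are tested on geometric points
-/

set_option autoImplicit false
set_option linter.style.haveILetI false
set_option backward.isDefEq.respectTransparency false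
set_option backward.isDefEq.respectTransparency.types false

universe u

open CategoryTheory CategoryTheory.Limits AlgebraicGeometry
open _root_.AlgSt (Points)

namespace Groth.Agent.AlgStB

open _root_.AlgSp (Sp LocP IsAlgSpace yon RepWith)

variable {S : Scheme.{u}}

/-- The diagonal of the diagonal of an unramified diagonal is an open immersion. -/
theorem isOpenImm_diag {𝒳 𝒴 : AlgSt.Cat S} (f : 𝒳 ⥤ᵇ 𝒴)
    (hf : AlgSt.RepByAlgSpWith (LocP (@LocallyOfFiniteType ⊓ @FormallyUnramified)) f) :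
    AlgSt.IsOpenImm (FibCat.diag f) := by
  refine repByAlgSpWith_diag_of_repByAlgSpWith f hf fun X hX U a ha T W fst snd ξ F' i sq => ?_
  exact AlgSpc.repWith_of_isPullback (fst := i.hom) (g := 𝟙 _)
    (IsPullback.of_horiz_isIso ⟨(Category.comp_id _).symm⟩)
    (AlgSpc.repWith_of_isPullback sq ((AlgSpFormal.diagonal_iff hX (IsAlgSpace.yon_obj U)).1 ha))

/-- The diagonal of a Deligne-Mumford stack is unramified. -/
theorem unramified_diag_of_isDM {𝒳 : AlgSt.Cat S} (h : AlgSt.IsDM Scheme.fppfPrecoverage 𝒳) :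
    AlgSt.RepByAlgSpWith (LocP (@LocallyOfFiniteType ⊓ @FormallyUnramified))
      (FibCat.diag (FibCat.toSelf 𝒳)) := by
  obtain ⟨T, x, hx, hs⟩ := hasAtlas_etale_iff.1 h.2
  have hm : ∀ {P : MorphismProperty Scheme.{u}},
      (∀ ⦃X Y : Scheme.{u}⦄ (e : X ⟶ Y), Etale e → P e) → AlgSt.RepByAlgSpWith (LocP P) x :=
    fun hP => repByAlgSpWith_mono (fun _ _ _ hm => AlgSpc.locP_mono (fun _ _ e he => hP e he) hm) hx
  exact repByAlgSpWith_diag_toSelf_of_cover
    (R := (@LocallyOfFiniteType ⊓ @FormallyUnramified : MorphismProperty Scheme.{u}))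
    (fun f g h => by
      have := h.1; have := h.2
      exact ⟨locallyOfFiniteType_of_comp f g, FormallyUnramified.of_comp f g⟩)
    (isLocalOnBase_fppf_of_fpqc AlgSpLoc.isLocalOnBase_unramified) h.1 T x
    (hm fun _ _ e he => inferInstance) (hm fun _ _ e he => inferInstance) hs
    (hm fun _ _ e he => ⟨inferInstance, inferInstance⟩)

variable {𝒳 : AlgSt.Cat S} {T : Over S} {G : FibCat.overCat T ⥤ᵇ 𝒳}

/-- The point of the double diagonal of a 2-automorphism. -/
noncomputable def autPt (α : G ≅ G) :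
    FibCat.overCat T ⥤ᵇ FibCat.fp (FibCat.diag (FibCat.toSelf 𝒳)) (FibCat.diag (FibCat.toSelf 𝒳)) :=
  FibCat.fpLift G G <| Fib.isoMk
    (fun v => Fib.fpIsoMk (Fib.appIso α v) (Iso.refl (G.obj v))
      (@Fib.self_iso_w (Over S) _ 𝒳 𝒳 (FibCat.toSelf 𝒳) (FibCat.toSelf 𝒳) _ _ _ _ _ _
        (𝟙 ((FibCat.overCat T).p.obj v)) (Fib.appIso_isHomLift α v) (IsHomLift.id (G.w_obj v))))
    (fun φ => Fib.fp_hom_ext (α.hom.toNatTrans.naturality φ)
      ((Category.comp_id _).trans (Category.id_comp _).symm))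
    (fun v => Fib.fp_iso_isHomLift_id _ (Fib.appIso_isHomLift α v))

theorem app_eq_of_overMap_iso (α : G ≅ G) {W : Over S} {g : W ⟶ T}
    (τ : FibCat.overCat W ⥤ᵇ 𝒳)
    (i : BasedFunctor.comp τ (FibCat.diag (FibCat.diag (FibCat.toSelf 𝒳))) ≅
      BasedFunctor.comp (AlgSt.overMap g) (autPt α)) (v : Over W) :
    (Fib.appIso α ((AlgSt.overMap g).obj v)).hom = 𝟙 _ := by
  let c := Fib.appIso i v
  have hw := c.hom.hom.w
  have h₁ := congrArg (fun m => m.hom.fst) hw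
  have h₂ := congrArg (fun m => m.hom.snd) hw
  change c.hom.hom.fst ≫ (Fib.appIso α ((AlgSt.overMap g).obj v)).hom = 𝟙 _ ≫ c.hom.hom.snd at h₁
  change c.hom.hom.fst ≫ 𝟙 _ = 𝟙 _ ≫ c.hom.hom.snd at h₂
  have hinv : c.inv.hom.fst ≫ c.hom.hom.fst = 𝟙 _ := congrArg (fun m => m.hom.fst) c.inv_hom_id
  have h₃ := h₁.trans h₂.symm
  rw [Category.comp_id] at h₃
  have := congrArg (fun t => c.inv.hom.fst ≫ t) h₃
  simp only [← Category.assoc, hinv] at this
  erw [Category.id_comp] at this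
  exact this

/-- An automorphism over an unramified diagonal which is trivial at every geometric point is trivial. -/
theorem app_eq_id_of_geometric (h𝒳 : FibCat.IsFibGrpd 𝒳.p)
    (hΔ : AlgSt.RepByAlgSpWith (LocP (@LocallyOfFiniteType ⊓ @FormallyUnramified))
      (FibCat.diag (FibCat.toSelf 𝒳)))
    (α : G ≅ G)
    (hα : ∀ (k : Type u) [Field k] [IsAlgClosed k] (s : Spec (CommRingCat.of k) ⟶ T.left),
      (Fib.appIso α (Over.mk (Over.homMk s rfl : Over.mk (s ≫ T.hom) ⟶ T))).hom = 𝟙 _) :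
    (Fib.appIso α (Over.mk (𝟙 T))).hom = 𝟙 _ := by
  have hfp := Fib.isFibGrpd_fp (FibCat.toSelf 𝒳) (FibCat.toSelf 𝒳) h𝒳 h𝒳 Fib.isFibGrpd_selfOver
  obtain ⟨W, g, τ, hg, ⟨i⟩, hr⟩ := exists_open_trace h𝒳
    (Fib.isFibGrpd_fp (FibCat.diag (FibCat.toSelf 𝒳)) (FibCat.diag (FibCat.toSelf 𝒳)) h𝒳 h𝒳 hfp)
    (FibCat.diag (FibCat.diag (FibCat.toSelf 𝒳))) (isOpenImm_diag _ hΔ) (autPt α)
  have hs : Function.Surjective g.left := fun t => by
    refine (Set.ext_iff.1 hr t).2 ?_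
    let K := AlgebraicClosure (T.left.residueField t)
    let sb : Spec (CommRingCat.of K) ⟶ T.left :=
      Spec.map (CommRingCat.ofHom (algebraMap (T.left.residueField t) K)) ≫
        T.left.fromSpecResidueField t
    let T' : Over S := Over.mk (sb ≫ T.hom)
    let k : T' ⟶ T := Over.homMk sb rfl
    have hk : (Fib.appIso α (Over.mk k)).hom = 𝟙 _ := hα K sb
    have hall : ∀ v : Over T', (Fib.appIso α ((AlgSt.overMap k).obj v)).hom = 𝟙 _ := fun v => by
      let m : (AlgSt.overMap k).obj v ⟶ Over.mk k := Over.homMk v.hom rfl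
      have hm : (FibCat.overCat T).p.IsHomLift v.hom m := IsHomLift.map (FibCat.overCat T).p m
      haveI : 𝒳.p.IsHomLift v.hom (G.map m) := BasedFunctor.preserves_isHomLift G v.hom m
      have := Fib.isStronglyCartesian_of_isFibGrpd _ h𝒳 v.hom (G.map m)
      haveI : 𝒳.p.IsHomLift (𝟙 v.left) (Fib.appIso α ((AlgSt.overMap k).obj v)).hom :=
        Fib.appIso_isHomLift α ((AlgSt.overMap k).obj v)
      haveI : 𝒳.p.IsHomLift (𝟙 v.left) (𝟙 (G.obj ((AlgSt.overMap k).obj v))) :=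
        IsHomLift.id (G.w_obj _)
      refine Functor.IsCartesian.ext 𝒳.p v.hom (G.map m) _ _ ?_
      have hn : G.map m ≫ (Fib.appIso α (Over.mk k)).hom =
          (Fib.appIso α ((AlgSt.overMap k).obj v)).hom ≫ G.map m := α.hom.toNatTrans.naturality m
      rw [← hn, hk, Category.id_comp, Category.comp_id]
    let j : BasedFunctor.comp (BasedFunctor.comp (AlgSt.overMap k) G)
        (FibCat.diag (FibCat.diag (FibCat.toSelf 𝒳))) ≅ BasedFunctor.comp (AlgSt.overMap k) (autPt α) :=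
      Fib.isoMk (fun v => Fib.fpIsoMk (Iso.refl _) (Iso.refl _) (Fib.fp_hom_ext
          (by
            change 𝟙 _ ≫ (Fib.appIso α ((AlgSt.overMap k).obj v)).hom = 𝟙 _ ≫ 𝟙 _
            rw [hall v])
          (by
            change 𝟙 _ ≫ 𝟙 _ = 𝟙 _ ≫ 𝟙 _
            rfl)))
        (fun φ => Fib.fp_hom_ext ((Category.comp_id _).trans (Category.id_comp _).symm)
          ((Category.comp_id _).trans (Category.id_comp _).symm))
        (fun v => Fib.fp_iso_isHomLift_id _ (IsHomLift.id (G.w_obj _)))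
    obtain ⟨p⟩ : Nonempty ↥(Spec (CommRingCat.of K)) := inferInstance
    have hp : k.left p = t := by
      change T.left.fromSpecResidueField t ((Spec.map _) p) = t
      exact Scheme.fromSpecResidueField_apply _ _
    refine ⟨Points.ofChart (BasedFunctor.comp (AlgSt.overMap k) G) p, ?_⟩
    rw [ofChart_eq_map, ← map_comp_apply, map_congr j, ← ofChart_eq_map, ofChart_comp_overMap, hp]
  have : Surjective g.left := ⟨hs⟩
  have : IsIso g.left := isIso_of_isOpenImmersion_of_opensRange_eq_top g.left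
    (TopologicalSpace.Opens.ext (Set.range_eq_univ.2 hs))
  have : IsIso ((Over.forget S).map g) := ‹IsIso g.left›
  have : IsIso g := isIso_of_reflects_iso g (Over.forget S)
  have hW := app_eq_of_overMap_iso α τ i (Over.mk (inv g))
  let m : (AlgSt.overMap g).obj (Over.mk (inv g)) ≅ Over.mk (𝟙 T) :=
    Over.isoMk (Iso.refl _) (by
      change 𝟙 T ≫ 𝟙 T = inv g ≫ g
      simp)
  have hn : G.map m.hom ≫ (Fib.appIso α (Over.mk (𝟙 T))).hom =
      (Fib.appIso α ((AlgSt.overMap g).obj (Over.mk (inv g)))).hom ≫ G.map m.hom :=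
    α.hom.toNatTrans.naturality m.hom
  rw [hW, Category.id_comp] at hn
  haveI : IsIso (G.map m.hom) := inferInstanceAs (IsIso (G.toFunctor.map m.hom))
  rw [← cancel_epi (G.map m.hom), hn, Category.comp_id]

/-- Geometric injectivity on automorphisms gives representability. -/
theorem repByAlgSp1_of_geometric {𝒴 : AlgSt.Cat S}
    (h𝒳 : AlgSt.IsAlgStack Scheme.fppfPrecoverage 𝒳)
    (h𝒴 : AlgSt.IsAlgStack Scheme.fppfPrecoverage 𝒴)
    (hΔ : AlgSt.RepByAlgSpWith (LocP (@LocallyOfFiniteType ⊓ @FormallyUnramified))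
      (FibCat.diag (FibCat.toSelf 𝒳)))
    (f : 𝒳 ⥤ᵇ 𝒴)
    (hinj : ∀ (k : Type u) [Field k] [IsAlgClosed k] (s : Spec (CommRingCat.of k) ⟶ S) (ξ : 𝒳.obj),
      𝒳.p.obj ξ = Over.mk s → ∀ a : ξ ⟶ ξ, 𝒳.p.IsHomLift (𝟙 (𝒳.p.obj ξ)) a →
        f.map a = 𝟙 (f.obj ξ) → a = 𝟙 ξ) :
    AlgSt.RepByAlgSp1 f := by
  refine (repByAlgSp1_iff_trivialKernel h𝒳 h𝒴 f).2 fun a φ hp hf => ?_
  have hg := h𝒳.isStack.1
  have := Fib.isFibered_of_isFibGrpd _ hg
  obtain ⟨G, hG, e, he⟩ := Fib.exists_basedFunctor (⟨a, rfl⟩ : 𝒳.p.Fiber (𝒳.p.obj a))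
  haveI : 𝒳.p.IsHomLift (𝟙 (𝒳.p.obj a)) e.hom := he
  haveI : 𝒳.p.IsHomLift (𝟙 (𝒳.p.obj a)) φ := hp ▸ inferInstance
  haveI := Fib.isIso_of_isHomLift 𝒳.p hg (𝟙 (𝒳.p.obj a)) φ
  have hl : 𝒳.p.IsHomLift (𝟙 (𝒳.p.obj a)) (e ≪≫ asIso φ ≪≫ e.symm).hom := by
    simp only [Iso.trans_hom, asIso_hom, Iso.symm_hom]
    infer_instance
  obtain ⟨α, hα⟩ := Fib.exists_iso_app_id hg (e ≪≫ asIso φ ≪≫ e.symm) hl
  have hfT : f.map (Fib.appIso α (Over.mk (𝟙 (𝒳.p.obj a)))).hom = 𝟙 _ := by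
    change f.map (α.hom.toNatTrans.app _) = _
    rw [hα]
    simp only [Iso.trans_hom, asIso_hom, Iso.symm_hom, Functor.map_comp]
    rw [hf, Category.id_comp, ← Functor.map_comp, Iso.hom_inv_id, CategoryTheory.Functor.map_id]
  have key := app_eq_id_of_geometric hg hΔ α fun k _ _ s => by
    let v : Over (𝒳.p.obj a) := Over.mk (Over.homMk s rfl : Over.mk (s ≫ (𝒳.p.obj a).hom) ⟶ 𝒳.p.obj a)
    refine hinj k (s ≫ (𝒳.p.obj a).hom) (G.obj v) (G.w_obj v) _ ?_ ?_
    · rw [G.w_obj v]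
      exact Fib.appIso_isHomLift α v
    · haveI := Fib.map_toId_isHomLift G v
      haveI : 𝒴.p.IsHomLift v.hom (f.map (G.map (Fib.toId v))) := inferInstance
      have := Fib.isStronglyCartesian_of_isFibGrpd _ h𝒴.isStack.1 v.hom (f.map (G.map (Fib.toId v)))
      haveI : 𝒳.p.IsHomLift (𝟙 v.left) (Fib.appIso α v).hom := Fib.appIso_isHomLift α v
      haveI : 𝒴.p.IsHomLift (𝟙 v.left) (f.map (Fib.appIso α v).hom) := inferInstance
      haveI : 𝒴.p.IsHomLift (𝟙 v.left) (𝟙 (f.obj (G.obj v))) :=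
        IsHomLift.id ((f.w_obj _).trans (G.w_obj v))
      refine Functor.IsCartesian.ext 𝒴.p v.hom (f.map (G.map (Fib.toId v))) _ _ ?_
      have hn : G.map (Fib.toId v) ≫ (Fib.appIso α (Over.mk (𝟙 (𝒳.p.obj a)))).hom =
          (Fib.appIso α v).hom ≫ G.map (Fib.toId v) := α.hom.toNatTrans.naturality (Fib.toId v)
      rw [← Functor.map_comp, ← hn, Functor.map_comp, hfT, Category.comp_id, Category.id_comp]
  change α.hom.toNatTrans.app _ = 𝟙 _ at key
  rw [hα] at key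
  simp only [Iso.trans_hom, asIso_hom, Iso.symm_hom] at key
  calc φ = e.inv ≫ (e.hom ≫ φ ≫ e.inv) ≫ e.hom := by simp
    _ = 𝟙 a := by rw [key]; simp

end Groth.Agent.AlgStB
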