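import Groth.Agent.AlgStB.GerbeFlat
import Groth.Prelude.Def_StGerb2

/-!
# The automorphism scheme of a point as a fibre product
-/

set_option autoImplicit false
set_option backward.isDefEq.respectTransparency false
set_option backward.isDefEq.respectTransparency.types false

universe u

open CategoryTheory CategoryTheory.Limits AlgebraicGeometry Opposite

namespace Groth.Agent.AlgStB

open _root_.AlgSp (LocP)

noncomputable section

variable {S : Scheme.{u}} {𝒳 : AlgSt.Cat S} {U : Over S}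

theorem autO_isHomLift {A : 𝒳.obj} {R : Over S} (hA : 𝒳.p.obj A = R) (α : Gerb.AutO A) :
    𝒳.p.IsHomLift (𝟙 R) α.hom.1 := by
  subst hA
  exact α.hom.2

theorem exists_autRep_equiv (h𝒳 : FibCat.IsFibGrpd 𝒳.p) (π : 𝒳 ⥤ᵇ FibCat.overCat U)
    (x : FibCat.overCat U ⥤ᵇ 𝒳) (e : BasedFunctor.comp x π ≅ BasedFunctor.id (FibCat.overCat U))
    (G : Over U.left) [GrpObj G] (r : Gerb.AutRep x (Gerb.ptsGrp U G)) :
    ∃ E : FibCat.overCat (Over.mk (G.hom ≫ U.hom)) ⥤ᵇ FibCat.fp x x, FibCat.IsEquivOver E ∧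
      Nonempty (BasedFunctor.comp E (FibCat.fpFst x x) ≅
        AlgSt.overMap (Over.homMk G.hom : Over.mk (G.hom ≫ U.hom) ⟶ U)) := by
  let G' : Over S := Over.mk (G.hom ≫ U.hom)
  let g : G' ⟶ U := Over.homMk G.hom
  let gx := BasedFunctor.comp (AlgSt.overMap g) x
  let T : Over G' → Over U := fun k => (AlgSt.overMap g).obj k
  let pt : ∀ k : Over G', (Gerb.ptsGrp U G).obj (op (T k)) := fun k =>
    (Over.homMk k.hom.left (by
      change k.hom.left ≫ G.hom = (k.hom ≫ g).left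
      rfl) : (Over.iteratedSliceForward U).obj (T k) ⟶ G)
  let o : Over G' := Over.mk (𝟙 G')
  have hα : 𝒳.p.IsHomLift (𝟙 G') (r.iso (T o) (pt o)).hom.1 :=
    autO_isHomLift (x.w_obj (T o)) _
  obtain ⟨θ, hθ⟩ := Fib.exists_iso_app_id h𝒳 (G := gx) (H := gx)
    ((Functor.Fiber.fiberInclusion (p := 𝒳.p) (S := 𝒳.p.obj (x.obj (T o)))).mapIso (r.iso (T o) (pt o))) hα
  -- the universal automorphism at a point
  have hθk : ∀ k : Over G', θ.hom.toNatTrans.app k = (r.iso (T k) (pt k)).hom.1 := by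
    intro k
    let m : k ⟶ o := Over.homMk k.hom (Category.comp_id _)
    let h : T k ⟶ T o := (AlgSt.overMap g).map m
    have h₁ : gx.map m ≫ θ.hom.toNatTrans.app o = θ.hom.toNatTrans.app k ≫ gx.map m :=
      θ.hom.toNatTrans.naturality m
    have hpt : (Gerb.ptsGrp U G).map h.op (pt o) = pt k := by
      apply Over.OverMorphism.ext
      change k.hom.left ≫ 𝟙 _ = k.hom.left
      simp
    have h₂ := r.natural h (pt o)
    rw [hpt] at h₂
    rw [hθ] at h₁
    change x.map h ≫ (r.iso (T o) (pt o)).hom.1 = θ.hom.toNatTrans.app k ≫ x.map h at h₁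
    have : (FibCat.overCat U).p.IsHomLift k.hom h :=
      IsHomLift.of_fac' _ _ _ rfl rfl (by simp [h, m, AlgSt.overMap]; rfl)
    have : 𝒳.p.IsHomLift k.hom (x.map h) := BasedFunctor.preserves_isHomLift x _ h
    have := Fib.isStronglyCartesian_of_isFibGrpd 𝒳.p h𝒳 k.hom (x.map h)
    have : 𝒳.p.IsHomLift (𝟙 k.left) (θ.hom.toNatTrans.app k) := BasedNatTrans.isHomLift θ.hom rfl
    have hl : 𝒳.p.obj (x.obj (T k)) = k.left := x.w_obj _
    have : 𝒳.p.IsHomLift (𝟙 k.left) (r.iso (T k) (pt k)).hom.1 := autO_isHomLift hl _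
    exact Functor.IsCartesian.ext 𝒳.p k.hom (x.map h) _ _ (h₁.symm.trans h₂.symm)
  let E : FibCat.overCat G' ⥤ᵇ FibCat.fp x x :=
    FibCat.fpLift (AlgSt.overMap g) (AlgSt.overMap g) θ
  refine ⟨E, ?_, ⟨Iso.refl _⟩⟩
  have hfaith : E.toFunctor.Faithful := ⟨fun {a b} φ ψ h => by
    apply Over.OverMorphism.ext
    exact congrArg (fun t => t.hom.fst.left) h⟩
  have hfull : E.toFunctor.Full := ⟨fun {a b} φ => by
    have h₁ : φ.hom.snd = φ.hom.fst := by
      apply Over.OverMorphism.ext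
      have := IsHomLift.fac' (FibCat.overCat U).p ((FibCat.fp x x).p.map φ) φ.hom.snd
      simp at this
      exact this
    have hw : x.map φ.hom.fst ≫ θ.hom.toNatTrans.app b = θ.hom.toNatTrans.app a ≫ x.map φ.hom.snd :=
      φ.hom.w
    rw [h₁, hθk, hθk] at hw
    have h₂ := r.natural φ.hom.fst (pt b)
    have hl : 𝒳.p.obj (x.obj (T a)) = a.left := x.w_obj _
    have : (FibCat.overCat U).p.IsHomLift φ.hom.fst.left φ.hom.fst :=
      IsHomLift.of_fac' _ _ _ rfl rfl (by simp; rfl)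
    have : 𝒳.p.IsHomLift φ.hom.fst.left (x.map φ.hom.fst) :=
      BasedFunctor.preserves_isHomLift x _ φ.hom.fst
    have := Fib.isStronglyCartesian_of_isFibGrpd 𝒳.p h𝒳 φ.hom.fst.left (x.map φ.hom.fst)
    have key : r.iso (T a) ((Gerb.ptsGrp U G).map φ.hom.fst.op (pt b)) = r.iso (T a) (pt a) := by
      apply Aut.ext
      apply Functor.Fiber.hom_ext
      have l₁ : 𝒳.p.IsHomLift (𝟙 (E.obj a).obj.fst.left) (r.iso (T a) ((Gerb.ptsGrp U G).map φ.hom.fst.op (pt b))).hom.1 :=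
        autO_isHomLift hl _
      have l₂ : 𝒳.p.IsHomLift (𝟙 (E.obj a).obj.fst.left) (r.iso (T a) (pt a)).hom.1 := autO_isHomLift hl _
      change (r.iso (T a) ((Gerb.ptsGrp U G).map φ.hom.fst.op (pt b))).hom.1 = (r.iso (T a) (pt a)).hom.1
      exact Functor.IsCartesian.ext 𝒳.p φ.hom.fst.left (x.map φ.hom.fst) _ _ (h₂.trans hw)
    refine ⟨Over.homMk φ.hom.fst.left ?_, ?_⟩
    · apply Over.OverMorphism.ext
      exact congrArg (fun t => t.left) ((r.iso (T a)).injective key)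
    · exact Fib.fp_hom_ext (Over.OverMorphism.ext rfl) (h₁.symm ▸ Over.OverMorphism.ext rfl)⟩
  refine Fib.isEquivOver_of_exists_iso_over E fun η => ?_
  let a := η.obj.fst
  let a' := η.obj.snd
  have hι : 𝒳.p.IsHomLift (𝟙 a.left) η.obj.iso.hom := η.property
  have hl : 𝒳.p.obj (x.obj a) = a.left := x.w_obj _
  have ha' : a'.left = a.left :=
    (x.w_obj a').symm.trans (IsHomLift.codomain_eq 𝒳.p (𝟙 a.left) η.obj.iso.hom)
  let δ : a' ≅ a := (Fib.appIso e a').symm ≪≫ π.toFunctor.mapIso η.obj.iso.symm ≪≫ Fib.appIso e a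
  have h₀ : (FibCat.overCat U).p.IsHomLift (𝟙 a.left) (Fib.appIso e a').hom :=
    BasedNatTrans.isHomLift e.hom ha'
  have : (FibCat.overCat U).p.IsHomLift (𝟙 a.left) (Fib.appIso e a).hom :=
    BasedNatTrans.isHomLift e.hom rfl
  have : (FibCat.overCat U).p.IsHomLift (𝟙 a.left) (π.map η.obj.iso.inv) :=
    BasedFunctor.preserves_isHomLift π _ _
  have hδ : (FibCat.overCat U).p.IsHomLift (𝟙 a.left) δ.hom := by
    change (FibCat.overCat U).p.IsHomLift (𝟙 a.left)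
      ((Fib.appIso e a').inv ≫ π.map η.obj.iso.inv ≫ (Fib.appIso e a).hom)
    infer_instance
  have : 𝒳.p.IsHomLift (𝟙 a.left) (x.map δ.hom) := BasedFunctor.preserves_isHomLift x _ _
  let β₀ : x.obj a ≅ x.obj a := η.obj.iso ≪≫ x.toFunctor.mapIso δ
  have hβ : 𝒳.p.IsHomLift (𝟙 a.left) β₀.hom :=
    inferInstanceAs (𝒳.p.IsHomLift (𝟙 a.left) (η.obj.iso.hom ≫ x.map δ.hom))
  have : 𝒳.p.IsHomLift (𝟙 (𝒳.p.obj (x.obj a))) β₀.hom := by rw [hl]; exact hβ
  let β : Gerb.AutO (x.obj a) := Fib.fiberIso 𝒳.p β₀ this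
  let q : (Over.iteratedSliceForward U).obj a ⟶ G := (r.iso a).symm β
  have hq : r.iso a q = β := (r.iso a).apply_symm_apply β
  let k : a.left ⟶ G' := Over.homMk q.left (by
    change q.left ≫ G.hom ≫ U.hom = a.left.hom
    rw [reassoc_of% (Over.w q)]
    exact Over.w a.hom)
  let ξ : Over G' := Over.mk k
  have hk : k ≫ g = a.hom := by
    apply Over.OverMorphism.ext
    exact Over.w q
  let ψ : T ξ ≅ a := Over.isoMk (Iso.refl a.left) ((Category.id_comp _).trans hk.symm)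
  have hψq : (Gerb.ptsGrp U G).map ψ.hom.op q = pt ξ := by
    apply Over.OverMorphism.ext
    change 𝟙 _ ≫ q.left = q.left
    exact Category.id_comp _
  have h₂ := r.natural ψ.hom q
  rw [hψq, ← hθk, hq] at h₂
  refine ⟨ξ, Fib.fpIsoMk ψ (ψ ≪≫ δ.symm) ?_, Fib.fp_iso_isHomLift_id _ ?_⟩
  · change x.map ψ.hom ≫ η.obj.iso.hom = θ.hom.toNatTrans.app ξ ≫ x.map (ψ.hom ≫ δ.inv)
    rw [Functor.map_comp, ← Category.assoc, h₂, Category.assoc]
    change _ = x.map ψ.hom ≫ (η.obj.iso.hom ≫ x.map δ.hom) ≫ x.map δ.inv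
    rw [Category.assoc, ← Functor.map_comp, δ.hom_inv_id]
    erw [x.toFunctor.map_id, Category.comp_id]
  · exact IsHomLift.of_fac' _ _ _ rfl rfl (by simp [ψ]; rfl)

theorem flat_lfp_autScheme (h𝒳 : AlgSt.IsAlgStack Scheme.fppfPrecoverage 𝒳)
    (π : 𝒳 ⥤ᵇ FibCat.overCat U) (hπ : Gerb.IsGerbeOver (QuotSh.J Scheme.fppfPrecoverage S) π)
    (x : FibCat.overCat U ⥤ᵇ 𝒳) (e : BasedFunctor.comp x π ≅ BasedFunctor.id (FibCat.overCat U))
    (G : Over U.left) [GrpObj G] (r : Gerb.AutRep x (Gerb.ptsGrp U G)) :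
    Flat G.hom ∧ LocallyOfFinitePresentation G.hom := by
  obtain ⟨E, hE, ⟨j⟩⟩ := exists_autRep_equiv h𝒳.isStack.1 π x e G r
  obtain ⟨h₁, h₂⟩ := repByAlgSpWith_fpFst_section h𝒳 π hπ x e
  let g : Over.mk (G.hom ≫ U.hom) ⟶ U := Over.homMk G.hom
  exact ⟨left_of_repByAlgSpWith_overMap (P := @Flat) g ((repByAlgSpWith_iff_of_square
      (FibCat.fpFst x x) (AlgSt.overMap g) E (BasedFunctor.id _) hE (Fib.isEquivOver_id _) j.symm).1 h₁),
    left_of_repByAlgSpWith_overMap (P := @LocallyOfFinitePresentation) g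
      ((repByAlgSpWith_iff_of_square (FibCat.fpFst x x) (AlgSt.overMap g) E (BasedFunctor.id _) hE
        (Fib.isEquivOver_id _) j.symm).1 h₂)⟩

end

end Groth.Agent.AlgStB
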