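import Groth.Agent.AlgStB.GerbeFlat
import Groth.Agent.AlgSpLoc.Glue
import Groth.Agent.S13022

/-!
# Surjective flat finitely presented morphisms are locally surjective on objects
-/

set_option autoImplicit false
set_option backward.isDefEq.respectTransparency false
set_option backward.isDefEq.respectTransparency.types false

universe u

open CategoryTheory CategoryTheory.Limits AlgebraicGeometry Opposite

namespace Groth.Agent.AlgStB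

open _root_.AlgSt (Points)
open _root_.AlgSp (LocP)

noncomputable section

variable {S : Scheme.{u}} {𝒳 𝒴 : AlgSt.Cat S}

theorem locSurjObj_of_surjective_flat_lfp (h𝒳 : AlgSt.IsAlgStack Scheme.fppfPrecoverage 𝒳)
    (h𝒴 : AlgSt.IsAlgStack Scheme.fppfPrecoverage 𝒴) (f : 𝒳 ⥤ᵇ 𝒴) (h₀ : AlgSt.IsSurjective f)
    (h₁ : AlgSt.LocQ (LocP @Flat) f) (h₂ : AlgSt.LocQ (LocP @LocallyOfFinitePresentation) f) :
    Gerb.LocSurjObj (QuotSh.J Scheme.fppfPrecoverage S) f := by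
  intro y
  obtain ⟨U, hU⟩ : ∃ U, 𝒴.p.obj y = U := ⟨_, rfl⟩
  have := Fib.isFibered_of_isFibGrpd _ h𝒴.isStack.1
  obtain ⟨G, -, e, he⟩ := Fib.exists_basedFunctor (U := 𝒴.p.obj y) ⟨y, rfl⟩
  obtain ⟨ι, V, g, -, hg, hlift⟩ := Groth.Agent.S13022.result S 𝒴 h𝒴 PUnit.{u + 1} (fun _ => 𝒳)
    (fun _ => h𝒳) (fun _ => f) (fun _ => h₁) (fun _ => h₂)
    (fun p => ⟨⟨⟩, h₀ p⟩) (𝒴.p.obj y) G
  obtain ⟨hs, hfl⟩ := (Scheme.ofArrows_mem_precoverage_iff (P := @Flat ⊓ @LocallyOfFinitePresentation)).1 hg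
  refine ⟨Sieve.ofArrows V g,
    AlgSpLoc.ofArrows_mem_J V g (fun i => (hfl i).1) (fun i => (hfl i).2) hs, fun W h hh => ?_⟩
  obtain ⟨i, k, rfl⟩ := Sieve.mem_ofArrows_iff _ _ _ |>.1 hh
  obtain ⟨x', ⟨τ⟩⟩ := hlift i
  let o : (FibCat.overCat (V i)).obj := Over.mk k
  let m : (AlgSt.overMap (g i)).obj o ⟶ Over.mk (𝟙 (𝒴.p.obj y)) :=
    Over.homMk (k ≫ g i) (Category.comp_id _)
  have hm : (FibCat.overCat (𝒴.p.obj y)).p.IsHomLift (k ≫ g i) m :=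
    IsHomLift.of_fac' _ _ _ rfl rfl (by simp [m]; rfl)
  have : 𝒴.p.IsHomLift (k ≫ g i) (G.map m) := BasedFunctor.preserves_isHomLift G _ m
  have hτ : 𝒴.p.IsHomLift (𝟙 W) (τ.hom.toNatTrans.app o) := BasedNatTrans.isHomLift τ.hom rfl
  refine ⟨x'.obj o, τ.hom.toNatTrans.app o ≫ G.map m ≫ e.hom, ?_⟩
  simpa using (inferInstance :
    𝒴.p.IsHomLift (𝟙 W ≫ (k ≫ g i) ≫ 𝟙 _) (τ.hom.toNatTrans.app o ≫ G.map m ≫ e.hom))

theorem locSurjHom_of_locSurjObj_diag (h𝒳 : AlgSt.IsAlgStack Scheme.fppfPrecoverage 𝒳)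
    (h𝒴 : AlgSt.IsAlgStack Scheme.fppfPrecoverage 𝒴) (f : 𝒳 ⥤ᵇ 𝒴)
    (h : Gerb.LocSurjObj (QuotSh.J Scheme.fppfPrecoverage S) (FibCat.diag f)) :
    Gerb.LocSurjHom (QuotSh.J Scheme.fppfPrecoverage S) f := by
  intro x x' b hb
  have : IsIso b := Fib.isIso_of_isHomLift 𝒴.p h𝒴.isStack.1 (𝟙 (𝒳.p.obj x)) b
  let ξ : (FibCat.fp f f).obj := Fib.fpMk x x' (asIso b) hb
  obtain ⟨R, hR, hR'⟩ := h ξ
  refine ⟨R, hR, fun V g hg => ?_⟩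
  obtain ⟨x₀, m, hm⟩ := hR' g hg
  refine ⟨x₀, m.hom.fst, m.hom.snd, (Fib.fp_isHomLift_iff g m).1 hm,
    Fib.fp_isHomLift_snd (h := hm) g m, ?_⟩
  exact m.hom.w.trans (Category.id_comp _)

theorem isGerbeOver_iff_flat (h𝒳 : AlgSt.IsAlgStack Scheme.fppfPrecoverage 𝒳)
    (h𝒴 : AlgSt.IsAlgStack Scheme.fppfPrecoverage 𝒴) (f : 𝒳 ⥤ᵇ 𝒴) :
    Gerb.IsGerbeOver (QuotSh.J Scheme.fppfPrecoverage S) f ↔
      (AlgSt.IsSurjective f ∧ AlgSt.LocQ (LocP @Flat) f ∧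
        AlgSt.LocQ (LocP @LocallyOfFinitePresentation) f) ∧
      (AlgSt.IsSurjective (FibCat.diag f) ∧ AlgSt.LocQ (LocP @Flat) (FibCat.diag f) ∧
        AlgSt.LocQ (LocP @LocallyOfFinitePresentation) (FibCat.diag f)) := by
  have hP := isAlgStack_fp h𝒴.isStack h𝒴.diag h𝒳 h𝒳 f f
  constructor
  · intro hf
    obtain ⟨h₁, h₂, h₃⟩ := flat_lfp_surjective_diag_of_gerbe h𝒳 h𝒴 f hf
    exact ⟨⟨surjective_map_of_locSurjObj f hf.1, locQ_flat_lfp_of_gerbe h𝒳 h𝒴 f hf⟩,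
      isSurjective_of_repWith h𝒳.isStack.1 hP.isStack.1 _ h₃,
      locQ_of_repByAlgSpWith h𝒳 hP (fun _ _ _ h => by have := h; infer_instance) h₁,
      locQ_of_repByAlgSpWith h𝒳 hP (fun _ _ _ h => by have := h; infer_instance) h₂⟩
  · rintro ⟨⟨h₀, h₁, h₂⟩, k₀, k₁, k₂⟩
    exact ⟨locSurjObj_of_surjective_flat_lfp h𝒳 h𝒴 f h₀ h₁ h₂,
      locSurjHom_of_locSurjObj_diag h𝒳 h𝒴 f
        (locSurjObj_of_surjective_flat_lfp h𝒳 hP _ k₀ k₁ k₂)⟩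

end

end Groth.Agent.AlgStB
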