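import Groth.Agent.AlgStB.GerbeFlat
import Groth.Agent.AlgStB.DiagQC
import Groth.Agent.Fib.DiagBCMap

/-!
# Quasi-compactness of the diagonal descends along gerbes
-/

set_option autoImplicit false
set_option backward.isDefEq.respectTransparency false
set_option backward.isDefEq.respectTransparency.types false

universe u

open CategoryTheory CategoryTheory.Limits AlgebraicGeometry Opposite

namespace Groth.Agent.AlgStB

open _root_.AlgSt (Points)
open _root_.AlgSp (Sp LocP IsSmoothLocalST)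

noncomputable section

variable {S : Scheme.{u}}

theorem flat_lfp_surjective_fpMap {𝒳 𝒴 𝒯 𝒵 : AlgSt.Cat S}
    (h𝒳 : AlgSt.IsAlgStack Scheme.fppfPrecoverage 𝒳) (h𝒴 : AlgSt.IsAlgStack Scheme.fppfPrecoverage 𝒴)
    (h𝒯 : AlgSt.IsAlgStack Scheme.fppfPrecoverage 𝒯) (h𝒵 : AlgSt.IsAlgStack Scheme.fppfPrecoverage 𝒵)
    (G : 𝒵 ⥤ᵇ 𝒯) (t : 𝒴 ⥤ᵇ 𝒯) (f : 𝒳 ⥤ᵇ 𝒴) [(BasedFunctor.id 𝒯).toFunctor.Full]
    [(BasedFunctor.id 𝒯).toFunctor.Faithful] (h₁ : AlgSt.LocQ (LocP @Flat) f)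
    (h₂ : AlgSt.LocQ (LocP @LocallyOfFinitePresentation) f) (h₃ : AlgSt.IsSurjective f) :
    let M := Fib.fpMap (BasedFunctor.id 𝒵) f (BasedFunctor.id 𝒯) (F' := G)
      (G' := BasedFunctor.comp f t) (F := G) (G := t) (Iso.refl _) (Iso.refl _)
    AlgSt.LocQ (LocP @Flat) M ∧ AlgSt.LocQ (LocP @LocallyOfFinitePresentation) M ∧
      AlgSt.IsSurjective M := by
  intro M
  have hP := isAlgStack_fp h𝒯.isStack h𝒯.diag h𝒵 h𝒴 G t
  let q := FibCat.fpSnd G t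
  let a := Fib.fpAssoc G t f
  have ha : FibCat.IsEquivOver a := Fib.isEquivOver_fpAssoc G t f
  let e : BasedFunctor.comp (FibCat.fpFst q f) (BasedFunctor.id _) ≅ BasedFunctor.comp a M :=
    Fib.isoMk (fun o => Fib.fpIsoMk (Iso.refl _) o.obj.iso (by
        change G.map (𝟙 _) ≫ (𝟙 _ ≫ (o.obj.fst.obj.iso.hom ≫ t.map o.obj.iso.hom) ≫ 𝟙 _) =
          o.obj.fst.obj.iso.hom ≫ t.map o.obj.iso.hom
        erw [G.map_id]
        simp))
      (fun φ => Fib.fp_hom_ext ((Category.comp_id _).trans (Category.id_comp _).symm) φ.hom.w)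
      (fun o => Fib.fp_iso_isHomLift_id _ (IsHomLift.id rfl))
  have hb := fun {P : MorphismProperty Scheme.{u}} [AlgSpc.EtLoc P] [P.IsStableUnderBaseChange]
      (h : AlgSt.LocQ (LocP P) f) =>
    locQ_fpFst (fun _ _ _ _ hX hY hX' hY' a b a' b' sq h => AlgSpc.locP_base_change hX hY hY' sq h)
      h𝒳 h𝒴 hP q h
  refine ⟨locQ_transfer a (BasedFunctor.id _) ha (Fib.isEquivOver_id _) e (hb h₁),
    locQ_transfer a (BasedFunctor.id _) ha (Fib.isEquivOver_id _) e (hb h₂), fun p => ?_⟩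
  obtain ⟨v, hv⟩ := isSurjective_fpFst h𝒳.isStack.1 h𝒴.isStack.1 hP.isStack.1 f q h₃ p
  refine ⟨Points.map a v, ?_⟩
  rw [← map_comp_apply, ← map_congr e, map_comp_apply, map_id_apply, hv]

variable {𝒳 𝒴 : AlgSt.Cat S}

theorem isQuasiCompactMor_diag_of_gerbe (h𝒳 : AlgSt.IsAlgStack Scheme.fppfPrecoverage 𝒳)
    (h𝒴 : AlgSt.IsAlgStack Scheme.fppfPrecoverage 𝒴) (f : 𝒳 ⥤ᵇ 𝒴)
    (hf : Gerb.IsGerbeOver (QuotSh.J Scheme.fppfPrecoverage S) f)
    (hΔ : AlgSt.IsQuasiCompactMor Scheme.fppfPrecoverage (FibCat.diag (FibCat.toSelf 𝒳))) :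
    AlgSt.IsQuasiCompactMor Scheme.fppfPrecoverage (FibCat.diag (FibCat.toSelf 𝒴)) := by
  have hS : AlgSt.IsAlgStack Scheme.fppfPrecoverage (FibCat.selfOver (Over S)) := isAlgStack_selfOver
  have := (id_full_faithful (FibCat.selfOver (Over S))).1
  have := (id_full_faithful (FibCat.selfOver (Over S))).2
  let tX := FibCat.toSelf 𝒳
  let tY := FibCat.toSelf 𝒴
  let g := BasedFunctor.comp f tY
  have hPX := isAlgStack_prodSelf h𝒳
  have hPY := isAlgStack_prodSelf h𝒴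
  have hPg := isAlgStack_fp hS.isStack hS.diag h𝒳 h𝒳 g g
  have hPm := isAlgStack_fp hS.isStack hS.diag h𝒳 h𝒴 g tY
  have hPm' := isAlgStack_fp hS.isStack hS.diag h𝒴 h𝒳 tY g
  have hff := isAlgStack_fp h𝒴.isStack h𝒴.diag h𝒳 h𝒳 f f
  -- the diagonal of `f ≫ toSelf 𝒴`
  let M₀ := Fib.fpMap (BasedFunctor.id 𝒳) (BasedFunctor.id 𝒳) (BasedFunctor.id _)
    (F' := tX) (G' := tX) (F := g) (G := g) (Fib.toSelfIso _ _) (Fib.toSelfIso _ _)
  have hM₀ : FibCat.IsEquivOver M₀ :=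
    Fib.isEquivOver_fpMap _ _ _ _ _ (Fib.isEquivOver_id _) (Fib.isEquivOver_id _)
  let i₀ : BasedFunctor.comp (FibCat.diag tX) M₀ ≅ FibCat.diag g := Fib.fpSelfIso (Iso.refl _) (Iso.refl _)
  have hg : AlgSt.IsQuasiCompactMor Scheme.fppfPrecoverage (FibCat.diag g) := by
    refine isQuasiCompactMor_of_iso hPg i₀ h𝒳 (isQuasiCompactMor_comp h𝒳 hPX hPg hΔ ?_)
    refine isQuasiCompactMor_of_affine hPX hPg fun U _ y => ?_
    obtain ⟨b, hb, -, ⟨j⟩⟩ := Fib.exists_quasiInverse hM₀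
    have hU := isAlgStack_overCat U
    have := compactSpace_points_overCat U
    refine compactSpace_of_isSurjective (isAlgStack_fp hPg.isStack hPg.diag hU hPX y M₀)
      (FibCat.fpLift (BasedFunctor.id _) (BasedFunctor.comp y b) (Fib.isoWhiskerLeft y j.symm)) ?_
    intro p
    refine ⟨Points.map (FibCat.fpFst y M₀) p, ?_⟩
    obtain ⟨q, rfl⟩ := Points.mk_surjective p
    have := Fib.full_of_isEquivOver hM₀
    have := Fib.faithful_of_isEquivOver hM₀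
    refine mk_eq_of_hom (Fib.fpHomMk (𝟙 _)
      (M₀.toFunctor.preimage ((Fib.appIso j (y.obj q.obj.obj.fst)).hom ≫ q.obj.obj.iso.hom)) ?_)
    rw [Functor.map_preimage]
    change y.map (𝟙 _) ≫ q.obj.obj.iso.hom = (Fib.appIso j (y.obj q.obj.obj.fst)).inv ≫
      (Fib.appIso j (y.obj q.obj.obj.fst)).hom ≫ q.obj.obj.iso.hom
    erw [y.map_id, Category.id_comp, Iso.inv_hom_id_assoc]
  -- the relative comparison map
  let e : BasedFunctor.comp (FibCat.fpFst f f) g ≅ BasedFunctor.comp (FibCat.fpSnd f f) g :=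
    Fib.isoWhiskerRight (FibCat.fpIso f f) tY
  let ι := FibCat.fpLift (FibCat.fpFst f f) (FibCat.fpSnd f f) e
  have hι : AlgSt.IsQuasiCompactMor Scheme.fppfPrecoverage ι := by
    refine isQuasiCompactMor_of_surjective_comp h𝒳 hff hPg
      (isSurjective_of_repWith h𝒳.isStack.1 hff.isStack.1 _
        (flat_lfp_surjective_diag_of_gerbe h𝒳 h𝒴 f hf).2.2)
      (isQuasiCompactMor_of_iso hPg (Fib.fpSelfIso (F := FibCat.diag g) (Iso.refl _) (Iso.refl _)) h𝒳 hg)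
  let m := Fib.fpMap f f (BasedFunctor.id _) (F' := g) (G' := g) (F := tY) (G := tY) (Iso.refl _)
    (Iso.refl _)
  obtain ⟨e', he'⟩ := Fib.exists_twoCart_fpComparison_fpMap f f tY e (fun _ => rfl)
  have hMf := isAlgStack_fp hPY.isStack hPY.diag hPg h𝒴 m (FibCat.diag tY)
  let E := FibCat.fpLift ι (BasedFunctor.comp (FibCat.fpFst f f) f) e'
  have hq : AlgSt.IsQuasiCompactMor Scheme.fppfPrecoverage (FibCat.fpFst m (FibCat.diag tY)) :=
    isQuasiCompactMor_of_surjective_comp hff hMf hPg (f := E) (bijective_map E he').2 hι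
  -- `m` is flat, finitely presented and surjective
  obtain ⟨hfl, hfp⟩ := locQ_flat_lfp_of_gerbe h𝒳 h𝒴 f hf
  have hfs : AlgSt.IsSurjective f := surjective_map_of_locSurjObj f hf.1
  obtain ⟨a₁, a₂, a₃⟩ := flat_lfp_surjective_fpMap h𝒳 h𝒴 hS h𝒳 g tY f hfl hfp hfs
  obtain ⟨b₁, b₂, b₃⟩ := flat_lfp_surjective_fpMap h𝒳 h𝒴 hS h𝒴 tY tY f hfl hfp hfs
  let m₁ := Fib.fpMap (BasedFunctor.id 𝒳) f (BasedFunctor.id _) (F' := g) (G' := g) (F := g)
    (G := tY) (Iso.refl _) (Iso.refl _)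
  let M' := Fib.fpMap (BasedFunctor.id 𝒴) f (BasedFunctor.id _) (F' := tY) (G' := g) (F := tY)
    (G := tY) (Iso.refl _) (Iso.refl _)
  let m₂ := Fib.fpMap f (BasedFunctor.id 𝒴) (BasedFunctor.id _) (F' := g) (G' := tY) (F := tY)
    (G := tY) (Iso.refl _) (Iso.refl _)
  let σ : BasedFunctor.comp M' (Fib.fpSwap tY tY) ≅ BasedFunctor.comp (Fib.fpSwap tY g) m₂ :=
    Fib.fpSelfIso (Iso.refl _) (Iso.refl _)
  have hsw := Fib.isEquivOver_fpSwap tY g
  have hsw' := Fib.isEquivOver_fpSwap tY tY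
  let μ : BasedFunctor.comp m₁ m₂ ≅ m := Fib.fpSelfIso (Iso.refl _) (Iso.refl _)
  have hm₂ : AlgSt.IsSurjective m₂ := fun p => by
    obtain ⟨q, hq⟩ := (bijective_map _ hsw').2 p
    obtain ⟨v, hv⟩ := b₃ q
    refine ⟨Points.map (Fib.fpSwap tY g) v, ?_⟩
    rw [← map_comp_apply, ← map_congr σ, map_comp_apply, hv, hq]
  refine isQuasiCompactMor_of_fpFst h𝒴 hPY hPg (z := m) ?_ ?_ ?_ hq
  · exact locQ_transfer (BasedFunctor.id _) (BasedFunctor.id _) (Fib.isEquivOver_id _)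
      (Fib.isEquivOver_id _) μ
      (locQ_comp hPg hPm hPY isSmoothLocalST_flat
        (fun _ _ _ hA hB hC _ _ h h' => AlgSpc.locP_comp hA hB hC h h') a₁
        (locQ_transfer (Fib.fpSwap tY g) (Fib.fpSwap tY tY) hsw hsw' σ b₁))
  · exact locQ_transfer (BasedFunctor.id _) (BasedFunctor.id _) (Fib.isEquivOver_id _)
      (Fib.isEquivOver_id _) μ
      (locQ_comp hPg hPm hPY isSmoothLocalST_lfp
        (fun _ _ _ hA hB hC _ _ h h' => AlgSpc.locP_comp hA hB hC h h') a₂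
        (locQ_transfer (Fib.fpSwap tY g) (Fib.fpSwap tY tY) hsw hsw' σ b₂))
  · intro p
    obtain ⟨q, rfl⟩ := hm₂ p
    obtain ⟨v, rfl⟩ := a₃ q
    exact ⟨v, by rw [← map_comp_apply, map_congr μ]⟩

end

end Groth.Agent.AlgStB
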