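import Groth.Agent.AlgStB.GerbeSection
import Groth.Agent.AlgStB.InertiaDiag
import Groth.Agent.AlgStB.QCSep

/-!
# Gerbes are flat and locally of finite presentation, with their diagonals
-/

set_option autoImplicit false
set_option backward.isDefEq.respectTransparency false
set_option backward.isDefEq.respectTransparency.types false

universe u

open CategoryTheory CategoryTheory.Limits AlgebraicGeometry Opposite

namespace Groth.Agent.AlgStB

open _root_.AlgSt (Points)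
open _root_.AlgSp (Sp Space LocP IsAlgSpace IsSurjectiveMor IsLocalOnBase IsFppfCover yon RepWith)

noncomputable section

variable {S : Scheme.{u}} {𝒳 𝒴 : AlgSt.Cat S}

/-- A section of a gerbe between algebraic stacks is flat, finitely presented and surjective. -/
theorem flat_lfp_surjective_section_of_gerbe (h𝒳 : AlgSt.IsAlgStack Scheme.fppfPrecoverage 𝒳)
    (h𝒴 : AlgSt.IsAlgStack Scheme.fppfPrecoverage 𝒴) (π : 𝒳 ⥤ᵇ 𝒴)
    (hπ : Gerb.IsGerbeOver (QuotSh.J Scheme.fppfPrecoverage S) π)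
    (s : 𝒴 ⥤ᵇ 𝒳) (e : BasedFunctor.comp s π ≅ BasedFunctor.id 𝒴) :
    AlgSt.RepByAlgSpWith (LocP @Flat) s ∧
      AlgSt.RepByAlgSpWith (LocP @LocallyOfFinitePresentation) s ∧
      AlgSt.RepByAlgSpWith IsSurjectiveMor s := by
  have hr : AlgSt.RepByAlgSp1 s := repByAlgSp1_of_with
    (repByAlgSpWith_section π s e (repByAlgSpWith_top_iff.2 (repByAlgSp1_diag h𝒳 h𝒴 π)))
  have hs : Function.Surjective (Points.map s) := fun z => by
    refine ⟨Points.map π z,
      injective_map_of_locSurjHom h𝒳.isStack.1 h𝒴.isStack.1 π hπ.2 ?_⟩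
    rw [← map_comp_apply, map_congr e]
    exact map_id_apply _
  obtain ⟨W, w, hw, hws⟩ := h𝒴.atlas
  have hW := isAlgStack_overCat W
  have hQ := isAlgStack_fp h𝒴.isStack h𝒴.diag hW h𝒳 w π
  have hπW := GerbA.isGerbeOver_fpFst (QuotSh.J Scheme.fppfPrecoverage S) π w hW.isStack.1
    h𝒴.isStack.1 hπ
  let xW : FibCat.overCat W ⥤ᵇ FibCat.fp w π :=
    FibCat.fpLift (BasedFunctor.id (FibCat.overCat W)) (BasedFunctor.comp w s)
      (Fib.isoWhiskerLeft w e).symm
  obtain ⟨hf, hp, -⟩ := flat_lfp_surjective_section hQ (FibCat.fpFst w π) hπW xW (Iso.refl _)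
  -- `xW` is the base change of `s`
  let z := FibCat.fpSnd w π
  let E : FibCat.overCat W ⥤ᵇ FibCat.fp z s :=
    FibCat.fpLift (F := z) (G := s) xW w (Iso.refl (BasedFunctor.comp w s))
  have := (id_full_faithful 𝒴).1
  have := (id_full_faithful 𝒴).2
  let M := Fib.fpMap (BasedFunctor.id (FibCat.overCat W)) (BasedFunctor.id 𝒴) (BasedFunctor.id 𝒴)
    (F' := w) (G' := BasedFunctor.comp s π) (F := w) (G := BasedFunctor.id 𝒴) (Iso.refl _) e
  have hM : FibCat.IsEquivOver M :=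
    Fib.isEquivOver_fpMap _ _ _ _ _ (Fib.isEquivOver_id _) (Fib.isEquivOver_id _)
  let A := BasedFunctor.comp (Fib.fpAssoc w π s) M
  have hA : FibCat.IsEquivOver A := Fib.isEquivOver_comp (Fib.isEquivOver_fpAssoc w π s) hM
  let N := BasedFunctor.comp (Fib.fpIdLeft w) (Fib.fpSwap (BasedFunctor.id 𝒴) w)
  have hN : FibCat.IsEquivOver N :=
    Fib.isEquivOver_comp (Fib.isEquivOver_fpIdLeft w) (Fib.isEquivOver_fpSwap _ _)
  have hE : FibCat.IsEquivOver E := by
    refine isEquivOver_of_comp_right hA (Fib.isEquivOver_of_iso (F := N) ?_ hN)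
    exact Fib.isoMk (fun a => Fib.fpIsoMk (Iso.refl a) (Iso.refl (w.obj a)) (by
        change w.map (𝟙 a) ≫ (𝟙 (w.obj a) ≫ ((Fib.appIso e (w.obj a)).inv ≫ π.map (𝟙 _)) ≫
          (Fib.appIso e (w.obj a)).hom) = 𝟙 (w.obj a) ≫ 𝟙 (w.obj a)
        erw [w.map_id, π.map_id]
        simp
        erw [Category.id_comp, Iso.inv_hom_id]))
      (fun φ => Fib.fp_hom_ext ((Category.comp_id _).trans (Category.id_comp _).symm)
        ((Category.comp_id _).trans (Category.id_comp _).symm))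
      (fun a => Fib.fp_iso_isHomLift_id _ (IsHomLift.id rfl))
  have base : ∀ {P : MorphismProperty (Sp S)}, AlgSt.RepByAlgSpWith P xW →
      AlgSt.RepByAlgSpWith P (FibCat.fpFst z s) := fun h =>
    (repByAlgSpWith_iff_of_square (FibCat.fpFst z s) xW E (BasedFunctor.id _) hE
      (Fib.isEquivOver_id _) (Iso.refl _)).2 h
  have hz := flat_lfp_of_smooth hw
  exact ⟨repByAlgSpWith_of_fppf respectsSrcIso_locP
      (isLocalOnBase_fppf_of_fpqc AlgSpLoc.isLocalOnBase_flat) s hr z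
      (repByAlgSpWith_fpSnd w π hz.1) (repByAlgSpWith_fpSnd w π hz.2)
      (repByAlgSpWith_fpSnd w π hws) (base hf),
    repByAlgSpWith_of_fppf respectsSrcIso_locP
      (isLocalOnBase_fppf_of_fpqc AlgSpLoc.isLocalOnBase_lfp) s hr z
      (repByAlgSpWith_fpSnd w π hz.1) (repByAlgSpWith_fpSnd w π hz.2)
      (repByAlgSpWith_fpSnd w π hws) (base hp),
    repWith_surjective_of_isSurjective h𝒴.isStack.1 h𝒳.isStack.1 s hr hs⟩

/-- The diagonal of a gerbe is flat, finitely presented and surjective. -/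
theorem flat_lfp_surjective_diag_of_gerbe (h𝒳 : AlgSt.IsAlgStack Scheme.fppfPrecoverage 𝒳)
    (h𝒴 : AlgSt.IsAlgStack Scheme.fppfPrecoverage 𝒴) (f : 𝒳 ⥤ᵇ 𝒴)
    (hf : Gerb.IsGerbeOver (QuotSh.J Scheme.fppfPrecoverage S) f) :
    AlgSt.RepByAlgSpWith (LocP @Flat) (FibCat.diag f) ∧
      AlgSt.RepByAlgSpWith (LocP @LocallyOfFinitePresentation) (FibCat.diag f) ∧
      AlgSt.RepByAlgSpWith IsSurjectiveMor (FibCat.diag f) :=
  flat_lfp_surjective_section_of_gerbe (isAlgStack_fp h𝒴.isStack h𝒴.diag h𝒳 h𝒳 f f) h𝒳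
    (FibCat.fpFst f f)
    (GerbA.isGerbeOver_fpFst (QuotSh.J Scheme.fppfPrecoverage S) f f h𝒳.isStack.1 h𝒴.isStack.1 hf)
    (FibCat.diag f) (Iso.refl _)

/-- A gerbe over a scheme is flat and finitely presented on charts. -/
theorem flat_lfp_chart_of_gerbe {U : Over S} (h𝒳 : AlgSt.IsAlgStack Scheme.fppfPrecoverage 𝒳)
    (π : 𝒳 ⥤ᵇ FibCat.overCat U) (hπ : Gerb.IsGerbeOver (QuotSh.J Scheme.fppfPrecoverage S) π)
    {W : Over S} (w : FibCat.overCat W ⥤ᵇ 𝒳) (hw : SmSurj w) (c : W ⟶ U)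
    (ic : BasedFunctor.comp w π ≅ AlgSt.overMap c) :
    Flat c.left ∧ LocallyOfFinitePresentation c.left := by
  let o : (FibCat.overCat U).obj := Over.mk (𝟙 U)
  have hU := Fib.isFibGrpd_overCat U
  obtain ⟨R, hR, hR'⟩ := hπ.1 o
  obtain ⟨ι, V, k, hk, hkR⟩ := exists_cover_of_mem_J (U := U) hR
  have hkF : ∀ i, Flat (k i).left := fun i => _root_.AlgSp.locP_yon_map (hk.1 i).1
  have hkP : ∀ i, LocallyOfFinitePresentation (k i).left := fun i =>
    _root_.AlgSp.locP_yon_map (hk.1 i).2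
  have hks : ∀ v : ↥U.left, ∃ i, v ∈ Set.range (k i).left := fun v => by
    obtain ⟨i, p, hp⟩ := hk.2 (_root_.AlgSp.Points.ofScheme U v)
    refine ⟨i, _root_.AlgSp.Points.toScheme (V i) p, ?_⟩
    have := congrArg (_root_.AlgSp.Points.toScheme U) hp
    rwa [_root_.AlgSp.Points.toScheme_ofScheme, ← _root_.AlgSp.Points.ofScheme_toScheme (V i) p,
      _root_.AlgSp.Points.ofScheme, _root_.AlgSp.Points.map_ofPt, Category.id_comp,
      _root_.AlgSp.Points.toScheme_ofPt] at this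
  have hz : ∀ i, ∃ z : FibCat.overCat (V i) ⥤ᵇ 𝒳,
      Nonempty (BasedFunctor.comp z π ≅ AlgSt.overMap (k i)) := by
    intro i
    obtain ⟨a, g, hg⟩ := hR' (k i) (hkR i)
    have ha : 𝒳.p.obj a = V i := (π.w_obj a).symm.trans
      (IsHomLift.domain_eq (FibCat.overCat U).p (k i) g)
    have := Fib.isFibered_of_isFibGrpd _ h𝒳.isStack.1
    obtain ⟨z, -, ez, hez⟩ := Fib.exists_basedFunctor (U := V i) ⟨a, ha⟩
    have : (FibCat.overCat U).p.IsHomLift (𝟙 (V i)) (π.map ez.hom) :=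
      BasedFunctor.preserves_isHomLift π _ _
    have h₁ : (FibCat.overCat U).p.IsHomLift (k i) (π.map ez.hom ≫ g) := by
      simpa using (inferInstance :
        (FibCat.overCat U).p.IsHomLift (𝟙 (V i) ≫ k i) (π.map ez.hom ≫ g))
    let m : (AlgSt.overMap (k i)).obj (Over.mk (𝟙 (V i))) ⟶ o := Over.homMk (k i) (by
      change k i ≫ 𝟙 U = 𝟙 (V i) ≫ k i
      simp)
    have hm : (FibCat.overCat U).p.IsHomLift (k i) m :=
      IsHomLift.of_fac' _ _ _ rfl rfl (by simp [m]; rfl)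
    have := Fib.isStronglyCartesian_of_isFibGrpd _ hU (k i) (π.map ez.hom ≫ g)
    have := Fib.isStronglyCartesian_of_isFibGrpd _ hU (k i) m
    obtain ⟨α, -⟩ := Fib.exists_iso_app_id hU (G := BasedFunctor.comp z π)
      (H := AlgSt.overMap (k i))
      (Functor.IsCartesian.domainUniqueUpToIso (FibCat.overCat U).p (k i) m (π.map ez.hom ≫ g))
      inferInstance
    exact ⟨z, ⟨α⟩⟩
  choose z hz using hz
  have := Fib.full_of_isEquivOver (isEquivOver_toOverCat U)
  have key : ∀ i, Flat (pullback.snd c (k i)).left ∧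
      LocallyOfFinitePresentation (pullback.snd c (k i)).left := by
    intro i
    obtain ⟨iz⟩ := hz i
    have hV := isAlgStack_overCat (V i)
    have hQ := isAlgStack_fp (isAlgStack_overCat U).isStack (isAlgStack_overCat U).diag hV h𝒳
      (AlgSt.overMap (k i)) π
    have hπi := GerbA.isGerbeOver_fpFst (QuotSh.J Scheme.fppfPrecoverage S) π
      (AlgSt.overMap (k i)) hV.isStack.1 hU hπ
    let xi := FibCat.fpLift (F := AlgSt.overMap (k i)) (G := π) (BasedFunctor.id _) (z i) iz.symm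
    obtain ⟨L, hL, ⟨i₁⟩, ⟨i₂⟩⟩ := exists_equivOver_overPullback
      (IsPullback.of_hasPullback c (k i)).flip
    let B : FibCat.fp (AlgSt.overMap (k i)) (AlgSt.overMap c) ⥤ᵇ
        FibCat.fp (AlgSt.overMap (k i)) π :=
      FibCat.fpLift (FibCat.fpFst _ _) (BasedFunctor.comp (FibCat.fpSnd _ _) w)
        (FibCat.fpIso (AlgSt.overMap (k i)) (AlgSt.overMap c) ≪≫
          Fib.isoWhiskerLeft (FibCat.fpSnd _ _) ic.symm)
    have hB : SmSurj B := smSurj_baseChangeLift (AlgSt.overMap (k i)) π hw ic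
    have hwi : AlgSt.RepByAlgSpWith (LocP @Smooth) (BasedFunctor.comp L B) :=
      (SmSurj.comp (Fib.isFibGrpd_overCat _) (Fib.isFibGrpd_fp _ _ hV.isStack.1
        (Fib.isFibGrpd_overCat W) hU) (smSurj_of_isEquivOver L hL) hB).1
    exact flat_lfp_chart_of_section hQ _ hπi xi (Iso.refl _) (BasedFunctor.comp L B) hwi
      (pullback.snd c (k i)) i₁
  have sq := fun i => (IsPullback.of_hasPullback c (k i)).map (Over.forget S)
  refine flat_lfp_of_cover c.left (fun i => (pullback c (k i)).left)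
    (fun i => (pullback.fst c (k i)).left)
    (fun i => MorphismProperty.of_isPullback (P := @Flat) (sq i).flip (hkF i))
    (fun i => MorphismProperty.of_isPullback (P := @LocallyOfFinitePresentation) (sq i).flip (hkP i))
    (fun x => ?_) (fun i => ?_) (fun i => ?_)
  · obtain ⟨i, y, hy⟩ := hks (c.left x)
    obtain ⟨v, hv, -⟩ := Scheme.Pullback.exists_preimage_pullback x y hy.symm
    refine ⟨i, (sq i).isoPullback.inv v, ?_⟩
    refine Eq.trans ?_ hv
    exact congrArg (fun φ => φ v) (sq i).isoPullback_inv_fst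
  · have := (key i).1
    have := hkF i
    have h : Flat ((pullback.snd c (k i)).left ≫ (k i).left) := inferInstance
    rwa [← Over.comp_left, ← pullback.condition, Over.comp_left] at h
  · have := (key i).2
    have := hkP i
    have h : LocallyOfFinitePresentation ((pullback.snd c (k i)).left ≫ (k i).left) := inferInstance
    rwa [← Over.comp_left, ← pullback.condition, Over.comp_left] at h

/-- Gerbes are flat and locally of finite presentation. -/
theorem locQ_flat_lfp_of_gerbe (h𝒳 : AlgSt.IsAlgStack Scheme.fppfPrecoverage 𝒳)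
    (h𝒴 : AlgSt.IsAlgStack Scheme.fppfPrecoverage 𝒴) (f : 𝒳 ⥤ᵇ 𝒴)
    (hf : Gerb.IsGerbeOver (QuotSh.J Scheme.fppfPrecoverage S) f) :
    AlgSt.LocQ (LocP @Flat) f ∧ AlgSt.LocQ (LocP @LocallyOfFinitePresentation) f := by
  obtain ⟨V, y, hy, hys⟩ := h𝒴.atlas
  have hV := isAlgStack_overCat V
  have hQ := isAlgStack_fp h𝒴.isStack h𝒴.diag hV h𝒳 y f
  have hπ := GerbA.isGerbeOver_fpFst (QuotSh.J Scheme.fppfPrecoverage S) f y hV.isStack.1
    h𝒴.isStack.1 hf
  obtain ⟨W, w, hw, hws⟩ := hQ.atlas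
  obtain ⟨c, ⟨ic⟩⟩ := exists_iso_overMap (BasedFunctor.comp w (FibCat.fpFst y f))
  obtain ⟨h₁, h₂⟩ := flat_lfp_chart_of_gerbe hQ _ hπ w ⟨hw, hws⟩ c ic
  let x := BasedFunctor.comp w (FibCat.fpSnd y f)
  let α : BasedFunctor.comp x f ≅ BasedFunctor.comp (AlgSt.overMap c) y :=
    Fib.isoWhiskerLeft w (FibCat.fpIso y f).symm ≪≫ Fib.isoWhiskerRight ic y
  have hx := SmSurj.comp (Fib.isFibGrpd_overCat W) hQ.isStack.1 (f := w) ⟨hw, hws⟩
    (SmSurj.fpSnd f (f := y) ⟨hy, hys⟩)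
  exact ⟨⟨W, V, x, y, c, α, hx.1, hx.2, hy, locP_yon_of h₁⟩,
    ⟨W, V, x, y, c, α, hx.1, hx.2, hy, locP_yon_of h₂⟩⟩

end

end Groth.Agent.AlgStB
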