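import Groth.Agent.AlgStB.CoverDescent
import Groth.Agent.AlgStB.SubstackPoints
import Groth.Agent.GerbA.BaseChange
import Groth.Prelude.Def_StGerb

/-!
# Gerbes are homeomorphisms on points
-/

set_option autoImplicit false
set_option backward.isDefEq.respectTransparency false
set_option backward.isDefEq.respectTransparency.types false

universe u

open CategoryTheory CategoryTheory.Limits AlgebraicGeometry Opposite

namespace Groth.Agent.AlgStB

open _root_.AlgSt (Points FPt)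
open _root_.AlgSp (Sp Space LocP IsSurjectiveMor IsAlgSpace yon RepWith)

variable {S : Scheme.{u}} {𝒳 𝒴 : AlgSt.Cat S}

/-- A covering sieve of the spectrum of a field contains a field-valued point. -/
theorem exists_field_member {K : Type u} [Field K] {str : Spec (CommRingCat.of K) ⟶ S}
    {U : Over S} (e : U = Over.mk str) {R : Sieve U}
    (hR : R ∈ (QuotSh.J Scheme.fppfPrecoverage S) U) :
    ∃ (L : Type u) (_ : Field L) (w : Spec (CommRingCat.of L) ⟶ S) (f : (Over.mk w : Over S) ⟶ U),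
      R.arrows f := by
  obtain ⟨ι, V, k, hk, hkR⟩ := exists_cover_of_mem_J hR
  subst e
  obtain ⟨i, z, -⟩ := hk.2 (_root_.AlgSp.Points.ofScheme _ (IsLocalRing.closedPoint K))
  let t := _root_.AlgSp.Points.toScheme (V i) z
  exact ⟨(V i).left.residueField t, inferInstance, (V i).left.fromSpecResidueField t ≫ (V i).hom,
    Over.homMk ((V i).left.fromSpecResidueField t) rfl ≫ k i, R.downward_closed (hkR i) _⟩

theorem surjective_map_of_locSurjObj (f : 𝒳 ⥤ᵇ 𝒴)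
    (hf : Gerb.LocSurjObj (QuotSh.J Scheme.fppfPrecoverage S) f) :
    Function.Surjective (Points.map f) := by
  intro z
  obtain ⟨q, rfl⟩ := Points.mk_surjective z
  obtain ⟨R, hR, hR'⟩ := hf q.obj
  obtain ⟨L, hL, w, g, hg⟩ := exists_field_member q.lies hR
  obtain ⟨x, m, hm⟩ := hR' g hg
  have hx : 𝒳.p.obj x = Over.mk w :=
    (f.w_obj x).symm.trans (IsHomLift.domain_eq 𝒴.p g m)
  exact ⟨Points.mk ⟨L, w, x, hx⟩, mk_eq_of_hom (q := q) m⟩

theorem injective_map_of_locSurjHom (h𝒳 : FibCat.IsFibGrpd 𝒳.p) (h𝒴 : FibCat.IsFibGrpd 𝒴.p)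
    (f : 𝒳 ⥤ᵇ 𝒴) (hf : Gerb.LocSurjHom (QuotSh.J Scheme.fppfPrecoverage S) f) :
    Function.Injective (Points.map f) := by
  intro a b h
  obtain ⟨p, rfl⟩ := Points.mk_surjective a
  obtain ⟨q, rfl⟩ := Points.mk_surjective b
  obtain ⟨r, α, β, -⟩ := rel_of_mk_eq h𝒴 (p := p.map f) (q := q.map f) h
  obtain ⟨a', φ, ha, hφ⟩ := exists_restrict h𝒳 p (fptBase (p := p.map f) α)
  obtain ⟨b', ψ, hb, hψ⟩ := exists_restrict h𝒳 q (fptBase (p := q.map f) β)
  have := Fib.isStronglyCartesian_of_isFibGrpd 𝒴.p h𝒴 (fptBase (p := p.map f) α) (f.map φ)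
  have := Fib.isStronglyCartesian_of_isFibGrpd 𝒴.p h𝒴 (fptBase (p := q.map f) β) (f.map ψ)
  let θ₁ := Functor.IsCartesian.map 𝒴.p (fptBase (p := p.map f) α) (f.map φ) α
  let θ₂ := Functor.IsCartesian.map 𝒴.p (fptBase (p := q.map f) β) (f.map ψ) β
  have : IsIso θ₁ := Fib.isIso_of_isHomLift 𝒴.p h𝒴 (𝟙 (Over.mk r.str)) θ₁
  have hγ : 𝒴.p.IsHomLift (𝟙 (Over.mk r.str)) (inv θ₁ ≫ θ₂) := inferInstance
  obtain ⟨R, hR, hR'⟩ := hf a' b' (inv θ₁ ≫ θ₂) (by rw [ha]; exact hγ)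
  obtain ⟨L, hL, w, g, hg⟩ := exists_field_member ha hR
  obtain ⟨x₀, φ₀, ψ₀, h₁, -, -⟩ := hR' g hg
  exact Points.sound ⟨⟨L, w, x₀, IsHomLift.domain_eq 𝒳.p g φ₀⟩, φ₀ ≫ φ, ψ₀ ≫ ψ, trivial⟩

/-- The image of the point of a lifted chart. -/
theorem map_ofChart_of_hom (h𝒴 : FibCat.IsFibGrpd 𝒴.p) (f : 𝒳 ⥤ᵇ 𝒴) {V U : Over S}
    (z : FibCat.overCat V ⥤ᵇ 𝒳) (y : FibCat.overCat U ⥤ᵇ 𝒴) (k : V ⟶ U)
    (m : f.obj (z.obj (Over.mk (𝟙 V))) ⟶ y.obj (Over.mk (𝟙 U))) (hm : 𝒴.p.IsHomLift k m)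
    (t : ↥V.left) :
    Points.map f (Points.ofChart z t) = Points.ofChart y (k.left t) := by
  rw [← ofChart_comp_overMap]
  let ι : (Over.mk (V.left.fromSpecResidueField t ≫ V.hom) : Over S) ⟶ V :=
    Over.homMk (V.left.fromSpecResidueField t) rfl
  let A : f.obj (z.obj (Over.mk ι)) ⟶ y.obj (Over.mk (𝟙 U)) :=
    (BasedFunctor.comp z f).map (Over.homMk ι (Category.comp_id _) : Over.mk ι ⟶ Over.mk (𝟙 V)) ≫ m
  let B : y.obj ((AlgSt.overMap k).obj (Over.mk ι)) ⟶ y.obj (Over.mk (𝟙 U)) :=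
    y.map (Over.homMk (ι ≫ k) (Category.comp_id _) : Over.mk (ι ≫ k) ⟶ Over.mk (𝟙 U))
  have hA : 𝒴.p.IsHomLift (ι ≫ k) A := by
    have h₁ : (FibCat.overCat V).p.IsHomLift ι
        (Over.homMk ι (Category.comp_id _) : Over.mk ι ⟶ Over.mk (𝟙 V)) :=
      IsHomLift.of_fac' _ _ _ rfl rfl (by simp; rfl)
    have : 𝒴.p.IsHomLift ι ((BasedFunctor.comp z f).map
        (Over.homMk ι (Category.comp_id _) : Over.mk ι ⟶ Over.mk (𝟙 V))) :=
      BasedFunctor.preserves_isHomLift (BasedFunctor.comp z f) _ _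
    exact inferInstanceAs (𝒴.p.IsHomLift (ι ≫ k) ((BasedFunctor.comp z f).map
        (Over.homMk ι (Category.comp_id _) : Over.mk ι ⟶ Over.mk (𝟙 V)) ≫ m))
  have hB : 𝒴.p.IsHomLift (ι ≫ k) B := by
    have : (FibCat.overCat U).p.IsHomLift (ι ≫ k)
        (Over.homMk (ι ≫ k) (Category.comp_id _) : Over.mk (ι ≫ k) ⟶ Over.mk (𝟙 U)) :=
      IsHomLift.of_fac' _ _ _ rfl rfl (by simp; rfl)
    exact BasedFunctor.preserves_isHomLift y _ _
  have := Fib.isStronglyCartesian_of_isFibGrpd 𝒴.p h𝒴 (ι ≫ k) B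
  exact mk_eq_of_hom (Functor.IsCartesian.map 𝒴.p (ι ≫ k) B A)

theorem isOpenMap_of_gerbe (h𝒳 : AlgSt.IsAlgStack Scheme.fppfPrecoverage 𝒳)
    (h𝒴 : AlgSt.IsAlgStack Scheme.fppfPrecoverage 𝒴) (f : 𝒳 ⥤ᵇ 𝒴)
    (hf : Gerb.IsGerbeOver (QuotSh.J Scheme.fppfPrecoverage S) f) : IsOpenMap (Points.map f) := by
  have hX := h𝒳.isStack.1
  have hY := h𝒴.isStack.1
  have hinj := injective_map_of_locSurjHom hX hY f hf.2
  intro O hO U y _
  let b := y.obj (Over.mk (𝟙 U))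
  have hb : 𝒴.p.obj b = U := y.w_obj _
  obtain ⟨R, hR, hR'⟩ := hf.1 b
  obtain ⟨ι, V, k, hk, hkR⟩ := exists_cover_of_mem_J
    ((QuotSh.J Scheme.fppfPrecoverage S).pullback_stable (eqToHom hb.symm) hR)
  choose x m hm using fun i => hR' (k i ≫ eqToHom hb.symm) (hkR i)
  have hV : ∀ i, 𝒳.p.obj (x i) = V i := fun i =>
    (f.w_obj (x i)).symm.trans (IsHomLift.domain_eq 𝒴.p (k i ≫ eqToHom hb.symm) (m i))
  have := Fib.isFibered_of_isFibGrpd _ hX
  choose z hz ez hez using fun i => Fib.exists_basedFunctor (U := V i) ⟨x i, hV i⟩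
  have key : ∀ i t, Points.map f (Points.ofChart (z i) t) = Points.ofChart y ((k i).left t) := by
    intro i t
    have h₀ : 𝒴.p.IsHomLift (k i) (m i) := by
      have := hm i
      simpa using (inferInstance : 𝒴.p.IsHomLift ((k i ≫ eqToHom hb.symm) ≫ eqToHom hb) (m i))
    have := hez i
    have he : 𝒴.p.IsHomLift (𝟙 (V i)) (f.map (ez i).hom) :=
      BasedFunctor.preserves_isHomLift f _ _
    refine map_ofChart_of_hom hY f (z i) y (k i) (f.map (ez i).hom ≫ m i) ?_ t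
    simpa using (inferInstance : 𝒴.p.IsHomLift (𝟙 (V i) ≫ k i) (f.map (ez i).hom ≫ m i))
  have hset : Points.ofChart y ⁻¹' (Points.map f '' O) =
      ⋃ i, (k i).left '' (Points.ofChart (z i) ⁻¹' O) := by
    ext v
    simp only [Set.mem_preimage, Set.mem_iUnion, Set.mem_image]
    constructor
    · rintro ⟨w, hw, hwv⟩
      obtain ⟨i, p, hp⟩ := hk.2 (_root_.AlgSp.Points.ofScheme U v)
      have hp' : (k i).left (_root_.AlgSp.Points.toScheme (V i) p) = v := by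
        have := congrArg (_root_.AlgSp.Points.toScheme U) hp
        rwa [_root_.AlgSp.Points.toScheme_ofScheme, ← _root_.AlgSp.Points.ofScheme_toScheme (V i) p,
          _root_.AlgSp.Points.ofScheme, _root_.AlgSp.Points.map_ofPt, Category.id_comp,
          _root_.AlgSp.Points.toScheme_ofPt] at this
      refine ⟨i, _root_.AlgSp.Points.toScheme (V i) p, ?_, hp'⟩
      have : Points.map f (Points.ofChart (z i) (_root_.AlgSp.Points.toScheme (V i) p)) = Points.map f w := by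
        rw [key, hp', hwv]
      rwa [hinj this]
    · rintro ⟨i, t, ht, rfl⟩
      exact ⟨_, ht, key i t⟩
  rw [hset]
  refine isOpen_iUnion fun i => ?_
  have h₁ : Flat (k i).left := _root_.AlgSp.locP_yon_map (hk.1 i).1
  have h₂ : LocallyOfFinitePresentation (k i).left := _root_.AlgSp.locP_yon_map (hk.1 i).2
  exact (k i).left.isOpenMap _ (hO.preimage (continuous_ofChart hX h𝒳.atlas (z i)))

theorem isHomeomorph_map_of_gerbe (h𝒳 : AlgSt.IsAlgStack Scheme.fppfPrecoverage 𝒳)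
    (h𝒴 : AlgSt.IsAlgStack Scheme.fppfPrecoverage 𝒴) (f : 𝒳 ⥤ᵇ 𝒴)
    (hf : Gerb.IsGerbeOver (QuotSh.J Scheme.fppfPrecoverage S) f) : IsHomeomorph (Points.map f) :=
  ⟨continuous_map h𝒴.isStack.1 h𝒴.atlas f, isOpenMap_of_gerbe h𝒳 h𝒴 f hf,
    injective_map_of_locSurjHom h𝒳.isStack.1 h𝒴.isStack.1 f hf.2,
    surjective_map_of_locSurjObj f hf.1⟩

end Groth.Agent.AlgStB
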