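import Groth.Agent.AlgStB.CoverDescent
import Groth.Agent.AlgSpc.LfpCancel
import Groth.Agent.S5938
import Groth.Agent.S0114

/-!
# Flatness and finite presentation of retracts; descent along covering families
-/

set_option autoImplicit false
set_option backward.isDefEq.respectTransparency false
set_option backward.isDefEq.respectTransparency.types false

universe u

open CategoryTheory CategoryTheory.Limits AlgebraicGeometry Opposite

namespace Groth.Agent.AlgStB

open _root_.AlgSp (Sp LocP IsAlgSpace yon RepWith)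

theorem ringHom_flat_of_retract {A B C : Type u} [CommRing A] [CommRing B] [CommRing C]
    (f : A →+* B) (g : B →+* C) (r : C →+* B) (hr : r.comp g = RingHom.id B)
    (h : (g.comp f).Flat) : f.Flat := by
  let _ := f.toAlgebra
  let _ := (g.comp f).toAlgebra
  have hgr : ∀ b, r (g b) = b := RingHom.congr_fun hr
  let i : B →ₗ[A] C :=
    { toFun := g
      map_add' := map_add g
      map_smul' := fun a b => by
        change g (f a * b) = g (f a) * g b
        exact map_mul g _ _ }
  let r' : C →ₗ[A] B :=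
    { toFun := r
      map_add' := map_add r
      map_smul' := fun a c => by
        change r (g (f a) * c) = f a * r c
        rw [map_mul, hgr] }
  have : Module.Flat A C := h
  exact Module.Flat.of_retract i r' (LinearMap.ext hgr)

/-- Flatness of a retract. -/
theorem flat_of_retract {X Y Z : Scheme.{u}} (s : X ⟶ Y) (q : Y ⟶ X) (h : X ⟶ Z)
    (hsq : s ≫ q = 𝟙 X) [Flat (q ≫ h)] : Flat h := by
  refine Flat.of_stalkMap h fun x => ?_
  have hx : q (s x) = x := by rw [← Scheme.Hom.comp_apply, hsq]; rfl
  have e : q.stalkMap (s x) ≫ s.stalkMap x =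
      (X.presheaf.stalkCongr (.of_eq hx)).hom := by
    rw [← Scheme.Hom.stalkMap_comp, Scheme.Hom.stalkMap_congr_hom _ _ hsq]
    simp
  have hflat := Flat.stalkMap (q ≫ h) (s x)
  rw [Scheme.Hom.stalkMap_comp] at hflat
  have key : (h.stalkMap (q (s x))).hom.Flat :=
    ringHom_flat_of_retract (h.stalkMap (q (s x))).hom (q.stalkMap (s x)).hom
      (s.stalkMap x ≫ (X.presheaf.stalkCongr (.of_eq hx)).inv).hom
      (by
        rw [← CommRingCat.hom_comp, reassoc_of% e, Iso.hom_inv_id]
        rfl) hflat
  rwa [hx] at key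

/-- Local finite presentation of a retract. -/
theorem lfp_of_retract {X Y Z : Scheme.{u}} (s : X ⟶ Y) (q : Y ⟶ X) (h : X ⟶ Z)
    (hsq : s ≫ q = 𝟙 X) [LocallyOfFinitePresentation (q ≫ h)] [LocallyOfFiniteType q] :
    LocallyOfFinitePresentation h := by
  have : LocallyOfFinitePresentation (s ≫ q) := by rw [hsq]; infer_instance
  have : LocallyOfFinitePresentation s := AlgSpc.lfp_of_comp s q
  have : LocallyOfFinitePresentation (s ≫ q ≫ h) := inferInstance
  rwa [reassoc_of% hsq] at this

/-- Flatness and finite presentation are local on the source for fppf covering families. -/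
theorem flat_lfp_of_cover {X U : Scheme.{u}} (t : X ⟶ U) {ι : Type u} (Xi : ι → Scheme.{u})
    (a : ∀ i, Xi i ⟶ X) (hF : ∀ i, Flat (a i)) (hP : ∀ i, LocallyOfFinitePresentation (a i))
    (hs : ∀ x : ↥X, ∃ i, x ∈ Set.range (a i)) (h₁ : ∀ i, Flat (a i ≫ t))
    (h₂ : ∀ i, LocallyOfFinitePresentation (a i ≫ t)) : Flat t ∧ LocallyOfFinitePresentation t := by
  let σ : (∐ Xi) ⟶ X := Sigma.desc a
  have : Flat σ := IsZariskiLocalAtSource.sigmaDesc hF
  have : LocallyOfFinitePresentation σ := IsZariskiLocalAtSource.sigmaDesc hP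
  have : Surjective σ := ⟨fun x => by
    obtain ⟨i, y, rfl⟩ := hs x
    exact ⟨Sigma.ι Xi i y, by rw [← Scheme.Hom.comp_apply, Sigma.ι_desc]⟩⟩
  have e : σ ≫ t = Sigma.desc fun i => a i ≫ t := Sigma.hom_ext _ _ fun i => by simp [σ]
  have : Flat (σ ≫ t) := e ▸ IsZariskiLocalAtSource.sigmaDesc h₁
  have hp : LocallyOfFinitePresentation (σ ≫ t) := e ▸ IsZariskiLocalAtSource.sigmaDesc h₂
  exact ⟨FpqcDescent.flat_of_flat_comp σ t, Groth.Agent.S0114.result σ t⟩

variable {S : Scheme.{u}}

/-- The base of a flat space with a section over a scheme. -/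
theorem flat_lfp_of_space_retract {F : Sp S} (hF : IsAlgSpace F) {V U : Over S}
    (ψ : F ⟶ (yon S).obj V) (s : (yon S).obj V ⟶ F) (hs : s ≫ ψ = 𝟙 _) (j : V ⟶ U)
    (h₁ : LocP @Flat (ψ ≫ (yon S).map j))
    (h₂ : LocP @LocallyOfFinitePresentation (ψ ≫ (yon S).map j)) :
    Flat j.left ∧ LocallyOfFinitePresentation j.left := by
  obtain ⟨T, a, ha, has⟩ := hF.atlas
  let t : T ⟶ V := AlgSpc.pre (a ≫ ψ)
  have : Flat (t.left ≫ j.left) :=
    h₁ a (𝟙 _) (t ≫ j) ha (AlgSpc.repWith_iso _) (by simp [t])
  have : LocallyOfFinitePresentation (t.left ≫ j.left) :=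
    h₂ a (𝟙 _) (t ≫ j) ha (AlgSpc.repWith_iso _) (by simp [t])
  have : LocallyOfFiniteType t.left := locallyOfFiniteType_of_comp t.left j.left
  obtain ⟨V', fst, b, sq⟩ := AlgSpc.exists_sq ha.1 s
  have : Etale b.left := ha.2 s fst b sq
  have : Surjective b.left := has.2 s fst b sq
  let r : V' ⟶ T := AlgSpc.pre fst
  have hr : r ≫ t = b := (yon S).map_injective (by
    simp only [r, t, Functor.map_comp, AlgSpc.map_pre]
    rw [reassoc_of% sq.w, hs, Category.comp_id])
  have hr' : r.left ≫ t.left = 𝟙 _ ≫ b.left := by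
    rw [Category.id_comp, ← Over.comp_left, hr]
  let σ : V'.left ⟶ pullback t.left b.left := pullback.lift r.left (𝟙 _) hr'
  let q : pullback t.left b.left ⟶ V'.left := pullback.snd _ _
  have hσ : σ ≫ q = 𝟙 _ := pullback.lift_snd _ _ _
  have e : q ≫ b.left ≫ j.left = pullback.fst t.left b.left ≫ t.left ≫ j.left :=
    (pullback.condition_assoc j.left).symm
  have : Flat (q ≫ b.left ≫ j.left) := by rw [e]; infer_instance
  have : LocallyOfFinitePresentation (q ≫ b.left ≫ j.left) := by rw [e]; infer_instance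
  have : LocallyOfFiniteType q := inferInstance
  have := flat_of_retract σ q (b.left ≫ j.left) hσ
  have hp := lfp_of_retract σ q (b.left ≫ j.left) hσ
  exact ⟨FpqcDescent.flat_of_flat_comp b.left j.left, Groth.Agent.S0114.result b.left j.left⟩

/-- A space over a scheme, flat and finitely presented after composing with an fppf covering family. -/
theorem locP_flat_lfp_of_cover {G : Sp S} (hG : IsAlgSpace G) {U : Over S}
    (p : G ⟶ (yon S).obj U) {ι : Type u} (V : ι → Over S) (j : ∀ i, V i ⟶ U)
    (hF : ∀ i, Flat (j i).left) (hP : ∀ i, LocallyOfFinitePresentation (j i).left)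
    (hs : ∀ x : ↥U.left, ∃ i, x ∈ Set.range (j i).left)
    (h₁ : ∀ i, LocP @Flat (pullback.snd p ((yon S).map (j i)) ≫ (yon S).map (j i)))
    (h₂ : ∀ i, LocP @LocallyOfFinitePresentation
      (pullback.snd p ((yon S).map (j i)) ≫ (yon S).map (j i))) :
    LocP @Flat p ∧ LocP @LocallyOfFinitePresentation p := by
  obtain ⟨T, a, ha, has⟩ := hG.atlas
  let t : T ⟶ U := AlgSpc.pre (a ≫ p)
  have ht : (yon S).map t = a ≫ p := AlgSpc.map_pre _
  have key : Flat t.left ∧ LocallyOfFinitePresentation t.left := by
    have sq' := fun i => (IsPullback.of_hasPullback t (j i)).map (Over.forget S)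
    have hl : ∀ i, ∃ l : (yon S).obj (pullback t (j i)) ⟶ pullback p ((yon S).map (j i)),
        RepWith @Etale l ∧ l ≫ pullback.snd p ((yon S).map (j i)) =
          (yon S).map (pullback.snd t (j i)) := fun i => by
      have sqT := (IsPullback.of_hasPullback t (j i)).map (yon S)
      have sqW := IsPullback.of_hasPullback p ((yon S).map (j i))
      have w : ((yon S).map (pullback.fst t (j i)) ≫ a) ≫ p =
          (yon S).map (pullback.snd t (j i)) ≫ (yon S).map (j i) :=
        (Category.assoc _ _ _).trans ((congrArg _ ht.symm).trans sqT.w)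
      refine ⟨pullback.lift _ _ w, AlgSpc.repWith_of_isPullback
        (fst := (yon S).map (pullback.fst t (j i))) (g := pullback.fst p ((yon S).map (j i))) ?_ ha,
        pullback.lift_snd _ _ w⟩
      refine IsPullback.of_bot (v₂₁ := pullback.snd p ((yon S).map (j i))) ?_
        (pullback.lift_fst _ _ _).symm sqW
      exact (congrArg₂ (fun b c => IsPullback ((yon S).map (pullback.fst t (j i))) b c
        ((yon S).map (j i))) (pullback.lift_snd _ _ w) ht.symm).mpr sqT
    choose l hl hls using hl
    refine flat_lfp_of_cover t.left (fun i => (pullback t (j i)).left)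
      (fun i => (pullback.fst t (j i)).left)
      (fun i => MorphismProperty.of_isPullback (P := @Flat) (sq' i).flip (hF i))
      (fun i => MorphismProperty.of_isPullback (P := @LocallyOfFinitePresentation) (sq' i).flip (hP i))
      (fun x => ?_) (fun i => ?_) (fun i => ?_)
    · obtain ⟨i, y, hy⟩ := hs (t.left x)
      obtain ⟨z, hz, -⟩ := Scheme.Pullback.exists_preimage_pullback x y hy.symm
      refine ⟨i, (sq' i).isoPullback.inv z, ?_⟩
      refine Eq.trans ?_ hz
      exact congrArg (fun φ => φ z) (sq' i).isoPullback_inv_fst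
    · have := h₁ i (l i) (𝟙 _) (pullback.snd t (j i) ≫ j i) (hl i) (AlgSpc.repWith_iso _)
        (by simp [reassoc_of% hls i])
      rwa [← pullback.condition, Over.comp_left] at this
    · have := h₂ i (l i) (𝟙 _) (pullback.snd t (j i) ≫ j i) (hl i) (AlgSpc.repWith_iso _)
        (by simp [reassoc_of% hls i])
      rwa [← pullback.condition, Over.comp_left] at this
  exact ⟨AlgSpc.locP_of_chart (b := 𝟙 _) (h := t) ha has (AlgSpc.repWith_iso _) (by simp [ht]) key.1,
    AlgSpc.locP_of_chart (b := 𝟙 _) (h := t) ha has (AlgSpc.repWith_iso _) (by simp [ht]) key.2⟩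

end Groth.Agent.AlgStB
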