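import Groth.Agent.AlgStB.LocQMore
import Groth.Agent.AlgStB.DiagComp
import Groth.Agent.S5938
import Groth.Agent.S0114

/-!
# Descent for properties read on chart squares
-/

set_option autoImplicit false
set_option backward.isDefEq.respectTransparency false
set_option backward.isDefEq.respectTransparency.types false

universe u

open CategoryTheory CategoryTheory.Limits AlgebraicGeometry Opposite

namespace Groth.Agent.AlgStB

open _root_.AlgSt (FPt Points)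
open _root_.AlgSp (Sp LocP IsAlgSpace IsSurjectiveMor yon RepWith IsSmoothLocalST IsLocalOnBase
  IsFppfCover)

noncomputable section

variable {S : Scheme.{u}}

/-- The base change of a chart of a category over a slice is smooth and surjective. -/
theorem smSurj_baseChangeLift {U V W : Over S} {𝒜 : AlgSt.Cat S} (H : FibCat.overCat U ⥤ᵇ FibCat.overCat V)
    (g : 𝒜 ⥤ᵇ FibCat.overCat V) {ω : FibCat.overCat W ⥤ᵇ 𝒜} (hω : SmSurj ω)
    {N : FibCat.overCat W ⥤ᵇ FibCat.overCat V} (j : BasedFunctor.comp ω g ≅ N) :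
    SmSurj (FibCat.fpLift (FibCat.fpFst H N) (BasedFunctor.comp (FibCat.fpSnd H N) ω)
      (FibCat.fpIso H N ≪≫ Fib.isoWhiskerLeft (FibCat.fpSnd H N) j.symm) :
        FibCat.fp H N ⥤ᵇ FibCat.fp H g) := by
  have : (FibCat.overCat V).p.Faithful := inferInstanceAs (Over.forget V).Faithful
  have := (id_full_faithful (FibCat.overCat V)).1
  have := (id_full_faithful (FibCat.overCat V)).2
  let G : FibCat.fp H N ⥤ᵇ FibCat.fp H g :=
    FibCat.fpLift (FibCat.fpFst H N) (BasedFunctor.comp (FibCat.fpSnd H N) ω)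
      (FibCat.fpIso H N ≪≫ Fib.isoWhiskerLeft (FibCat.fpSnd H N) j.symm)
  let M := Fib.fpMap (BasedFunctor.id (FibCat.overCat U)) (BasedFunctor.id (FibCat.overCat W))
    (BasedFunctor.id (FibCat.overCat V)) (F' := H) (G' := BasedFunctor.comp ω g) (F := H)
    (G := N) (Iso.refl H) j
  let a := BasedFunctor.comp (Fib.fpAssoc H g ω) M
  have ha : FibCat.IsEquivOver a := Fib.isEquivOver_comp (Fib.isEquivOver_fpAssoc H g ω)
    (Fib.isEquivOver_fpMap _ _ _ _ _ (Fib.isEquivOver_id _) (Fib.isEquivOver_id _))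
  obtain ⟨κ⟩ := nonempty_iso_fp_of_faithful (F := H) (G := g) (FibCat.fpFst (FibCat.fpSnd H g) ω)
    (BasedFunctor.comp a G) (Iso.refl _) (FibCat.fpIso (FibCat.fpSnd H g) ω)
  exact (SmSurj.square (f := G) (f' := FibCat.fpFst (FibCat.fpSnd H g) ω) a (BasedFunctor.id _)
    ha (Fib.isEquivOver_id _) κ).2 (SmSurj.fpFst _ hω)

/-- Moving a smooth chart from the second factor of a fibre product. -/
theorem smSurj_swapLift {W : Over S} {𝒳 𝒴 𝒵 : AlgSt.Cat S} (f : 𝒳 ⥤ᵇ 𝒴) (g : 𝒵 ⥤ᵇ 𝒴)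
    {y' : FibCat.overCat W ⥤ᵇ 𝒵} (hy' : SmSurj y') :
    SmSurj (FibCat.fpLift (BasedFunctor.comp (FibCat.fpSnd f (BasedFunctor.comp y' g)) y')
      (FibCat.fpFst f (BasedFunctor.comp y' g)) (FibCat.fpIso f (BasedFunctor.comp y' g)).symm :
        FibCat.fp f (BasedFunctor.comp y' g) ⥤ᵇ FibCat.fp g f) := by
  let yg := BasedFunctor.comp y' g
  let θ : FibCat.fp f yg ⥤ᵇ FibCat.fp g f :=
    FibCat.fpLift (BasedFunctor.comp (FibCat.fpSnd f yg) y') (FibCat.fpFst f yg)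
      (FibCat.fpIso f yg).symm
  let a := BasedFunctor.comp (Fib.fpBC y' g f) (Fib.fpSwap yg f)
  refine (SmSurj.square (f := θ) (f' := FibCat.fpSnd y' (FibCat.fpFst g f)) a
    (BasedFunctor.id _) (Fib.isEquivOver_comp (Fib.isEquivOver_fpBC y' g f)
    (Fib.isEquivOver_fpSwap yg f)) (Fib.isEquivOver_id _) ?_).2
    (SmSurj.fpSnd _ hy')
  exact Fib.isoMk
    (fun o => Fib.fpIsoMk o.obj.iso.symm (Iso.refl _) (by
      change g.map o.obj.iso.inv ≫ g.map o.obj.iso.hom ≫ o.obj.snd.obj.iso.hom =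
        o.obj.snd.obj.iso.hom ≫ f.map (𝟙 _)
      rw [← Functor.map_comp_assoc, Iso.inv_hom_id]
      simp))
    (fun {a b} φ => Fib.fp_hom_ext (by
      change φ.hom.snd.hom.fst ≫ b.obj.iso.inv = a.obj.iso.inv ≫ y'.map φ.hom.fst
      rw [← cancel_mono b.obj.iso.hom, Category.assoc, Category.assoc, Iso.inv_hom_id,
        Category.comp_id]
      erw [φ.hom.w]
      rw [Iso.inv_hom_id_assoc]
      rfl) ((Category.comp_id _).trans (Category.id_comp _).symm))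
    (fun o => Fib.fp_iso_isHomLift_id _ (by
      exact @IsHomLift.lift_id_inv _ _ _ _ 𝒵.p _ _ _ o.obj.iso o.property))

variable {𝒳 𝒴 𝒵 : AlgSt.Cat S} (h𝒳 : AlgSt.IsAlgStack Scheme.fppfPrecoverage 𝒳)
  (h𝒴 : AlgSt.IsAlgStack Scheme.fppfPrecoverage 𝒴)
  (h𝒵 : AlgSt.IsAlgStack Scheme.fppfPrecoverage 𝒵)

include h𝒳 h𝒴 h𝒵

/-- A square for `f` and its base change along a surjective morphism. -/
theorem exists_descent_square (f : 𝒳 ⥤ᵇ 𝒴) (z : 𝒵 ⥤ᵇ 𝒴) (hzs : AlgSt.IsSurjective z) :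
    ∃ (U V W T : Over S) (x : FibCat.overCat U ⥤ᵇ 𝒳) (y : FibCat.overCat V ⥤ᵇ 𝒴) (h : U ⟶ V)
      (_ : BasedFunctor.comp x f ≅ BasedFunctor.comp (AlgSt.overMap h) y)
      (p : T ⟶ U) (q : T ⟶ W) (n : W ⟶ V),
      SmSurj x ∧ SmSurj y ∧ IsPullback p q h n ∧ Function.Surjective n.left ∧
      (∀ P : MorphismProperty (Sp S), IsSmoothLocalST P → AlgSt.LocQ P z → P ((yon S).map n)) ∧
      (∀ P : MorphismProperty (Sp S), IsSmoothLocalST P → AlgSt.LocQ P (FibCat.fpFst z f) →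
        P ((yon S).map q)) := by
  obtain ⟨V, y, hy, hys⟩ := h𝒴.atlas
  obtain ⟨U, x, h, α, hx, hxs, hL⟩ := exists_chart_square h𝒳 h𝒴 f y hy
  obtain ⟨W₀, w₀, hw₀, hw₀s⟩ := h𝒵.atlas
  have hV := Fib.isFibGrpd_overCat V
  have hY := h𝒴.isStack.1
  let yz := BasedFunctor.comp w₀ z
  have hA := isAlgStack_fp h𝒴.isStack h𝒴.diag (isAlgStack_overCat V) (isAlgStack_overCat W₀) y yz
  obtain ⟨W, ω, hω, hωs⟩ := hA.atlas
  obtain ⟨n, ⟨jn⟩⟩ := exists_iso_overMap (BasedFunctor.comp ω (FibCat.fpFst y yz))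
  obtain ⟨n', ⟨jn'⟩⟩ := exists_iso_overMap (BasedFunctor.comp ω (FibCat.fpSnd y yz))
  have hn' : Smooth n'.left := left_of_repByAlgSpWith_overMap (P := @Smooth) n'
    (repByAlgSpWith_of_iso jn' (repByAlgSpWith_comp' (Fib.isFibGrpd_overCat W) hA.isStack.1
      respectsSrcIso_locP hc_locP hω (repByAlgSpWith_fpSnd y yz hy)))
  let w := BasedFunctor.comp (AlgSt.overMap n') w₀
  have hw : AlgSt.RepByAlgSpWith (LocP @Smooth) w :=
    repByAlgSpWith_comp' (Fib.isFibGrpd_overCat W) (Fib.isFibGrpd_overCat W₀) respectsSrcIso_locP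
      hc_locP (repByAlgSpWith_overMap (P := @Smooth) n' hn') hw₀
  let β : BasedFunctor.comp (AlgSt.overMap n) y ≅ BasedFunctor.comp w z :=
    Fib.isoWhiskerRight jn.symm y ≪≫ Fib.isoWhiskerLeft ω (FibCat.fpIso y yz) ≪≫
      Fib.isoWhiskerRight jn' yz
  -- `n` is read on a square of `z`
  let θ : FibCat.fp y yz ⥤ᵇ FibCat.fp z y :=
    FibCat.fpLift (BasedFunctor.comp (FibCat.fpSnd y yz) w₀) (FibCat.fpFst y yz)
      (FibCat.fpIso y yz).symm
  have hσ : SmSurj (BasedFunctor.comp ω θ) :=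
    SmSurj.comp (Fib.isFibGrpd_overCat W) hA.isStack.1 ⟨hω, hωs⟩
      (smSurj_swapLift y z ⟨hw₀, hw₀s⟩)
  let jσ : BasedFunctor.comp (BasedFunctor.comp ω θ) (FibCat.fpSnd z y) ≅ AlgSt.overMap n := jn
  have hn : ∀ P : MorphismProperty (Sp S), IsSmoothLocalST P → AlgSt.LocQ P z →
      P ((yon S).map n) := fun P hP hz =>
    prop_of_locQ h𝒵 h𝒴 hP hz _ y n _ hy (SmSurj.of_iso (fpLiftIso _ jσ) hσ).1
  have hns : Function.Surjective n.left := fun v => by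
    have hyz : AlgSt.IsSurjective yz := fun t => by
      obtain ⟨t₁, rfl⟩ := hzs t
      obtain ⟨t₀, rfl⟩ := isSurjective_of_repWith (Fib.isFibGrpd_overCat W₀) h𝒵.isStack.1 w₀ hw₀s t₁
      exact ⟨t₀, map_comp_apply _ _ _⟩
    obtain ⟨a, ha⟩ := isSurjective_fpFst (Fib.isFibGrpd_overCat W₀) hY hV yz y hyz (schMk V v)
    obtain ⟨b, rfl⟩ := isSurjective_of_repWith (Fib.isFibGrpd_overCat W) hA.isStack.1 ω hωs a
    refine ⟨schPt W b, ?_⟩
    rw [← schPt_map_overMap, ← map_congr jn, map_comp_apply, ha, schPt_schMk]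
  -- the comparison map of the base change
  let T : Over S := pullback h n
  let p : T ⟶ U := pullback.fst h n
  let q : T ⟶ W := pullback.snd h n
  have sq : IsPullback p q h n := IsPullback.of_hasPullback h n
  obtain ⟨L₀, hL₀, ⟨jq⟩, -⟩ := exists_equivOver_overPullback sq.flip
  let N := AlgSt.overMap n
  let g := FibCat.fpSnd f y
  let L := FibCat.fpLift x (AlgSt.overMap h) α
  let jL : BasedFunctor.comp L g ≅ AlgSt.overMap h := Iso.refl _
  let G : FibCat.fp N (AlgSt.overMap h) ⥤ᵇ FibCat.fp N g :=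
    FibCat.fpLift (FibCat.fpFst N (AlgSt.overMap h))
      (BasedFunctor.comp (FibCat.fpSnd N (AlgSt.overMap h)) L)
      (FibCat.fpIso N (AlgSt.overMap h) ≪≫ Fib.isoWhiskerLeft (FibCat.fpSnd N _) jL.symm)
  have hG : SmSurj G := smSurj_baseChangeLift N g hL jL
  have := (id_full_faithful (FibCat.overCat V)).1
  have := (id_full_faithful (FibCat.overCat V)).2
  have := (id_full_faithful 𝒴).1
  have := (id_full_faithful 𝒴).2
  let E₁ : FibCat.fp N g ⥤ᵇ FibCat.fp (BasedFunctor.comp w z) f :=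
    BasedFunctor.comp (BasedFunctor.comp
      (Fib.fpMap (BasedFunctor.id (FibCat.overCat W)) (Fib.fpSwap f y)
        (BasedFunctor.id (FibCat.overCat V)) (F' := N) (G' := g) (F := N) (G := FibCat.fpFst y f)
        (Iso.refl N) (Iso.refl g))
      (Fib.fpBC N y f))
      (Fib.fpMap (BasedFunctor.id (FibCat.overCat W)) (BasedFunctor.id 𝒳) (BasedFunctor.id 𝒴)
        (F' := BasedFunctor.comp N y) (G' := f) (F := BasedFunctor.comp w z) (G := f) β (Iso.refl f))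
  have hE₁ : FibCat.IsEquivOver E₁ := Fib.isEquivOver_comp (Fib.isEquivOver_comp
    (Fib.isEquivOver_fpMap _ _ _ _ _ (Fib.isEquivOver_id _) (Fib.isEquivOver_fpSwap f y))
    (Fib.isEquivOver_fpBC _ _ _))
    (Fib.isEquivOver_fpMap _ _ _ _ _ (Fib.isEquivOver_id _) (Fib.isEquivOver_id _))
  let F := FibCat.fpFst z f
  let E₂ : FibCat.fp F w ⥤ᵇ FibCat.fp (BasedFunctor.comp w z) f :=
    BasedFunctor.comp (Fib.fpSwap F w) (Fib.fpBC w z f)
  obtain ⟨b, hb, -, ⟨ib⟩⟩ := Fib.exists_quasiInverse (F := E₂)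
    (Fib.isEquivOver_comp (Fib.isEquivOver_fpSwap F w) (Fib.isEquivOver_fpBC w z f))
  let E := BasedFunctor.comp E₁ b
  have hGE : SmSurj (BasedFunctor.comp G E) :=
    (SmSurj.square (f := BasedFunctor.comp G E) (f' := G) (BasedFunctor.id _) E
      (Fib.isEquivOver_id _) (Fib.isEquivOver_comp hE₁ hb) (Iso.refl _)).2 hG
  let σ := BasedFunctor.comp L₀ (BasedFunctor.comp G E)
  have hσ' : SmSurj σ := SmSurj.comp (Fib.isFibGrpd_overCat T)
    (Fib.isFibGrpd_fp N (AlgSt.overMap h) (Fib.isFibGrpd_overCat W) (Fib.isFibGrpd_overCat U) hV)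
    (smSurj_of_isEquivOver L₀ hL₀) hGE
  let j : BasedFunctor.comp σ (FibCat.fpSnd F w) ≅ AlgSt.overMap q :=
    Fib.isoWhiskerLeft (BasedFunctor.comp L₀ (BasedFunctor.comp G E₁))
      (Fib.isoWhiskerRight ib (FibCat.fpFst (BasedFunctor.comp w z) f)) ≪≫ jq
  have hF := isAlgStack_fp h𝒴.isStack h𝒴.diag h𝒵 h𝒳 z f
  refine ⟨U, V, W, T, x, y, h, α, p, q, n, ⟨hx, hxs hys⟩, ⟨hy, hys⟩, sq, hns, hn, fun P hP hPf => ?_⟩
  exact prop_of_locQ hF h𝒵 hP hPf _ w q _ hw (SmSurj.of_iso (fpLiftIso σ j) hσ').1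

theorem locQ_of_fpFst_fppf {P : MorphismProperty (Sp S)} (hP : IsSmoothLocalST P)
    (hP₂ : IsLocalOnBase IsFppfCover P) {f : 𝒳 ⥤ᵇ 𝒴} {z : 𝒵 ⥤ᵇ 𝒴}
    (hz₁ : AlgSt.LocQ (LocP @Flat) z) (hz₂ : AlgSt.LocQ (LocP @LocallyOfFinitePresentation) z)
    (hz₃ : AlgSt.IsSurjective z) (hF : AlgSt.LocQ P (FibCat.fpFst z f)) : AlgSt.LocQ P f := by
  obtain ⟨U, V, W, T, x, y, h, α, p, q, n, hx, hy, sq, hns, hn, hq⟩ :=
    exists_descent_square h𝒳 h𝒴 h𝒵 f z hz₃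
  have h₁ : Flat n.left := _root_.AlgSp.locP_yon_map (hn _ isSmoothLocalST_flat hz₁)
  have h₂ : LocallyOfFinitePresentation n.left :=
    _root_.AlgSp.locP_yon_map (hn _ isSmoothLocalST_lfp hz₂)
  refine ⟨U, V, x, y, h, α, hx.1, hx.2, hy.1, ?_⟩
  exact (hP₂ (ι := PUnit.{u + 1}) (fun _ => (yon S).obj W) (fun _ => (yon S).map n)
    (IsAlgSpace.yon_obj V) (fun _ => IsAlgSpace.yon_obj W)
    (isFppfCover_map (fun _ => W) (fun _ => n) (fun _ => h₁) (fun _ => h₂)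
      (fun t => ⟨⟨⟩, hns t⟩))
    ((yon S).map h) (IsAlgSpace.yon_obj U) (fun _ => (yon S).obj T) (fun _ => (yon S).map q)
    (fun _ => (yon S).map p) (fun _ => IsAlgSpace.yon_obj T)
    (fun _ => sq.map (yon S))).2 fun _ => hq P hP hF

theorem locQ_flat_of_fpFst {f : 𝒳 ⥤ᵇ 𝒴} {z : 𝒵 ⥤ᵇ 𝒴} (hz₁ : AlgSt.LocQ (LocP @Flat) z)
    (hz₂ : AlgSt.IsSurjective z) (hF : AlgSt.LocQ (LocP @Flat) (FibCat.fpFst z f)) :
    AlgSt.LocQ (LocP @Flat) f := by
  obtain ⟨U, V, W, T, x, y, h, α, p, q, n, hx, hy, sq, hns, hn, hq⟩ :=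
    exists_descent_square h𝒳 h𝒴 h𝒵 f z hz₂
  have : Flat n.left := _root_.AlgSp.locP_yon_map (hn _ isSmoothLocalST_flat hz₁)
  have : Flat q.left := _root_.AlgSp.locP_yon_map (hq _ isSmoothLocalST_flat hF)
  have : Surjective n.left := ⟨hns⟩
  have sq' := sq.map (Over.forget S)
  have : Flat p.left := MorphismProperty.of_isPullback (P := @Flat) sq'.flip ‹Flat n.left›
  have : Surjective p.left := MorphismProperty.of_isPullback (P := @Surjective) sq'.flip ‹_›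
  have : Flat (p.left ≫ h.left) := by
    rw [← Over.comp_left, sq.w, Over.comp_left]
    infer_instance
  exact ⟨U, V, x, y, h, α, hx.1, hx.2, hy.1,
    locP_yon_of (FpqcDescent.flat_of_flat_comp p.left h.left)⟩

/-- Descent along a covering of the source. -/
theorem locQ_source_descent {P : MorphismProperty Scheme.{u}} [AlgSpc.EtLoc P]
    [P.IsStableUnderBaseChange] (hP : IsSmoothLocalST (S := S) (LocP P))
    (hd : ∀ {A B C : Scheme.{u}} (a : A ⟶ B) (b : B ⟶ C) [Surjective a] [Flat a]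
      [LocallyOfFinitePresentation a], P (a ≫ b) → P b)
    {f : 𝒳 ⥤ᵇ 𝒴} {g : 𝒴 ⥤ᵇ 𝒵} (hf₁ : AlgSt.LocQ (LocP @Flat) f)
    (hf₂ : AlgSt.LocQ (LocP @LocallyOfFinitePresentation) f) (hf₃ : AlgSt.IsSurjective f)
    (hfg : AlgSt.LocQ (LocP P) (BasedFunctor.comp f g)) : AlgSt.LocQ (LocP P) g := by
  obtain ⟨W, z, hz, hzs⟩ := h𝒵.atlas
  obtain ⟨U, V, x, y, h, k, α, β, γ, hx, hy, hLf, hLg, hL⟩ :=
    exists_comp_square h𝒳 h𝒴 h𝒵 f g z hz hzs
  have : Flat h.left := _root_.AlgSp.locP_yon_map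
    (prop_of_locQ h𝒳 h𝒴 isSmoothLocalST_flat hf₁ x y h α hy.1 hLf.1)
  have : LocallyOfFinitePresentation h.left := _root_.AlgSp.locP_yon_map
    (prop_of_locQ h𝒳 h𝒴 isSmoothLocalST_lfp hf₂ x y h α hy.1 hLf.1)
  have : Surjective h.left := ⟨fun v => by
    have hV := Fib.isFibGrpd_overCat V
    have hfp := Fib.isFibGrpd_fp f y h𝒳.isStack.1 hV h𝒴.isStack.1
    obtain ⟨w, hw⟩ := isSurjective_fpSnd hV h𝒴.isStack.1 h𝒳.isStack.1 y f hf₃ (schMk V v)
    obtain ⟨u, hu⟩ := isSurjective_of_repWith (Fib.isFibGrpd_overCat U) hfp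
      (FibCat.fpLift x (AlgSt.overMap h) α) hLf.2 w
    refine ⟨schPt U u, ?_⟩
    rw [← schPt_map_overMap, ← schPt_schMk V v, ← hw, ← hu, ← map_comp_apply]
    rfl⟩
  exact ⟨V, W, y, z, k, β, hy.1, hy.2, hz, locP_yon_of (hd h.left k.left
    (_root_.AlgSp.locP_yon_map (prop_of_locQ h𝒳 h𝒵 hP hfg x z (h ≫ k) γ hz hL.1)))⟩

omit h𝒵 in
theorem locQ_lfp_diag {f : 𝒳 ⥤ᵇ 𝒴} (hf : AlgSt.LocQ (LocP @LocallyOfFiniteType) f) :
    AlgSt.LocQ (LocP @LocallyOfFinitePresentation) (FibCat.diag f) := by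
  have hP := isAlgStack_fp h𝒴.isStack h𝒴.diag h𝒳 h𝒳 f f
  have h₁ : AlgSt.LocQ (LocP @LocallyOfFiniteType) (FibCat.fpFst f f) :=
    locQ_fpFst (fun _ _ _ _ hX hY hX' hY' a b a' b' sq h => AlgSpc.locP_base_change hX hY hY' sq h)
      h𝒳 h𝒴 h𝒳 f hf
  obtain ⟨U, x, hx, hxs⟩ := h𝒳.atlas
  have h₂ : AlgSt.LocQ (LocP @LocallyOfFinitePresentation) (BasedFunctor.id 𝒳) :=
    ⟨U, U, x, x, 𝟙 U, Fib.isoWhiskerRight (overMapOne U).symm x, hx, hxs, hx,
      locP_yon_of (inferInstanceAs (LocallyOfFinitePresentation (𝟙 U.left)))⟩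
  exact locQ_lfp_of_comp h𝒳 hP h𝒳 (f := FibCat.diag f) (g := FibCat.fpFst f f) h₂ h₁

end

end Groth.Agent.AlgStB
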