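import Groth.Agent.AlgStB.LocQDescent
import Groth.Agent.AlgStB.PointsQC
import Groth.Agent.Fib.FpPaste

/-!
# Descent of quasi-compactness of morphisms of stacks
-/

set_option autoImplicit false
set_option backward.isDefEq.respectTransparency false
set_option backward.isDefEq.respectTransparency.types false

universe u

open CategoryTheory CategoryTheory.Limits AlgebraicGeometry Opposite

namespace Groth.Agent.AlgStB

open _root_.AlgSt (FPt Points)
open _root_.AlgSp (Sp LocP IsAlgSpace yon)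

noncomputable section

variable {S : Scheme.{u}} {𝒳 𝒴 𝒵 : AlgSt.Cat S}
  (h𝒳 : AlgSt.IsAlgStack Scheme.fppfPrecoverage 𝒳)
  (h𝒴 : AlgSt.IsAlgStack Scheme.fppfPrecoverage 𝒴)

include h𝒳 h𝒴

theorem compactSpace_fp_of_qcMor {f : 𝒳 ⥤ᵇ 𝒴}
    (hf : AlgSt.IsQuasiCompactMor Scheme.fppfPrecoverage f) (U : Over S) [CompactSpace ↥U.left]
    (y : FibCat.overCat U ⥤ᵇ 𝒴) : CompactSpace (Points (FibCat.fp y f)) := by
  have := compactSpace_points_overCat U
  exact (isQuasiCompact_iff (isAlgStack_fp h𝒴.isStack h𝒴.diag (isAlgStack_overCat U) h𝒳 y f)).1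
    (hf _ (isAlgStack_overCat U) ((isQuasiCompact_iff (isAlgStack_overCat U)).2 inferInstance) y)

theorem isQuasiCompactMor_of_affine {f : 𝒳 ⥤ᵇ 𝒴}
    (h : ∀ (U : Over S) [CompactSpace ↥U.left] (y : FibCat.overCat U ⥤ᵇ 𝒴),
      CompactSpace (Points (FibCat.fp y f))) :
    AlgSt.IsQuasiCompactMor Scheme.fppfPrecoverage f := by
  intro 𝒲 h𝒲 ⟨U, z, hU, hz, hzs⟩ g
  have hP := isAlgStack_fp h𝒴.isStack h𝒴.diag h𝒲 h𝒳 g f
  have := h U (BasedFunctor.comp z g)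
  refine (isQuasiCompact_iff hP).2 ?_
  obtain ⟨b, hb, -, -⟩ := Fib.exists_quasiInverse (Fib.isEquivOver_fpBC z g f)
  refine compactSpace_of_isSurjective hP
    (BasedFunctor.comp b (FibCat.fpSnd z (FibCat.fpFst g f))) fun w => ?_
  obtain ⟨v, rfl⟩ := isSurjective_fpSnd hP.isStack.1 h𝒲.isStack.1 (Fib.isFibGrpd_overCat U)
    (FibCat.fpFst g f) z (isSurjective_of_repWith (Fib.isFibGrpd_overCat U) h𝒲.isStack.1 z hzs) w
  obtain ⟨v', rfl⟩ := (bijective_map b hb).2 v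
  exact ⟨v', map_comp_apply _ _ _⟩

omit h𝒳 in
theorem isQuasiCompactMor_of_iso {f f' : 𝒳 ⥤ᵇ 𝒴} (e : f ≅ f')
    (h𝒳 : AlgSt.IsAlgStack Scheme.fppfPrecoverage 𝒳)
    (hf : AlgSt.IsQuasiCompactMor Scheme.fppfPrecoverage f) :
    AlgSt.IsQuasiCompactMor Scheme.fppfPrecoverage f' := by
  refine isQuasiCompactMor_of_affine h𝒳 h𝒴 fun U _ y => ?_
  have := compactSpace_fp_of_qcMor h𝒳 h𝒴 hf U y
  have hfull := (id_full_faithful 𝒴).1
  have hfaith := (id_full_faithful 𝒴).2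
  exact compactSpace_of_isSurjective (isAlgStack_fp h𝒴.isStack h𝒴.diag (isAlgStack_overCat U) h𝒳 y f')
    (Fib.fpMap (BasedFunctor.id (FibCat.overCat U)) (BasedFunctor.id 𝒳) (BasedFunctor.id 𝒴)
      (F' := y) (G' := f) (F := y) (G := f') (Iso.refl _) e)
    (bijective_map _ (Fib.isEquivOver_fpMap _ _ _ _ _ (Fib.isEquivOver_id _) (Fib.isEquivOver_id _))).2

/-- Quasi-compactness passes to the second factor along a surjective morphism. -/
theorem isQuasiCompactMor_of_surjective_comp (h𝒵 : AlgSt.IsAlgStack Scheme.fppfPrecoverage 𝒵)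
    {f : 𝒳 ⥤ᵇ 𝒴} {q : 𝒴 ⥤ᵇ 𝒵} (hfs : AlgSt.IsSurjective f)
    (hp : AlgSt.IsQuasiCompactMor Scheme.fppfPrecoverage (BasedFunctor.comp f q)) :
    AlgSt.IsQuasiCompactMor Scheme.fppfPrecoverage q := by
  refine isQuasiCompactMor_of_affine h𝒴 h𝒵 fun U _ y => ?_
  have := compactSpace_fp_of_qcMor h𝒳 h𝒵 hp U y
  have hP := isAlgStack_fp h𝒵.isStack h𝒵.diag (isAlgStack_overCat U) h𝒴 y q
  obtain ⟨b, hb, -, -⟩ := Fib.exists_quasiInverse (Fib.isEquivOver_fpAssoc y q f)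
  refine compactSpace_of_isSurjective hP
    (BasedFunctor.comp b (FibCat.fpFst (FibCat.fpSnd y q) f)) fun w => ?_
  obtain ⟨v, rfl⟩ := isSurjective_fpFst h𝒳.isStack.1 h𝒴.isStack.1 hP.isStack.1 f
    (FibCat.fpSnd y q) hfs w
  obtain ⟨v', rfl⟩ := (bijective_map b hb).2 v
  exact ⟨v', map_comp_apply _ _ _⟩

/-- A quasi-compact scheme over a stack is covered by finitely many affine schemes mapping to a
flat, finitely presented covering. -/
theorem exists_open_cover_lift (h𝒵 : AlgSt.IsAlgStack Scheme.fppfPrecoverage 𝒵) {z : 𝒵 ⥤ᵇ 𝒴}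
    (hz₁ : AlgSt.LocQ (LocP @Flat) z) (hz₂ : AlgSt.LocQ (LocP @LocallyOfFinitePresentation) z)
    (hz₃ : AlgSt.IsSurjective z) (U : Over S) [CompactSpace ↥U.left]
    (y : FibCat.overCat U ⥤ᵇ 𝒴) :
    ∃ (T : Over S) (k : T ⟶ U) (τ : FibCat.overCat T ⥤ᵇ 𝒵),
      Nonempty (BasedFunctor.comp τ z ≅ BasedFunctor.comp (AlgSt.overMap k) y) ∧
      ∃ F : Finset {W : T.left.Opens // IsAffineOpen W},
        ∀ v : ↥U.left, ∃ W ∈ F, ∃ t ∈ (W.1 : Set ↥T.left), k.left t = v := by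
  have hP := isAlgStack_fp h𝒴.isStack h𝒴.diag (isAlgStack_overCat U) h𝒵 y z
  obtain ⟨T, σ, hσ, hσs⟩ := hP.atlas
  obtain ⟨k, ⟨j⟩⟩ := exists_iso_overMap (BasedFunctor.comp σ (FibCat.fpFst y z))
  refine ⟨T, k, BasedFunctor.comp σ (FibCat.fpSnd y z),
    ⟨Fib.isoWhiskerLeft σ (FibCat.fpIso y z).symm ≪≫ Fib.isoWhiskerRight j y⟩, ?_⟩
  have hbc : ∀ {P : MorphismProperty Scheme.{u}} [AlgSpc.EtLoc P] [P.IsStableUnderBaseChange],
      AlgSt.LocQ (LocP P) z → AlgSt.LocQ (LocP P) (FibCat.fpFst y z) := fun h =>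
    locQ_fpFst (fun _ _ _ _ hX hY hX' hY' a b a' b' sq h => AlgSpc.locP_base_change hX hY hY' sq h)
      h𝒵 h𝒴 (isAlgStack_overCat U) y h
  have hopen : AlgSt.IsOpenMor (FibCat.fpFst y z) :=
    isOpenMor_of_flat_lfp hP (isAlgStack_overCat U) (hbc hz₁) (hbc hz₂)
  have hfac : ∀ t, schPt U (Points.map (FibCat.fpFst y z) (Points.ofChart σ t)) = k.left t := fun t => by
    rw [ofChart_eq_map, ← map_comp_apply, map_congr j, schPt_map_overMap, schPt_schMk]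
  have ho : IsOpenMap (k.left : ↥T.left → ↥U.left) := fun O hO => by
    have h₁ := isOpenMap_ofChart hP.isStack.1 σ (flat_lfp_of_smooth hσ).1 (flat_lfp_of_smooth hσ).2 O hO
    have h₂ := (isHomeomorph_schPt U).isOpenMap _ (hopen _ h₁)
    rw [Set.image_image, Set.image_image] at h₂
    convert h₂ using 1
    exact Set.image_congr fun t _ => (hfac t).symm
  have hs : Function.Surjective k.left := fun v => by
    obtain ⟨w, hw⟩ := isSurjective_fpFst h𝒵.isStack.1 h𝒴.isStack.1 (Fib.isFibGrpd_overCat U) z y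
      hz₃ (schMk U v)
    obtain ⟨t, rfl⟩ := surjective_ofChart hP.isStack.1 σ hσs w
    exact ⟨t, by rw [← hfac t, hw, schPt_schMk]⟩
  obtain ⟨F, hF⟩ := (isCompact_univ (X := ↥U.left)).elim_finite_subcover
    (fun W : {W : T.left.Opens // IsAffineOpen W} => k.left '' (W.1 : Set ↥T.left))
    (fun W => ho _ W.1.isOpen) fun v _ => by
      obtain ⟨t, rfl⟩ := hs v
      obtain ⟨_, ⟨W, hW, rfl⟩, htW, -⟩ :=
        T.left.isBasis_affineOpens.exists_subset_of_mem_open (Set.mem_univ t) isOpen_univ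
      exact Set.mem_iUnion.2 ⟨⟨W, hW⟩, t, htW, rfl⟩
  refine ⟨F, fun v => ?_⟩
  obtain ⟨W, hW, t, ht, rfl⟩ := Set.mem_iUnion₂.1 (hF (Set.mem_univ v))
  exact ⟨W, hW, t, ht, rfl⟩

/-- Quasi-compactness descends along a flat, finitely presented, surjective morphism. -/
theorem isQuasiCompactMor_of_fpFst (h𝒵 : AlgSt.IsAlgStack Scheme.fppfPrecoverage 𝒵) {f : 𝒳 ⥤ᵇ 𝒴}
    {z : 𝒵 ⥤ᵇ 𝒴} (hz₁ : AlgSt.LocQ (LocP @Flat) z)
    (hz₂ : AlgSt.LocQ (LocP @LocallyOfFinitePresentation) z) (hz₃ : AlgSt.IsSurjective z)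
    (h : AlgSt.IsQuasiCompactMor Scheme.fppfPrecoverage (FibCat.fpFst z f)) :
    AlgSt.IsQuasiCompactMor Scheme.fppfPrecoverage f := by
  refine isQuasiCompactMor_of_affine h𝒳 h𝒴 fun U _ y => ?_
  obtain ⟨T, k, τ, ⟨i⟩, F, hF⟩ := exists_open_cover_lift h𝒳 h𝒴 h𝒵 hz₁ hz₂ hz₃ U y
  have hzf := isAlgStack_fp h𝒴.isStack h𝒴.diag h𝒵 h𝒳 z f
  have hyf := isAlgStack_fp h𝒴.isStack h𝒴.diag (isAlgStack_overCat U) h𝒳 y f
  have hc : ∀ W : {W : T.left.Opens // IsAffineOpen W}, ∃ K : Set (Points (FibCat.fp y f)),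
      IsCompact K ∧ ∀ p, schPt U (Points.map (FibCat.fpFst y f) p) ∈ k.left '' (W.1 : Set ↥T.left) →
        p ∈ K := fun W => by
    let T' : Over S := Over.mk (W.1.ι ≫ T.hom)
    let jT : T' ⟶ T := Over.homMk W.1.ι rfl
    have : IsAffine T'.left := W.2
    let τ' := BasedFunctor.comp (AlgSt.overMap jT) τ
    have := compactSpace_fp_of_qcMor hzf h𝒵 h T' τ'
    let i' : BasedFunctor.comp τ' z ≅ BasedFunctor.comp (AlgSt.overMap (jT ≫ k)) y :=
      Fib.isoWhiskerLeft (AlgSt.overMap jT) i ≪≫ Fib.isoWhiskerRight (overMapComp jT k) y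
    have hfull := (id_full_faithful 𝒴).1
    have hfaith := (id_full_faithful 𝒴).2
    let M := Fib.fpMap (BasedFunctor.id (FibCat.overCat T')) (BasedFunctor.id 𝒳) (BasedFunctor.id 𝒴)
      (F' := BasedFunctor.comp τ' z) (G' := f)
      (F := BasedFunctor.comp (AlgSt.overMap (jT ≫ k)) y) (G := f) i' (Iso.refl _)
    have hT' := isAlgStack_overCat T'
    have : CompactSpace (Points (FibCat.fp (BasedFunctor.comp (AlgSt.overMap (jT ≫ k)) y) f)) :=
      compactSpace_of_isSurjective (isAlgStack_fp h𝒴.isStack h𝒴.diag hT' h𝒳 _ f)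
        (BasedFunctor.comp (Fib.fpBC τ' z f) M)
        (bijective_map _ (Fib.isEquivOver_comp (Fib.isEquivOver_fpBC _ _ _)
          (Fib.isEquivOver_fpMap _ _ _ _ _ (Fib.isEquivOver_id _) (Fib.isEquivOver_id _)))).2
    obtain ⟨b, hb, -, -⟩ := Fib.exists_quasiInverse (Fib.isEquivOver_fpBC (AlgSt.overMap (jT ≫ k)) y f)
    let Θ := BasedFunctor.comp b (FibCat.fpSnd (AlgSt.overMap (jT ≫ k)) (FibCat.fpFst y f))
    refine ⟨Set.range (Points.map Θ), isCompact_range (continuous_map hyf.isStack.1 hyf.atlas Θ),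
      fun p hp => ?_⟩
    obtain ⟨t, ht, e⟩ := hp
    obtain ⟨v, -, rfl⟩ := exists_point_fp hyf.isStack.1 (Fib.isFibGrpd_overCat U)
      (Fib.isFibGrpd_overCat T') (FibCat.fpFst y f) (AlgSt.overMap (jT ≫ k)) (schMk T' ⟨t, ht⟩) p (by
        rw [← schMk_schPt U (Points.map _ (schMk T' _)), schPt_map_overMap, schPt_schMk,
          ← schMk_schPt U (Points.map (FibCat.fpFst y f) p), ← e]
        rfl)
    obtain ⟨v', rfl⟩ := (bijective_map b hb).2 v
    exact ⟨v', map_comp_apply _ _ _⟩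
  choose K hK hKc using hc
  refine ⟨?_⟩
  convert F.finite_toSet.isCompact_biUnion fun W _ => hK W using 1
  refine Set.ext fun p => iff_of_true (Set.mem_univ p) ?_
  obtain ⟨W, hW, t, ht, e⟩ := hF (schPt U (Points.map (FibCat.fpFst y f) p))
  exact Set.mem_iUnion₂.2 ⟨W, hW, hKc W p ⟨t, ht, e⟩⟩

end

end Groth.Agent.AlgStB
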