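import Groth.Agent.AlgStB.LocQMore
import Groth.Agent.AlgStB.LocQDescent
import Groth.Agent.AlgStB.MonoImmStack
import Groth.Agent.AlgStB.QCDescent
import Groth.Agent.AlgStB.PointsSurj

/-!
# `LocQ` for representable morphisms, space charts, descent of universal injectivity
-/

set_option autoImplicit false
set_option backward.isDefEq.respectTransparency false
set_option backward.isDefEq.respectTransparency.types false

universe u

open CategoryTheory CategoryTheory.Limits AlgebraicGeometry Opposite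

namespace Groth.Agent.AlgStB

open _root_.AlgSt (FPt Points)
open _root_.AlgSp (Sp LocP IsAlgSpace IsSurjectiveMor IsFppfCover IsLocalOnBase IsSmoothLocalST yon
  RepWith Space repWith_yon_map_iff)

noncomputable section

variable {S : Scheme.{u}}

theorem locQ_transfer {P : MorphismProperty (Sp S)} {𝒜 ℬ 𝒜' ℬ' : AlgSt.Cat S} {f : 𝒜 ⥤ᵇ ℬ}
    {f' : 𝒜' ⥤ᵇ ℬ'} (a : 𝒜 ⥤ᵇ 𝒜') (b : ℬ ⥤ᵇ ℬ') (ha : FibCat.IsEquivOver a)
    (hb : FibCat.IsEquivOver b) (e : BasedFunctor.comp f b ≅ BasedFunctor.comp a f')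
    (h : AlgSt.LocQ P f) : AlgSt.LocQ P f' := by
  obtain ⟨U, V, x, y, k, α, hx, hxs, hy, hh⟩ := h
  exact ⟨U, V, BasedFunctor.comp x a, BasedFunctor.comp y b, k,
    Fib.isoWhiskerLeft x e.symm ≪≫ Fib.isoWhiskerRight α b, repByAlgSpWith_comp_equiv ha hx,
    repByAlgSpWith_comp_equiv ha hxs, repByAlgSpWith_comp_equiv hb hy, hh⟩

variable {𝒳 𝒴 𝒵 : AlgSt.Cat S}
  (h𝒳 : AlgSt.IsAlgStack Scheme.fppfPrecoverage 𝒳)
  (h𝒴 : AlgSt.IsAlgStack Scheme.fppfPrecoverage 𝒴)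

include h𝒳 h𝒴

theorem locQ_iff_space_chart {P : MorphismProperty (Sp S)} (hP : IsSmoothLocalST P)
    (f : 𝒳 ⥤ᵇ 𝒴) :
    AlgSt.LocQ P f ↔
      ∃ (U V : Space S) (x : AlgSt.ofSp U.obj ⥤ᵇ 𝒳) (y : AlgSt.ofSp V.obj ⥤ᵇ 𝒴) (h : U ⟶ V)
        (_ : BasedFunctor.comp x f ≅ BasedFunctor.comp (AlgSt.ofSpMap h.hom) y),
        AlgSt.RepByAlgSpWith (LocP @Smooth) x ∧ AlgSt.RepByAlgSpWith IsSurjectiveMor x ∧
        AlgSt.RepByAlgSpWith (LocP @Smooth) y ∧ P h.hom := by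
  constructor
  · rintro ⟨U, V, x, y, k, α, hx, hxs, hy, hh⟩
    have key : ∀ {W : Over S} {𝒜 : AlgSt.Cat S} {Q : MorphismProperty (Sp S)}
        {g : FibCat.overCat W ⥤ᵇ 𝒜}, AlgSt.RepByAlgSpWith Q g →
        AlgSt.RepByAlgSpWith Q (BasedFunctor.comp (AlgSt.toOverCat W) g) := fun {W _ _ g} h =>
      (repByAlgSpWith_iff_of_square g (BasedFunctor.comp (AlgSt.toOverCat W) g) (AlgSt.toOverCat W)
        (BasedFunctor.id _) (isEquivOver_toOverCat W) (Fib.isEquivOver_id _) (Iso.refl _)).1 h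
    exact ⟨⟨_, IsAlgSpace.yon_obj U⟩, ⟨_, IsAlgSpace.yon_obj V⟩,
      BasedFunctor.comp (AlgSt.toOverCat U) x, BasedFunctor.comp (AlgSt.toOverCat V) y,
      ObjectProperty.homMk ((yon S).map k),
      Fib.isoWhiskerLeft (AlgSt.toOverCat U) α ≪≫ Fib.isoWhiskerRight (overMapSquare k).symm y,
      key hx, key hxs, key hy, hh⟩
  · rintro ⟨U, V, x, y, h, α, hx, hxs, hy, hh⟩
    obtain ⟨U₀, V₀, x₀, y₀, k, α₀, hx₀, hx₀s, hy₀, hk⟩ :=
      (locQ_ofSpMap_iff hP U.property V.property h.hom).2 hh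
    refine ⟨U₀, V₀, BasedFunctor.comp x₀ x, BasedFunctor.comp y₀ y, k,
      Fib.isoWhiskerLeft x₀ α ≪≫ Fib.isoWhiskerRight α₀ y, ?_, ?_, ?_, hk⟩
    · exact repByAlgSpWith_comp' (Fib.isFibGrpd_overCat U₀) (isFibGrpd_ofSp U.property)
        respectsSrcIso_locP hc_locP hx₀ hx
    · exact repByAlgSpWith_comp' (Fib.isFibGrpd_overCat U₀) (isFibGrpd_ofSp U.property)
        respectsSrcIso_isSurjectiveMor hc_surjective hx₀s hxs
    · exact repByAlgSpWith_comp' (Fib.isFibGrpd_overCat V₀) (isFibGrpd_ofSp V.property)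
        respectsSrcIso_locP hc_locP hy₀ hy

theorem locQ_iff_repByAlgSpWith {P : MorphismProperty (Sp S)} (hP : IsSmoothLocalST P)
    (hP₁ : StableBC P) (hP₂ : IsLocalOnBase IsFppfCover P) (f : 𝒳 ⥤ᵇ 𝒴)
    (hf : AlgSt.RepByAlgSp1 f) : AlgSt.LocQ P f ↔ AlgSt.RepByAlgSpWith P f := by
  obtain ⟨V, y, hy, hys⟩ := h𝒴.atlas
  obtain ⟨G, e, he⟩ := hf V y
  have hV := isAlgStack_overCat V
  have hfp := isAlgStack_fp h𝒴.isStack h𝒴.diag hV h𝒳 y f
  let φ := AlgSt.spMapOfOver (BasedFunctor.comp e (FibCat.fpFst y f))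
  let sq₀ : BasedFunctor.comp (AlgSt.ofSpMap φ) (AlgSt.toOverCat V) ≅
      BasedFunctor.comp e (FibCat.fpFst y f) := (isoOfOver _).symm
  constructor
  · intro h
    have h₁ : AlgSt.LocQ P (FibCat.fpFst y f) := locQ_fpFst hP₁ h𝒳 h𝒴 hV y h
    obtain ⟨e', he', -, ⟨k⟩⟩ := Fib.exists_quasiInverse he
    have hφ : P φ := (locQ_ofSpMap_iff hP G.property (IsAlgSpace.yon_obj V) φ).1
      (locQ_transfer (f' := AlgSt.ofSpMap φ) e' (AlgSt.ofOverCat V) he' (isEquivOver_ofOverCat V)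
        (Fib.isoWhiskerRight k.symm (BasedFunctor.comp (FibCat.fpFst y f) (AlgSt.ofOverCat V)) ≪≫
          Fib.isoWhiskerLeft e' (Fib.isoWhiskerRight sq₀.symm (AlgSt.ofOverCat V) ≪≫
            Fib.isoWhiskerLeft (AlgSt.ofSpMap φ) (eqToIso (rfl :
              BasedFunctor.comp (AlgSt.toOverCat V) (AlgSt.ofOverCat V) = BasedFunctor.id (AlgSt.ofSch V))))) h₁)
    refine repByAlgSpWith_of_local hP₁.respectsSrcIso hP₂ f hf fun U z => ?_
    obtain ⟨T, k, τ, ⟨i⟩, -, hsm, hs⟩ := exists_cover_point (Fib.isFibGrpd_overCat V) h𝒴.isStack.1 y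
      (repByAlgSp1_of_with hy) z
    obtain ⟨m, ⟨jm⟩⟩ := exists_iso_overMap τ
    have : Smooth k.left := hsm _ hy
    refine ⟨PUnit.{u + 1}, fun _ => T, fun _ => k, isFppfCover_map (fun _ => T) (fun _ => k)
      (fun _ => inferInstanceAs (Flat k.left))
      (fun _ => inferInstanceAs (LocallyOfFinitePresentation k.left))
      (fun t => ⟨⟨⟩, hs hys t⟩), fun _ => ?_⟩
    exact exists_rep_pullback hP₁ y m _ (Fib.isoWhiskerRight jm.symm y ≪≫ i) ⟨G, e, he, hφ⟩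
  · intro h
    obtain ⟨G', e₂, he₂, hφ₂⟩ := h V y
    let φ₂ := AlgSt.spMapOfOver (BasedFunctor.comp e₂ (FibCat.fpFst y f))
    have h₁ : AlgSt.LocQ P (FibCat.fpFst y f) :=
      locQ_transfer e₂ (AlgSt.toOverCat V) he₂ (isEquivOver_toOverCat V)
        (isoOfOver (BasedFunctor.comp e₂ (FibCat.fpFst y f))).symm
        ((locQ_ofSpMap_iff hP G'.property (IsAlgSpace.yon_obj V) φ₂).2 hφ₂)
    obtain ⟨U₁, V₁, x₁, y₁, k, α, hx₁, hx₁s, hy₁, hk⟩ := h₁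
    refine ⟨U₁, V₁, BasedFunctor.comp x₁ (FibCat.fpSnd y f), BasedFunctor.comp y₁ y, k,
      Fib.isoWhiskerLeft x₁ (FibCat.fpIso y f).symm ≪≫ Fib.isoWhiskerRight α y, ?_, ?_, ?_, hk⟩
    · exact repByAlgSpWith_comp' (Fib.isFibGrpd_overCat U₁) hfp.isStack.1
        respectsSrcIso_locP hc_locP hx₁ (repByAlgSpWith_fpSnd y f hy)
    · exact repByAlgSpWith_comp' (Fib.isFibGrpd_overCat U₁) hfp.isStack.1
        respectsSrcIso_isSurjectiveMor hc_surjective hx₁s (repByAlgSpWith_fpSnd y f hys)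
    · exact repByAlgSpWith_comp' (Fib.isFibGrpd_overCat V₁) hV.isStack.1
        respectsSrcIso_locP hc_locP hy₁ hy

omit h𝒳 in
theorem repByAlgSpWith_of_fpFst {P : MorphismProperty (Sp S)} (hP₁ : StableBC P)
    (hP₂ : IsLocalOnBase IsFppfCover P) {f : 𝒳 ⥤ᵇ 𝒴} (hf : AlgSt.RepByAlgSp1 f)
    (h𝒵 : AlgSt.IsAlgStack Scheme.fppfPrecoverage 𝒵) {z : 𝒵 ⥤ᵇ 𝒴}
    (hz₁ : AlgSt.LocQ (LocP @Flat) z) (hz₂ : AlgSt.LocQ (LocP @LocallyOfFinitePresentation) z)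
    (hz₃ : AlgSt.IsSurjective z) (h : AlgSt.RepByAlgSpWith P (FibCat.fpFst z f)) :
    AlgSt.RepByAlgSpWith P f := by
  obtain ⟨V, y, hy, hys⟩ := h𝒴.atlas
  obtain ⟨U, x, k, α, hx, hxs, hL, -⟩ := exists_chart_square h𝒵 h𝒴 z y hy
  have : Flat k.left :=
    locP_left k (prop_of_locQ h𝒵 h𝒴 isSmoothLocalST_flat hz₁ x y k α hy hL)
  have : LocallyOfFinitePresentation k.left :=
    locP_left k (prop_of_locQ h𝒵 h𝒴 isSmoothLocalST_lfp hz₂ x y k α hy hL)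
  let q := BasedFunctor.comp x z
  have hU := Fib.isFibGrpd_overCat U
  have hV := Fib.isFibGrpd_overCat V
  have hq₁ : AlgSt.RepByAlgSpWith (LocP @Flat) q :=
    repByAlgSpWith_of_iso α.symm (repByAlgSpWith_comp' hU hV respectsSrcIso_locP hc_locP
      (repByAlgSpWith_overMap (P := @Flat) k inferInstance) (flat_lfp_of_smooth hy).1)
  have hq₂ : AlgSt.RepByAlgSpWith (LocP @LocallyOfFinitePresentation) q :=
    repByAlgSpWith_of_iso α.symm (repByAlgSpWith_comp' hU hV respectsSrcIso_locP hc_locP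
      (repByAlgSpWith_overMap (P := @LocallyOfFinitePresentation) k inferInstance)
      (flat_lfp_of_smooth hy).2)
  have hq₃ : AlgSt.RepByAlgSpWith IsSurjectiveMor q := by
    refine repWith_surjective_of_isSurjective hU h𝒴.isStack.1 q (repByAlgSp1_of_with hq₁) fun w => ?_
    obtain ⟨w', rfl⟩ := hz₃ w
    obtain ⟨u, rfl⟩ := isSurjective_of_repWith hU h𝒵.isStack.1 x (hxs hys) w'
    exact ⟨u, map_comp_apply _ _ _⟩
  refine repByAlgSpWith_of_local hP₁.respectsSrcIso hP₂ f hf fun W w => ?_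
  obtain ⟨T, n, t, hc, ⟨i⟩⟩ := exists_cover_lift q hq₁ hq₂ hq₃ W w
  exact ⟨PUnit.{u + 1}, fun _ => T, fun _ => n, hc,
    fun _ => exists_rep_of_lift h _ (BasedFunctor.comp t x) i⟩

/-- Universal injectivity descends along a surjective morphism. -/
theorem isUnivInjective_of_fpFst (h𝒵 : AlgSt.IsAlgStack Scheme.fppfPrecoverage 𝒵) {f : 𝒳 ⥤ᵇ 𝒴}
    {w : 𝒵 ⥤ᵇ 𝒴} (hw : AlgSt.IsSurjective w)
    (h : AlgSt.IsUnivInjective Scheme.fppfPrecoverage (FibCat.fpFst w f)) :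
    AlgSt.IsUnivInjective Scheme.fppfPrecoverage f := by
  intro 𝒲 h𝒲 g w₁ w₂ e
  have hgw := isAlgStack_fp h𝒴.isStack h𝒴.diag h𝒲 h𝒵 g w
  let k := FibCat.fpFst g w
  let s := FibCat.fpSnd g w
  obtain ⟨z', hz'⟩ := isSurjective_fpFst h𝒵.isStack.1 h𝒴.isStack.1 h𝒲.isStack.1 w g hw
    (Points.map (FibCat.fpFst g f) w₁)
  have hfp := Fib.isFibGrpd_fp g f h𝒲.isStack.1 h𝒳.isStack.1 h𝒴.isStack.1
  obtain ⟨u₁, hu₁, rfl⟩ :=
    exists_point_fp hfp h𝒲.isStack.1 hgw.isStack.1 (FibCat.fpFst g f) k z' w₁ hz'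
  obtain ⟨u₂, hu₂, rfl⟩ :=
    exists_point_fp hfp h𝒲.isStack.1 hgw.isStack.1 (FibCat.fpFst g f) k z' w₂ (hz'.trans e)
  congr 1
  have hfull := (id_full_faithful 𝒴).1
  have hfaith := (id_full_faithful 𝒴).2
  let M := Fib.fpMap (BasedFunctor.id (FibCat.fp g w)) (BasedFunctor.id 𝒳) (BasedFunctor.id 𝒴)
    (F' := BasedFunctor.comp k g) (G' := f) (F := BasedFunctor.comp s w) (G := f)
    (FibCat.fpIso g w) (Iso.refl _)
  let A := BasedFunctor.comp (Fib.fpBC k g f) M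
  have hA : FibCat.IsEquivOver A := Fib.isEquivOver_comp (Fib.isEquivOver_fpBC _ _ _)
    (Fib.isEquivOver_fpMap _ _ _ _ _ (Fib.isEquivOver_id _) (Fib.isEquivOver_id _))
  have hB := Fib.isEquivOver_fpBC s w f
  refine (bijective_map A hA).1 ?_
  obtain ⟨v₁, hv₁⟩ := (bijective_map _ hB).2 (Points.map A u₁)
  obtain ⟨v₂, hv₂⟩ := (bijective_map _ hB).2 (Points.map A u₂)
  rw [← hv₁, ← hv₂]
  congr 1
  refine h _ hgw s ?_
  have c₁ := congrArg (Points.map (FibCat.fpFst (BasedFunctor.comp s w) f)) hv₁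
  have c₂ := congrArg (Points.map (FibCat.fpFst (BasedFunctor.comp s w) f)) hv₂
  rw [← map_comp_apply, ← map_comp_apply] at c₁ c₂
  exact c₁.trans ((hu₁.trans hu₂.symm).trans c₂.symm)

end

end Groth.Agent.AlgStB
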