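import Groth.Agent.AlgStB.GerbeRetract
import Groth.Agent.AlgStB.GerbeHomeo
import Groth.Agent.AlgStB.LocQRep

/-!
# Sections of gerbes over schemes are flat, locally of finite presentation
-/

set_option autoImplicit false
set_option backward.isDefEq.respectTransparency false
set_option backward.isDefEq.respectTransparency.types false

universe u

open CategoryTheory CategoryTheory.Limits AlgebraicGeometry Opposite

namespace Groth.Agent.AlgStB

open _root_.AlgSt (Points)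
open _root_.AlgSp (Sp Space LocP IsAlgSpace IsSurjectiveMor IsLocalOnBase IsFppfCover yon RepWith)

noncomputable section

variable {S : Scheme.{u}} {𝒳 𝒴 : AlgSt.Cat S}

/-- Two points with isomorphic images are locally isomorphic. -/
theorem exists_sieve_iso (hX : FibCat.IsFibGrpd 𝒳.p) (f : 𝒳 ⥤ᵇ 𝒴)
    (hf : Gerb.LocSurjHom (QuotSh.J Scheme.fppfPrecoverage S) f) {W : Over S}
    (a b : FibCat.overCat W ⥤ᵇ 𝒳) (j : BasedFunctor.comp a f ≅ BasedFunctor.comp b f) :
    ∃ R ∈ (QuotSh.J Scheme.fppfPrecoverage S) W, ∀ ⦃V : Over S⦄ (h : V ⟶ W), R.arrows h →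
      Nonempty (BasedFunctor.comp (AlgSt.overMap h) a ≅ BasedFunctor.comp (AlgSt.overMap h) b) := by
  let o : (FibCat.overCat W).obj := Over.mk (𝟙 W)
  have hA : 𝒳.p.obj (a.obj o) = W := a.w_obj o
  let β : f.obj (a.obj o) ⟶ f.obj (b.obj o) := j.hom.toNatTrans.app o
  have hβ : 𝒴.p.IsHomLift (𝟙 W) β := BasedNatTrans.isHomLift j.hom rfl
  obtain ⟨R, hR, hR'⟩ := hf (a.obj o) (b.obj o) β (by rw [hA]; exact hβ)
  refine ⟨R.pullback (eqToHom hA.symm),
    (QuotSh.J Scheme.fppfPrecoverage S).pullback_stable (eqToHom hA.symm) hR, fun V h hh => ?_⟩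
  obtain ⟨x₀, φ, ψ, hφ, hψ, -⟩ := hR' (h ≫ eqToHom hA.symm) hh
  have : 𝒳.p.IsHomLift h φ := by
    simpa using (inferInstance : 𝒳.p.IsHomLift ((h ≫ eqToHom hA.symm) ≫ eqToHom hA) φ)
  have : 𝒳.p.IsHomLift h ψ := by
    simpa using (inferInstance : 𝒳.p.IsHomLift ((h ≫ eqToHom hA.symm) ≫ eqToHom hA) ψ)
  let o' : (FibCat.overCat V).obj := Over.mk (𝟙 V)
  let m : (AlgSt.overMap h).obj o' ⟶ o := Over.homMk h (by
    change h ≫ 𝟙 W = 𝟙 V ≫ h
    simp)
  have hm : (FibCat.overCat W).p.IsHomLift h m :=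
    IsHomLift.of_fac' _ _ _ rfl rfl (by simp [m]; rfl)
  have : 𝒳.p.IsHomLift h (a.map m) := BasedFunctor.preserves_isHomLift a h m
  have : 𝒳.p.IsHomLift h (b.map m) := BasedFunctor.preserves_isHomLift b h m
  have := Fib.isStronglyCartesian_of_isFibGrpd 𝒳.p hX h φ
  have := Fib.isStronglyCartesian_of_isFibGrpd 𝒳.p hX h ψ
  have := Fib.isStronglyCartesian_of_isFibGrpd 𝒳.p hX h (a.map m)
  have := Fib.isStronglyCartesian_of_isFibGrpd 𝒳.p hX h (b.map m)
  let ι := Functor.IsCartesian.domainUniqueUpToIso 𝒳.p h φ (a.map m) ≪≫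
    (Functor.IsCartesian.domainUniqueUpToIso 𝒳.p h ψ (b.map m)).symm
  obtain ⟨α, -⟩ := Fib.exists_iso_app_id hX (G := BasedFunctor.comp (AlgSt.overMap h) a)
    (H := BasedFunctor.comp (AlgSt.overMap h) b) ι (by
      change 𝒳.p.IsHomLift (𝟙 V)
        ((Functor.IsCartesian.domainUniqueUpToIso 𝒳.p h φ (a.map m)).hom ≫
          (Functor.IsCartesian.domainUniqueUpToIso 𝒳.p h ψ (b.map m)).inv)
      infer_instance)
  exact ⟨α⟩

/-- Composition with `overMap k` on maps of sheaves. -/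
theorem spMapOfOver_comp_overMap {F : Sp S} {V U : Over S}
    (Φ : AlgSt.ofSp F ⥤ᵇ FibCat.overCat V) (k : V ⟶ U) :
    AlgSt.spMapOfOver (BasedFunctor.comp Φ (AlgSt.overMap k)) =
      AlgSt.spMapOfOver Φ ≫ (yon S).map k := by
  rw [spMapOfOver_congr (Fib.isoWhiskerRight (isoOfOver Φ) (AlgSt.overMap k) ≪≫
    Fib.isoWhiskerLeft (AlgSt.ofSpMap (AlgSt.spMapOfOver Φ)) (overMapSquare k).symm)]
  exact spMapOfOver_toOverCat (AlgSt.spMapOfOver Φ ≫ (yon S).map k)

/-- The property of a map to a scheme after composing with a given morphism. -/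
def AfterComp (P : MorphismProperty (Sp S)) {V U : Over S} (k : V ⟶ U) : MorphismProperty (Sp S) :=
  fun _ B m => ∀ h : B = (yon S).obj V, P ((m ≫ eqToHom h) ≫ (yon S).map k)

theorem respectsSrcIso_afterComp {P : MorphismProperty (Sp S)} (hP : RespectsSrcIso P)
    {V U : Over S} (k : V ⟶ U) : RespectsSrcIso (AfterComp P k) := fun A A' B hA hA' _ i m hm h => by
  rw [Category.assoc, Category.assoc]
  simpa using hP hA hA' (IsAlgSpace.yon_obj U) i _ (hm h)

variable {U : Over S}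

theorem section_step (π : 𝒳 ⥤ᵇ FibCat.overCat U)
    (x : FibCat.overCat U ⥤ᵇ 𝒳) (e : BasedFunctor.comp x π ≅ BasedFunctor.id (FibCat.overCat U))
    {G : Space S} (eG : AlgSt.ofSp G.obj ⥤ᵇ FibCat.fp x x) (heG : FibCat.IsEquivOver eG)
    {V W : Over S} (w : FibCat.overCat W ⥤ᵇ 𝒳) (hw : AlgSt.RepByAlgSpWith (LocP @Smooth) w)
    (k : V ⟶ W) [Flat k.left] [LocallyOfFinitePresentation k.left] (j : V ⟶ U)
    (τ : BasedFunctor.comp (AlgSt.overMap k) w ≅ BasedFunctor.comp (AlgSt.overMap j) x) :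
    (Flat j.left ∧ LocallyOfFinitePresentation j.left) ∧
      LocP @Flat (pullback.snd (AlgSt.spMapOfOver (BasedFunctor.comp eG (FibCat.fpFst x x)))
        ((yon S).map j) ≫ (yon S).map j) ∧
      LocP @LocallyOfFinitePresentation
        (pullback.snd (AlgSt.spMapOfOver (BasedFunctor.comp eG (FibCat.fpFst x x)))
        ((yon S).map j) ≫ (yon S).map j) := by
  let jx := BasedFunctor.comp (AlgSt.overMap j) x
  have hV := Fib.isFibGrpd_overCat V
  have hW := Fib.isFibGrpd_overCat W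
  have h₁ : AlgSt.RepByAlgSpWith (LocP @Flat) jx :=
    repByAlgSpWith_of_iso τ (repByAlgSpWith_comp' hV hW respectsSrcIso_locP hc_locP
      (repByAlgSpWith_overMap (P := @Flat) k inferInstance) (flat_lfp_of_smooth hw).1)
  have h₂ : AlgSt.RepByAlgSpWith (LocP @LocallyOfFinitePresentation) jx :=
    repByAlgSpWith_of_iso τ (repByAlgSpWith_comp' hV hW respectsSrcIso_locP hc_locP
      (repByAlgSpWith_overMap (P := @LocallyOfFinitePresentation) k inferInstance)
      (flat_lfp_of_smooth hw).2)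
  obtain ⟨F, e', he', hF₁⟩ := h₁ U x
  obtain ⟨F', e'', he'', hF₂'⟩ := h₂ U x
  have hF₂ : LocP @LocallyOfFinitePresentation
      (AlgSt.spMapOfOver (BasedFunctor.comp e' (FibCat.fpFst x jx))) :=
    (prop_spMap_iff_of_reps _ (FibCat.fpFst x jx) e'' e' he'' he').1 hF₂'
  let e₂ := BasedFunctor.comp e' (Fib.fpSwap x jx)
  have he₂ : FibCat.IsEquivOver e₂ := Fib.isEquivOver_comp he' (Fib.isEquivOver_fpSwap x jx)
  let ψ := AlgSt.spMapOfOver (BasedFunctor.comp e₂ (FibCat.fpFst jx x))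
  let jπ : BasedFunctor.comp jx π ≅ AlgSt.overMap j := Fib.isoWhiskerLeft (AlgSt.overMap j) e
  let θ : FibCat.fpFst x jx ≅ BasedFunctor.comp (FibCat.fpSnd x jx) (AlgSt.overMap j) :=
    Fib.isoWhiskerLeft (FibCat.fpFst x jx) e.symm ≪≫ Fib.isoWhiskerRight (FibCat.fpIso x jx) π ≪≫
      Fib.isoWhiskerLeft (FibCat.fpSnd x jx) jπ
  have hφ : ψ ≫ (yon S).map j = AlgSt.spMapOfOver (BasedFunctor.comp e' (FibCat.fpFst x jx)) := by
    rw [← spMapOfOver_comp_overMap]
    exact spMapOfOver_congr (Fib.isoWhiskerLeft e' θ.symm)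
  have hψ₁ : LocP @Flat (ψ ≫ (yon S).map j) := hφ ▸ hF₁
  have hψ₂ : LocP @LocallyOfFinitePresentation (ψ ≫ (yon S).map j) := hφ ▸ hF₂
  refine ⟨?_, ?_, ?_⟩
  · obtain ⟨g, -, -, ⟨ig⟩⟩ := Fib.exists_quasiInverse he₂
    let σ := FibCat.fpLift (F := jx) (G := x) (BasedFunctor.id (FibCat.overCat V)) (AlgSt.overMap j)
      (Iso.refl jx)
    let σV := BasedFunctor.comp (AlgSt.toOverCat V) (BasedFunctor.comp σ g)
    obtain ⟨s, ⟨is⟩⟩ := exists_ofSpMap (G := F.obj) σV
    refine flat_lfp_of_space_retract F.property ψ s ?_ j hψ₁ hψ₂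
    rw [← spMapOfOver_comp]
    refine (spMapOfOver_congr (Ψ := BasedFunctor.comp (AlgSt.ofSpMap (𝟙 ((yon S).obj V)))
      (AlgSt.toOverCat V)) ?_).trans (spMapOfOver_toOverCat _)
    exact Fib.isoWhiskerRight is.symm (BasedFunctor.comp e₂ (FibCat.fpFst jx x)) ≪≫
      Fib.isoWhiskerLeft (BasedFunctor.comp (AlgSt.toOverCat V) σ)
        (Fib.isoWhiskerRight ig (FibCat.fpFst jx x))
  all_goals
    have hG : IsAlgSpace (pullback (AlgSt.spMapOfOver (BasedFunctor.comp eG (FibCat.fpFst x x)))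
        ((yon S).map j)) :=
      AlgSpc.isAlgSpace_of_isPullback G.property (IsAlgSpace.yon_obj U) (IsAlgSpace.yon_obj V)
        (IsPullback.of_hasPullback _ _)
  · have := prop_snd_of_rep' (Q := AfterComp (LocP @Flat) j)
      (respectsSrcIso_afterComp respectsSrcIso_locP j) x x eG heG j hG
      (IsPullback.of_hasPullback _ _) F.property e₂ he₂ (fun h => by simpa using hψ₁)
    simpa using this rfl
  · have := prop_snd_of_rep' (Q := AfterComp (LocP @LocallyOfFinitePresentation) j)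
      (respectsSrcIso_afterComp respectsSrcIso_locP j) x x eG heG j hG
      (IsPullback.of_hasPullback _ _) F.property e₂ he₂ (fun h => by simpa using hψ₂)
    simpa using this rfl

variable (h𝒳 : AlgSt.IsAlgStack Scheme.fppfPrecoverage 𝒳) (π : 𝒳 ⥤ᵇ FibCat.overCat U)
  (hπ : Gerb.IsGerbeOver (QuotSh.J Scheme.fppfPrecoverage S) π)
  (x : FibCat.overCat U ⥤ᵇ 𝒳) (e : BasedFunctor.comp x π ≅ BasedFunctor.id (FibCat.overCat U))

include h𝒳 hπ e

theorem surjective_map_section : Function.Surjective (Points.map x) := fun z => by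
  refine ⟨Points.map π z, injective_map_of_locSurjHom h𝒳.isStack.1 (Fib.isFibGrpd_overCat U) π hπ.2 ?_⟩
  rw [← map_comp_apply, map_congr e]
  exact map_id_apply _

/-- A chart is covered by lifts through the section. -/
theorem exists_section_cover {W : Over S} (w : FibCat.overCat W ⥤ᵇ 𝒳) (c : W ⟶ U)
    (ic : BasedFunctor.comp w π ≅ AlgSt.overMap c) :
    ∃ (ι : Type u) (V : ι → Over S) (k : ∀ i, V i ⟶ W),
      (∀ i, Flat (k i).left) ∧ (∀ i, LocallyOfFinitePresentation (k i).left) ∧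
      (∀ t : ↥W.left, ∃ i, t ∈ Set.range (k i).left) ∧
      ∀ i, Nonempty (BasedFunctor.comp (AlgSt.overMap (k i)) w ≅
        BasedFunctor.comp (AlgSt.overMap (k i ≫ c)) x) := by
  obtain ⟨R, hR, hR'⟩ := exists_sieve_iso h𝒳.isStack.1 π hπ.2 w
    (BasedFunctor.comp (AlgSt.overMap c) x) (ic ≪≫ (Fib.isoWhiskerLeft (AlgSt.overMap c) e).symm)
  obtain ⟨ι, V, k, hk, hkR⟩ := exists_cover_of_mem_J hR
  refine ⟨ι, V, k, fun i => _root_.AlgSp.locP_yon_map (hk.1 i).1,
    fun i => _root_.AlgSp.locP_yon_map (hk.1 i).2, fun t => ?_, fun i => ?_⟩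
  · obtain ⟨i, p, hp⟩ := hk.2 (_root_.AlgSp.Points.ofScheme W t)
    refine ⟨i, _root_.AlgSp.Points.toScheme (V i) p, ?_⟩
    have := congrArg (_root_.AlgSp.Points.toScheme W) hp
    rwa [_root_.AlgSp.Points.toScheme_ofScheme, ← _root_.AlgSp.Points.ofScheme_toScheme (V i) p,
      _root_.AlgSp.Points.ofScheme, _root_.AlgSp.Points.map_ofPt, Category.id_comp,
      _root_.AlgSp.Points.toScheme_ofPt] at this
  · obtain ⟨α⟩ := hR' (k i) (hkR i)
    exact ⟨α ≪≫ Fib.isoWhiskerRight (overMapComp (k i) c) x⟩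

/-- A smooth chart of a gerbe with a section is flat and finitely presented over the base. -/
theorem flat_lfp_chart_of_section {W : Over S} (w : FibCat.overCat W ⥤ᵇ 𝒳)
    (hw : AlgSt.RepByAlgSpWith (LocP @Smooth) w) (c : W ⟶ U)
    (ic : BasedFunctor.comp w π ≅ AlgSt.overMap c) :
    Flat c.left ∧ LocallyOfFinitePresentation c.left := by
  obtain ⟨ι, V, k, hF, hP, hs, hk⟩ := exists_section_cover h𝒳 π hπ x e w c ic
  obtain ⟨G, eG, heG⟩ := repByAlgSp1_of_diag h𝒳.isStack.1 h𝒳.diag U x U x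
  have key : ∀ i, Flat ((k i).left ≫ c.left) ∧
      LocallyOfFinitePresentation ((k i).left ≫ c.left) := fun i => by
    obtain ⟨τ⟩ := hk i
    have := hF i
    have := hP i
    exact (section_step π x e eG heG w hw (k i) (k i ≫ c) τ).1
  exact flat_lfp_of_cover c.left (fun i => (V i).left) (fun i => (k i).left) hF hP hs
    (fun i => (key i).1) (fun i => (key i).2)

/-- The automorphism group of a section is flat and finitely presented. -/
theorem repByAlgSpWith_fpFst_section :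
    AlgSt.RepByAlgSpWith (LocP @Flat) (FibCat.fpFst x x) ∧
      AlgSt.RepByAlgSpWith (LocP @LocallyOfFinitePresentation) (FibCat.fpFst x x) := by
  obtain ⟨W, w, hw, hws⟩ := h𝒳.atlas
  obtain ⟨c, ⟨ic⟩⟩ := exists_iso_overMap (BasedFunctor.comp w π)
  obtain ⟨ι, V, k, hF, hP, hs, hk⟩ := exists_section_cover h𝒳 π hπ x e w c ic
  obtain ⟨G, eG, heG⟩ := repByAlgSp1_of_diag h𝒳.isStack.1 h𝒳.diag U x U x
  have key := fun i => by
    have := hF i
    have := hP i
    exact section_step π x e eG heG w hw (k i) (k i ≫ c) (hk i).some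
  have hc : Function.Surjective c.left := fun v => by
    obtain ⟨a, ha⟩ := isSurjective_of_repWith (Fib.isFibGrpd_overCat W) h𝒳.isStack.1 w hws
      (Points.map x (schMk U v))
    refine ⟨schPt W a, ?_⟩
    rw [← schPt_map_overMap, ← map_congr ic, map_comp_apply, ha, ← map_comp_apply,
      map_congr e, map_id_apply, schPt_schMk]
  let p := AlgSt.spMapOfOver (BasedFunctor.comp eG (FibCat.fpFst x x))
  obtain ⟨hp₁, hp₂⟩ := locP_flat_lfp_of_cover G.property p V (fun i => k i ≫ c)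
    (fun i => (key i).1.1) (fun i => (key i).1.2) (fun v => by
      obtain ⟨t, rfl⟩ := hc v
      obtain ⟨i, r, rfl⟩ := hs t
      exact ⟨i, r, rfl⟩)
    (fun i => (key i).2.1) (fun i => (key i).2.2)
  have sq : BasedFunctor.comp (AlgSt.ofSpMap p) (AlgSt.toOverCat U) ≅
      BasedFunctor.comp eG (FibCat.fpFst x x) := (isoOfOver _).symm
  exact ⟨(repByAlgSpWith_iff_of_square (FibCat.fpFst x x) (AlgSt.ofSpMap p) eG (AlgSt.toOverCat U)
      heG (isEquivOver_toOverCat U) sq).2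
      (repByAlgSpWith_ofSpMap_of_locP G.property (IsAlgSpace.yon_obj U) p hp₁),
    (repByAlgSpWith_iff_of_square (FibCat.fpFst x x) (AlgSt.ofSpMap p) eG (AlgSt.toOverCat U)
      heG (isEquivOver_toOverCat U) sq).2
      (repByAlgSpWith_ofSpMap_of_locP G.property (IsAlgSpace.yon_obj U) p hp₂)⟩

/-- A section of a gerbe over a scheme is flat, finitely presented and surjective. -/
theorem flat_lfp_surjective_section :
    AlgSt.RepByAlgSpWith (LocP @Flat) x ∧
      AlgSt.RepByAlgSpWith (LocP @LocallyOfFinitePresentation) x ∧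
      AlgSt.RepByAlgSpWith IsSurjectiveMor x := by
  have hr := repByAlgSp1_of_diag h𝒳.isStack.1 h𝒳.diag U x
  have hg : ∀ (T : Over S) (y : FibCat.overCat T ⥤ᵇ 𝒳),
      ∃ R ∈ (QuotSh.J Scheme.fppfPrecoverage S) T, ∀ ⦃V : Over S⦄ (h : V ⟶ T), R.arrows h →
        ∃ z : FibCat.overCat V ⥤ᵇ FibCat.overCat U,
          Nonempty (BasedFunctor.comp z x ≅ BasedFunctor.comp (AlgSt.overMap h) y) := by
    intro T y
    obtain ⟨R, hR, hR'⟩ := exists_sieve_iso h𝒳.isStack.1 π hπ.2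
      (BasedFunctor.comp (BasedFunctor.comp y π) x) y (Fib.isoWhiskerLeft (BasedFunctor.comp y π) e)
    exact ⟨R, hR, fun V h hh => ⟨BasedFunctor.comp (AlgSt.overMap h) (BasedFunctor.comp y π),
      hR' h hh⟩⟩
  obtain ⟨h₁, h₂⟩ := repByAlgSpWith_fpFst_section h𝒳 π hπ x e
  refine ⟨repByAlgSpWith_of_sieves respectsSrcIso_locP
      (isLocalOnBase_fppf_of_fpqc AlgSpLoc.isLocalOnBase_flat) x hr x hg h₁,
    repByAlgSpWith_of_sieves respectsSrcIso_locP
      (isLocalOnBase_fppf_of_fpqc AlgSpLoc.isLocalOnBase_lfp) x hr x hg h₂,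
    repWith_surjective_of_isSurjective (Fib.isFibGrpd_overCat U) h𝒳.isStack.1 x hr
      (surjective_map_section h𝒳 π hπ x e)⟩

end

end Groth.Agent.AlgStB
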