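import Groth.Agent.AlgStB.GerbeFlat
import Groth.Agent.AlgSpLoc.DescendMor
import Groth.Agent.AlgSpLoc.Inst2

/-!
# Gerbes are smooth
-/

set_option autoImplicit false
set_option backward.isDefEq.respectTransparency false
set_option backward.isDefEq.respectTransparency.types false

universe u

open CategoryTheory CategoryTheory.Limits AlgebraicGeometry Opposite

namespace Groth.Agent.AlgStB

open _root_.AlgSt (Points)
open _root_.AlgSp (Sp Space LocP IsAlgSpace IsSurjectiveMor IsLocalOnBase IsFppfCover yon RepWith)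

noncomputable section

variable {S : Scheme.{u}} {𝒳 𝒴 : AlgSt.Cat S}

/-- A smooth chart of a gerbe with a section is smooth over the base. -/
theorem smooth_chart_of_section {U : Over S} (h𝒳 : AlgSt.IsAlgStack Scheme.fppfPrecoverage 𝒳)
    (π : 𝒳 ⥤ᵇ FibCat.overCat U) (hπ : Gerb.IsGerbeOver (QuotSh.J Scheme.fppfPrecoverage S) π)
    (x : FibCat.overCat U ⥤ᵇ 𝒳) (e : BasedFunctor.comp x π ≅ BasedFunctor.id (FibCat.overCat U))
    {W : Over S} (w : FibCat.overCat W ⥤ᵇ 𝒳) (hw : AlgSt.RepByAlgSpWith (LocP @Smooth) w)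
    (c : W ⟶ U) (ic : BasedFunctor.comp w π ≅ AlgSt.overMap c) : Smooth c.left := by
  obtain ⟨hf, hp, hs⟩ := flat_lfp_surjective_section h𝒳 π hπ x e
  obtain ⟨P, eP, heP, hP₁⟩ := hf W w
  obtain ⟨P₂, e₂, he₂, hP₂⟩ := hp W w
  obtain ⟨P₃, e₃, he₃, hP₃⟩ := hs W w
  obtain ⟨P₄, e₄, he₄, hP₄⟩ := hw U x
  have hP₂' := (prop_spMap_iff_of_reps _ (FibCat.fpFst w x) e₂ eP he₂ heP).1 hP₂
  have hP₃' := (prop_spMap_iff_of_reps _ (FibCat.fpFst w x) e₃ eP he₃ heP).1 hP₃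
  let e₅ := BasedFunctor.comp eP (Fib.fpSwap w x)
  have he₅ : FibCat.IsEquivOver e₅ := Fib.isEquivOver_comp heP (Fib.isEquivOver_fpSwap w x)
  have hP₄' : LocP @Smooth (AlgSt.spMapOfOver (BasedFunctor.comp e₅ (FibCat.fpFst x w))) :=
    (prop_spMap_iff_of_reps _ (FibCat.fpFst x w) e₄ e₅ he₄ he₅).1 hP₄
  let θ : BasedFunctor.comp (FibCat.fpFst w x) (AlgSt.overMap c) ≅ FibCat.fpSnd w x :=
    Fib.isoWhiskerLeft (FibCat.fpFst w x) ic.symm ≪≫ Fib.isoWhiskerRight (FibCat.fpIso w x) π ≪≫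
      Fib.isoWhiskerLeft (FibCat.fpSnd w x) e
  have hq : AlgSt.spMapOfOver (BasedFunctor.comp eP (FibCat.fpFst w x)) ≫ (yon S).map c =
      AlgSt.spMapOfOver (BasedFunctor.comp e₅ (FibCat.fpFst x w)) := by
    rw [← spMapOfOver_comp_overMap]
    exact spMapOfOver_congr (Fib.isoWhiskerLeft eP θ)
  exact AlgSp.locP_yon_map (AlgSpLoc.smooth_of_fppf_comp P.property (IsAlgSpace.yon_obj W)
    (IsAlgSpace.yon_obj U) hP₃' (AlgSpc.locP_inf.2 ⟨hP₁, hP₂'⟩) (hq ▸ hP₄'))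

/-- A gerbe over a scheme is smooth on charts. -/
theorem smooth_chart_of_gerbe {U : Over S} (h𝒳 : AlgSt.IsAlgStack Scheme.fppfPrecoverage 𝒳)
    (π : 𝒳 ⥤ᵇ FibCat.overCat U) (hπ : Gerb.IsGerbeOver (QuotSh.J Scheme.fppfPrecoverage S) π)
    {W : Over S} (w : FibCat.overCat W ⥤ᵇ 𝒳) (hw : SmSurj w) (c : W ⟶ U)
    (ic : BasedFunctor.comp w π ≅ AlgSt.overMap c) :
    Smooth c.left := by
  let o : (FibCat.overCat U).obj := Over.mk (𝟙 U)
  have hU := Fib.isFibGrpd_overCat U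
  obtain ⟨R, hR, hR'⟩ := hπ.1 o
  obtain ⟨ι, V, k, hk, hkR⟩ := exists_cover_of_mem_J (U := U) hR
  have hkF : ∀ i, Flat (k i).left := fun i => _root_.AlgSp.locP_yon_map (hk.1 i).1
  have hkP : ∀ i, LocallyOfFinitePresentation (k i).left := fun i =>
    _root_.AlgSp.locP_yon_map (hk.1 i).2
  have hks : ∀ v : ↥U.left, ∃ i, v ∈ Set.range (k i).left := fun v => by
    obtain ⟨i, p, hp⟩ := hk.2 (_root_.AlgSp.Points.ofScheme U v)
    refine ⟨i, _root_.AlgSp.Points.toScheme (V i) p, ?_⟩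
    have := congrArg (_root_.AlgSp.Points.toScheme U) hp
    rwa [_root_.AlgSp.Points.toScheme_ofScheme, ← _root_.AlgSp.Points.ofScheme_toScheme (V i) p,
      _root_.AlgSp.Points.ofScheme, _root_.AlgSp.Points.map_ofPt, Category.id_comp,
      _root_.AlgSp.Points.toScheme_ofPt] at this
  have hz : ∀ i, ∃ z : FibCat.overCat (V i) ⥤ᵇ 𝒳,
      Nonempty (BasedFunctor.comp z π ≅ AlgSt.overMap (k i)) := by
    intro i
    obtain ⟨a, g, hg⟩ := hR' (k i) (hkR i)
    have ha : 𝒳.p.obj a = V i := (π.w_obj a).symm.trans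
      (IsHomLift.domain_eq (FibCat.overCat U).p (k i) g)
    have := Fib.isFibered_of_isFibGrpd _ h𝒳.isStack.1
    obtain ⟨z, -, ez, hez⟩ := Fib.exists_basedFunctor (U := V i) ⟨a, ha⟩
    have : (FibCat.overCat U).p.IsHomLift (𝟙 (V i)) (π.map ez.hom) :=
      BasedFunctor.preserves_isHomLift π _ _
    have h₁ : (FibCat.overCat U).p.IsHomLift (k i) (π.map ez.hom ≫ g) := by
      simpa using (inferInstance :
        (FibCat.overCat U).p.IsHomLift (𝟙 (V i) ≫ k i) (π.map ez.hom ≫ g))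
    let m : (AlgSt.overMap (k i)).obj (Over.mk (𝟙 (V i))) ⟶ o := Over.homMk (k i) (by
      change k i ≫ 𝟙 U = 𝟙 (V i) ≫ k i
      simp)
    have hm : (FibCat.overCat U).p.IsHomLift (k i) m :=
      IsHomLift.of_fac' _ _ _ rfl rfl (by simp [m]; rfl)
    have := Fib.isStronglyCartesian_of_isFibGrpd _ hU (k i) (π.map ez.hom ≫ g)
    have := Fib.isStronglyCartesian_of_isFibGrpd _ hU (k i) m
    obtain ⟨α, -⟩ := Fib.exists_iso_app_id hU (G := BasedFunctor.comp z π)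
      (H := AlgSt.overMap (k i))
      (Functor.IsCartesian.domainUniqueUpToIso (FibCat.overCat U).p (k i) m (π.map ez.hom ≫ g))
      inferInstance
    exact ⟨z, ⟨α⟩⟩
  choose z hz using hz
  have := Fib.full_of_isEquivOver (isEquivOver_toOverCat U)
  have key : ∀ i, Smooth (pullback.snd c (k i)).left := by
    intro i
    obtain ⟨iz⟩ := hz i
    have hV := isAlgStack_overCat (V i)
    have hQ := isAlgStack_fp (isAlgStack_overCat U).isStack (isAlgStack_overCat U).diag hV h𝒳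
      (AlgSt.overMap (k i)) π
    have hπi := GerbA.isGerbeOver_fpFst (QuotSh.J Scheme.fppfPrecoverage S) π
      (AlgSt.overMap (k i)) hV.isStack.1 hU hπ
    let xi := FibCat.fpLift (F := AlgSt.overMap (k i)) (G := π) (BasedFunctor.id _) (z i) iz.symm
    obtain ⟨L, hL, ⟨i₁⟩, ⟨i₂⟩⟩ := exists_equivOver_overPullback
      (IsPullback.of_hasPullback c (k i)).flip
    let B : FibCat.fp (AlgSt.overMap (k i)) (AlgSt.overMap c) ⥤ᵇ
        FibCat.fp (AlgSt.overMap (k i)) π :=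
      FibCat.fpLift (FibCat.fpFst _ _) (BasedFunctor.comp (FibCat.fpSnd _ _) w)
        (FibCat.fpIso (AlgSt.overMap (k i)) (AlgSt.overMap c) ≪≫
          Fib.isoWhiskerLeft (FibCat.fpSnd _ _) ic.symm)
    have hB : SmSurj B := smSurj_baseChangeLift (AlgSt.overMap (k i)) π hw ic
    have hwi : AlgSt.RepByAlgSpWith (LocP @Smooth) (BasedFunctor.comp L B) :=
      (SmSurj.comp (Fib.isFibGrpd_overCat _) (Fib.isFibGrpd_fp _ _ hV.isStack.1
        (Fib.isFibGrpd_overCat W) hU) (smSurj_of_isEquivOver L hL) hB).1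
    exact smooth_chart_of_section hQ _ hπi xi (Iso.refl _) (BasedFunctor.comp L B) hwi
      (pullback.snd c (k i)) i₁
  exact AlgSp.locP_yon_map ((isLocalOnBase_fppf_of_fpqc AlgSpLoc.isLocalOnBase_smooth
    (fun i => (yon S).obj (V i)) (fun i => (yon S).map (k i)) (IsAlgSpace.yon_obj U)
    (fun i => IsAlgSpace.yon_obj (V i)) hk ((yon S).map c) (IsAlgSpace.yon_obj W)
    (fun i => (yon S).obj (pullback c (k i))) (fun i => (yon S).map (pullback.snd c (k i)))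
    (fun i => (yon S).map (pullback.fst c (k i))) (fun i => IsAlgSpace.yon_obj _)
    (fun i => (IsPullback.of_hasPullback c (k i)).map (yon S))).2 fun i => locP_yon_of (key i))

/-- Gerbes are smooth. -/
theorem locQ_smooth_of_gerbe (h𝒳 : AlgSt.IsAlgStack Scheme.fppfPrecoverage 𝒳)
    (h𝒴 : AlgSt.IsAlgStack Scheme.fppfPrecoverage 𝒴) (f : 𝒳 ⥤ᵇ 𝒴)
    (hf : Gerb.IsGerbeOver (QuotSh.J Scheme.fppfPrecoverage S) f) :
    AlgSt.LocQ (LocP @Smooth) f := by
  obtain ⟨V, y, hy, hys⟩ := h𝒴.atlas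
  have hV := isAlgStack_overCat V
  have hQ := isAlgStack_fp h𝒴.isStack h𝒴.diag hV h𝒳 y f
  have hπ := GerbA.isGerbeOver_fpFst (QuotSh.J Scheme.fppfPrecoverage S) f y hV.isStack.1
    h𝒴.isStack.1 hf
  obtain ⟨W, w, hw, hws⟩ := hQ.atlas
  obtain ⟨c, ⟨ic⟩⟩ := exists_iso_overMap (BasedFunctor.comp w (FibCat.fpFst y f))
  have h₁ := smooth_chart_of_gerbe hQ _ hπ w ⟨hw, hws⟩ c ic
  let x := BasedFunctor.comp w (FibCat.fpSnd y f)
  let α : BasedFunctor.comp x f ≅ BasedFunctor.comp (AlgSt.overMap c) y :=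
    Fib.isoWhiskerLeft w (FibCat.fpIso y f).symm ≪≫ Fib.isoWhiskerRight ic y
  have hx := SmSurj.comp (Fib.isFibGrpd_overCat W) hQ.isStack.1 (f := w) ⟨hw, hws⟩
    (SmSurj.fpSnd f (f := y) ⟨hy, hys⟩)
  exact ⟨W, V, x, y, c, α, hx.1, hx.2, hy, locP_yon_of h₁⟩

end

end Groth.Agent.AlgStB
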