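import Groth.Agent.AlgStB.LiftSet

/-!
# Quasi-compactness of monomorphisms by lifting over dense sets
-/

set_option autoImplicit false
set_option backward.isDefEq.respectTransparency false
set_option backward.isDefEq.respectTransparency.types false

universe u

open CategoryTheory CategoryTheory.Limits AlgebraicGeometry Opposite TopologicalSpace

namespace Groth.Agent.AlgStB

open _root_.AlgSt (FPt Points)
open _root_.AlgSp (Sp LocP IsAlgSpace IsSurjectiveMor IsQuasiCompactMor yon RepWith)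

noncomputable section

variable {S : Scheme.{u}} {𝒳 𝒴 : AlgSt.Cat S}

/-- Lifts over a dense set of points of an integral affine scheme spread to a nonempty open. -/
def DenseLifts (f : 𝒴 ⥤ᵇ 𝒳) : Prop :=
  ∀ (A : Type u) [CommRing A] [IsDomain A] (sA : Spec (CommRingCat.of A) ⟶ S)
    (a : FibCat.overCat (Over.mk sA : Over S) ⥤ᵇ 𝒳) (D : Set ↥(Spec (CommRingCat.of A))), Dense D →
    (∀ p ∈ D, Lifts f a (Over.homMk ((Spec (CommRingCat.of A)).fromSpecResidueField p) rfl :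
      Over.mk ((Spec (CommRingCat.of A)).fromSpecResidueField p ≫ sA) ⟶ Over.mk sA)) →
    ∃ U : (Spec (CommRingCat.of A)).Opens, (U : Set ↥(Spec (CommRingCat.of A))).Nonempty ∧
      Lifts f a (Over.homMk U.ι rfl : Over.mk (U.ι ≫ sA) ⟶ Over.mk sA)

variable {f : 𝒴 ⥤ᵇ 𝒳}

theorem liftCovered_of_noetherian (h𝒳 : AlgSt.IsAlgStack Scheme.fppfPrecoverage 𝒳)
    (h𝒴 : AlgSt.IsAlgStack Scheme.fppfPrecoverage 𝒴) (hf : AlgSt.IsMono f)
    (hlfp : AlgSt.RepByAlgSpWith (LocP @LocallyOfFinitePresentation) f) (hc : DenseLifts f)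
    (R : CommRingCat.{u}) [IsNoetherianRing R] (s : Spec R ⟶ S)
    (v : FibCat.overCat (Over.mk s : Over S) ⥤ᵇ 𝒳) : LiftCovered f v (liftSet f v) := by
  have : NoetherianSpace ↥(Spec R) := inferInstanceAs (NoetherianSpace (PrimeSpectrum R))
  let E : Set ↥(Spec R) := liftSet f v
  suffices H : ∀ C : Closeds ↥(Spec R), LiftCovered f v (E ∩ (C : Set ↥(Spec R))) by
    have := H ⊤
    rwa [Closeds.coe_top, Set.inter_univ] at this
  intro C
  induction C using (wellFounded_lt (α := Closeds ↥(Spec R))).induction with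
  | _ C ih =>
  by_cases hd : (C : Set ↥(Spec R)) ⊆ closure (E ∩ C)
  swap
  · refine (ih ⟨closure (E ∩ C), isClosed_closure⟩ ?_).mono
      fun z hz => ⟨hz.1, subset_closure hz⟩
    refine lt_of_le_of_ne (fun z hz => ?_) fun he => hd (le_of_eq (congrArg SetLike.coe he).symm)
    exact closure_minimal Set.inter_subset_right C.isClosed hz
  by_cases hC : IsIrreducible (C : Set ↥(Spec R))
  swap
  · by_cases hne : (C : Set ↥(Spec R)).Nonempty
    swap
    · exact (LiftCovered.mono (B := ∅) ⟨∅, Set.finite_empty, by simp, by simp⟩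
        fun z hz => (hne ⟨z, hz.2⟩).elim)
    have hC' : ¬ IsPreirreducible (C : Set ↥(Spec R)) := fun h => hC ⟨hne, h⟩
    rw [isPreirreducible_iff_isClosed_union_isClosed] at hC'
    push Not at hC'
    obtain ⟨z₁, z₂, h₁, h₂, hu, hn₁, hn₂⟩ := hC'
    have aux : ∀ z : Set ↥(Spec R), IsClosed z → ¬ (C : Set ↥(Spec R)) ⊆ z →
        LiftCovered f v (E ∩ ((C : Set ↥(Spec R)) ∩ z)) := fun z hz hn =>
      ih ⟨(C : Set ↥(Spec R)) ∩ z, C.isClosed.inter hz⟩
        (lt_of_le_of_ne (fun a ha => ha.1) fun he => hn fun a ha => by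
          rw [← congrArg SetLike.coe he] at ha
          exact ha.2)
    exact ((aux z₁ h₁ hn₁).union (aux z₂ h₂ hn₂)).mono fun a ha =>
      (hu ha.2).elim (fun h => Or.inl ⟨ha.1, ha.2, h⟩) fun h => Or.inr ⟨ha.1, ha.2, h⟩
  obtain ⟨x, hx⟩ : ∃ x : PrimeSpectrum R, closure {x} = (C : Set ↥(Spec R)) :=
    QuasiSober.sober hC C.isClosed
  let A : Type u := R ⧸ x.asIdeal
  let π : R ⟶ CommRingCat.of A := CommRingCat.ofHom (Ideal.Quotient.mk x.asIdeal)
  let sA : Spec (CommRingCat.of A) ⟶ S := Spec.map π ≫ s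
  let k : (Over.mk sA : Over S) ⟶ Over.mk s := Over.homMk (Spec.map π) rfl
  have hk : Topology.IsClosedEmbedding (k.left : ↥(Spec (CommRingCat.of A)) → ↥(Spec R)) :=
    PrimeSpectrum.isClosedEmbedding_comap_of_surjective _ _ Ideal.Quotient.mk_surjective
  have hrange : Set.range (k.left : ↥(Spec (CommRingCat.of A)) → ↥(Spec R)) = (C : Set ↥(Spec R)) := by
    change Set.range (PrimeSpectrum.comap (Ideal.Quotient.mk x.asIdeal)) = _
    rw [range_comap_of_surjective _ _ Ideal.Quotient.mk_surjective, Ideal.mk_ker,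
      ← PrimeSpectrum.closure_singleton, hx]
  let a := BasedFunctor.comp (AlgSt.overMap k) v
  have hD : liftSet f a = k.left ⁻¹' E := liftSet_eq_preimage h𝒳 h𝒴 k (Iso.refl a)
  have hdense : Dense (liftSet f a) := by
    intro z
    rw [hD, hk.isInducing.closure_eq_preimage_closure_image, Set.image_preimage_eq_inter_range,
      hrange]
    exact hd (hrange.subset (Set.mem_range_self z))
  obtain ⟨O, hO, hOl⟩ := hc A sA a (liftSet f a) hdense
    fun p hp => lifts_fromSpecResidueField h𝒳 h𝒴 hf hlfp a hp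
  have : IsNoetherianRing A := inferInstanceAs (IsNoetherianRing (R ⧸ x.asIdeal))
  have : NoetherianSpace ↥(Spec (CommRingCat.of A)) :=
    inferInstanceAs (NoetherianSpace (PrimeSpectrum A))
  have : CompactSpace ↥(O : Scheme.{u}) :=
    isCompact_iff_compactSpace.1 (NoetherianSpace.isCompact (O : Set ↥(Spec (CommRingCat.of A))))
  let j : (Over.mk (O.ι ≫ sA) : Over S) ⟶ Over.mk sA := Over.homMk O.ι rfl
  have : CompactSpace ↥(Over.mk (O.ι ≫ sA) : Over S).left :=
    inferInstanceAs (CompactSpace ↥(O : Scheme.{u}))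
  have h₁ : LiftCovered f v (k.left '' Set.range j.left) :=
    (LiftCovered.of_lifts j hOl).map k (Iso.refl a)
  let C' : Closeds ↥(Spec R) := ⟨k.left '' (O : Set ↥(Spec (CommRingCat.of A)))ᶜ,
    hk.isClosedMap _ O.isOpen.isClosed_compl⟩
  have hC' : C' < C := by
    refine lt_of_le_of_ne ?_ ?_
    · rintro _ ⟨z, -, rfl⟩
      exact hrange.subset (Set.mem_range_self z)
    · intro he
      obtain ⟨z, hz⟩ := hO
      have : k.left z ∈ (C' : Set ↥(Spec R)) := by rw [he]; exact hrange.subset (Set.mem_range_self z)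
      obtain ⟨z', hz', hzz⟩ := this
      exact hz' (hk.injective hzz ▸ hz)
  refine (h₁.union (ih C' hC')).mono fun z hz => ?_
  obtain ⟨z', rfl⟩ : z ∈ Set.range k.left := by rw [hrange]; exact hz.2
  by_cases hz' : z' ∈ O
  · exact Or.inl ⟨z', ⟨⟨z', hz'⟩, rfl⟩, rfl⟩
  · exact Or.inr ⟨hz.1, z', hz', rfl⟩

theorem liftCovered_of_affine (h𝒳 : AlgSt.IsAlgStack Scheme.fppfPrecoverage 𝒳)
    (h𝒴 : AlgSt.IsAlgStack Scheme.fppfPrecoverage 𝒴) (hf : AlgSt.IsMono f)
    (hlfp : AlgSt.RepByAlgSpWith (LocP @LocallyOfFinitePresentation) f) (hc : DenseLifts f)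
    (hnoeth : AlgSt.SmoothLocally (fun X => IsLocallyNoetherian X) 𝒳)
    (U : Over S) [IsAffine U.left] (y : FibCat.overCat U ⥤ᵇ 𝒳) :
    LiftCovered f y (liftSet f y) := by
  obtain ⟨X, x, hx, hxs⟩ := h𝒳.atlas
  have : IsLocallyNoetherian X.left := hnoeth X x hx
  obtain ⟨T, k, τ, ⟨i⟩, -, hP, hs⟩ := exists_cover_point (Fib.isFibGrpd_overCat X) h𝒳.isStack.1 x
    (repByAlgSp1_of_with hx) y
  obtain ⟨m, ⟨jm⟩⟩ := exists_iso_overMap τ
  have : Smooth k.left := hP _ hx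
  have hopen : IsOpenMap (k.left : ↥T.left → ↥U.left) := k.left.isOpenMap
  have hcov : ∀ u : ↥U.left, ∃ (W : T.left.Opens) (V : X.left.Opens), IsAffineOpen W ∧
      IsAffineOpen V ∧ (W : Set ↥T.left) ⊆ m.left ⁻¹' (V : Set ↥X.left) ∧
      u ∈ k.left '' (W : Set ↥T.left) := fun u => by
    obtain ⟨t, rfl⟩ := hs hxs u
    obtain ⟨_, ⟨V, hV, rfl⟩, htV, -⟩ :=
      X.left.isBasis_affineOpens.exists_subset_of_mem_open (Set.mem_univ (m.left t)) isOpen_univ
    obtain ⟨_, ⟨W, hW, rfl⟩, htW, hWV⟩ := T.left.isBasis_affineOpens.exists_subset_of_mem_open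
      (show t ∈ m.left ⁻¹' (V : Set ↥X.left) from htV) (V.isOpen.preimage m.left.continuous)
    exact ⟨W, V, hW, hV, hWV, t, htW, rfl⟩
  choose W V hW hV hWV hu using hcov
  obtain ⟨F, hF⟩ := (isCompact_univ (X := ↥U.left)).elim_finite_subcover
    (fun u => k.left '' (W u : Set ↥T.left)) (fun u => hopen _ (W u).isOpen)
    fun u _ => Set.mem_iUnion.2 ⟨u, hu u⟩
  refine (LiftCovered.biUnion F (fun u => k.left '' (W u : Set ↥T.left) ∩ liftSet f y)
    fun u _ => ?_).mono fun z hz => ?_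
  swap
  · obtain ⟨u, hu', hz'⟩ := Set.mem_iUnion₂.1 (hF (Set.mem_univ z))
    exact Set.mem_iUnion₂.2 ⟨u, hu', hz', hz⟩
  let O := W u
  let sV : Spec Γ(X.left, V u) ⟶ S := (hV u).fromSpec ≫ X.hom
  let eV : (Over.mk sV : Over S) ⟶ X := Over.homMk (hV u).fromSpec rfl
  let T' : Over S := Over.mk (O.ι ≫ T.hom)
  let jT : T' ⟶ T := Over.homMk O.ι rfl
  have hrange : Set.range (O.ι ≫ m.left) ⊆ Set.range (hV u).fromSpec := by
    rw [(hV u).range_fromSpec]
    rintro _ ⟨t, rfl⟩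
    exact hWV u t.2
  let m' : T' ⟶ Over.mk sV := Over.homMk (IsOpenImmersion.lift (hV u).fromSpec (O.ι ≫ m.left) hrange) (by
    change IsOpenImmersion.lift _ _ hrange ≫ (hV u).fromSpec ≫ X.hom = O.ι ≫ T.hom
    rw [IsOpenImmersion.lift_fac_assoc, Category.assoc, Over.w m])
  have hm' : m' ≫ eV = jT ≫ m :=
    Over.OverMorphism.ext (IsOpenImmersion.lift_fac (hV u).fromSpec (O.ι ≫ m.left) hrange)
  have : IsNoetherianRing Γ(X.left, V u) :=
    IsLocallyNoetherian.component_noetherian ⟨V u, hV u⟩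
  have h₀ := liftCovered_of_noetherian h𝒳 h𝒴 hf hlfp hc Γ(X.left, V u) sV
    (BasedFunctor.comp (AlgSt.overMap eV) x)
  let y' := BasedFunctor.comp (AlgSt.overMap (jT ≫ k)) y
  let i' : y' ≅ BasedFunctor.comp (AlgSt.overMap m') (BasedFunctor.comp (AlgSt.overMap eV) x) :=
    Fib.isoWhiskerRight (overMapComp jT k).symm y ≪≫ Fib.isoWhiskerLeft (AlgSt.overMap jT) i.symm ≪≫
      Fib.isoWhiskerLeft (AlgSt.overMap jT) (Fib.isoWhiskerRight jm x) ≪≫
      Fib.isoWhiskerRight (overMapComp jT m ≪≫ eqToIso (congrArg AlgSt.overMap hm'.symm) ≪≫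
        (overMapComp m' eV).symm) x
  have : IsAffine T'.left := hW u
  have : QuasiSeparatedSpace ↥(Over.mk sV : Over S).left :=
    inferInstanceAs (QuasiSeparatedSpace ↥(Spec Γ(X.left, V u)))
  have h₁ := h₀.comap m' i'
  rw [← liftSet_eq_preimage h𝒳 h𝒴 m' i', liftSet_eq_preimage h𝒳 h𝒴 (jT ≫ k) (Iso.refl y')] at h₁
  refine (h₁.map (jT ≫ k) (Iso.refl y')).mono ?_
  rintro z ⟨⟨t, ht, rfl⟩, hz⟩
  exact ⟨(⟨t, ht⟩ : ↥(O : Scheme.{u})), hz, rfl⟩

/-- A monomorphism, locally of finite presentation, to a locally Noetherian stack is quasi-compact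
if lifts over dense sets spread to nonempty opens. -/
theorem repByAlgSpWith_isQuasiCompactMor_of_denseLifts
    (h𝒳 : AlgSt.IsAlgStack Scheme.fppfPrecoverage 𝒳)
    (h𝒴 : AlgSt.IsAlgStack Scheme.fppfPrecoverage 𝒴) (hf : AlgSt.IsMono f)
    (hlfp : AlgSt.RepByAlgSpWith (LocP @LocallyOfFinitePresentation) f) (hc : DenseLifts f)
    (hnoeth : AlgSt.SmoothLocally (fun X => IsLocallyNoetherian X) 𝒳) :
    AlgSt.RepByAlgSpWith IsQuasiCompactMor f := by
  refine rep_of_isQuasiCompactMor f (repByAlgSp1_of_with hf) ?_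
  intro 𝒵 h𝒵 ⟨U, z, hU, hz, hzs⟩ g
  have hP := isAlgStack_fp h𝒳.isStack h𝒳.diag h𝒵 h𝒴 g f
  have := compactSpace_fp_of_liftCovered h𝒳 h𝒴 hf (BasedFunctor.comp z g)
    (liftCovered_of_affine h𝒳 h𝒴 hf hlfp hc hnoeth U _)
  refine (isQuasiCompact_iff hP).2 ?_
  obtain ⟨b, hb, -, -⟩ := Fib.exists_quasiInverse (Fib.isEquivOver_fpBC z g f)
  refine compactSpace_of_isSurjective hP
    (BasedFunctor.comp b (FibCat.fpSnd z (FibCat.fpFst g f))) fun w => ?_
  obtain ⟨v, rfl⟩ := isSurjective_fpSnd hP.isStack.1 h𝒵.isStack.1 (Fib.isFibGrpd_overCat U)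
    (FibCat.fpFst g f) z (isSurjective_of_repWith (Fib.isFibGrpd_overCat U) h𝒵.isStack.1 z hzs) w
  obtain ⟨v', rfl⟩ := (bijective_map b hb).2 v
  exact ⟨v', map_comp_apply _ _ _⟩

end

end Groth.Agent.AlgStB
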