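import Groth.Agent.AlgStB.Points
import Groth.Agent.AlgStB.DiagSep

/-!
# Monomorphisms on points
-/

set_option autoImplicit false
set_option backward.isDefEq.respectTransparency false
set_option backward.isDefEq.respectTransparency.types false

universe u

open CategoryTheory CategoryTheory.Limits AlgebraicGeometry Opposite

namespace Groth.Agent.AlgStB

open _root_.AlgSt (FPt Points)

variable {S : Scheme.{u}}

theorem injective_map_of_full {𝒳 𝒴 : AlgSt.Cat S} (h𝒳 : FibCat.IsFibGrpd 𝒳.p)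
    (h𝒴 : FibCat.IsFibGrpd 𝒴.p) (f : 𝒳 ⥤ᵇ 𝒴) (hfull : f.toFunctor.Full) :
    Function.Injective (Points.map f) := by
  intro a b h
  obtain ⟨p, rfl⟩ := Points.mk_surjective a
  obtain ⟨q, rfl⟩ := Points.mk_surjective b
  obtain ⟨r, α, β, -⟩ := rel_of_mk_eq h𝒴 (p := p.map f) (q := q.map f) h
  obtain ⟨a', φ, ha, hφ⟩ := exists_restrict h𝒳 p (fptBase (p := p.map f) α)
  obtain ⟨b', ψ, hb, hψ⟩ := exists_restrict h𝒳 q (fptBase (p := q.map f) β)
  have := Fib.isStronglyCartesian_of_isFibGrpd 𝒴.p h𝒴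
    (fptBase (p := p.map f) α) (f.map φ)
  have := Fib.isStronglyCartesian_of_isFibGrpd 𝒴.p h𝒴
    (fptBase (p := q.map f) β) (f.map ψ)
  let θ₁ := Functor.IsCartesian.map 𝒴.p (fptBase (p := p.map f) α) (f.map φ) α
  let θ₂ := Functor.IsCartesian.map 𝒴.p (fptBase (p := q.map f) β) (f.map ψ) β
  have : IsIso θ₁ := Fib.isIso_of_isHomLift 𝒴.p h𝒴 (𝟙 (Over.mk r.str)) θ₁
  obtain ⟨γ, -⟩ := f.toFunctor.map_surjective (inv θ₁ ≫ θ₂)
  exact Points.sound ⟨⟨r.K, r.str, a', ha⟩, φ, γ ≫ ψ, trivial⟩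

theorem injective_map_of_isMono {𝒳 𝒴 : AlgSt.Cat S} (h𝒳 : FibCat.IsFibGrpd 𝒳.p)
    (h𝒴 : FibCat.IsFibGrpd 𝒴.p) (f : 𝒳 ⥤ᵇ 𝒴) (hf : AlgSt.IsMono f) :
    Function.Injective (Points.map f) :=
  injective_map_of_full h𝒳 h𝒴 f (full_faithful_of_isMono h𝒳 h𝒴 f hf).1

end Groth.Agent.AlgStB
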