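import Groth.Agent.AlgStB.PointsQC
import Groth.Agent.AlgStB.PointsMono
import Groth.Agent.AlgStB.CoverDescent
import Groth.Agent.AlgStB.SmoothLocal
import Groth.Agent.AlgSpc.LocSurj

/-!
# The set of points of a chart over which a monomorphism lifts

For `f : 𝒴 ⟶ 𝒳` and a chart `y : U ⟶ 𝒳`, `liftSet f y` is the image of `U ×_𝒳 𝒴` in `U`.
-/

set_option autoImplicit false
set_option backward.isDefEq.respectTransparency false
set_option backward.isDefEq.respectTransparency.types false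

universe u

open CategoryTheory CategoryTheory.Limits AlgebraicGeometry Opposite TopologicalSpace

namespace Groth.Agent.AlgStB

open _root_.AlgSt (FPt Points)
open _root_.AlgSp (Sp LocP IsAlgSpace IsSurjectiveMor IsQuasiCompactMor yon RepWith)

noncomputable section

variable {S : Scheme.{u}} {𝒳 𝒴 : AlgSt.Cat S}

/-- The points of `U` over which some field-valued point lifts along `f`. -/
def liftSet (f : 𝒴 ⥤ᵇ 𝒳) {U : Over S} (y : FibCat.overCat U ⥤ᵇ 𝒳) : Set ↥U.left :=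
  Set.range fun z => schPt U (Points.map (FibCat.fpFst y f) z)

/-- A morphism to `U` along which the chart lifts. -/
def Lifts (f : 𝒴 ⥤ᵇ 𝒳) {U P : Over S} (y : FibCat.overCat U ⥤ᵇ 𝒳) (p : P ⟶ U) : Prop :=
  ∃ q : FibCat.overCat P ⥤ᵇ 𝒴,
    Nonempty (BasedFunctor.comp q f ≅ BasedFunctor.comp (AlgSt.overMap p) y)

/-- `A` is covered by finitely many quasi-compact schemes along which the chart lifts. -/
def LiftCovered (f : 𝒴 ⥤ᵇ 𝒳) {U : Over S} (y : FibCat.overCat U ⥤ᵇ 𝒳) (A : Set ↥U.left) : Prop :=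
  ∃ s : Set (Set ↥U.left), s.Finite ∧ A ⊆ ⋃₀ s ∧ ∀ R ∈ s, ∃ (P : Over S) (p : P ⟶ U),
    CompactSpace ↥P.left ∧ Lifts f y p ∧ R = Set.range p.left

variable {f : 𝒴 ⥤ᵇ 𝒳}

/-- Change of base along an identity. -/
def overMapOne (U : Over S) : AlgSt.overMap (𝟙 U) ≅ BasedFunctor.id (FibCat.overCat U) :=
  Fib.isoMk (fun g => Over.isoMk (Iso.refl g.left) ((Category.id_comp _).trans (Category.comp_id g.hom).symm))
    (fun φ => Over.OverMorphism.ext ((Category.comp_id _).trans (Category.id_comp _).symm))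
    (fun g => IsHomLift.id rfl)

theorem LiftCovered.mono {U : Over S} {y : FibCat.overCat U ⥤ᵇ 𝒳} {A B : Set ↥U.left}
    (h : LiftCovered f y B) (hAB : A ⊆ B) : LiftCovered f y A :=
  let ⟨s, hs, hB, hl⟩ := h
  ⟨s, hs, hAB.trans hB, hl⟩

theorem LiftCovered.union {U : Over S} {y : FibCat.overCat U ⥤ᵇ 𝒳} {A B : Set ↥U.left}
    (hA : LiftCovered f y A) (hB : LiftCovered f y B) : LiftCovered f y (A ∪ B) :=
  let ⟨s, hs, hAs, hl⟩ := hA
  let ⟨t, ht, hBt, hl'⟩ := hB
  ⟨s ∪ t, hs.union ht, by rw [Set.sUnion_union]; exact Set.union_subset_union hAs hBt,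
    fun R hR => hR.elim (hl R) (hl' R)⟩

theorem LiftCovered.biUnion {U : Over S} {y : FibCat.overCat U ⥤ᵇ 𝒳} {ι : Type*}
    (t : Finset ι) (A : ι → Set ↥U.left) (h : ∀ i ∈ t, LiftCovered f y (A i)) :
    LiftCovered f y (⋃ i ∈ t, A i) := by
  classical
  induction t using Finset.induction with
  | empty => exact ⟨∅, Set.finite_empty, by simp, by simp⟩
  | insert a t _ ih =>
    rw [Finset.set_biUnion_insert]
    exact (h a (Finset.mem_insert_self _ _)).union (ih fun i hi => h i (Finset.mem_insert_of_mem hi))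

theorem LiftCovered.of_lifts {U P : Over S} {y : FibCat.overCat U ⥤ᵇ 𝒳} (p : P ⟶ U)
    [CompactSpace ↥P.left] (h : Lifts f y p) : LiftCovered f y (Set.range p.left) :=
  ⟨{Set.range p.left}, Set.finite_singleton _, by rw [Set.sUnion_singleton],
    fun R hR => ⟨P, p, inferInstance, h, hR⟩⟩

theorem LiftCovered.map {U V : Over S} {y : FibCat.overCat U ⥤ᵇ 𝒳} {y' : FibCat.overCat V ⥤ᵇ 𝒳}
    (k : V ⟶ U) (i : y' ≅ BasedFunctor.comp (AlgSt.overMap k) y) {A : Set ↥V.left}
    (h : LiftCovered f y' A) : LiftCovered f y (k.left '' A) := by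
  obtain ⟨s, hs, hA, hl⟩ := h
  refine ⟨(fun R => k.left '' R) '' s, hs.image _, ?_, ?_⟩
  · rintro _ ⟨a, ha, rfl⟩
    obtain ⟨R, hR, haR⟩ := hA ha
    exact ⟨_, ⟨R, hR, rfl⟩, a, haR, rfl⟩
  · rintro _ ⟨R, hR, rfl⟩
    obtain ⟨P, p, hP, ⟨q, ⟨j⟩⟩, rfl⟩ := hl R hR
    refine ⟨P, p ≫ k, hP, ⟨q, ⟨j ≪≫ Fib.isoWhiskerLeft (AlgSt.overMap p) i ≪≫
      Fib.isoWhiskerRight (overMapComp p k) y⟩⟩, ?_⟩
    exact (Set.range_comp k.left p.left).symm

theorem LiftCovered.comap {U V : Over S} [QuasiSeparatedSpace ↥U.left] [CompactSpace ↥V.left]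
    {y : FibCat.overCat U ⥤ᵇ 𝒳} {y' : FibCat.overCat V ⥤ᵇ 𝒳}
    (k : V ⟶ U) (i : y' ≅ BasedFunctor.comp (AlgSt.overMap k) y) {A : Set ↥U.left}
    (h : LiftCovered f y A) : LiftCovered f y' (k.left ⁻¹' A) := by
  obtain ⟨s, hs, hA, hl⟩ := h
  refine ⟨(fun R => k.left ⁻¹' R) '' s, hs.image _, ?_, ?_⟩
  · intro a ha
    obtain ⟨R, hR, haR⟩ := hA ha
    exact ⟨_, ⟨R, hR, rfl⟩, haR⟩
  · rintro _ ⟨R, hR, rfl⟩
    obtain ⟨P, p, hP, ⟨q, ⟨j⟩⟩, rfl⟩ := hl R hR
    let P' : Over S := Over.mk (pullback.fst k.left p.left ≫ V.hom)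
    let p' : P' ⟶ V := Over.homMk (pullback.fst k.left p.left) rfl
    let c : P' ⟶ P := Over.homMk (pullback.snd k.left p.left) (by
      change pullback.snd k.left p.left ≫ P.hom = pullback.fst k.left p.left ≫ V.hom
      rw [← Over.w p, ← Over.w k, pullback.condition_assoc])
    have hw : p' ≫ k = c ≫ p := Over.OverMorphism.ext pullback.condition
    have : CompactSpace ↥P'.left := by
      have : QuasiCompact p.left := inferInstance
      exact QuasiCompact.compactSpace_of_compactSpace (pullback.fst k.left p.left)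
    refine ⟨P', p', this, ⟨BasedFunctor.comp (AlgSt.overMap c) q,
      ⟨Fib.isoWhiskerLeft (AlgSt.overMap c) j ≪≫ Fib.isoWhiskerRight (overMapComp c p) y ≪≫
        eqToIso (congrArg (fun t => BasedFunctor.comp (AlgSt.overMap t) y) hw.symm) ≪≫
        Fib.isoWhiskerRight (overMapComp p' k).symm y ≪≫
        Fib.isoWhiskerLeft (AlgSt.overMap p') i.symm⟩⟩, ?_⟩
    exact (Scheme.Pullback.range_fst k.left p.left).symm

section Stacks

variable (h𝒳 : AlgSt.IsAlgStack Scheme.fppfPrecoverage 𝒳)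
  (h𝒴 : AlgSt.IsAlgStack Scheme.fppfPrecoverage 𝒴)

include h𝒳 h𝒴

theorem liftSet_eq_preimage {U V : Over S} {y : FibCat.overCat U ⥤ᵇ 𝒳}
    {y' : FibCat.overCat V ⥤ᵇ 𝒳} (k : V ⟶ U)
    (i : y' ≅ BasedFunctor.comp (AlgSt.overMap k) y) :
    liftSet f y' = k.left ⁻¹' liftSet f y := by
  have hX := h𝒳.isStack.1
  have hY := h𝒴.isStack.1
  apply Set.Subset.antisymm
  · rintro _ ⟨z, rfl⟩
    let M : FibCat.fp y' f ⥤ᵇ FibCat.fp y f :=
      FibCat.fpLift (BasedFunctor.comp (FibCat.fpFst y' f) (AlgSt.overMap k)) (FibCat.fpSnd y' f)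
        (Fib.isoWhiskerLeft (FibCat.fpFst y' f) i.symm ≪≫ FibCat.fpIso y' f)
    refine ⟨Points.map M z, ?_⟩
    have e : BasedFunctor.comp M (FibCat.fpFst y f) =
        BasedFunctor.comp (FibCat.fpFst y' f) (AlgSt.overMap k) := rfl
    change schPt U _ = _
    rw [← map_comp_apply, e, map_comp_apply, schPt_map_overMap]
  · rintro v ⟨z, hz⟩
    have hU := Fib.isFibGrpd_overCat U
    have hV := Fib.isFibGrpd_overCat V
    obtain ⟨w, hw, -⟩ := exists_point_fp (Fib.isFibGrpd_fp y f hU hY hX) hU hV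
      (FibCat.fpFst y f) (AlgSt.overMap k) (schMk V v) z (by
        rw [← schMk_schPt U (Points.map (AlgSt.overMap k) _), schPt_map_overMap, schPt_schMk,
          ← schMk_schPt U (Points.map (FibCat.fpFst y f) z)]
        exact congrArg _ hz.symm)
    let N : FibCat.fp (BasedFunctor.comp (AlgSt.overMap k) y) f ⥤ᵇ FibCat.fp y' f :=
      FibCat.fpLift (FibCat.fpFst _ f) (FibCat.fpSnd _ f)
        (Fib.isoWhiskerLeft (FibCat.fpFst _ f) i ≪≫ FibCat.fpIso _ f)
    refine ⟨Points.map N (Points.map (Fib.fpBC (AlgSt.overMap k) y f) w), ?_⟩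
    have e : BasedFunctor.comp N (FibCat.fpFst y' f) =
        FibCat.fpFst (BasedFunctor.comp (AlgSt.overMap k) y) f := rfl
    change schPt V _ = _
    rw [← map_comp_apply, e, ← map_comp_apply, Fib.fpBC_fpFst, hw, schPt_schMk]

/-- A covered lift set makes the base change of a monomorphism quasi-compact. -/
theorem compactSpace_fp_of_liftCovered (hf : AlgSt.IsMono f) {U : Over S}
    (y : FibCat.overCat U ⥤ᵇ 𝒳) (h : LiftCovered f y (liftSet f y)) :
    CompactSpace (Points (FibCat.fp y f)) := by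
  classical
  have hU := Fib.isFibGrpd_overCat U
  have hfp := isAlgStack_fp h𝒳.isStack h𝒳.diag (isAlgStack_overCat U) h𝒴 y f
  have hinj := injective_map_of_isMono hfp.isStack.1 hU (FibCat.fpFst y f)
    (repByAlgSpWith_fpFst f y hf)
  obtain ⟨s, hs, hA, hl⟩ := h
  choose P p hP hq hR using hl
  choose q hq using hq
  let L : ∀ R (hR : R ∈ s), FibCat.overCat (P R hR) ⥤ᵇ FibCat.fp y f := fun R hR =>
    FibCat.fpLift (AlgSt.overMap (p R hR)) (q R hR) (hq R hR).some.symm
  have := hs.to_subtype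
  refine ⟨?_⟩
  have key : (Set.univ : Set (Points (FibCat.fp y f))) =
      ⋃ R : s, Set.range (Points.map (L R.1 R.2)) := by
    refine (Set.eq_univ_of_forall fun z => ?_).symm
    obtain ⟨R, hRs, hzR⟩ := hA ⟨z, rfl⟩
    rw [hR R hRs] at hzR
    obtain ⟨t, ht⟩ := hzR
    refine Set.mem_iUnion.2 ⟨⟨R, hRs⟩, schMk _ t, hinj ?_⟩
    have e : BasedFunctor.comp (L R hRs) (FibCat.fpFst y f) = AlgSt.overMap (p R hRs) := rfl
    rw [← map_comp_apply, e, ← schMk_schPt U (Points.map _ _), schPt_map_overMap, schPt_schMk, ht,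
      schMk_schPt]
  rw [key]
  refine isCompact_iUnion fun R => ?_
  have := hP R.1 R.2
  have := compactSpace_points_overCat (P R.1 R.2)
  exact isCompact_range (continuous_map hfp.isStack.1 hfp.atlas _)

/-- The residue field of a point in the lift set lifts. -/
theorem lifts_fromSpecResidueField (hf : AlgSt.IsMono f)
    (hlfp : AlgSt.RepByAlgSpWith (LocP @LocallyOfFinitePresentation) f) {U : Over S}
    (y : FibCat.overCat U ⥤ᵇ 𝒳) {x : ↥U.left} (hx : x ∈ liftSet f y) :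
    Lifts f y (Over.homMk (U.left.fromSpecResidueField x) rfl :
      Over.mk (U.left.fromSpecResidueField x ≫ U.hom) ⟶ U) := by
  let P₀ : Over S := Over.mk (U.left.fromSpecResidueField x ≫ U.hom)
  let k : P₀ ⟶ U := Over.homMk (U.left.fromSpecResidueField x) rfl
  let y₀ := BasedFunctor.comp (AlgSt.overMap k) y
  have hne : (liftSet f y₀).Nonempty := by
    rw [liftSet_eq_preimage h𝒳 h𝒴 k (Iso.refl y₀)]
    refine ⟨(IsLocalRing.closedPoint _ : Spec (U.left.residueField x)), ?_⟩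
    change (U.left.fromSpecResidueField x) (IsLocalRing.closedPoint _) ∈ liftSet f y
    rwa [Scheme.fromSpecResidueField_apply]
  obtain ⟨F, e, he, hm, hl, -⟩ := repByAlgSpWith_inf_self hf hlfp hlfp P₀ y₀
  let φ := AlgSt.spMapOfOver (BasedFunctor.comp e (FibCat.fpFst y₀ f))
  obtain ⟨T, c, hc, hcs⟩ := F.property.atlas
  let l : T ⟶ P₀ := AlgSpc.pre (c ≫ φ)
  have hlP : LocallyOfFinitePresentation l.left :=
    hl c (𝟙 _) l hc (AlgSpc.repWith_iso _) (by simp [l, φ])
  have : Subsingleton ↥P₀.left :=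
    inferInstanceAs (Subsingleton ↥(Spec (U.left.residueField x)))
  have : Flat l.left := by
    change Flat (Y := Spec (U.left.residueField x)) l.left
    infer_instance
  obtain ⟨z₀, hz₀⟩ := hne
  obtain ⟨z, rfl⟩ := hz₀
  obtain ⟨z', rfl⟩ := (bijective_map e he).2 z
  obtain ⟨t, -⟩ := AlgSpc.surjective_ofPt hcs (spPt F.obj z')
  have : Surjective l.left := ⟨fun a => ⟨t, Subsingleton.elim _ _⟩⟩
  have : Sheaf.IsLocallySurjective φ := AlgSpc.isLocallySurjective_of_exists fun V g => by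
    let g' : V ⟶ P₀ := AlgSpc.pre g
    let V' : Over S := Over.mk (pullback.fst g'.left l.left ≫ V.hom)
    let q : V' ⟶ V := Over.homMk (pullback.fst g'.left l.left) rfl
    let d : V' ⟶ T := Over.homMk (pullback.snd g'.left l.left) (by
      change pullback.snd g'.left l.left ≫ T.hom = pullback.fst g'.left l.left ≫ V.hom
      rw [← Over.w l, ← Over.w g', pullback.condition_assoc])
    have hw : d ≫ l = q ≫ g' := Over.OverMorphism.ext pullback.condition.symm
    refine ⟨V', q, (yon S).map d ≫ c, inferInstanceAs (Flat (pullback.fst g'.left l.left)),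
      inferInstanceAs (LocallyOfFinitePresentation (pullback.fst g'.left l.left)),
      inferInstanceAs (Surjective (pullback.fst g'.left l.left)), ?_⟩
    rw [Category.assoc, ← AlgSpc.map_pre (c ≫ φ), ← Functor.map_comp, hw, Functor.map_comp,
      AlgSpc.map_pre]
  have : Mono φ := hm
  have : Epi φ := Sheaf.epi_of_isLocallySurjective φ
  have : IsIso φ := isIso_of_mono_of_epi φ
  obtain ⟨τ, ⟨j⟩, -⟩ := exists_cover_point_of_atlas h𝒴.isStack.1 h𝒳.isStack.1 f y₀ e he (inv φ)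
    (fun w => ⟨(IsLocalRing.closedPoint _ : Spec (U.left.residueField x)), by
      obtain ⟨w', rfl⟩ : ∃ w', _root_.AlgSp.Points.map (inv φ) w' = w :=
        ⟨_root_.AlgSp.Points.map φ w, by rw [← _root_.AlgSp.Points.map_comp]; simp⟩
      obtain ⟨a, rfl⟩ : ∃ a, _root_.AlgSp.Points.ofScheme P₀ a = w' :=
        ⟨_, _root_.AlgSp.Points.ofScheme_toScheme P₀ w'⟩
      rw [_root_.AlgSp.Points.ofPt_eq_map_ofScheme]
      exact congrArg _ (congrArg _ (Subsingleton.elim _ _))⟩)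
  have h1 : AlgSpc.pre (inv φ ≫ φ) = 𝟙 P₀ :=
    (yon S).map_injective (by rw [AlgSpc.map_pre, IsIso.inv_hom_id, CategoryTheory.Functor.map_id])
  exact ⟨τ, ⟨j ≪≫ Fib.isoWhiskerRight (eqToIso (congrArg AlgSt.overMap h1) ≪≫
    overMapOne P₀) y₀⟩⟩

end Stacks

end

end Groth.Agent.AlgStB
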