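import Groth.Agent.AlgStB.LiftSet
import Groth.Agent.AlgStB.DiagQC
import Groth.Prelude.Def_AlgSpCov

/-!
# Properties of morphisms of stacks read on squares of smooth charts
-/

set_option autoImplicit false
set_option backward.isDefEq.respectTransparency false
set_option backward.isDefEq.respectTransparency.types false

universe u

open CategoryTheory CategoryTheory.Limits AlgebraicGeometry Opposite

namespace Groth.Agent.AlgStB

open _root_.AlgSt (FPt Points)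
open _root_.AlgSp (Sp LocP IsAlgSpace IsSurjectiveMor yon RepWith)

noncomputable section

variable {S : Scheme.{u}} {𝒳 𝒴 : AlgSt.Cat S}

/-- Smooth and surjective. -/
def SmSurj {𝒜 ℬ : AlgSt.Cat S} (g : 𝒜 ⥤ᵇ ℬ) : Prop :=
  AlgSt.RepByAlgSpWith (LocP @Smooth) g ∧ AlgSt.RepByAlgSpWith IsSurjectiveMor g

theorem SmSurj.comp {𝒜 ℬ 𝒞 : AlgSt.Cat S} (h𝒜 : FibCat.IsFibGrpd 𝒜.p) (hℬ : FibCat.IsFibGrpd ℬ.p)
    {f : 𝒜 ⥤ᵇ ℬ} {g : ℬ ⥤ᵇ 𝒞} (hf : SmSurj f) (hg : SmSurj g) : SmSurj (BasedFunctor.comp f g) :=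
  ⟨repByAlgSpWith_comp' h𝒜 hℬ respectsSrcIso_locP hc_locP hf.1 hg.1,
    repByAlgSpWith_comp' h𝒜 hℬ respectsSrcIso_isSurjectiveMor hc_surjective hf.2 hg.2⟩

theorem SmSurj.of_iso {𝒜 ℬ : AlgSt.Cat S} {f g : 𝒜 ⥤ᵇ ℬ} (i : f ≅ g) (h : SmSurj f) : SmSurj g :=
  ⟨repByAlgSpWith_of_iso i h.1, repByAlgSpWith_of_iso i h.2⟩

theorem SmSurj.fpFst {𝒜 ℬ 𝒞 : AlgSt.Cat S} (g : 𝒞 ⥤ᵇ ℬ) {f : 𝒜 ⥤ᵇ ℬ} (h : SmSurj f) :
    SmSurj (FibCat.fpFst g f) :=
  ⟨repByAlgSpWith_fpFst f g h.1, repByAlgSpWith_fpFst f g h.2⟩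

theorem SmSurj.fpSnd {𝒜 ℬ 𝒞 : AlgSt.Cat S} (g : 𝒞 ⥤ᵇ ℬ) {f : 𝒜 ⥤ᵇ ℬ} (h : SmSurj f) :
    SmSurj (FibCat.fpSnd f g) :=
  ⟨repByAlgSpWith_fpSnd f g h.1, repByAlgSpWith_fpSnd f g h.2⟩

theorem SmSurj.square {𝒜 ℬ 𝒜' ℬ' : AlgSt.Cat S} {f : 𝒜 ⥤ᵇ ℬ} {f' : 𝒜' ⥤ᵇ ℬ'} (a : 𝒜' ⥤ᵇ 𝒜)
    (b : ℬ' ⥤ᵇ ℬ) (ha : FibCat.IsEquivOver a) (hb : FibCat.IsEquivOver b)
    (e : BasedFunctor.comp f' b ≅ BasedFunctor.comp a f) : SmSurj f ↔ SmSurj f' :=
  and_congr (repByAlgSpWith_iff_of_square f f' a b ha hb e)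
    (repByAlgSpWith_iff_of_square f f' a b ha hb e)

/-- An equivalence from a slice is smooth and surjective. -/
theorem smSurj_of_isEquivOver {U : Over S} {𝒜 : AlgSt.Cat S} (e : FibCat.overCat U ⥤ᵇ 𝒜)
    (he : FibCat.IsEquivOver e) : SmSurj e := by
  have h₁ : SmSurj (BasedFunctor.id (FibCat.overCat U)) := by
    have hs : Surjective (𝟙 U : U ⟶ U).left := inferInstanceAs (Surjective (𝟙 U.left))
    refine SmSurj.of_iso (overMapOne U) ⟨repByAlgSpWith_overMap (P := @Smooth) (𝟙 U)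
      (inferInstanceAs (Smooth (𝟙 U.left))), ?_⟩
    refine repWith_surjective_of_isSurjective (Fib.isFibGrpd_overCat U) (Fib.isFibGrpd_overCat U)
      _ (repByAlgSp1_of_with (repByAlgSpWith_overMap (P := @Smooth) (𝟙 U)
        (inferInstanceAs (Smooth (𝟙 U.left))))) fun z => ⟨z, ?_⟩
    rw [map_congr (overMapOne U), map_id_apply]
  exact ⟨repByAlgSpWith_comp_equiv he h₁.1, repByAlgSpWith_comp_equiv he h₁.2⟩

/-- The slice of a fibre product is the fibre product of the slices. -/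
theorem exists_equivOver_overPullback {U V W T : Over S} {p : T ⟶ U} {q : T ⟶ W} {h : U ⟶ V}
    {n : W ⟶ V} (sq : IsPullback p q h n) :
    ∃ L : FibCat.overCat T ⥤ᵇ FibCat.fp (AlgSt.overMap h) (AlgSt.overMap n), FibCat.IsEquivOver L ∧
      Nonempty (BasedFunctor.comp L (FibCat.fpFst _ _) ≅ AlgSt.overMap p) ∧
      Nonempty (BasedFunctor.comp L (FibCat.fpSnd _ _) ≅ AlgSt.overMap q) := by
  obtain ⟨Φ, hΦ, h₁, h₂⟩ := isEquivOver_fpLift
    ((sq.flip.map (yon S)).map (sheafToPresheaf (_root_.AlgSp.J S) (Type (u + 1))))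
  have := Fib.full_of_isEquivOver (isEquivOver_toOverCat V)
  have := Fib.faithful_of_isEquivOver (isEquivOver_toOverCat V)
  let Ψ := Fib.fpMap (AlgSt.toOverCat U) (AlgSt.toOverCat W) (AlgSt.toOverCat V)
    (F' := AlgSt.ofSpMap ((yon S).map h)) (G' := AlgSt.ofSpMap ((yon S).map n))
    (F := AlgSt.overMap h) (G := AlgSt.overMap n) (overMapSquare h) (overMapSquare n)
  refine ⟨BasedFunctor.comp (AlgSt.ofOverCat T) (BasedFunctor.comp Φ Ψ),
    Fib.isEquivOver_comp (isEquivOver_ofOverCat T) (Fib.isEquivOver_comp hΦ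
      (Fib.isEquivOver_fpMap _ _ _ _ _ (isEquivOver_toOverCat U) (isEquivOver_toOverCat W))),
    ⟨?_⟩, ⟨?_⟩⟩
  · exact eqToIso (congrArg (fun t => BasedFunctor.comp (AlgSt.ofOverCat T)
      (BasedFunctor.comp t (AlgSt.toOverCat U))) h₁) ≪≫ overMapIso p
  · exact eqToIso (congrArg (fun t => BasedFunctor.comp (AlgSt.ofOverCat T)
      (BasedFunctor.comp t (AlgSt.toOverCat W))) h₂) ≪≫ overMapIso q

/-- A functor to a fibre product is a lift of its projections. -/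
def fpLiftIso {𝒜 ℬ 𝒞 𝒲 : AlgSt.Cat S} {F : 𝒜 ⥤ᵇ 𝒞} {G : ℬ ⥤ᵇ 𝒞} (σ : 𝒲 ⥤ᵇ FibCat.fp F G)
    {b : 𝒲 ⥤ᵇ ℬ} (j : BasedFunctor.comp σ (FibCat.fpSnd F G) ≅ b) :
    σ ≅ FibCat.fpLift (BasedFunctor.comp σ (FibCat.fpFst F G)) b
      (Fib.isoWhiskerLeft σ (FibCat.fpIso F G) ≪≫ Fib.isoWhiskerRight j G) :=
  Fib.isoMk
    (fun o => Fib.fpIsoMk (Iso.refl _) (Fib.appIso j o) (by
      change F.map (𝟙 _) ≫ (σ.obj o).obj.iso.hom ≫ G.map (Fib.appIso j o).hom =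
        (σ.obj o).obj.iso.hom ≫ G.map (Fib.appIso j o).hom
      simp))
    (fun φ => Fib.fp_hom_ext ((Category.comp_id _).trans (Category.id_comp _).symm)
      (Fib.appIso_natural j φ))
    (fun o => Fib.fp_iso_isHomLift_id _ (IsHomLift.id (
      ((BasedFunctor.comp σ (FibCat.fpFst F G)).w_obj o))))

section

variable (h𝒳 : AlgSt.IsAlgStack Scheme.fppfPrecoverage 𝒳)
  (h𝒴 : AlgSt.IsAlgStack Scheme.fppfPrecoverage 𝒴) {f : 𝒳 ⥤ᵇ 𝒴}

include h𝒳 h𝒴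

/-- A chart square with a given smooth chart of the target. -/
theorem exists_chart_square (f : 𝒳 ⥤ᵇ 𝒴) {V : Over S} (y : FibCat.overCat V ⥤ᵇ 𝒴)
    (hy : AlgSt.RepByAlgSpWith (LocP @Smooth) y) :
    ∃ (U : Over S) (x : FibCat.overCat U ⥤ᵇ 𝒳) (h : U ⟶ V)
      (α : BasedFunctor.comp x f ≅ BasedFunctor.comp (AlgSt.overMap h) y),
      AlgSt.RepByAlgSpWith (LocP @Smooth) x ∧
      (AlgSt.RepByAlgSpWith IsSurjectiveMor y → AlgSt.RepByAlgSpWith IsSurjectiveMor x) ∧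
      SmSurj (FibCat.fpLift x (AlgSt.overMap h) α) := by
  have hP := isAlgStack_fp h𝒴.isStack h𝒴.diag h𝒳 (isAlgStack_overCat V) f y
  obtain ⟨U, σ, hσ, hσs⟩ := hP.atlas
  obtain ⟨h, ⟨j⟩⟩ := exists_iso_overMap (BasedFunctor.comp σ (FibCat.fpSnd f y))
  exact ⟨U, BasedFunctor.comp σ (FibCat.fpFst f y), h,
    Fib.isoWhiskerLeft σ (FibCat.fpIso f y) ≪≫ Fib.isoWhiskerRight j y,
    repByAlgSpWith_comp' (Fib.isFibGrpd_overCat U) hP.isStack.1 respectsSrcIso_locP hc_locP hσ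
      (repByAlgSpWith_fpFst y f hy),
    fun hys => repByAlgSpWith_comp' (Fib.isFibGrpd_overCat U) hP.isStack.1
      respectsSrcIso_isSurjectiveMor hc_surjective hσs (repByAlgSpWith_fpFst y f hys),
    SmSurj.of_iso (fpLiftIso σ j) ⟨hσ, hσs⟩⟩

/-- A square moved to another chart of the target, which need not be smooth. -/
theorem exists_chart_baseChange
    {U V V' : Over S} (x : FibCat.overCat U ⥤ᵇ 𝒳) (y : FibCat.overCat V ⥤ᵇ 𝒴)
    (y' : FibCat.overCat V' ⥤ᵇ 𝒴) (h : U ⟶ V)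
    (α : BasedFunctor.comp x f ≅ BasedFunctor.comp (AlgSt.overMap h) y)
    (hx : SmSurj x) (hy : AlgSt.RepByAlgSpWith (LocP @Smooth) y) :
    ∃ (T W : Over S) (p : T ⟶ U) (q : T ⟶ W) (n : W ⟶ V) (n' : W ⟶ V')
      (σ : FibCat.overCat T ⥤ᵇ FibCat.fp f y'),
      IsPullback p q h n ∧ (AlgSt.RepByAlgSpWith (LocP @Smooth) y' → Smooth n.left) ∧
      Smooth n'.left ∧ SmSurj σ ∧
      Nonempty (BasedFunctor.comp σ (FibCat.fpFst f y') ≅ BasedFunctor.comp (AlgSt.overMap p) x) ∧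
      Nonempty (BasedFunctor.comp σ (FibCat.fpSnd f y') ≅ AlgSt.overMap (q ≫ n')) := by
  have hU := Fib.isFibGrpd_overCat U
  have hV := isAlgStack_overCat V
  have hV' := isAlgStack_overCat V'
  have hY := isAlgStack_fp h𝒴.isStack h𝒴.diag hV hV' y y'
  obtain ⟨W, ω, hω, hωs⟩ := hY.atlas
  let g := FibCat.fpFst y y'
  obtain ⟨n, ⟨jn⟩⟩ := exists_iso_overMap (BasedFunctor.comp ω g)
  obtain ⟨n', ⟨jn'⟩⟩ := exists_iso_overMap (BasedFunctor.comp ω (FibCat.fpSnd y y'))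
  have hn : AlgSt.RepByAlgSpWith (LocP @Smooth) y' → Smooth n.left := fun hy' =>
    left_of_repByAlgSpWith_overMap (P := @Smooth) n
    (repByAlgSpWith_of_iso jn (repByAlgSpWith_comp' (Fib.isFibGrpd_overCat W) hY.isStack.1
      respectsSrcIso_locP hc_locP hω (repByAlgSpWith_fpFst y' y hy')))
  have hn' : Smooth n'.left := left_of_repByAlgSpWith_overMap (P := @Smooth) n'
    (repByAlgSpWith_of_iso jn' (repByAlgSpWith_comp' (Fib.isFibGrpd_overCat W) hY.isStack.1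
      respectsSrcIso_locP hc_locP hω (repByAlgSpWith_fpSnd y y' hy)))
  let T : Over S := pullback h n
  let p : T ⟶ U := pullback.fst h n
  let q : T ⟶ W := pullback.snd h n
  have sq : IsPullback p q h n := IsPullback.of_hasPullback h n
  obtain ⟨L, hL, ⟨jp⟩, ⟨jq⟩⟩ := exists_equivOver_overPullback sq
  let H := AlgSt.overMap h
  let Q := FibCat.fp H g
  let G : FibCat.fp H (AlgSt.overMap n) ⥤ᵇ Q :=
    FibCat.fpLift (FibCat.fpFst H _) (BasedFunctor.comp (FibCat.fpSnd H _) ω)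
      (FibCat.fpIso H _ ≪≫ Fib.isoWhiskerLeft (FibCat.fpSnd H _) jn.symm)
  have hQ : FibCat.IsFibGrpd Q.p := Fib.isFibGrpd_fp H g hU hY.isStack.1 hV.isStack.1
  have : (FibCat.overCat V).p.Faithful := inferInstanceAs (Over.forget V).Faithful
  have := (id_full_faithful (FibCat.overCat V)).1
  have := (id_full_faithful (FibCat.overCat V)).2
  have := (id_full_faithful 𝒴).1
  have := (id_full_faithful 𝒴).2
  have hG : SmSurj G := by
    let M := Fib.fpMap (BasedFunctor.id (FibCat.overCat U)) (BasedFunctor.id (FibCat.overCat W))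
      (BasedFunctor.id (FibCat.overCat V)) (F' := H) (G' := BasedFunctor.comp ω g) (F := H)
      (G := AlgSt.overMap n) (Iso.refl H) jn
    let a := BasedFunctor.comp (Fib.fpAssoc H g ω) M
    have ha : FibCat.IsEquivOver a := Fib.isEquivOver_comp (Fib.isEquivOver_fpAssoc H g ω)
      (Fib.isEquivOver_fpMap _ _ _ _ _ (Fib.isEquivOver_id _) (Fib.isEquivOver_id _))
    obtain ⟨κ⟩ := nonempty_iso_fp_of_faithful (F := H) (G := g) (FibCat.fpFst (FibCat.fpSnd H g) ω)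
      (BasedFunctor.comp a G) (Iso.refl _) (FibCat.fpIso (FibCat.fpSnd H g) ω)
    exact (SmSurj.square (f := G) (f' := FibCat.fpFst (FibCat.fpSnd H g) ω) a (BasedFunctor.id Q)
      ha (Fib.isEquivOver_id _) κ).2
      (SmSurj.fpFst _ ⟨hω, hωs⟩)
  let ν₁ : FibCat.fp (BasedFunctor.comp x f) y' ⥤ᵇ FibCat.fp f y' :=
    FibCat.fpLift (BasedFunctor.comp (FibCat.fpFst _ y') x) (FibCat.fpSnd _ y') (FibCat.fpIso _ y')
  have hν₁ : SmSurj ν₁ := by
    refine (SmSurj.square (Fib.fpBC x f y') (BasedFunctor.id (FibCat.fp f y'))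
      (Fib.isEquivOver_fpBC x f y') (Fib.isEquivOver_id _) ?_).2
      (hx.fpSnd (FibCat.fpFst f y'))
    exact Fib.isoMk
      (fun o => Fib.fpIsoMk o.obj.iso.symm (Iso.refl _) (by
        change f.map o.obj.iso.inv ≫ f.map o.obj.iso.hom ≫ o.obj.snd.obj.iso.hom =
          o.obj.snd.obj.iso.hom ≫ y'.map (𝟙 _)
        rw [← Functor.map_comp_assoc, Iso.inv_hom_id]
        simp))
      (fun {a b} φ => Fib.fp_hom_ext (by
        change φ.hom.snd.hom.fst ≫ b.obj.iso.inv = a.obj.iso.inv ≫ x.map φ.hom.fst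
        rw [← cancel_mono b.obj.iso.hom, Category.assoc, Category.assoc, Iso.inv_hom_id,
          Category.comp_id]
        erw [φ.hom.w]
        rw [Iso.inv_hom_id_assoc]
        rfl) ((Category.comp_id _).trans (Category.id_comp _).symm))
      (fun o => Fib.fp_iso_isHomLift_id _ (by
        have := o.property
        exact @IsHomLift.lift_id_inv _ _ _ _ 𝒳.p _ _ _ o.obj.iso o.property))
  let E := BasedFunctor.comp (Fib.fpBC H y y') (Fib.fpMap (BasedFunctor.id (FibCat.overCat U))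
    (BasedFunctor.id (FibCat.overCat V')) (BasedFunctor.id 𝒴) (F' := BasedFunctor.comp H y)
    (G' := y') (F := BasedFunctor.comp x f) (G := y') α.symm (Iso.refl y'))
  have hE : FibCat.IsEquivOver E := Fib.isEquivOver_comp (Fib.isEquivOver_fpBC H y y')
    (Fib.isEquivOver_fpMap _ _ _ _ _ (Fib.isEquivOver_id _) (Fib.isEquivOver_id _))
  have hν : SmSurj (BasedFunctor.comp E ν₁) :=
    (SmSurj.square (f := ν₁) (f' := BasedFunctor.comp E ν₁) E (BasedFunctor.id _) hE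
      (Fib.isEquivOver_id _) (Iso.refl _)).1 hν₁
  have hfpn := Fib.isFibGrpd_fp H (AlgSt.overMap n) hU (Fib.isFibGrpd_overCat W) hV.isStack.1
  let σ := BasedFunctor.comp L (BasedFunctor.comp G (BasedFunctor.comp E ν₁))
  refine ⟨T, W, p, q, n, n', σ, sq, hn, hn',
    SmSurj.comp (Fib.isFibGrpd_overCat T) hfpn (smSurj_of_isEquivOver L hL)
      (SmSurj.comp hfpn hQ hG hν), ⟨?_⟩, ⟨?_⟩⟩
  · exact Fib.isoWhiskerRight jp x
  · exact Fib.isoWhiskerRight jq (BasedFunctor.comp ω (FibCat.fpSnd y y')) ≪≫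
      Fib.isoWhiskerLeft (AlgSt.overMap q) jn' ≪≫ overMapComp q n'

/-- The square with `P` moved to another smooth chart of the target. -/
theorem exists_chart_change {P : MorphismProperty (Sp S)} (hP : _root_.AlgSp.IsSmoothLocalST P)
    {U V V' : Over S} (x : FibCat.overCat U ⥤ᵇ 𝒳) (y : FibCat.overCat V ⥤ᵇ 𝒴)
    (y' : FibCat.overCat V' ⥤ᵇ 𝒴) (h : U ⟶ V)
    (α : BasedFunctor.comp x f ≅ BasedFunctor.comp (AlgSt.overMap h) y)
    (hx : SmSurj x) (hy : AlgSt.RepByAlgSpWith (LocP @Smooth) y)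
    (hy' : AlgSt.RepByAlgSpWith (LocP @Smooth) y') (hh : P ((yon S).map h)) :
    ∃ (T W : Over S) (p : T ⟶ U) (q : T ⟶ W) (n' : W ⟶ V')
      (σ : FibCat.overCat T ⥤ᵇ FibCat.fp f y'),
      Smooth n'.left ∧ P ((yon S).map q) ∧ SmSurj σ ∧
      Nonempty (BasedFunctor.comp σ (FibCat.fpFst f y') ≅ BasedFunctor.comp (AlgSt.overMap p) x) ∧
      Nonempty (BasedFunctor.comp σ (FibCat.fpSnd f y') ≅ AlgSt.overMap (q ≫ n')) := by
  obtain ⟨T, W, p, q, n, n', σ, sq, hn, hn', hσ, hσ₁, hσ₂⟩ :=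
    exists_chart_baseChange h𝒳 h𝒴 x y y' h α hx hy
  exact ⟨T, W, p, q, n', σ, hn', hP.baseChange (IsAlgSpace.yon_obj U) (IsAlgSpace.yon_obj V)
    (IsAlgSpace.yon_obj T) (IsAlgSpace.yon_obj W) _ _ _ _ (sq.map (yon S))
    (AlgSpc.locP_of_repWith (fun e f he hf => AlgSpc.EtLoc.precomp (P := @Smooth) e f he hf)
      ((_root_.AlgSp.repWith_yon_map_iff (@Smooth : MorphismProperty Scheme.{u}) n).2 (hn hy'))) hh,
    hσ, hσ₁, hσ₂⟩

/-- A property read on one square is read on every square with smooth comparison map. -/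
theorem prop_of_locQ {P : MorphismProperty (Sp S)} (hP : _root_.AlgSp.IsSmoothLocalST P)
    (hf : AlgSt.LocQ P f) {U' V' : Over S} (x' : FibCat.overCat U' ⥤ᵇ 𝒳)
    (y' : FibCat.overCat V' ⥤ᵇ 𝒴) (h' : U' ⟶ V')
    (α' : BasedFunctor.comp x' f ≅ BasedFunctor.comp (AlgSt.overMap h') y')
    (hy' : AlgSt.RepByAlgSpWith (LocP @Smooth) y')
    (hL : AlgSt.RepByAlgSpWith (LocP @Smooth) (FibCat.fpLift x' (AlgSt.overMap h') α')) :
    P ((yon S).map h') := by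
  obtain ⟨U, V, x, y, h, α, hx, hxs, hy, hh⟩ := hf
  obtain ⟨T, W, p, q, n', σ, hn', hq, hσ, -, ⟨jσ⟩⟩ :=
    exists_chart_change h𝒳 h𝒴 hP x y y' h α ⟨hx, hxs⟩ hy hy' hh
  have hP' := isAlgStack_fp h𝒴.isStack h𝒴.diag h𝒳 (isAlgStack_overCat V') f y'
  let L' := FibCat.fpLift x' (AlgSt.overMap h') α'
  have hR := isAlgStack_fp hP'.isStack hP'.diag (isAlgStack_overCat U') (isAlgStack_overCat T) L' σ
  obtain ⟨T', τ, hτ, hτs⟩ := hR.atlas
  obtain ⟨a, ⟨ja⟩⟩ := exists_iso_overMap (BasedFunctor.comp τ (FibCat.fpFst L' σ))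
  obtain ⟨c, ⟨jc⟩⟩ := exists_iso_overMap (BasedFunctor.comp τ (FibCat.fpSnd L' σ))
  have ha : SmSurj (AlgSt.overMap a) := SmSurj.of_iso ja
    (SmSurj.comp (Fib.isFibGrpd_overCat T') hR.isStack.1 ⟨hτ, hτs⟩ (hσ.fpFst L'))
  have hc : Smooth c.left := left_of_repByAlgSpWith_overMap (P := @Smooth) c
    (repByAlgSpWith_of_iso jc (repByAlgSpWith_comp' (Fib.isFibGrpd_overCat T') hR.isStack.1
      respectsSrcIso_locP hc_locP hτ (repByAlgSpWith_fpSnd L' σ hL)))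
  have hsm : ∀ {A B : Over S} (k : A ⟶ B), Smooth k.left → LocP @Smooth ((yon S).map k) :=
    fun k hk => AlgSpc.locP_of_repWith
      (fun e f he hf => AlgSpc.EtLoc.precomp (P := @Smooth) e f he hf)
      ((_root_.AlgSp.repWith_yon_map_iff (@Smooth : MorphismProperty Scheme.{u}) k).2 hk)
  have hw : a ≫ h' = (c ≫ q) ≫ n' := overMap_inj ((overMapComp a h').symm ≪≫
    Fib.isoWhiskerRight ja.symm (AlgSt.overMap h') ≪≫
    Fib.isoWhiskerRight (Fib.isoWhiskerLeft τ (FibCat.fpIso L' σ)) (FibCat.fpSnd f y') ≪≫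
    Fib.isoWhiskerRight jc (BasedFunctor.comp σ (FibCat.fpSnd f y')) ≪≫
    Fib.isoWhiskerLeft (AlgSt.overMap c) jσ ≪≫ overMapComp c (q ≫ n') ≪≫
    eqToIso (congrArg AlgSt.overMap (Category.assoc c q n').symm))
  refine (hP.locality (IsAlgSpace.yon_obj U') (IsAlgSpace.yon_obj V') _).2 fun z => ?_
  obtain ⟨t, ht⟩ := surjective_left_of_repByAlgSpWith_overMap a ha.2
    (_root_.AlgSp.Points.toScheme U' z)
  refine ⟨(yon S).obj T', (yon S).obj W, (yon S).map a, (yon S).map n', (yon S).map (c ≫ q),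
    _root_.AlgSp.Points.ofScheme T' t, IsAlgSpace.yon_obj T', IsAlgSpace.yon_obj W,
    hsm a (left_of_repByAlgSpWith_overMap (P := @Smooth) a ha.1), hsm n' hn', ?_, ?_, ?_⟩
  · rw [← Functor.map_comp, ← Functor.map_comp, hw]
  · rw [← _root_.AlgSp.Points.ofPt_eq_map_ofScheme, ← _root_.AlgSp.Points.ofScheme_toScheme U' z,
      ← ht]
    apply (_root_.AlgSp.Points.ofScheme_toScheme U' _).symm.trans
    rw [_root_.AlgSp.Points.toScheme_ofPt]
  · rw [Functor.map_comp]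
    exact hP.precomp (IsAlgSpace.yon_obj T') (IsAlgSpace.yon_obj T) (IsAlgSpace.yon_obj W) _ _
      (hsm c hc) hq

theorem locQ_iff_forall {P : MorphismProperty (Sp S)} (hP : _root_.AlgSp.IsSmoothLocalST P)
    (f : 𝒳 ⥤ᵇ 𝒴) :
    AlgSt.LocQ P f ↔
      ∀ (U V : Over S) (x : FibCat.overCat U ⥤ᵇ 𝒳) (y : FibCat.overCat V ⥤ᵇ 𝒴) (h : U ⟶ V)
        (α : BasedFunctor.comp x f ≅ BasedFunctor.comp (AlgSt.overMap h) y),
        AlgSt.RepByAlgSpWith (LocP @Smooth) x → AlgSt.RepByAlgSpWith (LocP @Smooth) y →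
        AlgSt.RepByAlgSpWith (LocP @Smooth) (FibCat.fpLift x (AlgSt.overMap h) α) →
        P ((yon S).map h) := by
  refine ⟨fun hf U V x y h α _ hy hL => prop_of_locQ h𝒳 h𝒴 hP hf x y h α hy hL, fun H => ?_⟩
  obtain ⟨V, y, hy, hys⟩ := h𝒴.atlas
  obtain ⟨U, x, h, α, hx, hxs, hL, -⟩ := exists_chart_square h𝒳 h𝒴 f y hy
  exact ⟨U, V, x, y, h, α, hx, hxs hys, hy, H U V x y h α hx hy hL⟩

end

end

end Groth.Agent.AlgStB
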