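import Groth.Agent.AlgStB.Comp
import Groth.Prelude.Def_AlgSt3
import Mathlib.AlgebraicGeometry.Morphisms.Immersion

/-!
# Monomorphisms and immersions of categories over the base
-/

set_option autoImplicit false
set_option backward.isDefEq.respectTransparency false
set_option backward.isDefEq.respectTransparency.types false

universe v₃ u₃ v₂ u₂ u

open CategoryTheory CategoryTheory.Limits AlgebraicGeometry Opposite

namespace Groth.Agent.AlgStB

open _root_.AlgSp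

variable {S : Scheme.{u}}

theorem mono_of_forall_pullback {X Y : Sp S} (a : X ⟶ Y)
    (h : ∀ (T : Over S) (p : (yon S).obj T ⟶ Y), Mono (pullback.snd a p)) : Mono a := by
  refine AlgSpc.mono_of_cancel fun T α β w => ?_
  have := h T (α ≫ a)
  let lα := pullback.lift (f := a) (g := α ≫ a) α (𝟙 _) (by simp)
  let lβ := pullback.lift (f := a) (g := α ≫ a) β (𝟙 _) (by simp [w])
  have e : lα = lβ := by
    rw [← cancel_mono (pullback.snd a (α ≫ a))]
    simp [lα, lβ]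
  simpa [lα, lβ] using congrArg (· ≫ pullback.fst a (α ≫ a)) e

theorem repWith_of_forall_pullback {P : MorphismProperty Scheme.{u}} [P.RespectsIso]
    {X Y : Sp S} (a : X ⟶ Y)
    (h : ∀ (T : Over S) (p : (yon S).obj T ⟶ Y), RepWith P (pullback.snd a p)) : RepWith P a := by
  refine AlgSpc.repWith_mk fun T p => ?_
  obtain ⟨V, fst, snd, sq⟩ := AlgSpc.exists_sq (h T p).1 (𝟙 _)
  exact ⟨V, fst ≫ pullback.fst a p, snd,
    by simpa using sq.paste_horiz (IsPullback.of_hasPullback a p), (h T p).2 _ _ _ sq⟩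

variable {𝒳 : BasedCategory.{v₂, u₂} (Over S)} {𝒴 : BasedCategory.{v₃, u₃} (Over S)}

theorem isMono_of_repWith {P : MorphismProperty Scheme.{u}}
    (hP : ∀ ⦃X Y : Scheme.{u}⦄ (f : X ⟶ Y), P f → Mono f) {f : 𝒳 ⥤ᵇ 𝒴}
    (h : AlgSt.RepByAlgSpWith (RepWith P) f) : AlgSt.IsMono f :=
  repByAlgSpWith_mono (fun _ _ _ hm => AlgSpc.mono_of_repWith hP hm) h

theorem repByAlgSpWith_repWith_comp {P : MorphismProperty Scheme.{u}} [P.RespectsIso]
    [P.IsStableUnderComposition] {𝒳 𝒴 𝒵 : AlgSt.Cat S} (h𝒳 : FibCat.IsFibGrpd 𝒳.p)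
    (h𝒴 : FibCat.IsFibGrpd 𝒴.p) {f : 𝒳 ⥤ᵇ 𝒴} {g : 𝒴 ⥤ᵇ 𝒵}
    (hf : AlgSt.RepByAlgSpWith (RepWith P) f) (hg : AlgSt.RepByAlgSpWith (RepWith P) g) :
    AlgSt.RepByAlgSpWith (RepWith P) (BasedFunctor.comp f g) := by
  have : (P.inverseImage (Over.forget S)).RespectsIso :=
    MorphismProperty.RespectsIso.inverseImage P _
  exact repByAlgSpWith_comp' h𝒳 h𝒴 respectsSrcIso_of_respectsIso
    (fun _ _ _ _ _ _ a b ha hb => AlgSpc.repWith_comp (repWith_of_forall_pullback a ha) hb) hf hg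

theorem isMono_comp {𝒳 𝒴 𝒵 : AlgSt.Cat S} (h𝒳 : FibCat.IsFibGrpd 𝒳.p)
    (h𝒴 : FibCat.IsFibGrpd 𝒴.p) {f : 𝒳 ⥤ᵇ 𝒴} {g : 𝒴 ⥤ᵇ 𝒵}
    (hf : AlgSt.IsMono f) (hg : AlgSt.IsMono g) : AlgSt.IsMono (BasedFunctor.comp f g) :=
  repByAlgSpWith_comp' h𝒳 h𝒴 respectsSrcIso_of_respectsIso
    (fun _ _ _ _ _ _ a b ha (hb : Mono b) => by
      have := mono_of_forall_pullback a ha
      exact mono_comp a b) hf hg

theorem mono_of_isImmersion ⦃X Y : Scheme.{u}⦄ (f : X ⟶ Y) (h : IsImmersion f) : Mono f :=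
  inferInstance

end Groth.Agent.AlgStB
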