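import Groth.Agent.AlgStB.ReducedSubstack
import Groth.Agent.AlgStB.PointsQC
import Groth.Agent.AlgStB.DiagSep
import Groth.Agent.AlgStB.LocQRep
import Groth.Agent.AlgStB.LocQApps
import Groth.Agent.AlgSpLoc.AffineMor
import Groth.Agent.AlgSpLoc.Inst

/-!
# Monomorphisms to stacks covered by the spectrum of a field
-/

set_option autoImplicit false
set_option backward.isDefEq.respectTransparency false
set_option backward.isDefEq.respectTransparency.types false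

universe u

open CategoryTheory CategoryTheory.Limits AlgebraicGeometry Opposite

namespace Groth.Agent.AlgStB

open _root_.AlgSt (Points FPt)
open _root_.AlgSp (Sp Space LocP IsSurjectiveMor IsAlgSpace yon RepWith)

variable {S : Scheme.{u}} {𝒜 𝒳 : AlgSt.Cat S}

/-- A representation by an isomorphism gives a lift. -/
theorem exists_lift_of_isIso_rep (h𝒜 : FibCat.IsFibGrpd 𝒜.p) (h𝒳 : FibCat.IsFibGrpd 𝒳.p)
    (j : 𝒜 ⥤ᵇ 𝒳) {U : Over S} (w : FibCat.overCat U ⥤ᵇ 𝒳) {F : Sp S}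
    (e : AlgSt.ofSp F ⥤ᵇ FibCat.fp w j) (he : FibCat.IsEquivOver e)
    (hi : IsIso (AlgSt.spMapOfOver (BasedFunctor.comp e (FibCat.fpFst w j)))) :
    ∃ τ : FibCat.overCat U ⥤ᵇ 𝒜, Nonempty (BasedFunctor.comp τ j ≅ w) := by
  let φ := AlgSt.spMapOfOver (BasedFunctor.comp e (FibCat.fpFst w j))
  let c : (yon S).obj U ⟶ F := inv φ
  obtain ⟨τ, hτ, -⟩ := exists_cover_point_of_atlas h𝒜 h𝒳 j w e he c
    (AlgSpc.surjective_ofPt (p := c) (AlgSpc.repWith_iso c))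
  have : IsIso (AlgSpc.pre (c ≫ φ)) := by
    rw [show AlgSpc.pre (c ≫ φ) = 𝟙 _ from (yon S).map_injective (by
      rw [AlgSpc.map_pre, CategoryTheory.Functor.map_id, IsIso.inv_hom_id])]
    infer_instance
  exact exists_lift_of_isIso hτ

/-- A monomorphism with a section over a covering is an isomorphism. -/
theorem isIso_of_mono_of_cover {F : Sp S} (hF : IsAlgSpace F) {U V : Over S}
    (φ : F ⟶ (yon S).obj U) [Mono φ] (k : V ⟶ U)
    (hcov : _root_.AlgSp.IsFpqcCover (S := S) (fun _ : PUnit.{u + 1} => (yon S).obj V)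
      (fun _ => (yon S).map k))
    (l : (yon S).obj V ⟶ F) (hl : l ≫ φ = (yon S).map k) : IsIso φ := by
  have hA' : IsAlgSpace (pullback φ ((yon S).map k)) := AlgSpc.isAlgSpace_of_isPullback hF
    (IsAlgSpace.yon_obj _) (IsAlgSpace.yon_obj V) (IsPullback.of_hasPullback _ _)
  refine (AlgSpLoc.isLocalOnBase_iso (fun _ : PUnit.{u + 1} =>
    (yon S).obj V) (fun _ => (yon S).map k) (IsAlgSpace.yon_obj _)
    (fun _ => IsAlgSpace.yon_obj _) hcov φ hF (fun _ => pullback φ ((yon S).map k))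
    (fun _ => pullback.snd _ _) (fun _ => pullback.fst _ _) (fun _ => hA')
    (fun _ => IsPullback.of_hasPullback _ _)).2 fun _ => ?_
  let s := pullback.lift (f := φ) (g := (yon S).map k) l (𝟙 _) (by rw [hl, Category.id_comp])
  have : IsSplitEpi (pullback.snd φ ((yon S).map k)) := ⟨⟨⟨s, pullback.lift_snd _ _ _⟩⟩⟩
  exact isIso_of_mono_of_isSplitEpi _

/-- Lifts to a monomorphism descend along a covering. -/
theorem exists_lift_of_cover (h𝒜 : FibCat.IsFibGrpd 𝒜.p) (h𝒳 : FibCat.IsFibGrpd 𝒳.p)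
    (j : 𝒜 ⥤ᵇ 𝒳) (hj : AlgSt.IsMono j) {U V : Over S} (w : FibCat.overCat U ⥤ᵇ 𝒳) (k : V ⟶ U)
    (hcov : _root_.AlgSp.IsFpqcCover (S := S) (fun _ : PUnit.{u + 1} => (yon S).obj V)
      (fun _ => (yon S).map k))
    (σ : FibCat.overCat V ⥤ᵇ 𝒜)
    (i : BasedFunctor.comp σ j ≅ BasedFunctor.comp (AlgSt.overMap k) w) :
    ∃ τ : FibCat.overCat U ⥤ᵇ 𝒜, Nonempty (BasedFunctor.comp τ j ≅ w) := by
  obtain ⟨G, ε, hε, hψ⟩ := hj U w
  let ψ := AlgSt.spMapOfOver (BasedFunctor.comp ε (FibCat.fpFst w j))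
  have : Mono ψ := hψ
  let L : FibCat.overCat V ⥤ᵇ FibCat.fp w j := FibCat.fpLift (AlgSt.overMap k) σ i.symm
  obtain ⟨E, hE, -, ⟨iE⟩⟩ := Fib.exists_quasiInverse hε
  obtain ⟨l, ⟨il⟩⟩ := exists_ofSpMap (BasedFunctor.comp (AlgSt.toOverCat V) (BasedFunctor.comp L E))
  have hl : l ≫ ψ = (yon S).map k := by
    refine (spMapOfOver_comp l (BasedFunctor.comp ε (FibCat.fpFst w j))).symm.trans ?_
    refine Eq.trans (spMapOfOver_congr (Fib.isoWhiskerRight il.symm _ ≪≫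
      Fib.isoWhiskerLeft (BasedFunctor.comp (AlgSt.toOverCat V) L)
        (Fib.isoWhiskerRight iE (FibCat.fpFst w j)) ≪≫ (overMapSquare k).symm)) ?_
    exact spMapOfOver_toOverCat _
  exact exists_lift_of_isIso_rep h𝒜 h𝒳 j w ε hε (isIso_of_mono_of_cover G.property ψ k hcov l hl)

/-- A monomorphism with nonempty source to a stack covered by a point is an equivalence. -/
theorem isEquivOver_of_isMono_of_fieldCover (h𝒜 : AlgSt.IsAlgStack Scheme.fppfPrecoverage 𝒜)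
    (h𝒳 : AlgSt.IsAlgStack Scheme.fppfPrecoverage 𝒳) (f : 𝒜 ⥤ᵇ 𝒳) (hf : AlgSt.IsMono f)
    {K₀ : Type u} [Field K₀] (a : Spec (CommRingCat.of K₀) ⟶ S)
    (z : FibCat.overCat (Over.mk a) ⥤ᵇ 𝒳)
    (hzp : AlgSt.RepByAlgSpWith (LocP @LocallyOfFinitePresentation) z)
    (hzs : AlgSt.RepByAlgSpWith IsSurjectiveMor z) (hzf : AlgSt.RepByAlgSpWith (LocP @Flat) z)
    (p : Points 𝒜) : FibCat.IsEquivOver f := by
  have hA := h𝒜.isStack.1
  have hX := h𝒳.isStack.1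
  let P : Over S := Over.mk a
  have : Subsingleton ↥P.left := inferInstanceAs (Subsingleton ↥(Spec (CommRingCat.of K₀)))
  -- the base change to the point
  obtain ⟨F, e, he, hφ⟩ := hf P z
  let φ := AlgSt.spMapOfOver (BasedFunctor.comp e (FibCat.fpFst z f))
  have : Mono φ := hφ
  obtain ⟨T, c, hc, hcs⟩ := F.property.atlas
  obtain ⟨τ, -, hp⟩ := exists_cover_point_of_atlas hA hX f z e he c (AlgSpc.surjective_ofPt hcs)
  obtain ⟨v, hv⟩ := surjective_ofChart hX z hzs (Points.map f p)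
  obtain ⟨t, -, -⟩ := hp v p hv.symm
  let Q : Over S := Over.mk (T.left.fromSpecResidueField t ≫ T.hom)
  let pt : Q ⟶ T := Over.homMk (T.left.fromSpecResidueField t) rfl
  let l : (yon S).obj Q ⟶ F.obj := (yon S).map pt ≫ c
  have : IsAffine Q.left := inferInstanceAs (IsAffine (Spec (T.left.residueField t)))
  have : IsAffine P.left := inferInstanceAs (IsAffine (Spec (CommRingCat.of K₀)))
  have : IsIntegral P.left := inferInstanceAs (IsIntegral (Spec (CommRingCat.of K₀)))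
  have : Nonempty ↥Q.left := inferInstanceAs (Nonempty ↥(Spec (T.left.residueField t)))
  have hcov := AlgSpLoc.isFpqcCover_affine_family (Z := P) (fun _ : PUnit.{u + 1} => Q)
    (fun _ => AlgSpc.pre (l ≫ φ)) (fun w => ⟨⟨⟩, Classical.arbitrary _, Subsingleton.elim _ _⟩)
  have hiso : IsIso φ := isIso_of_mono_of_cover F.property φ (AlgSpc.pre (l ≫ φ)) hcov l
    (AlgSpc.map_pre _).symm
  obtain ⟨τ₀, ⟨i₀⟩⟩ := exists_lift_of_isIso_rep hA hX f z e he hiso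
  obtain ⟨hfull, hfaith⟩ := full_faithful_of_isMono hA hX f hf
  refine Fib.isEquivOver_of_exists_iso_over f fun η => ?_
  obtain ⟨yT, ey, hey⟩ := exists_chart hX η
  obtain ⟨V, k, zz, hk, ⟨iz⟩⟩ := exists_cover_lift z hzf hzp hzs (𝒳.p.obj η) yT
  obtain ⟨τ', ⟨i'⟩⟩ := exists_lift_of_cover hA hX f hf yT k
    (Groth.Agent.S10505.result (X := ⟨_, IsAlgSpace.yon_obj (𝒳.p.obj η)⟩)
      (fun _ => ⟨_, IsAlgSpace.yon_obj V⟩) (fun _ => ObjectProperty.homMk ((yon S).map k)) hk)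
    (BasedFunctor.comp zz τ₀) (Fib.isoWhiskerLeft zz i₀ ≪≫ iz)
  refine ⟨τ'.obj (Over.mk (𝟙 _)), Fib.appIso i' (Over.mk (𝟙 _)) ≪≫ ey, ?_⟩
  have h₁ := Fib.appIso_isHomLift i' (Over.mk (𝟙 (𝒳.p.obj η)))
  have : 𝒳.p.IsHomLift (𝟙 (𝒳.p.obj η)) (Fib.appIso i' (Over.mk (𝟙 (𝒳.p.obj η)))).hom := h₁
  change 𝒳.p.IsHomLift _ ((Fib.appIso i' (Over.mk (𝟙 _))).hom ≫ ey.hom)
  infer_instance

/-- Every point of a stack flatly covered by a point covers it flatly. -/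
theorem flat_surjective_fieldPt (h𝒳 : AlgSt.IsAlgStack Scheme.fppfPrecoverage 𝒳)
    {K₀ : Type u} [Field K₀] (a : Spec (CommRingCat.of K₀) ⟶ S)
    (z : FibCat.overCat (Over.mk a) ⥤ᵇ 𝒳)
    (hzs : AlgSt.RepByAlgSpWith IsSurjectiveMor z) (hzf : AlgSt.RepByAlgSpWith (LocP @Flat) z)
    {K₁ : Type u} [Field K₁] (a' : Spec (CommRingCat.of K₁) ⟶ S)
    (z' : FibCat.overCat (Over.mk a') ⥤ᵇ 𝒳) :
    AlgSt.RepByAlgSpWith IsSurjectiveMor z' ∧ AlgSt.RepByAlgSpWith (LocP @Flat) z' := by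
  have hX := h𝒳.isStack.1
  let P : Over S := Over.mk a
  let P' : Over S := Over.mk a'
  have : Subsingleton ↥P.left := inferInstanceAs (Subsingleton ↥(Spec (CommRingCat.of K₀)))
  have hP := Fib.isFibGrpd_overCat P
  have hP' := Fib.isFibGrpd_overCat P'
  have hz' : AlgSt.RepByAlgSp1 z' := repByAlgSp1_of_diag hX h𝒳.diag P' z'
  have hsub : Subsingleton (Points 𝒳) := ⟨fun p q => by
    obtain ⟨v, rfl⟩ := surjective_ofChart hX z hzs p
    obtain ⟨w, rfl⟩ := surjective_ofChart hX z hzs q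
    rw [Subsingleton.elim v w]⟩
  refine ⟨repWith_surjective_of_isSurjective hP' hX z' hz' fun p =>
    ⟨schMk P' (IsLocalRing.closedPoint K₁), Subsingleton.elim _ _⟩, ?_⟩
  refine (locQ_iff_repByAlgSpWith (isAlgStack_overCat P') h𝒳 isSmoothLocalST_flat
    (fun _ _ _ _ hA hB hA' hB' a b a' b' sq h => AlgSpc.locP_base_change hA hB hB' sq h)
    (isLocalOnBase_fppf_of_fpqc AlgSpLoc.isLocalOnBase_flat) z' hz').1 ?_
  have hfp := isAlgStack_fp h𝒳.isStack h𝒳.diag (isAlgStack_overCat P) (isAlgStack_overCat P') z z'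
  have h₁ : AlgSt.LocQ (LocP @Flat) (FibCat.fpSnd z z') :=
    (locQ_iff_repByAlgSpWith hfp (isAlgStack_overCat P') isSmoothLocalST_flat
      (fun _ _ _ _ hA hB hA' hB' a b a' b' sq h => AlgSpc.locP_base_change hA hB hB' sq h)
      (isLocalOnBase_fppf_of_fpqc AlgSpLoc.isLocalOnBase_flat) _
      (repByAlgSp1_of_with (repByAlgSpWith_fpSnd z z' hzf))).2 (repByAlgSpWith_fpSnd z z' hzf)
  refine locQ_flat_of_comp hfp (isAlgStack_overCat P') h𝒳 h₁
    (isSurjective_of_repWith hfp.isStack.1 hP' _ (repByAlgSpWith_fpSnd z z' hzs)) ?_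
  obtain ⟨W, y, hy, hys⟩ := h𝒳.atlas
  obtain ⟨U, x, hx, hxs⟩ := hfp.atlas
  obtain ⟨m, ⟨jm⟩⟩ := exists_iso_overMap (BasedFunctor.comp x (FibCat.fpFst z z'))
  have hPi : AlgSt.RepByAlgSpWith (LocP @Smooth) (AlgSt.overMap (𝟙 P)) :=
    repByAlgSpWith_overMap (P := @Smooth) (𝟙 P) (inferInstanceAs (Smooth (𝟙 P.left)))
  have h₂ : AlgSt.LocQ (LocP @Flat) (FibCat.fpFst z z') := by
    have : IsIntegral P.left := inferInstanceAs (IsIntegral (Spec (CommRingCat.of K₀)))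
    exact ⟨U, P, x, AlgSt.overMap (𝟙 P), m, jm ≪≫
      eqToIso (congrArg AlgSt.overMap (Category.comp_id m).symm) ≪≫ (overMapComp m (𝟙 P)).symm,
      hx, hxs, hPi, locP_yon_of (inferInstance : Flat m.left)⟩
  have h₃ : AlgSt.LocQ (LocP @Flat) z :=
    (locQ_iff_repByAlgSpWith (isAlgStack_overCat P) h𝒳 isSmoothLocalST_flat
      (fun _ _ _ _ hA hB hA' hB' a b a' b' sq h => AlgSpc.locP_base_change hA hB hB' sq h)
      (isLocalOnBase_fppf_of_fpqc AlgSpLoc.isLocalOnBase_flat) z (repByAlgSp1_of_with hzf)).2 hzf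
  obtain ⟨U₁, V₁, x₁, y₁, k₁, α₁, hx₁, hx₁s, hy₁, hk₁⟩ := locQ_comp hfp (isAlgStack_overCat P) h𝒳
    isSmoothLocalST_flat (fun _ _ _ hA hB hC a b ha hb => AlgSpc.locP_comp hA hB hC ha hb) h₂ h₃
  exact ⟨U₁, V₁, x₁, y₁, k₁, α₁ |> fun i =>
    Fib.isoWhiskerLeft x₁ (FibCat.fpIso z z').symm ≪≫ i, hx₁, hx₁s, hy₁, hk₁⟩

end Groth.Agent.AlgStB
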