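import Groth.Prelude.Def_AlgSt
import Groth.Agent.Fib.FpMap
import Mathlib.CategoryTheory.Limits.Types.Pullbacks
import Mathlib.CategoryTheory.Limits.FunctorCategory.Basic
import Mathlib.CategoryTheory.Limits.Shapes.Pullback.IsPullback.Basic

/-!
# Categories fibred in sets attached to presheaves: functors are maps of presheaves
-/

set_option autoImplicit false
set_option backward.isDefEq.respectTransparency false
set_option backward.isDefEq.respectTransparency.types false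

universe w v₂ u₂ v u

open CategoryTheory CategoryTheory.Limits Opposite

namespace Groth.Agent.AlgStB

variable {C : Type u} [Category.{v} C] {P Q R : Cᵒᵖ ⥤ Type w}

theorem elt_eq {a b : Stk.EltObj P} (h : a.base = b.base)
    (h' : P.map (eqToHom h).op b.sec = a.sec) : a = b := by
  obtain ⟨T, x⟩ := a
  obtain ⟨T', y⟩ := b
  change T = T' at h
  subst h
  simp at h'
  rw [h']

theorem ofPsh_base_eq_of_lift {a b : Stk.EltObj P} {U : C} (φ : a ⟶ b)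
    (h : (Stk.ofPsh P).p.IsHomLift (𝟙 U) φ) : a.base = b.base :=
  (IsHomLift.domain_eq (Stk.ofPsh P).p (𝟙 U) φ).trans
    (IsHomLift.codomain_eq (Stk.ofPsh P).p (𝟙 U) φ).symm

theorem ofPsh_hom_eq_of_lift {a b : Stk.EltObj P} {U : C} (φ : a ⟶ b)
    (h : (Stk.ofPsh P).p.IsHomLift (𝟙 U) φ) :
    φ.hom = eqToHom (ofPsh_base_eq_of_lift φ h) := by
  simpa using IsHomLift.fac' (Stk.ofPsh P).p (𝟙 U) φ

theorem ofPsh_eq_of_isHomLift {a b : Stk.EltObj P} {U : C} (φ : a ⟶ b)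
    (h : (Stk.ofPsh P).p.IsHomLift (𝟙 U) φ) : a = b := by
  refine elt_eq (ofPsh_base_eq_of_lift φ h) ?_
  rw [← ofPsh_hom_eq_of_lift φ h]
  exact φ.map_sec

theorem eqToHom_hom {x y : Stk.EltObj P} (h : x = y) :
    (eqToHom h : x ⟶ y).hom = eqToHom (congrArg Stk.EltObj.base h) := by
  subst h; rfl

theorem map_map_op {T T' T'' : C} (f : T ⟶ T') (g : T' ⟶ T'') (x : P.obj (op T'')) :
    P.map f.op (P.map g.op x) = P.map (f ≫ g).op x := by
  rw [op_comp, Functor.map_comp_apply]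

theorem ofPshMap_comp (a : P ⟶ Q) (b : Q ⟶ R) :
    BasedFunctor.comp (Stk.ofPshMap a) (Stk.ofPshMap b) = Stk.ofPshMap (a ≫ b) := rfl

theorem ofPshMap_id : Stk.ofPshMap (𝟙 P) = BasedFunctor.id (Stk.ofPsh P) := rfl

/-- The section of `Q` over `a.base` determined by a functor over the base. -/
def pshSec (Φ : Stk.ofPsh P ⥤ᵇ Stk.ofPsh Q) (a : Stk.EltObj P) : Q.obj (op a.base) :=
  Q.map (eqToHom (Φ.w_obj a).symm).op (Φ.obj a).sec

theorem pshSec_natural (Φ : Stk.ofPsh P ⥤ᵇ Stk.ofPsh Q) {a b : Stk.EltObj P} (f : a ⟶ b) :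
    Q.map f.hom.op (pshSec Φ b) = pshSec Φ a := by
  have h : (Φ.map f).hom = eqToHom (Φ.w_obj a) ≫ f.hom ≫ eqToHom (Φ.w_obj b).symm :=
    Fib.w_map Φ f
  have h' : f.hom ≫ eqToHom (Φ.w_obj b).symm = eqToHom (Φ.w_obj a).symm ≫ (Φ.map f).hom := by
    rw [h]; simp
  calc Q.map f.hom.op (pshSec Φ b)
      = Q.map (f.hom ≫ eqToHom (Φ.w_obj b).symm).op (Φ.obj b).sec := map_map_op _ _ _
    _ = Q.map (eqToHom (Φ.w_obj a).symm ≫ (Φ.map f).hom).op (Φ.obj b).sec :=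
        congrArg (fun m => Q.map (Quiver.Hom.op m) (Φ.obj b).sec) h'
    _ = pshSec Φ a := (map_map_op _ _ _).symm.trans
        (congrArg (Q.map (eqToHom (Φ.w_obj a).symm).op) (Φ.map f).map_sec)

/-- The map of presheaves underlying a functor over the base between their categories. -/
def pshMapOf (Φ : Stk.ofPsh P ⥤ᵇ Stk.ofPsh Q) : P ⟶ Q where
  app T := ↾fun x => pshSec Φ ⟨T.unop, x⟩
  naturality T T' g := by
    ext x
    exact (pshSec_natural Φ (⟨g.unop, rfl⟩ :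
      (⟨T'.unop, P.map g x⟩ : Stk.EltObj P) ⟶ ⟨T.unop, x⟩)).symm

theorem obj_eq (Φ : Stk.ofPsh P ⥤ᵇ Stk.ofPsh Q) (a : Stk.EltObj P) :
    Φ.obj a = (Stk.ofPshMap (pshMapOf Φ)).obj a := by
  refine (elt_eq (Φ.w_obj a).symm ?_).symm
  rfl

/-- Every functor over the base between categories of presheaves comes from a map of presheaves. -/
def isoPshMap (Φ : Stk.ofPsh P ⥤ᵇ Stk.ofPsh Q) : Φ ≅ Stk.ofPshMap (pshMapOf Φ) :=
  Fib.isoMk (fun a => eqToIso (obj_eq Φ a))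
    (fun {a b} f => Stk.EltObj.hom_ext (by
      have h : (Φ.map f).hom = eqToHom (Φ.w_obj a) ≫ f.hom ≫ eqToHom (Φ.w_obj b).symm :=
        Fib.w_map Φ f
      simp only [eqToIso.hom, Stk.EltObj.comp_hom, eqToHom_hom, h]
      simp [Stk.ofPshMap]))
    (fun a => IsHomLift.of_fac' (Stk.ofPsh Q).p (𝟙 _) _ (Φ.w_obj a) rfl (by
      simp [eqToHom_hom]))

theorem eq_of_iso_ofPshMap {a b : P ⟶ Q} (i : Stk.ofPshMap a ≅ Stk.ofPshMap b) : a = b := by
  apply NatTrans.ext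
  funext T
  ext x
  have := ofPsh_eq_of_isHomLift (U := T.unop) (Fib.appIso i (⟨T.unop, x⟩ : Stk.EltObj P)).hom
    (Fib.appIso_isHomLift i (⟨T.unop, x⟩ : Stk.EltObj P))
  simpa [Stk.ofPshMap] using this

theorem nonempty_iso_ofPshMap_iff {a b : P ⟶ Q} :
    Nonempty (Stk.ofPshMap a ≅ Stk.ofPshMap b) ↔ a = b :=
  ⟨fun ⟨i⟩ => eq_of_iso_ofPshMap i, fun h => ⟨eqToIso (by rw [h])⟩⟩

theorem isEquivOver_ofPshMap (a : P ≅ Q) : FibCat.IsEquivOver (Stk.ofPshMap a.hom) :=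
  ⟨Stk.ofPshMap a.inv, ⟨eqToIso (by rw [ofPshMap_comp, a.hom_inv_id, ofPshMap_id])⟩,
    ⟨eqToIso (by rw [ofPshMap_comp, a.inv_hom_id, ofPshMap_id])⟩⟩

theorem isIso_pshMapOf {Φ : Stk.ofPsh P ⥤ᵇ Stk.ofPsh Q} (h : FibCat.IsEquivOver Φ) :
    IsIso (pshMapOf Φ) := by
  obtain ⟨G, ⟨i⟩, ⟨j⟩⟩ := h
  refine ⟨pshMapOf G, eq_of_iso_ofPshMap ?_, eq_of_iso_ofPshMap ?_⟩
  · rw [← ofPshMap_comp, ofPshMap_id]
    exact (Fib.isoWhiskerRight (isoPshMap Φ) _).symm ≪≫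
      (Fib.isoWhiskerLeft Φ (isoPshMap G)).symm ≪≫ i
  · rw [← ofPshMap_comp, ofPshMap_id]
    exact (Fib.isoWhiskerRight (isoPshMap G) _).symm ≪≫
      (Fib.isoWhiskerLeft G (isoPshMap Φ)).symm ≪≫ j

theorem isEquivOver_ofPshMap_iff (a : P ⟶ Q) :
    FibCat.IsEquivOver (Stk.ofPshMap a) ↔ IsIso a := by
  refine ⟨fun h => ?_, fun _ => isEquivOver_ofPshMap (asIso a)⟩
  have e : pshMapOf (Stk.ofPshMap a) = a :=
    (eq_of_iso_ofPshMap (isoPshMap (Stk.ofPshMap a))).symm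
  exact e ▸ isIso_pshMapOf h

/-- The category of a fibre product of presheaves is the 2-fibre product of their categories. -/
theorem isEquivOver_fpLift {X Y Z W : Cᵒᵖ ⥤ Type w} {fst : W ⟶ X} {snd : W ⟶ Y} {a : X ⟶ Z}
    {b : Y ⟶ Z} (sq : IsPullback fst snd a b) :
    ∃ Φ : Stk.ofPsh W ⥤ᵇ FibCat.fp (Stk.ofPshMap b) (Stk.ofPshMap a),
      FibCat.IsEquivOver Φ ∧
        BasedFunctor.comp Φ (FibCat.fpFst _ _) = Stk.ofPshMap snd ∧
        BasedFunctor.comp Φ (FibCat.fpSnd _ _) = Stk.ofPshMap fst := by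
  have hc : BasedFunctor.comp (Stk.ofPshMap snd) (Stk.ofPshMap b) =
      BasedFunctor.comp (Stk.ofPshMap fst) (Stk.ofPshMap a) := by
    rw [ofPshMap_comp, ofPshMap_comp, sq.w]
  refine ⟨FibCat.fpLift (Stk.ofPshMap snd) (Stk.ofPshMap fst) (eqToIso hc), ?_, rfl, rfl⟩
  have sqT : ∀ T : Cᵒᵖ, IsPullback (fst.app T) (snd.app T) (a.app T) (b.app T) :=
    fun T => sq.map ((evaluation _ _).obj T)
  set Φ := FibCat.fpLift (Stk.ofPshMap snd) (Stk.ofPshMap fst) (eqToIso hc)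
  have : Φ.toFunctor.Faithful := ⟨fun {p q} f g h => Stk.EltObj.hom_ext
    (congrArg (fun t => t.hom.fst.hom) h)⟩
  have : Φ.toFunctor.Full := ⟨fun {p q} f => by
    have h₂ : f.hom.snd.hom = f.hom.fst.hom := by
      have := congrArg Stk.EltObj.Hom.hom f.hom.w
      rw [Stk.EltObj.comp_hom, Stk.EltObj.comp_hom, ofPsh_hom_eq_of_lift _ (Φ.obj p).property,
        ofPsh_hom_eq_of_lift _ (Φ.obj q).property] at this
      simpa [Stk.ofPshMap, Φ, FibCat.fpLift] using this.symm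
    refine ⟨⟨f.hom.fst.hom, Types.ext_of_isPullback (sqT _) ?_ ?_⟩,
      Fib.fp_hom_ext (Stk.EltObj.hom_ext rfl) (Stk.EltObj.hom_ext h₂.symm)⟩
    · rw [NatTrans.naturality_apply, ← h₂]
      exact f.hom.snd.map_sec
    · rw [NatTrans.naturality_apply]
      exact f.hom.fst.map_sec⟩
  refine Fib.isEquivOver_of_exists_iso_over _ fun η => ?_
  obtain ⟨⟨⟨T, x⟩, ⟨T', y⟩, i⟩, hi⟩ := η
  have hT : T' = T := (ofPsh_base_eq_of_lift i.hom hi).symm
  subst hT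
  have he := ofPsh_eq_of_isHomLift i.hom hi
  have hxy : a.app _ y = b.app _ x := by
    have := (Stk.EltObj.mk.injEq _ _ _ _).mp he
    exact (eq_of_heq this.2).symm
  obtain ⟨z, hz₁, hz₂⟩ := Types.exists_of_isPullback (sqT (op T')) y x hxy
  subst hz₁ hz₂
  refine ⟨⟨T', z⟩, Fib.fpIsoMk (Iso.refl _) (Iso.refl _) (Stk.EltObj.hom_ext ?_),
    Fib.fp_iso_isHomLift_id _ (IsHomLift.id rfl)⟩
  rw [Stk.EltObj.comp_hom, Stk.EltObj.comp_hom, ofPsh_hom_eq_of_lift _ hi,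
    ofPsh_hom_eq_of_lift _ (Φ.obj ⟨T', z⟩).property]
  simp [Stk.ofPshMap, Φ, FibCat.fpLift]

end Groth.Agent.AlgStB
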