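import Groth.Prelude.Def_AlgSt2
import Groth.Agent.AlgStB.OfPsh
import Groth.Agent.Fib.FpPaste

/-!
# Categories of algebraic spaces and slices; independence of the representing space
-/

set_option autoImplicit false
set_option backward.isDefEq.respectTransparency false
set_option backward.isDefEq.respectTransparency.types false

universe v₃ u₃ v₂ u₂ u

open CategoryTheory CategoryTheory.Limits AlgebraicGeometry Opposite

namespace Groth.Agent.AlgStB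

variable {S : Scheme.{u}} {F G : _root_.AlgSp.Sp S} {U : Over S}

theorem secHom_congr {Φ Ψ : AlgSt.ofSp F ⥤ᵇ FibCat.overCat U} (e : Φ ≅ Ψ)
    (a : (AlgSt.ofSp F).obj) : AlgSt.secHom Φ a = AlgSt.secHom Ψ a := by
  have h := Over.w (Fib.appIso e a).hom
  have h' : (Fib.appIso e a).hom.left = eqToHom ((Φ.w_obj a).trans (Ψ.w_obj a).symm) := by
    haveI := Fib.appIso_isHomLift e a
    refine (IsHomLift.fac' (FibCat.overCat U).p (𝟙 ((AlgSt.ofSp F).p.obj a))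
      (Fib.appIso e a).hom).trans ?_
    simp
  simp only [AlgSt.secHom, ← h, h', eqToHom_trans_assoc]

theorem spMapOfOver_congr {Φ Ψ : AlgSt.ofSp F ⥤ᵇ FibCat.overCat U} (e : Φ ≅ Ψ) :
    AlgSt.spMapOfOver Φ = AlgSt.spMapOfOver Ψ := by
  apply ObjectProperty.hom_ext
  apply NatTrans.ext
  funext T
  ext x
  exact congrArg ULift.up (secHom_congr e ⟨T.unop, x⟩)

theorem spMapOfOver_comp (a : F ⟶ G) (Φ : AlgSt.ofSp G ⥤ᵇ FibCat.overCat U) :
    AlgSt.spMapOfOver (BasedFunctor.comp (AlgSt.ofSpMap a) Φ) = a ≫ AlgSt.spMapOfOver Φ := rfl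

theorem spMapOfOver_toOverCat (a : F ⟶ (_root_.AlgSp.yon S).obj U) :
    AlgSt.spMapOfOver (BasedFunctor.comp (AlgSt.ofSpMap a) (AlgSt.toOverCat U)) = a := by
  apply ObjectProperty.hom_ext
  apply NatTrans.ext
  funext T
  ext x
  exact congrArg ULift.up (Category.id_comp _)

theorem isEquivOver_toOverCat (U : Over S) : FibCat.IsEquivOver (AlgSt.toOverCat U) :=
  ⟨AlgSt.ofOverCat U, ⟨eqToIso rfl⟩, ⟨eqToIso rfl⟩⟩

theorem isEquivOver_ofOverCat (U : Over S) : FibCat.IsEquivOver (AlgSt.ofOverCat U) :=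
  ⟨AlgSt.toOverCat U, ⟨eqToIso rfl⟩, ⟨eqToIso rfl⟩⟩

/-- A functor into a slice is the one of its map of sheaves. -/
noncomputable def isoOfOver (Φ : AlgSt.ofSp F ⥤ᵇ FibCat.overCat U) :
    Φ ≅ BasedFunctor.comp (AlgSt.ofSpMap (AlgSt.spMapOfOver Φ)) (AlgSt.toOverCat U) :=
  Fib.isoMk (fun a => Over.isoMk (eqToIso (Φ.w_obj a)) (by
      change eqToHom (Φ.w_obj a) ≫ AlgSt.secHom Φ a = _
      simp [AlgSt.secHom]))
    (fun {a b} f => by
      apply Over.OverMorphism.ext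
      change (Φ.map f).left ≫ eqToHom (Φ.w_obj b) = eqToHom (Φ.w_obj a) ≫ f.hom
      have h : (Φ.map f).left = eqToHom (Φ.w_obj a) ≫ f.hom ≫ eqToHom (Φ.w_obj b).symm :=
        Fib.w_map Φ f
      simp [h])
    (fun a => IsHomLift.of_fac' (FibCat.overCat U).p (𝟙 _) _ (Φ.w_obj a) rfl (by
      change eqToHom (Φ.w_obj a) = _
      simp))

/-- A functor over the base between categories of sheaves comes from a map of sheaves. -/
theorem exists_ofSpMap (Φ : AlgSt.ofSp F ⥤ᵇ AlgSt.ofSp G) :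
    ∃ a : F ⟶ G, Nonempty (Φ ≅ AlgSt.ofSpMap a) :=
  ⟨ObjectProperty.homMk (pshMapOf Φ), ⟨isoPshMap Φ⟩⟩

theorem isEquivOver_ofSpMap_iff (a : F ⟶ G) :
    FibCat.IsEquivOver (AlgSt.ofSpMap a) ↔ IsIso a := by
  rw [isEquivOver_ofPshMap_iff]
  refine ⟨fun h => ?_,
    fun _ => Functor.map_isIso (sheafToPresheaf _ _) a⟩
  haveI : IsIso ((sheafToPresheaf (_root_.AlgSp.J S) _).map a) := h
  exact isIso_of_reflects_iso a (sheafToPresheaf (_root_.AlgSp.J S) _)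

theorem isEquivOver_of_comp_right {C : Type*} [Category C] {𝒳 : BasedCategory.{v₂, u₂} C}
    {𝒴 𝒵 : BasedCategory.{v₃, u₃} C} {Φ : 𝒳 ⥤ᵇ 𝒴} {Ψ : 𝒴 ⥤ᵇ 𝒵} (hΨ : FibCat.IsEquivOver Ψ)
    (h : FibCat.IsEquivOver (BasedFunctor.comp Φ Ψ)) : FibCat.IsEquivOver Φ := by
  obtain ⟨Ψ', hΨ', ⟨i⟩, -⟩ := Fib.exists_quasiInverse hΨ
  exact Fib.isEquivOver_of_iso (F := BasedFunctor.comp (BasedFunctor.comp Φ Ψ) Ψ')
    (Fib.isoWhiskerLeft Φ i) (Fib.isEquivOver_comp h hΨ')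

variable {𝒵 : BasedCategory.{v₂, u₂} (Over S)}

/-- Two representations of a category differ by an isomorphism of sheaves. -/
theorem exists_iso_of_reps (e : AlgSt.ofSp F ⥤ᵇ 𝒵) (e' : AlgSt.ofSp G ⥤ᵇ 𝒵)
    (he : FibCat.IsEquivOver e) (he' : FibCat.IsEquivOver e') :
    ∃ i : F ≅ G, Nonempty (BasedFunctor.comp (AlgSt.ofSpMap i.hom) e' ≅ e) := by
  obtain ⟨g, hg, -, ⟨j⟩⟩ := Fib.exists_quasiInverse he'
  obtain ⟨a, ⟨k⟩⟩ := exists_ofSpMap (BasedFunctor.comp e g)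
  have : IsIso a := (isEquivOver_ofSpMap_iff a).1
    (Fib.isEquivOver_of_iso k (Fib.isEquivOver_comp he hg))
  exact ⟨asIso a, ⟨Fib.isoWhiskerRight k.symm e' ≪≫ Fib.isoWhiskerLeft e j⟩⟩

/-- Independence of the representation for a property respecting isomorphisms. -/
theorem prop_spMap_iff_of_reps (P : MorphismProperty (_root_.AlgSp.Sp S)) [P.RespectsIso]
    (π : 𝒵 ⥤ᵇ FibCat.overCat U) (e : AlgSt.ofSp F ⥤ᵇ 𝒵) (e' : AlgSt.ofSp G ⥤ᵇ 𝒵)
    (he : FibCat.IsEquivOver e) (he' : FibCat.IsEquivOver e') :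
    P (AlgSt.spMapOfOver (BasedFunctor.comp e π)) ↔
      P (AlgSt.spMapOfOver (BasedFunctor.comp e' π)) := by
  obtain ⟨i, ⟨j⟩⟩ := exists_iso_of_reps e e' he he'
  rw [← spMapOfOver_congr (Fib.isoWhiskerRight j π)]
  change P (AlgSt.spMapOfOver (BasedFunctor.comp (AlgSt.ofSpMap i.hom) (BasedFunctor.comp e' π))) ↔ _
  rw [spMapOfOver_comp, P.cancel_left_of_respectsIso]

end Groth.Agent.AlgStB
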