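import Groth.Agent.AlgStB.Descent

/-!
# The category of a presheaf of sets is a stack exactly when the presheaf is a sheaf
-/

set_option autoImplicit false
set_option backward.isDefEq.respectTransparency false
set_option backward.isDefEq.respectTransparency.types false

universe w v₂ u₂ v u

open CategoryTheory Opposite

namespace Groth.Agent.AlgStB

variable {C : Type u} [Category.{v} C] {W : Cᵒᵖ ⥤ Type w} {U : C} (R : Sieve U)

/-- Two 2-morphisms into the category of a presheaf are equal. -/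
theorem natTrans_ofPsh_subsingleton {𝒜 : BasedCategory.{v₂, u₂} C} {Φ Ψ : 𝒜 ⥤ᵇ Stk.ofPsh W}
    (α β : Φ ⟶ Ψ) : α = β :=
  Fib.hom_ext' fun a => Stk.EltObj.hom_ext (by
    have h₁ : (Stk.ofPsh W).p.IsHomLift (𝟙 (𝒜.p.obj a)) (α.toNatTrans.app a) :=
      BasedNatTrans.isHomLift α rfl
    have h₂ : (Stk.ofPsh W).p.IsHomLift (𝟙 (𝒜.p.obj a)) (β.toNatTrans.app a) :=
      BasedNatTrans.isHomLift β rfl
    exact (IsHomLift.fac' (Stk.ofPsh W).p (𝟙 (𝒜.p.obj a)) (α.toNatTrans.app a)).trans
      (IsHomLift.fac' (Stk.ofPsh W).p (𝟙 (𝒜.p.obj a)) (β.toNatTrans.app a)).symm)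

/-- The family of sections of a functor out of a sieve. -/
def sieveFamily (Φ : Stk.sieveCat R ⥤ᵇ Stk.ofPsh W) : Presieve.FamilyOfElements W R.arrows :=
  fun _ f hf => secAt Φ (⟨Over.mk f, hf⟩ : (Stk.sieveCat R).obj)

theorem sieveFamily_compatible (Φ : Stk.sieveCat R ⥤ᵇ Stk.ofPsh W) : (sieveFamily R Φ).Compatible := by
  rw [Presieve.compatible_iff_sieveCompatible]
  intro Y Z f g hf
  exact (secAt_natural Φ (ObjectProperty.homMk (Over.homMk g rfl) :
    (⟨Over.mk (g ≫ f), R.downward_closed hf g⟩ : (Stk.sieveCat R).obj) ⟶ ⟨Over.mk f, hf⟩)).symm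

/-- The functor out of a sieve of a compatible family. -/
def ofFamily (x : Presieve.FamilyOfElements W R.arrows) (hx : x.Compatible) :
    Stk.sieveCat R ⥤ᵇ Stk.ofPsh W where
  toFunctor :=
    { obj := fun a => ⟨a.obj.left, x a.obj.hom a.property⟩
      map := fun {a b} φ => ⟨φ.hom.left, by
        rw [← (Presieve.compatible_iff_sieveCompatible x).1 hx b.obj.hom φ.hom.left b.property]
        congr 1
        exact Over.w φ.hom⟩ }
  w := rfl

theorem secAt_slice (Φ : FibCat.overCat U ⥤ᵇ Stk.ofPsh W) (a : Over U) :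
    secAt Φ a = W.map a.hom.op (secAt Φ (Over.mk (𝟙 U))) :=
  (secAt_natural Φ (Fib.toId a)).symm

theorem isSheaf_of_isStack_ofPsh {J : GrothendieckTopology C} (h : Stk.IsStack J (Stk.ofPsh W)) :
    Presieve.IsSheaf J W := by
  intro U R hR x hx
  have hE : (Stk.resSieve R (Stk.ofPsh W)).IsEquivalence := h.2 R hR
  let G := (Stk.resSieve R (Stk.ofPsh W)).objPreimage (ofFamily R x hx)
  let α := (Stk.resSieve R (Stk.ofPsh W)).objObjPreimageIso (ofFamily R x hx)
  have hα : ∀ {Y : C} (f : Y ⟶ U) (hf : R f), W.map f.op (secAt G (Over.mk (𝟙 U))) = x f hf := by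
    intro Y f hf
    have h₁ := secAt_eq_of_iso α (⟨Over.mk f, hf⟩ : (Stk.sieveCat R).obj)
    change secAt (BasedFunctor.comp (Stk.sieveIncl R) G) _ = _ at h₁
    rw [secAt_comp, secAt_slice G] at h₁
    have h₂ : secAt (ofFamily R x hx) (⟨Over.mk f, hf⟩ : (Stk.sieveCat R).obj) = x f hf := by
      change W.map (𝟙 _) _ = _
      simp
      rfl
    rw [← h₂, ← h₁]
    change _ = W.map (𝟙 _) (W.map f.op _)
    simp
  refine ⟨secAt G (Over.mk (𝟙 U)), fun Y f hf => hα f hf, fun z hz => ?_⟩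
  let Gz := ofSection (W := W) z
  let Gw := ofSection (W := W) (secAt G (Over.mk (𝟙 U)))
  let m : (Stk.resSieve R (Stk.ofPsh W)).obj Gz ≅ (Stk.resSieve R (Stk.ofPsh W)).obj Gw :=
    isoOfSecAt (Φ := BasedFunctor.comp (Stk.sieveIncl R) Gz)
      (Ψ := BasedFunctor.comp (Stk.sieveIncl R) Gw) fun b => by
      rw [secAt_comp, secAt_comp, secAt_ofSection, secAt_ofSection]
      congr 1
      exact (hz b.obj.hom b.property).trans (hα b.obj.hom b.property).symm
  have := secAt_eq_of_iso ((Stk.resSieve R (Stk.ofPsh W)).preimageIso m) (Over.mk (𝟙 U))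
  rw [secAt_ofSection, secAt_ofSection] at this
  change W.map (𝟙 _) _ = W.map (𝟙 _) _ at this
  simp at this
  exact this

theorem isStack_ofPsh_of_isSheaf {J : GrothendieckTopology C} (h : Presieve.IsSheaf J W) :
    Stk.IsStack J (Stk.ofPsh W) := by
  refine ⟨Stk.isFibGrpd_ofPsh W, fun U R hR => ?_⟩
  have hh := h R hR
  exact
    { faithful := ⟨fun {_ _} _ _ _ => natTrans_ofPsh_subsingleton _ _⟩
      full := ⟨fun {G₁ G₂} β => by
        obtain ⟨i, -⟩ := exists_iso_of_natTrans (Stk.isFibGrpd_ofPsh W) β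
        have e : secAt G₁ (Over.mk (𝟙 U)) = secAt G₂ (Over.mk (𝟙 U)) := by
          refine hh.isSeparatedFor.ext fun Y f hf => ?_
          have h₁ := secAt_eq_of_iso i (⟨Over.mk f, hf⟩ : (Stk.sieveCat R).obj)
          change secAt (BasedFunctor.comp (Stk.sieveIncl R) G₁) _ =
            secAt (BasedFunctor.comp (Stk.sieveIncl R) G₂) _ at h₁
          rw [secAt_comp, secAt_comp, secAt_slice G₁, secAt_slice G₂] at h₁
          change W.map (𝟙 _) (W.map f.op _) = W.map (𝟙 _) (W.map f.op _) at h₁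
          simp at h₁
          exact h₁
        exact ⟨(isoOfSecAt (Φ := G₁) (Ψ := G₂) fun a => by rw [secAt_slice G₁, secAt_slice G₂, e]).hom,
          natTrans_ofPsh_subsingleton _ _⟩⟩
      essSurj := ⟨fun H => by
        obtain ⟨w, hw, -⟩ := hh _ (sieveFamily_compatible R H)
        refine ⟨ofSection w, ⟨isoOfSecAt (Φ := BasedFunctor.comp (Stk.sieveIncl R) (ofSection w)) (Ψ := H) fun b => ?_⟩⟩
        rw [secAt_comp, secAt_ofSection]
        refine Eq.trans ?_ (hw b.obj.hom b.property)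
        change W.map (𝟙 _) _ = _
        simp
        rfl⟩ }

end Groth.Agent.AlgStB
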