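import Groth.Agent.AlgStB.Algebraic
import Groth.Agent.AlgStB.RepDiag
import Groth.Agent.AlgSpLoc.Base
import Groth.Agent.AlgSpLoc.EtLocMore
import Groth.Prelude.Def_AlgSt3

/-!
# Descent of properties of representable 1-morphisms along smooth surjective morphisms
-/

set_option autoImplicit false
set_option backward.isDefEq.respectTransparency false
set_option backward.isDefEq.respectTransparency.types false

universe v₄ u₄ v₃ u₃ v₂ u₂ u

open CategoryTheory CategoryTheory.Limits AlgebraicGeometry Opposite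

namespace Groth.Agent.AlgStB

open _root_.AlgSp

variable {S : Scheme.{u}} {P : MorphismProperty Scheme.{u}}

instance respectsIso_locP (P : MorphismProperty Scheme.{u}) :
    (LocP P : MorphismProperty (Sp S)).RespectsIso := by
  refine MorphismProperty.RespectsIso.mk _ (fun e f hf U V a b h ha hb w => ?_)
    (fun e f hf U V a b h ha hb w => ?_)
  · exact hf (a ≫ e.hom) b h (AlgSpc.repWith_comp ha (AlgSpc.repWith_iso e.hom)) hb
      (by rw [Category.assoc, w])
  · exact hf a (b ≫ e.inv) h ha (AlgSpc.repWith_comp hb (AlgSpc.repWith_iso e.inv))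
      (by rw [← Category.assoc, ← w]; simp)

instance respectsIso_isSurjectiveMor : (IsSurjectiveMor (S := S)).RespectsIso := by
  refine MorphismProperty.RespectsIso.mk _ (fun e f hf => ?_) (fun e f hf => ?_)
  · exact isSurjectiveMor_baseChange
      (IsPullback.of_horiz_isIso (fst := e.hom) (g := 𝟙 _) ⟨(Category.comp_id _).symm⟩) hf
  · exact isSurjectiveMor_baseChange
      (IsPullback.of_horiz_isIso (fst := 𝟙 _) (g := e.inv) ⟨by simp⟩) hf

/-- Smooth surjective descent on a scheme base. -/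
theorem locP_of_smooth_surjective [AlgSpc.EtLoc P] [P.IsStableUnderBaseChange]
    [IsZariskiLocalAtTarget P]
    [P.DescendsAlong (@Surjective ⊓ @Flat ⊓ @QuasiCompact : MorphismProperty Scheme.{u})]
    {F F₂ : Sp S} (hF : IsAlgSpace F) {U U₂ : Over S} (φ : F ⟶ (yon S).obj U) (k : U₂ ⟶ U)
    [Smooth k.left] [Surjective k.left] {p : F₂ ⟶ F} {φ₂ : F₂ ⟶ (yon S).obj U₂}
    (sq : IsPullback p φ₂ φ ((yon S).map k)) (h : LocP P φ₂) : LocP P φ := by
  obtain ⟨A, a, ha, has⟩ := hF.atlas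
  let n : A ⟶ U := AlgSpc.pre (a ≫ φ)
  refine AlgSpc.locP_of_chart (b := 𝟙 _) ha has (AlgSpc.repWith_iso _) (h := n) (by simp [n]) ?_
  have s : IsPullback ((yon S).map (pullback.fst n k)) ((yon S).map (pullback.snd n k))
      ((yon S).map n) ((yon S).map k) := (IsPullback.of_hasPullback n k).map (yon S)
  have w : ((yon S).map (pullback.fst n k) ≫ a) ≫ φ =
      (yon S).map (pullback.snd n k) ≫ (yon S).map k := by
    rw [Category.assoc, ← s.w]; simp [n]
  let l := sq.lift _ _ w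
  have sl : IsPullback ((yon S).map (pullback.fst n k)) l a p := by
    refine IsPullback.of_bot ?_ (by simp [l]) sq
    convert s using 1 <;> simp [l, n]
  have hl : RepWith @Etale l := AlgSpc.repWith_of_isPullback sl ha
  have hn : P (pullback.snd n k).left := h l (𝟙 _) (pullback.snd n k) hl (AlgSpc.repWith_iso _)
    (by simp [l])
  exact MorphismProperty.of_isPullback_of_descendsAlong
    (Q := (@Surjective ⊓ @Flat ⊓ @LocallyOfFinitePresentation : MorphismProperty Scheme.{u}))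
    (AlgSpLoc.isPullback_left s).flip ⟨⟨inferInstance, inferInstance⟩, inferInstance⟩ hn

theorem smooth_left_of_locP {U V : Over S} (k : U ⟶ V) (h : LocP @Smooth ((yon S).map k)) :
    Smooth k.left :=
  h (𝟙 _) (𝟙 _) k (AlgSpc.repWith_iso _) (AlgSpc.repWith_iso _) (by simp)

/-- Composition with `k` is the map of sheaves of `k`. -/
noncomputable def overMapIso {U₂ U : Over S} (k : U₂ ⟶ U) :
    BasedFunctor.comp (BasedFunctor.comp (AlgSt.ofOverCat U₂) (AlgSt.ofSpMap ((yon S).map k)))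
      (AlgSt.toOverCat U) ≅ AlgSt.overMap k :=
  Fib.isoMk (fun g => Over.isoMk (Iso.refl g.left) (Category.id_comp _))
    (fun φ => Over.OverMorphism.ext ((Category.comp_id _).trans (Category.id_comp _).symm))
    (fun g => IsHomLift.id rfl)

variable {𝒳 : BasedCategory.{v₂, u₂} (Over S)} {𝒴 : BasedCategory.{v₃, u₃} (Over S)}
  {𝒬 : BasedCategory.{v₄, u₄} (Over S)}

/-- The property of a base change read at a scheme over `U`. -/
theorem prop_snd_of_rep {Q : MorphismProperty (Sp S)} [Q.RespectsIso] (f : 𝒳 ⥤ᵇ 𝒴)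
    {U U₂ : Over S} (y : FibCat.overCat U ⥤ᵇ 𝒴) {F : Sp S} (e : AlgSt.ofSp F ⥤ᵇ FibCat.fp y f)
    (he : FibCat.IsEquivOver e) (k : U₂ ⟶ U) {F₂ : Sp S} {p : F₂ ⟶ F}
    {φ₂ : F₂ ⟶ (yon S).obj U₂}
    (sq : IsPullback p φ₂ (AlgSt.spMapOfOver (BasedFunctor.comp e (FibCat.fpFst y f)))
      ((yon S).map k))
    {G : Sp S} (e₂ : AlgSt.ofSp G ⥤ᵇ FibCat.fp (BasedFunctor.comp (AlgSt.overMap k) y) f)
    (he₂ : FibCat.IsEquivOver e₂)
    (hQ : Q (AlgSt.spMapOfOver (BasedFunctor.comp e₂ (FibCat.fpFst _ f)))) : Q φ₂ := by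
  have sq' : IsPullback p.hom φ₂.hom
      (AlgSt.spMapOfOver (BasedFunctor.comp e (FibCat.fpFst y f))).hom ((yon S).map k).hom :=
    sq.map (sheafToPresheaf (J S) _)
  obtain ⟨Φ, hΦ, hπ⟩ := exists_fp_rep sq'
    (BasedFunctor.comp (AlgSt.ofOverCat U₂) (AlgSt.ofSpMap ((yon S).map k))) (Iso.refl _)
  have := Fib.full_of_isEquivOver (isEquivOver_toOverCat U)
  have := Fib.faithful_of_isEquivOver (isEquivOver_toOverCat U)
  let M := Fib.fpMap (BasedFunctor.id (FibCat.overCat U₂)) e (AlgSt.toOverCat U)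
    (F' := BasedFunctor.comp (AlgSt.ofOverCat U₂) (AlgSt.ofSpMap ((yon S).map k)))
    (G' := Stk.ofPshMap (AlgSt.spMapOfOver (BasedFunctor.comp e (FibCat.fpFst y f))).hom)
    (F := AlgSt.overMap k) (G := FibCat.fpFst y f) (overMapIso k)
    (isoOfOver (BasedFunctor.comp e (FibCat.fpFst y f))).symm
  let e₃ := BasedFunctor.comp (BasedFunctor.comp Φ M) (Fib.fpBC (AlgSt.overMap k) y f)
  have he₃ : FibCat.IsEquivOver e₃ := Fib.isEquivOver_comp (Fib.isEquivOver_comp hΦ
    (Fib.isEquivOver_fpMap _ _ _ _ _ (Fib.isEquivOver_id _) he)) (Fib.isEquivOver_fpBC _ _ _)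
  have h := (prop_spMap_iff_of_reps Q (FibCat.fpFst _ f) e₂ e₃ he₂ he₃).1 hQ
  rw [show BasedFunctor.comp e₃ (FibCat.fpFst _ f) = _ from hπ] at h
  exact (spMapOfOver_toOverCat (F := F₂) (U := U₂) φ₂) ▸ h

/-- A property of a representable 1-morphism descends along a smooth surjective morphism to its
target. -/
theorem repByAlgSpWith_locP_of_cover [AlgSpc.EtLoc P] [P.IsStableUnderBaseChange]
    [IsZariskiLocalAtTarget P]
    [P.DescendsAlong (@Surjective ⊓ @Flat ⊓ @QuasiCompact : MorphismProperty Scheme.{u})]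
    (f : 𝒳 ⥤ᵇ 𝒴) (hf : AlgSt.RepByAlgSp1 f) (q : 𝒬 ⥤ᵇ 𝒴)
    (hq : AlgSt.RepByAlgSpWith (LocP @Smooth) q) (hqs : AlgSt.RepByAlgSpWith IsSurjectiveMor q)
    (h : AlgSt.RepByAlgSpWith (LocP P) (FibCat.fpFst q f)) : AlgSt.RepByAlgSpWith (LocP P) f := by
  intro U y
  obtain ⟨F, e, he⟩ := hf U y
  refine ⟨F, e, he, ?_⟩
  obtain ⟨G, ε, hε, hs⟩ := hq U y
  obtain ⟨G', ε', hε', hs'⟩ := hqs U y
  have hsurj := (prop_spMap_iff_of_reps IsSurjectiveMor (FibCat.fpFst y q) ε' ε hε' hε).1 hs'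
  let ψ := AlgSt.spMapOfOver (BasedFunctor.comp ε (FibCat.fpFst y q))
  obtain ⟨U₂, c, hc, hcs⟩ := G.property.atlas
  let k : U₂ ⟶ U := AlgSpc.pre (c ≫ ψ)
  have hk : (yon S).map k = c ≫ ψ := AlgSpc.map_pre _
  have : Smooth k.left := hs c (𝟙 _) k hc (AlgSpc.repWith_iso _) (by simp [k, ψ])
  have : Surjective k.left := ((repWith_yon_map_iff (@Surjective : MorphismProperty Scheme.{u}) k).1
    ((AlgSpc.repWith_surjective_iff (((repWith_yon_map_iff (⊤ : MorphismProperty Scheme.{u}) k).2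
      trivial).1)).2 (by
        rw [hk]
        intro x
        obtain ⟨g, rfl⟩ := hsurj x
        obtain ⟨a, rfl⟩ := AlgSpc.surjective_map_of_repWith hcs g
        exact ⟨a, Points.map_comp c ψ a⟩)))
  let T₂ := BasedFunctor.comp (AlgSt.ofOverCat U₂) (BasedFunctor.comp (AlgSt.ofSpMap c) ε)
  let y₂ := BasedFunctor.comp T₂ (FibCat.fpSnd y q)
  obtain ⟨F₂, e₂, he₂, hP⟩ := h U₂ y₂
  let i₁ : BasedFunctor.comp T₂ (FibCat.fpFst y q) ≅ AlgSt.overMap k :=
    Fib.isoWhiskerLeft (BasedFunctor.comp (AlgSt.ofOverCat U₂) (AlgSt.ofSpMap c))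
        (isoOfOver (BasedFunctor.comp ε (FibCat.fpFst y q))) ≪≫
      eqToIso (congrArg (fun t => BasedFunctor.comp (BasedFunctor.comp (AlgSt.ofOverCat U₂)
        (AlgSt.ofSpMap t)) (AlgSt.toOverCat U)) hk.symm) ≪≫ overMapIso k
  let i : BasedFunctor.comp y₂ q ≅ BasedFunctor.comp (AlgSt.overMap k) y :=
    Fib.isoWhiskerLeft T₂ (FibCat.fpIso y q).symm ≪≫ Fib.isoWhiskerRight i₁ y
  obtain ⟨_, _⟩ := id_full_faithful 𝒴
  let D := Fib.fpMap (BasedFunctor.id (FibCat.overCat U₂)) (BasedFunctor.id 𝒳) (BasedFunctor.id 𝒴)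
    (F' := BasedFunctor.comp y₂ q) (G' := f) (F := BasedFunctor.comp (AlgSt.overMap k) y) (G := f)
    i (Iso.refl _)
  refine locP_of_smooth_surjective F.property _ k (IsPullback.of_hasPullback _ _) ?_
  exact prop_snd_of_rep f y e he k (IsPullback.of_hasPullback _ _)
    (BasedFunctor.comp (BasedFunctor.comp e₂ (Fib.fpBC y₂ q f)) D)
    (Fib.isEquivOver_comp (Fib.isEquivOver_comp he₂ (Fib.isEquivOver_fpBC _ _ _))
      (Fib.isEquivOver_fpMap _ _ _ _ _ (Fib.isEquivOver_id _) (Fib.isEquivOver_id _))) hP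

end Groth.Agent.AlgStB
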