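import Groth.Agent.AlgStB.SmoothBootstrapSp
import Groth.Agent.AlgStB.PshStack
import Groth.Agent.AlgStB.FpAlgebraic
import Groth.Agent.AlgStB.SpaceStack
import Groth.Agent.AlgStB.TargetDescent
import Groth.Agent.AlgStB.Spaces

/-!
# Algebraic stacks in setoids are algebraic spaces
-/

set_option autoImplicit false
set_option linter.style.haveILetI false
set_option backward.isDefEq.respectTransparency false
set_option backward.isDefEq.respectTransparency.types false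

universe v₃ u₃ v₂ u₂ u

open CategoryTheory CategoryTheory.Limits AlgebraicGeometry Opposite

namespace Groth.Agent.AlgStB

open _root_.AlgSp

variable {S : Scheme.{u}}

theorem repByAlgSp_of_isFibSetoid_of_atlas {𝒳 : AlgSt.Cat S}
    (hst : Stk.IsStack (QuotSh.J Scheme.fppfPrecoverage S) 𝒳)
    (hat : AlgSt.HasAtlas (LocP @Smooth) 𝒳)
    (hs : FibCat.IsFibSetoid 𝒳.p) : AlgSt.RepByAlgSp 𝒳 := by
  have he := isEquivOver_toClasses hs
  have hsh : Presheaf.IsSheaf (J S) (classes hs.1) := (isSheaf_iff_isSheaf_of_type _ _).2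
    (isSheaf_of_isStack_ofPsh ((isStack_iff_of_isEquivOver he _).1 hst))
  let F : Sp S := ⟨classes hs.1, hsh⟩
  obtain ⟨U, x, hx, hx'⟩ := hat
  let x₀ : AlgSt.ofSch U ⥤ᵇ Stk.ofPsh (classes hs.1) :=
    BasedFunctor.comp (AlgSt.toOverCat U) (BasedFunctor.comp x (toClasses hs.1))
  let q : (yon S).obj U ⟶ F := ObjectProperty.homMk (pshMapOf x₀)
  have key : ∀ {Q : MorphismProperty (Sp S)} [Q.RespectsIso],
      AlgSt.RepByAlgSpWith Q x → RepBySpWith Q q.hom := by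
    intro Q _ hQ
    refine repBySpWith_of_repByAlgSpWith (repByAlgSpWith_of_iso (isoPshMap x₀) ?_)
    exact (repByAlgSpWith_iff_of_square (BasedFunctor.comp x (toClasses hs.1)) x₀ (AlgSt.toOverCat U)
      (BasedFunctor.id _) (isEquivOver_toOverCat U) (Fib.isEquivOver_id _) (Iso.refl _)).1
      (repByAlgSpWith_comp_equiv he hQ)
  have hq : RepBySpWith (IsSurjectiveMor ⊓ LocP @Smooth) q.hom := fun V ξ F' fst snd sq => by
    obtain ⟨h₁, h₂, h₃⟩ := key hx' ξ fst snd sq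
    obtain ⟨_, _, h₄⟩ := key hx ξ fst snd sq
    exact ⟨h₁, h₂, h₃, h₄⟩
  obtain ⟨g, hg, -, -⟩ := Fib.exists_quasiInverse he
  exact ⟨⟨F, AlgSpc.isAlgSpace_of_smooth_cover_scheme q hq⟩, g, hg⟩

theorem repByAlgSp_of_isFibSetoid {𝒳 : AlgSt.Cat S} (h : AlgSt.IsAlgStack Scheme.fppfPrecoverage 𝒳)
    (hs : FibCat.IsFibSetoid 𝒳.p) : AlgSt.RepByAlgSp 𝒳 :=
  repByAlgSp_of_isFibSetoid_of_atlas h.isStack h.atlas hs

theorem isFibSetoid_iff_repByAlgSp {𝒳 : AlgSt.Cat S}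
    (h : AlgSt.IsAlgStack Scheme.fppfPrecoverage 𝒳) :
    FibCat.IsFibSetoid 𝒳.p ↔ AlgSt.RepByAlgSp 𝒳 :=
  ⟨repByAlgSp_of_isFibSetoid h, isFibSetoid_of_repByAlgSp h.isStack.1⟩

theorem repByAlgSp1_of_faithful {𝒳 𝒴 : AlgSt.Cat S}
    (h𝒳 : AlgSt.IsAlgStack Scheme.fppfPrecoverage 𝒳)
    (h𝒴 : AlgSt.IsAlgStack Scheme.fppfPrecoverage 𝒴) (f : 𝒳 ⥤ᵇ 𝒴) [f.toFunctor.Faithful] :
    AlgSt.RepByAlgSp1 f := by
  intro U y
  have hU : (FibCat.overCat U).p.Faithful := inferInstanceAs (Over.forget U).Faithful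
  have hs := Fib.isFibSetoid_fp f y h𝒳.isStack.1
    (Fib.isFibSetoid_of_faithful _ (Fib.isFibGrpd_overCat U)) h𝒴.isStack.1
  exact repByAlgSp_of_isEquivOver _ (Fib.isEquivOver_fpSwap f y)
    (repByAlgSp_of_isFibSetoid (isAlgStack_fp' h𝒳 (isAlgStack_overCat U) h𝒴 f y) hs)

theorem faithful_iff_repByAlgSp1 {𝒳 𝒴 : AlgSt.Cat S}
    (h𝒳 : AlgSt.IsAlgStack Scheme.fppfPrecoverage 𝒳)
    (h𝒴 : AlgSt.IsAlgStack Scheme.fppfPrecoverage 𝒴) (f : 𝒳 ⥤ᵇ 𝒴) :
    f.toFunctor.Faithful ↔ AlgSt.RepByAlgSp1 f :=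
  ⟨fun _ => repByAlgSp1_of_faithful h𝒳 h𝒴 f, faithful_of_repByAlgSp1 h𝒳.isStack.1 h𝒴.isStack.1⟩

/-- A fully faithful 1-morphism representable by algebraic spaces is a monomorphism. -/
theorem isMono_of_repByAlgSp1 {𝒳 : BasedCategory.{v₂, u₂} (Over S)}
    {𝒴 : BasedCategory.{v₃, u₃} (Over S)} (f : 𝒳 ⥤ᵇ 𝒴) [f.toFunctor.Full] [f.toFunctor.Faithful]
    (hf : AlgSt.RepByAlgSp1 f) : AlgSt.IsMono f := by
  intro U y
  obtain ⟨F, e, he⟩ := hf U y
  refine ⟨F, e, he, ?_⟩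
  let φ := AlgSt.spMapOfOver (BasedFunctor.comp e (FibCat.fpFst y f))
  have : (FibCat.fpFst y f).toFunctor.Full := ⟨fun {a b} φ => by
    obtain ⟨m, hm⟩ := f.toFunctor.map_surjective (a.obj.iso.inv ≫ y.map φ ≫ b.obj.iso.hom)
    exact ⟨Fib.fpHomMk φ m (by rw [hm, Iso.hom_inv_id_assoc]), rfl⟩⟩
  have := Fib.full_of_isEquivOver he
  have : (BasedFunctor.comp e (FibCat.fpFst y f)).toFunctor.Full :=
    inferInstanceAs (e.toFunctor ⋙ (FibCat.fpFst y f).toFunctor).Full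
  let η : (BasedFunctor.comp e (FibCat.fpFst y f)).toFunctor ≅
      (BasedFunctor.comp (AlgSt.ofSpMap φ) (AlgSt.toOverCat U)).toFunctor :=
    (BasedNatTrans.forgetful _ _).mapIso (isoOfOver (BasedFunctor.comp e (FibCat.fpFst y f)))
  have : ((AlgSt.ofSpMap φ).toFunctor ⋙ (AlgSt.toOverCat U).toFunctor).Full :=
    Functor.Full.of_iso η
  have := Fib.faithful_of_isEquivOver (isEquivOver_toOverCat U)
  have : (AlgSt.ofSpMap φ).toFunctor.Full :=
    Functor.Full.of_comp_faithful (AlgSt.ofSpMap φ).toFunctor (AlgSt.toOverCat U).toFunctor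
  have : Mono φ.hom := by
    refine @NatTrans.mono_of_mono_app _ _ _ _ _ _ _ fun T => (mono_iff_injective _).2 fun s t hst => ?_
    let a : Stk.EltObj F.obj.obj := ⟨T.unop, s⟩
    let b : Stk.EltObj F.obj.obj := ⟨T.unop, t⟩
    obtain ⟨m, hm⟩ := (AlgSt.ofSpMap φ).toFunctor.map_surjective (X := a) (Y := b)
      ⟨𝟙 _, by
        change ((yon S).obj U).obj.map (𝟙 T) (φ.hom.app T t) = φ.hom.app T s
        rw [FunctorToTypes.map_id_apply]
        exact hst.symm⟩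
    have hm' : m.hom = 𝟙 T.unop := congrArg Stk.EltObj.Hom.hom hm
    have := m.map_sec
    rw [hm'] at this
    exact ((by simpa [a, b] using this : t = s)).symm
  exact (sheafToPresheaf (J S) _).mono_of_mono_map this

end Groth.Agent.AlgStB
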