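import Groth.Agent.AlgStB.TrivialStab
import Groth.Agent.AlgStB.SubstackPoints
import Groth.Agent.AlgStB.SetoidSpace
import Groth.Agent.AlgStB.Mono
import Groth.Agent.AlgStB.DiagLft
import Groth.Agent.AlgSpc.Props2
import Groth.Agent.Fib.Transfer

/-!
# Stacks covered by open substacks which are schemes
-/

set_option autoImplicit false
set_option backward.isDefEq.respectTransparency false
set_option backward.isDefEq.respectTransparency.types false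

universe w u

open CategoryTheory CategoryTheory.Limits AlgebraicGeometry Opposite

namespace Groth.Agent.AlgStB

open _root_.AlgSt (Points FPt)
open _root_.AlgSp (Sp IsAlgSpace yon RepWith)

noncomputable section

variable {S : Scheme.{u}} {𝒳 : AlgSt.Cat S}

theorem mem_openSubstack_of_point (h𝒳 : FibCat.IsFibGrpd 𝒳.p) {Q : 𝒳.obj → Prop}
    (hQ : AlgSt.IsOpenSubstack 𝒳 Q Scheme.fppfPrecoverage) {k : Type u} [Field k]
    {s : Spec (CommRingCat.of k) ⟶ S} (x : 𝒳.obj) (hx : 𝒳.p.obj x = Over.mk s)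
    (h : Points.mk ⟨k, s, x, hx⟩ ∈ Set.range (Points.map (AlgSt.subIncl 𝒳 Q))) : Q x := by
  refine (openSubstack_iff h𝒳 hQ x).2 ?_
  rintro _ ⟨r, m, rfl⟩
  rwa [mk_eq_of_hom (p := r) (q := ⟨k, s, x, hx⟩) m]

/-- A stack covered by open substacks which are schemes is a scheme. -/
theorem isRepresentable_of_openCover (h𝒳 : AlgSt.IsAlgStack Scheme.fppfPrecoverage 𝒳) {ι : Type w}
    (Q : ι → 𝒳.obj → Prop) (hQ : ∀ i, AlgSt.IsOpenSubstack 𝒳 (Q i) Scheme.fppfPrecoverage)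
    (hcov : ⋃ i, Set.range (Points.map (AlgSt.subIncl 𝒳 (Q i))) = Set.univ)
    (hsch : ∀ i, FibCat.IsRepresentable (AlgSt.fullSub 𝒳 (Q i))) : FibCat.IsRepresentable 𝒳 := by
  have hX := h𝒳.isStack.1
  have hcov' : ∀ z : Points 𝒳, ∃ i, z ∈ Set.range (Points.map (AlgSt.subIncl 𝒳 (Q i))) := fun z =>
    Set.mem_iUnion.1 (by rw [hcov]; trivial)
  choose W E hE using hsch
  have hsp : AlgSt.RepByAlgSp 𝒳 := by
    refine repByAlgSp_of_trivial_geometric h𝒳 fun k _ _ s x hx ξ m σ hσ => ?_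
    obtain ⟨i, hi⟩ := hcov' (Points.mk ⟨k, s, x, hx⟩)
    have hQξ : Q i ξ := openSubstack_pull hX (hQ i) m (mem_openSubstack_of_point hX (hQ i) x hx hi)
    have hset := isFibSetoid_of_repByAlgSp (hQ i).2.1.isStack.1
      ((repByAlgSp_iff_of_isEquivOver (E i) (hE i)).2 (repByAlgSp_overCat (W i)))
    let a : (AlgSt.fullSub 𝒳 (Q i)).obj := ⟨ξ, hQξ⟩
    let fa : (AlgSt.fullSub 𝒳 (Q i)).p.Fiber ((AlgSt.fullSub 𝒳 (Q i)).p.obj a) := ⟨a, rfl⟩
    haveI := hset.2 ((AlgSt.fullSub 𝒳 (Q i)).p.obj a)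
    have hl : (AlgSt.fullSub 𝒳 (Q i)).p.IsHomLift (𝟙 ((AlgSt.fullSub 𝒳 (Q i)).p.obj a))
        (ObjectProperty.homMk σ : a ⟶ a) :=
      IsHomLift.of_fac' _ _ _ rfl rfl (by
        change 𝒳.p.map σ = _
        rw [hσ]; simp; rfl)
    have hid : (AlgSt.fullSub 𝒳 (Q i)).p.IsHomLift (𝟙 ((AlgSt.fullSub 𝒳 (Q i)).p.obj a)) (𝟙 a) :=
      IsHomLift.id rfl
    exact congrArg (fun t : a ⟶ a => t.hom) (congrArg Subtype.val
      (Subsingleton.elim (⟨ObjectProperty.homMk σ, hl⟩ : fa ⟶ fa) ⟨𝟙 a, hid⟩))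
  obtain ⟨F, a, ha⟩ := hsp
  obtain ⟨O, hO, ⟨W₀, ⟨i₀⟩⟩, hmax⟩ := AlgSpc.exists_largest_scheme_open F.property
  obtain ⟨a', ha', -, ⟨ja⟩⟩ := Fib.exists_quasiInverse ha
  have hO' : O = Set.univ := Set.eq_univ_of_forall fun z => by
    obtain ⟨i, v, hv⟩ := hcov' (Points.map a (spMk F.obj z))
    obtain ⟨E', hE', -, -⟩ := Fib.exists_quasiInverse (hE i)
    let b := BasedFunctor.comp (AlgSt.toOverCat (W i)) E'
    have hb : FibCat.IsEquivOver b := Fib.isEquivOver_comp (isEquivOver_toOverCat (W i)) hE'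
    obtain ⟨g, ⟨ig⟩⟩ := exists_ofSpMap (BasedFunctor.comp b
      (BasedFunctor.comp (AlgSt.subIncl 𝒳 (Q i)) a'))
    let sq : BasedFunctor.comp (AlgSt.ofSpMap g) a ≅ BasedFunctor.comp b (AlgSt.subIncl 𝒳 (Q i)) :=
      Fib.isoWhiskerRight ig.symm a ≪≫
        Fib.isoWhiskerLeft (BasedFunctor.comp b (AlgSt.subIncl 𝒳 (Q i))) ja
    have h₁ : AlgSt.RepByAlgSpWith (RepWith @IsOpenImmersion) (AlgSt.ofSpMap g) :=
      (repByAlgSpWith_iff_of_square (AlgSt.subIncl 𝒳 (Q i)) (AlgSt.ofSpMap g) b a hb ha sq).1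
        (hQ i).2.2
    have hg : RepWith @IsOpenImmersion g := repWith_of_forall_pullback g fun T p =>
      ((_root_.AlgSp.repBySpWith_hom_iff _ g).1 (repBySpWith_of_repByAlgSpWith h₁) p _ _
        (IsPullback.of_hasPullback g p)).2
    obtain ⟨z', rfl⟩ := (bijective_map b hb).2 v
    have h₂ : Points.map (AlgSt.ofSpMap g) z' = spMk F.obj z :=
      (bijective_map a ha).1 ((map_square sq z').trans hv)
    rw [← spMk_spPt z', spMk_map] at h₂
    have h₃ := congrArg (spPt F.obj) h₂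
    rw [spPt_spMk, spPt_spMk] at h₃
    refine hmax (W i) g hg ⟨AlgSp.Points.toScheme (W i) (spPt _ z'), ?_⟩
    rw [AlgSp.Points.ofPt_eq_map_ofScheme, AlgSp.Points.ofScheme_toScheme, h₃]
  obtain ⟨l, hl⟩ := (AlgSpc.exists_factor_iff (AlgSpc.repWith_ptsIncl hO) (𝟙 F.obj)).2 (by
    rw [AlgSpc.range_ptsIncl, hO']; exact Set.subset_univ _)
  haveI : IsSplitEpi (AlgSpc.ptsIncl F.obj O) := ⟨⟨⟨l, hl⟩⟩⟩
  haveI : IsIso (AlgSpc.ptsIncl F.obj O) := isIso_of_mono_of_isSplitEpi _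
  exact ⟨W₀, BasedFunctor.comp a' (BasedFunctor.comp
    (AlgSt.ofSpMap (inv (AlgSpc.ptsIncl F.obj O) ≫ i₀.inv)) (AlgSt.toOverCat W₀)),
    Fib.isEquivOver_comp ha' (Fib.isEquivOver_comp ((isEquivOver_ofSpMap_iff _).2 inferInstance)
      (isEquivOver_toOverCat W₀))⟩

end

end Groth.Agent.AlgStB
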