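import Groth.Agent.AlgStB.Algebraic
import Groth.Prelude.Def_AlgSt3

/-!
# Open substacks from open loci
-/

set_option autoImplicit false
set_option backward.isDefEq.respectTransparency false
set_option backward.isDefEq.respectTransparency.types false

universe v u' u

open CategoryTheory CategoryTheory.Limits CategoryTheory.Functor AlgebraicGeometry Opposite

namespace Groth.Agent.AlgStB

variable {S : Scheme.{u}} {𝒳 : BasedCategory.{v, u'} (Over S)} {Q : 𝒳.obj → Prop}

theorem isStronglyCartesian_fullSub {R T : Over S} (f : R ⟶ T) {a b : (AlgSt.fullSub 𝒳 Q).obj}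
    (φ : a ⟶ b) (h : 𝒳.p.IsStronglyCartesian f φ.hom) :
    (AlgSt.fullSub 𝒳 Q).p.IsStronglyCartesian f φ :=
  have : (AlgSt.subIncl 𝒳 Q).toFunctor.Full := ObjectProperty.full_ι Q
  have : (AlgSt.subIncl 𝒳 Q).toFunctor.Faithful := ObjectProperty.faithful_ι Q
  Fib.isStronglyCartesian_of_map (AlgSt.subIncl 𝒳 Q) f φ h

theorem isFibGrpd_fullSub (h : FibCat.IsFibGrpd 𝒳.p)
    (hpull : ∀ {a b : 𝒳.obj} (_ : a ⟶ b), Q b → Q a) : FibCat.IsFibGrpd (AlgSt.fullSub 𝒳 Q).p where
  exists_lift {b V} f := by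
    obtain ⟨x', φ, hφ⟩ := h.exists_lift (x := b.obj) f
    let φ' : (⟨x', hpull φ b.property⟩ : (AlgSt.fullSub 𝒳 Q).obj) ⟶ b := ObjectProperty.homMk φ
    exact ⟨_, φ', (BasedFunctor.isHomLift_iff (AlgSt.subIncl 𝒳 Q) f φ').1 hφ⟩
  isStronglyCartesian {a b} φ := by
    exact
    isStronglyCartesian_fullSub _ φ (h.isStronglyCartesian φ.hom)

/-- A property of objects stable under pullback, whose locus on every object is open, cuts out an
open substack. -/
theorem isOpenSubstack_of_open {𝒳 : AlgSt.Cat S} (h𝒳 : AlgSt.IsAlgStack Scheme.fppfPrecoverage 𝒳)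
    (Q : 𝒳.obj → Prop) (hpull : ∀ {a b : 𝒳.obj} (_ : a ⟶ b), Q b → Q a)
    (hopen : ∀ b : 𝒳.obj, ∃ V : (𝒳.p.obj b).left.Opens, ∀ (a : 𝒳.obj) (φ : a ⟶ b),
      Q a ↔ Set.range (𝒳.p.map φ).left ⊆ (V : Set (𝒳.p.obj b).left)) :
    AlgSt.IsOpenSubstack 𝒳 Q Scheme.fppfPrecoverage := by
  have hsub := isFibGrpd_fullSub h𝒳.isStack.1 hpull
  have hiso : ObjectProperty.IsClosedUnderIsomorphisms Q := ⟨fun e hx => hpull e.inv hx⟩
  have hrep : AlgSt.IsOpenImm (AlgSt.subIncl 𝒳 Q) := by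
    intro U y
    let b := y.obj (Over.mk (𝟙 U))
    obtain ⟨V₀, hV₀⟩ := hopen b
    have hb : 𝒳.p.obj b = U := y.w_obj _
    let eU : U ⟶ 𝒳.p.obj b := eqToHom hb.symm
    let V : U.left.Opens := eU.left ⁻¹ᵁ V₀
    have hV : ∀ g : Over U, Q (y.obj g) ↔ Set.range g.hom.left ⊆ (V : Set U.left) := by
      intro g
      let m : g ⟶ Over.mk (𝟙 U) := Over.homMk g.hom (Category.comp_id _)
      have hm : 𝒳.p.map (y.map m) = eqToHom (y.w_obj g) ≫ g.hom ≫ eU :=
        Fib.w_map y m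
      rw [hV₀ _ (y.map m), hm, Over.comp_left, Over.comp_left]
      have hs : Function.Surjective (eqToHom (y.w_obj g)).left :=
        (inferInstance : Surjective (eqToHom (y.w_obj g)).left).surj
      simp only [Scheme.Hom.comp_base, TopCat.coe_comp]
      rw [Set.range_comp, hs.range_eq, Set.image_univ, Set.range_comp, Set.image_subset_iff]
      rfl
    let U' : Over S := Over.mk (V.ι ≫ U.hom)
    let j : U' ⟶ U := Over.homMk V.ι rfl
    have : IsOpenImmersion j.left := inferInstanceAs (IsOpenImmersion V.ι)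
    have : Mono j := Over.mono_of_mono_left j
    have hz : ∀ g : Over U', Q (y.obj ((AlgSt.overMap j).obj g)) := fun g => by
      refine (hV _).2 ?_
      change Set.range (g.hom ≫ j).left ⊆ _
      rintro _ ⟨p, rfl⟩
      exact (Scheme.Opens.range_ι V).le ⟨g.hom.left p, rfl⟩
    let z : FibCat.overCat U' ⥤ᵇ AlgSt.fullSub 𝒳 Q :=
      { toFunctor := ObjectProperty.lift Q ((AlgSt.overMap j).toFunctor ⋙ y.toFunctor) hz
        w := (BasedFunctor.comp (AlgSt.overMap j) y).w }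
    let Φ : FibCat.overCat U' ⥤ᵇ FibCat.fp y (AlgSt.subIncl 𝒳 Q) :=
      FibCat.fpLift (AlgSt.overMap j) z (Iso.refl (BasedFunctor.comp (AlgSt.overMap j) y))
    have hfaith : Φ.toFunctor.Faithful := ⟨fun {a b} f g h => by
      have h1 : (AlgSt.overMap j).map f = (AlgSt.overMap j).map g :=
        congrArg (fun m : Φ.obj a ⟶ Φ.obj b => m.hom.fst) h
      exact Over.OverMorphism.ext (congrArg CommaMorphism.left h1 :)⟩
    have hfull : Φ.toFunctor.Full := ⟨fun {a b} m => by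
      let k : (AlgSt.overMap j).obj a ⟶ (AlgSt.overMap j).obj b := m.hom.fst
      have hk : k.left ≫ b.hom = a.hom := by
        rw [← cancel_mono j, Category.assoc]
        exact Over.w k
      refine ⟨Over.homMk k.left hk, Fib.fp_hom_ext rfl (ObjectProperty.hom_ext _ ?_)⟩
      have hw : y.map k ≫ 𝟙 _ = 𝟙 _ ≫ m.hom.snd.hom := m.hom.w
      rw [Category.comp_id, Category.id_comp] at hw
      exact hw⟩
    have hΦ : FibCat.IsEquivOver Φ := by
      refine Fib.isEquivOver_of_exists_iso_over Φ fun w => ?_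
      obtain ⟨⟨g, x, α⟩, hα⟩ := w
      have hg : Q (y.obj g) := hpull α.hom x.property
      have hr := ((hV g).1 hg).trans (Scheme.Opens.range_ι V).ge
      let l : g.left.left ⟶ U'.left := IsOpenImmersion.lift V.ι g.hom.left hr
      let lg : g.left ⟶ U' := Over.homMk l (by
        change l ≫ V.ι ≫ U.hom = g.left.hom
        rw [IsOpenImmersion.lift_fac_assoc, Over.w g.hom])
      let e₁ : (AlgSt.overMap j).obj (Over.mk lg) ≅ g :=
        Over.isoMk (Iso.refl _) (by
          change 𝟙 _ ≫ g.hom = lg ≫ j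
          rw [Category.id_comp]
          exact Over.OverMorphism.ext (IsOpenImmersion.lift_fac _ _ _).symm)
      let e₂ : z.obj (Over.mk lg) ≅ x :=
        ObjectProperty.isoMk _ (y.toFunctor.mapIso e₁ ≪≫ α)
      let i : Φ.obj (Over.mk lg) ≅ (⟨⟨g, x, α⟩, hα⟩ : (FibCat.fp y (AlgSt.subIncl 𝒳 Q)).obj) :=
        Fib.fpIsoMk e₁ e₂ (by
          change y.map e₁.hom ≫ α.hom = 𝟙 _ ≫ y.map e₁.hom ≫ α.hom
          rw [Category.id_comp])
      refine ⟨_, i, Fib.fp_iso_isHomLift_id i ?_⟩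
      exact IsHomLift.of_fac' _ _ _ rfl rfl (by simp [i, e₁]; rfl)
    refine ⟨⟨(AlgSp.yon S).obj U', AlgSp.IsAlgSpace.yon_obj U'⟩,
      BasedFunctor.comp (AlgSt.toOverCat U') Φ,
      Fib.isEquivOver_comp (isEquivOver_toOverCat U') hΦ, ?_⟩
    have e : AlgSt.spMapOfOver (BasedFunctor.comp (BasedFunctor.comp (AlgSt.toOverCat U') Φ)
        (FibCat.fpFst y (AlgSt.subIncl 𝒳 Q))) = (AlgSp.yon S).map j := by
      apply ObjectProperty.hom_ext
      apply NatTrans.ext
      funext T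
      ext x
      exact congrArg ULift.up (Category.id_comp _)
    rw [e]
    exact (AlgSp.repWith_yon_map_iff _ _).2 ‹_›
  exact ⟨hiso, isAlgStack_of_repByAlgSp1 hsub h𝒳 (repByAlgSp1_of_with hrep), hrep⟩

end Groth.Agent.AlgStB
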