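import Groth.Agent.AlgStB.Spaces
import Groth.Agent.AlgStB.TargetDescent
import Groth.Prelude.Def_AlgSt4

/-!
# Points of categories fibred in groupoids over schemes
-/

set_option autoImplicit false
set_option backward.isDefEq.respectTransparency false
set_option backward.isDefEq.respectTransparency.types false

universe v₄ u₄ v₃ u₃ v₂ u₂ u

open CategoryTheory CategoryTheory.Limits AlgebraicGeometry Opposite

namespace Groth.Agent.AlgStB

open _root_.AlgSt (FPt Points)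

noncomputable section

variable {S : Scheme.{u}} {𝒳 : BasedCategory.{v₂, u₂} (Over S)}
  {𝒴 : BasedCategory.{v₃, u₃} (Over S)} {𝒵 : BasedCategory.{v₄, u₄} (Over S)}

/-- The base morphism of a morphism between field-valued points. -/
def fptBase {r p : FPt 𝒳} (φ : r.obj ⟶ p.obj) :
    (Over.mk r.str : Over S) ⟶ Over.mk p.str :=
  eqToHom r.lies.symm ≫ 𝒳.p.map φ ≫ eqToHom p.lies

instance fptBase_isHomLift {r p : FPt 𝒳} (φ : r.obj ⟶ p.obj) :
    𝒳.p.IsHomLift (fptBase φ) φ :=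
  IsHomLift.of_fac' 𝒳.p (fptBase φ) φ r.lies p.lies (by simp [fptBase])

theorem fpt_isHomLift_id (p : FPt 𝒳) : 𝒳.p.IsHomLift (𝟙 (Over.mk p.str)) (𝟙 p.obj) :=
  IsHomLift.id p.lies

/-- Amalgamation of two morphisms of spectra of fields over `S`. -/
theorem exists_amalg {L Ω₁ Ω₂ : Type u} [Field L] [Field Ω₁] [Field Ω₂]
    {s : Spec (CommRingCat.of L) ⟶ S} {w₁ : Spec (CommRingCat.of Ω₁) ⟶ S}
    {w₂ : Spec (CommRingCat.of Ω₂) ⟶ S} (b₁ : (Over.mk w₁ : Over S) ⟶ Over.mk s)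
    (b₂ : (Over.mk w₂ : Over S) ⟶ Over.mk s) :
    ∃ (Ω : Type u) (_ : Field Ω) (w : Spec (CommRingCat.of Ω) ⟶ S)
      (d₁ : (Over.mk w : Over S) ⟶ Over.mk w₁) (d₂ : (Over.mk w : Over S) ⟶ Over.mk w₂),
      d₁ ≫ b₁ = d₂ ≫ b₂ := by
  obtain ⟨Ω, _, i₁, i₂, hi⟩ :=
    _root_.AlgSp.FieldPt.exists_amalgamation (Spec.preimage b₁.left).hom (Spec.preimage b₂.left).hom
  have hL : Spec.map (CommRingCat.ofHom i₁) ≫ b₁.left = Spec.map (CommRingCat.ofHom i₂) ≫ b₂.left := by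
    conv_lhs => rw [← Spec.map_preimage b₁.left]
    conv_rhs => rw [← Spec.map_preimage b₂.left]
    rw [← Spec.map_comp, ← Spec.map_comp]
    congr 1
    exact CommRingCat.hom_ext hi
  have hw : Spec.map (CommRingCat.ofHom i₂) ≫ w₂ = Spec.map (CommRingCat.ofHom i₁) ≫ w₁ := by
    rw [show w₁ = b₁.left ≫ s from (Over.w b₁).symm, show w₂ = b₂.left ≫ s from (Over.w b₂).symm,
      ← Category.assoc, ← Category.assoc]
    exact congrArg (· ≫ s) hL.symm
  exact ⟨Ω, inferInstance, Spec.map (CommRingCat.ofHom i₁) ≫ w₁,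
    Over.homMk (Spec.map (CommRingCat.ofHom i₁)) rfl,
    Over.homMk (Spec.map (CommRingCat.ofHom i₂)) hw, Over.OverMorphism.ext hL⟩

/-- Restriction of a field-valued point along an extension. -/
theorem exists_restrict (h : FibCat.IsFibGrpd 𝒳.p) (p : FPt 𝒳) {M : Type u} [Field M]
    {w : Spec (CommRingCat.of M) ⟶ S} (f : (Over.mk w : Over S) ⟶ Over.mk p.str) :
    ∃ (a : 𝒳.obj) (φ : a ⟶ p.obj), 𝒳.p.obj a = Over.mk w ∧ 𝒳.p.IsHomLift f φ := by
  obtain ⟨a, φ, hφ⟩ := Fib.exists_lift 𝒳.p h p.lies f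
  exact ⟨a, φ, IsHomLift.domain_eq 𝒳.p f φ, hφ⟩

theorem rel_equivalence (h : FibCat.IsFibGrpd 𝒳.p) :
    _root_.Equivalence (@FPt.Rel S 𝒳) where
  refl p := ⟨p, 𝟙 _, 𝟙 _, trivial⟩
  symm := fun ⟨r, a, b, _⟩ => ⟨r, b, a, trivial⟩
  trans := by
    rintro p q t ⟨r₁, a₁, b₁, -⟩ ⟨r₂, b₂, c₂, -⟩
    obtain ⟨Ω, _, w, d₁, d₂, hd⟩ := exists_amalg (fptBase b₁) (fptBase b₂)
    obtain ⟨z₁, π₁, hz₁, hπ₁⟩ := exists_restrict h r₁ d₁
    obtain ⟨z₂, π₂, hz₂, hπ₂⟩ := exists_restrict h r₂ d₂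
    have h₂ : 𝒳.p.IsHomLift (d₁ ≫ fptBase b₁) (π₂ ≫ b₂) := hd ▸ inferInstance
    have := Fib.isStronglyCartesian_of_isFibGrpd 𝒳.p h (d₁ ≫ fptBase b₁) (π₂ ≫ b₂)
    let θ := Functor.IsCartesian.map 𝒳.p (d₁ ≫ fptBase b₁) (π₂ ≫ b₂) (π₁ ≫ b₁)
    exact ⟨⟨Ω, w, z₁, hz₁⟩, π₁ ≫ a₁, θ ≫ π₂ ≫ c₂, trivial⟩

theorem rel_of_mk_eq (h : FibCat.IsFibGrpd 𝒳.p) {p q : FPt 𝒳} (e : Points.mk p = Points.mk q) :
    FPt.Rel p q :=
  (rel_equivalence h).eqvGen_iff.1 (Quot.eqvGen_exact e)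

theorem mk_eq_of_hom {p q : FPt 𝒳} (φ : p.obj ⟶ q.obj) : Points.mk p = Points.mk q :=
  Points.sound ⟨p, 𝟙 _, φ, trivial⟩

theorem map_comp_apply (f : 𝒳 ⥤ᵇ 𝒴) (g : 𝒴 ⥤ᵇ 𝒵) (z : Points 𝒳) :
    Points.map (BasedFunctor.comp f g) z = Points.map g (Points.map f z) := by
  obtain ⟨p, rfl⟩ := Points.mk_surjective z
  rfl

theorem map_id_apply (z : Points 𝒳) : Points.map (BasedFunctor.id 𝒳) z = z := by
  obtain ⟨p, rfl⟩ := Points.mk_surjective z
  rfl

theorem map_congr {f g : 𝒳 ⥤ᵇ 𝒴} (e : f ≅ g) : Points.map f = Points.map g := by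
  funext z
  obtain ⟨p, rfl⟩ := Points.mk_surjective z
  exact mk_eq_of_hom (p := p.map f) (q := p.map g) (Fib.appIso e p.obj).hom

theorem map_square {𝒲 : BasedCategory.{v₄, u₄} (Over S)} {a : 𝒵 ⥤ᵇ 𝒳} {f : 𝒳 ⥤ᵇ 𝒴}
    {b : 𝒵 ⥤ᵇ 𝒲} {g : 𝒲 ⥤ᵇ 𝒴} (e : BasedFunctor.comp a f ≅ BasedFunctor.comp b g)
    (z : Points 𝒵) : Points.map f (Points.map a z) = Points.map g (Points.map b z) := by
  rw [← map_comp_apply, map_congr e, map_comp_apply]

theorem bijective_map (e : 𝒳 ⥤ᵇ 𝒴) (he : FibCat.IsEquivOver e) :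
    Function.Bijective (Points.map e) := by
  obtain ⟨g, ⟨i⟩, ⟨j⟩⟩ := he
  refine ⟨fun a b hab => ?_, fun b => ⟨Points.map g b, ?_⟩⟩
  · have h := congrArg (Points.map g) hab
    rwa [← map_comp_apply, ← map_comp_apply, map_congr i, map_id_apply, map_id_apply] at h
  · rw [← map_comp_apply, map_congr j, map_id_apply]

/-- A point of the 2-fibre product over two points with the same image. -/
theorem exists_point_fp (h𝒳 : FibCat.IsFibGrpd 𝒳.p) (h𝒴 : FibCat.IsFibGrpd 𝒴.p)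
    (h𝒵 : FibCat.IsFibGrpd 𝒵.p) (f : 𝒳 ⥤ᵇ 𝒴) (g : 𝒵 ⥤ᵇ 𝒴) (z : Points 𝒵) (x : Points 𝒳)
    (h : Points.map g z = Points.map f x) :
    ∃ w : Points (FibCat.fp g f),
      Points.map (FibCat.fpFst g f) w = z ∧ Points.map (FibCat.fpSnd g f) w = x := by
  obtain ⟨p, rfl⟩ := Points.mk_surjective z
  obtain ⟨q, rfl⟩ := Points.mk_surjective x
  obtain ⟨r, a, b, -⟩ := rel_of_mk_eq h𝒴 (p := p.map g) (q := q.map f) h
  obtain ⟨z', φ, hz', hφ⟩ := exists_restrict h𝒵 p (fptBase (p := p.map g) a)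
  obtain ⟨x', ψ, hx', hψ⟩ := exists_restrict h𝒳 q (fptBase (p := q.map f) b)
  have h₁ : 𝒴.p.IsHomLift (fptBase (p := p.map g) a) (g.map φ) := inferInstance
  have h₂ : 𝒴.p.IsHomLift (fptBase (p := q.map f) b) (f.map ψ) := inferInstance
  have := Fib.isStronglyCartesian_of_isFibGrpd 𝒴.p h𝒴 (fptBase (p := p.map g) a) (g.map φ)
  have := Fib.isStronglyCartesian_of_isFibGrpd 𝒴.p h𝒴 (fptBase (p := q.map f) b) (f.map ψ)
  let θ₁ : r.obj ⟶ g.obj z' := Functor.IsCartesian.map 𝒴.p (fptBase (p := p.map g) a) (g.map φ) a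
  let θ₂ : r.obj ⟶ f.obj x' := Functor.IsCartesian.map 𝒴.p (fptBase (p := q.map f) b) (f.map ψ) b
  have : IsIso θ₁ := Fib.isIso_of_isHomLift 𝒴.p h𝒴 (𝟙 (Over.mk r.str)) θ₁
  have : IsIso θ₂ := Fib.isIso_of_isHomLift 𝒴.p h𝒴 (𝟙 (Over.mk r.str)) θ₂
  let e : g.obj z' ≅ f.obj x' := (asIso θ₁).symm ≪≫ asIso θ₂
  have he : 𝒴.p.IsHomLift (𝟙 (Over.mk r.str)) e.hom := by
    have : 𝒴.p.IsHomLift (𝟙 (Over.mk r.str)) (asIso θ₁).hom :=
      inferInstanceAs (𝒴.p.IsHomLift _ θ₁)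
    have h' : 𝒴.p.IsHomLift (𝟙 (Over.mk r.str) ≫ 𝟙 (Over.mk r.str)) ((asIso θ₁).inv ≫ θ₂) :=
      inferInstance
    simpa [e] using h'
  exact ⟨Points.mk ⟨r.K, r.str, Fib.fpMk (F := g) (G := f) z' x' e (hz'.symm ▸ he), hz'⟩,
    mk_eq_of_hom (p := ⟨r.K, r.str, z', hz'⟩) φ, mk_eq_of_hom (p := ⟨r.K, r.str, x', hx'⟩) ψ⟩

/-! ### Points of a slice -/

/-- The structure morphism of a field-valued point of a slice. -/
def schHom {U : Over S} (p : FPt (FibCat.overCat U)) : (Over.mk p.str : Over S) ⟶ U :=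
  eqToHom p.lies.symm ≫ p.obj.hom

/-- The point of the scheme defined by a point of its slice. -/
def schPt (U : Over S) : Points (FibCat.overCat U) → ↥U.left :=
  Quot.lift (fun p : FPt (FibCat.overCat U) => (schHom p).left (IsLocalRing.closedPoint p.K)) (by
    rintro p q ⟨r, a, b, -⟩
    have key : ∀ (p : FPt (FibCat.overCat U)) (a : r.obj ⟶ p.obj),
        (schHom p).left (IsLocalRing.closedPoint p.K) = (schHom r).left (IsLocalRing.closedPoint r.K) := by
      intro p a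
      have h : fptBase a ≫ schHom p = schHom r := by
        simp only [fptBase, schHom, Category.assoc, eqToHom_trans_assoc, eqToHom_refl,
          Category.id_comp]
        exact congrArg (eqToHom r.lies.symm ≫ ·) (Over.w a)
      rw [← h, show IsLocalRing.closedPoint p.K = (fptBase a).left (IsLocalRing.closedPoint r.K)
        from Subsingleton.elim _ _]
      rfl
    exact (key p a).trans (key q b).symm)

theorem schPt_mk {U : Over S} (p : FPt (FibCat.overCat U)) :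
    schPt U (Points.mk p) = (schHom p).left (IsLocalRing.closedPoint p.K) := rfl

/-- The point of the slice defined by a point of the scheme. -/
def schMk (U : Over S) (t : ↥U.left) : Points (FibCat.overCat U) :=
  Points.ofChart (BasedFunctor.id (FibCat.overCat U)) t

theorem ofChart_eq_map {U : Over S} (x : FibCat.overCat U ⥤ᵇ 𝒳) (t : ↥U.left) :
    Points.ofChart x t = Points.map x (schMk U t) := rfl

theorem schPt_schMk (U : Over S) (t : ↥U.left) : schPt U (schMk U t) = t := by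
  simp only [schMk, Points.ofChart, schPt_mk, schHom]
  simp
  exact Scheme.fromSpecResidueField_apply _ _

theorem schMk_schPt (U : Over S) (z : Points (FibCat.overCat U)) : schMk U (schPt U z) = z := by
  obtain ⟨⟨K, str, o, lies⟩, rfl⟩ := Points.mk_surjective z
  let p : FPt (FibCat.overCat U) := ⟨K, str, o, lies⟩
  let m : Spec (CommRingCat.of K) ⟶ U.left := (schHom p).left
  have key := Scheme.descResidueField_stalkClosedPointTo_fromSpecResidueField K U.left m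
  have hw : m ≫ U.hom = str := Over.w (schHom p)
  refine (mk_eq_of_hom (p := p) (q := ⟨U.left.residueField (m (IsLocalRing.closedPoint K)), _,
    Over.mk (Over.homMk (U.left.fromSpecResidueField (m (IsLocalRing.closedPoint K))) rfl :
      Over.mk (U.left.fromSpecResidueField (m (IsLocalRing.closedPoint K)) ≫ U.hom) ⟶ U), rfl⟩)
    (Over.homMk (eqToHom lies ≫ Over.homMk
    (Spec.map (U.left.descResidueField (K := K) (Scheme.stalkClosedPointTo m)))
    (((Category.assoc _ _ _).symm.trans (congrArg (· ≫ U.hom) key)).trans hw)) ?_)).symm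
  have h : p.obj.hom = eqToHom lies ≫ schHom p := by simp [schHom, p]
  rw [h, Category.assoc]
  exact congrArg (eqToHom lies ≫ ·) (Over.OverMorphism.ext key)

theorem schMk_bijective (U : Over S) : Function.Bijective (schMk U) :=
  ⟨fun a b h => by rw [← schPt_schMk U a, h, schPt_schMk], fun z => ⟨schPt U z, schMk_schPt U z⟩⟩

theorem schPt_map_overMap {V U : Over S} (k : V ⟶ U) (z : Points (FibCat.overCat V)) :
    schPt U (Points.map (AlgSt.overMap k) z) = k.left (schPt V z) := by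
  obtain ⟨p, rfl⟩ := Points.mk_surjective z
  have h : schHom (p.map (AlgSt.overMap k)) = schHom p ≫ k := by
    simp [schHom, FPt.map, AlgSt.overMap]
  change (schHom (p.map (AlgSt.overMap k))).left _ = _
  rw [h]
  rfl

theorem ofChart_comp_overMap {V U : Over S} (k : V ⟶ U) (x : FibCat.overCat U ⥤ᵇ 𝒳) (t : ↥V.left) :
    Points.ofChart (BasedFunctor.comp (AlgSt.overMap k) x) t = Points.ofChart x (k.left t) := by
  rw [ofChart_eq_map, map_comp_apply, ofChart_eq_map, ← schMk_schPt U (Points.map _ _),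
    schPt_map_overMap, schPt_schMk]

/-! ### Points of the category of a sheaf -/

variable {F G : _root_.AlgSp.Sp S}

/-- The section over the spectrum of a field of a point of the category of a sheaf. -/
def spVal (p : FPt (AlgSt.ofSp F)) : F.obj.obj (op (Over.mk p.str)) :=
  F.obj.map (eqToHom p.lies.symm).op p.obj.sec

theorem map_spVal {r p : FPt (AlgSt.ofSp F)} (a : r.obj ⟶ p.obj) :
    F.obj.map (fptBase a).op (spVal p) = spVal r := by
  simp only [spVal, ← Functor.map_comp_apply, ← op_comp]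
  rw [show fptBase a ≫ eqToHom p.lies.symm = eqToHom r.lies.symm ≫ a.hom from by
    simp [fptBase], op_comp, Functor.map_comp_apply]
  exact congrArg _ a.map_sec

/-- The point of a sheaf defined by a point of its category. -/
def spPt (F : _root_.AlgSp.Sp S) : Points (AlgSt.ofSp F) → _root_.AlgSp.Points F :=
  Quot.lift (fun p : FPt (AlgSt.ofSp F) => _root_.AlgSp.Points.mk ⟨p.K, p.str, spVal p⟩) (by
    rintro p q ⟨r, a, b, -⟩
    exact _root_.AlgSp.Points.sound ⟨r.K, inferInstance, r.str, fptBase a, fptBase b,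
      (map_spVal a).trans (map_spVal b).symm⟩)

theorem spPt_mk (p : FPt (AlgSt.ofSp F)) :
    spPt F (Points.mk p) = _root_.AlgSp.Points.mk ⟨p.K, p.str, spVal p⟩ := rfl

/-- The point of the category of a sheaf defined by a point of the sheaf. -/
def spMk (F : _root_.AlgSp.Sp S) : _root_.AlgSp.Points F → Points (AlgSt.ofSp F) :=
  Quotient.lift (fun q : _root_.AlgSp.FieldPt F =>
    Points.mk (𝒳 := AlgSt.ofSp F) ⟨q.K, q.str, ⟨Over.mk q.str, q.val⟩, rfl⟩) (by
    rintro p q ⟨Ω, _, w, a, b, h⟩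
    exact Points.sound ⟨⟨Ω, w, ⟨Over.mk w, F.obj.map a.op p.val⟩, rfl⟩, ⟨a, rfl⟩, ⟨b, h.symm⟩, trivial⟩)

theorem spPt_spMk (z : _root_.AlgSp.Points F) : spPt F (spMk F z) = z := by
  induction z using _root_.AlgSp.Points.ind with
  | h q =>
    change _root_.AlgSp.Points.mk _ = _
    congr 1
    cases q
    simp [spVal]

theorem spMk_spPt (z : Points (AlgSt.ofSp F)) : spMk F (spPt F z) = z := by
  obtain ⟨p, rfl⟩ := Points.mk_surjective z
  exact (mk_eq_of_hom (p := p) (q := ⟨p.K, p.str, ⟨Over.mk p.str, spVal p⟩, rfl⟩)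
    ⟨eqToHom p.lies, by
      change F.obj.map (eqToHom p.lies).op (F.obj.map (eqToHom p.lies.symm).op p.obj.sec) = _
      rw [← Functor.map_comp_apply, ← op_comp, eqToHom_trans]
      simp⟩).symm

theorem spPt_map (a : F ⟶ G) (z : Points (AlgSt.ofSp F)) :
    spPt G (Points.map (AlgSt.ofSpMap a) z) = _root_.AlgSp.Points.map a (spPt F z) := by
  obtain ⟨p, rfl⟩ := Points.mk_surjective z
  rw [spPt_mk, _root_.AlgSp.Points.map_mk]
  change _root_.AlgSp.Points.mk _ = _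
  congr 1
  simp only [_root_.AlgSp.FieldPt.map, spVal]
  congr 1
  exact (NatTrans.naturality_apply a.hom (eqToHom p.lies.symm).op p.obj.sec).symm

theorem spMk_map (a : F ⟶ G) (z : _root_.AlgSp.Points F) :
    Points.map (AlgSt.ofSpMap a) (spMk F z) = spMk G (_root_.AlgSp.Points.map a z) := by
  rw [← spMk_spPt (Points.map _ _), spPt_map, spPt_spMk]

theorem schPt_toOverCat (U : Over S) (z : Points (AlgSt.ofSch U)) :
    schPt U (Points.map (AlgSt.toOverCat U) z) =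
      _root_.AlgSp.Points.toScheme U (spPt _ z) := by
  obtain ⟨p, rfl⟩ := Points.mk_surjective z
  rfl

end

end Groth.Agent.AlgStB
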