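import Groth.Agent.AlgStB.SmoothLocal
import Mathlib.AlgebraicGeometry.Noetherian

/-!
# Points of locally noetherian algebraic stacks
-/

set_option autoImplicit false
set_option backward.isDefEq.respectTransparency false
set_option backward.isDefEq.respectTransparency.types false

universe u v

open CategoryTheory CategoryTheory.Limits AlgebraicGeometry Opposite TopologicalSpace

namespace Groth.Agent.AlgStB

open _root_.AlgSt (Points)
open _root_.AlgSp (LocP)

variable {S : Scheme.{u}}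

/-- The image of a noetherian sober space is quasi-sober. -/
theorem quasiSober_of_surjective {A : Type u} {V : Type v} [TopologicalSpace A] [TopologicalSpace V]
    [NoetherianSpace A] [QuasiSober A] (q : A → V) (hq : Continuous q) (hs : Function.Surjective q) :
    QuasiSober V := by
  refine ⟨fun {Z} hZ hZc => ?_⟩
  obtain ⟨T, hTfin, hTc, hTi, hTu⟩ :=
    NoetherianSpace.exists_finite_set_isClosed_irreducible (hZc.preimage hq)
  have : Finite ↥T := hTfin
  choose g hg using fun C : ↥T => QuasiSober.sober (hTi _ C.2) (hTc _ C.2)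
  obtain ⟨s, hs'⟩ : ∃ s : Finset (Set V), (∀ E, E ∈ s ↔ ∃ C, E = closure {q (g C)}) := by
    classical
    have := Fintype.ofFinite ↥T
    exact ⟨Finset.univ.image fun C => closure {q (g C)}, fun E => by simp [eq_comm]⟩
  obtain ⟨E, hE, hZE⟩ := isIrreducible_iff_sUnion_isClosed.1 hZ s
    (fun E hE => by obtain ⟨C, rfl⟩ := (hs' E).1 hE; exact isClosed_closure) (fun z hz => by
    obtain ⟨a, rfl⟩ := hs z
    obtain ⟨C, hC, haC⟩ := (Set.mem_sUnion.1 (hTu.subset hz : a ∈ ⋃₀ T))
    refine ⟨closure {q (g ⟨C, hC⟩)}, Finset.mem_coe.2 ((hs' _).2 ⟨⟨C, hC⟩, rfl⟩), ?_⟩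
    have := image_closure_subset_closure_image hq (s := {g ⟨C, hC⟩})
    rw [Set.image_singleton] at this
    exact this ⟨a, by rw [(hg ⟨C, hC⟩).def]; exact haC, rfl⟩)
  obtain ⟨C, rfl⟩ := (hs' E).1 hE
  refine ⟨q (g C), isGenericPoint_def.2 ((hZc.closure_subset_iff.2
    (Set.singleton_subset_iff.2 ?_)).antisymm hZE)⟩
  exact hTu.symm.subset (Set.mem_sUnion.2 ⟨C.1, C.2, (hg C).mem⟩)

theorem exists_noetherian_nhd {𝒳 : AlgSt.Cat S} (h𝒳 : AlgSt.IsAlgStack Scheme.fppfPrecoverage 𝒳)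
    (hN : AlgSt.SmoothLocally (fun T => IsLocallyNoetherian T) 𝒳) (z : Points 𝒳) :
    ∃ V : Set (Points 𝒳), IsOpen V ∧ z ∈ V ∧ NoetherianSpace ↥V ∧ QuasiSober ↥V := by
  have hg := h𝒳.isStack.1
  obtain ⟨U, y, hy, hys⟩ := h𝒳.atlas
  have : IsLocallyNoetherian U.left := hN U y hy
  obtain ⟨u, rfl⟩ := surjective_ofChart hg y hys z
  have hc := continuous_ofChart hg h𝒳.atlas y
  obtain ⟨O, ⟨A, hA, rfl⟩, huO, -⟩ :=
    U.left.isBasis_affineOpens.exists_subset_of_mem_open (Set.mem_univ u) isOpen_univ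
  let A' : U.left.Opens := A
  have : IsAffine (A' : Scheme.{u}) := hA
  have : IsNoetherian (A' : Scheme.{u}) := {}
  have : NoetherianSpace ↥(A' : Scheme.{u}) := inferInstance
  let q : ↥(A' : Scheme.{u}) → ↥(Points.ofChart y '' (A : Set U.left)) :=
    fun a => ⟨Points.ofChart y (A'.ι a), A'.ι a, a.2, rfl⟩
  have hq : Continuous q := (hc.comp A'.ι.continuous).subtype_mk _
  have hqs : Function.Surjective q := fun ⟨_, a, ha, h⟩ => ⟨⟨a, ha⟩, Subtype.ext h⟩
  exact ⟨Points.ofChart y '' A,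
    isOpenMap_ofChart hg y (flat_lfp_of_smooth hy).1 (flat_lfp_of_smooth hy).2 _ A.2,
    ⟨u, huO, rfl⟩, noetherianSpace_iff_of_homeomorph (Homeomorph.refl _) |>.1
      (noetherianSpace_of_surjective q hq hqs), quasiSober_of_surjective q hq hqs⟩

theorem noetherianSpace_points {𝒳 : AlgSt.Cat S} (h𝒳 : AlgSt.IsAlgStack Scheme.fppfPrecoverage 𝒳)
    (hN : AlgSt.SmoothLocally (fun T => IsLocallyNoetherian T) 𝒳) (hqc : AlgSt.IsQuasiCompact 𝒳) :
    NoetherianSpace (Points 𝒳) := by
  obtain ⟨U, y, hU, hy, hys⟩ := hqc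
  have : IsLocallyNoetherian U.left := hN U y hy
  have : IsNoetherian U.left := {}
  exact noetherianSpace_of_surjective (Points.ofChart y)
    (continuous_ofChart h𝒳.isStack.1 h𝒳.atlas y) (surjective_ofChart h𝒳.isStack.1 y hys)

end Groth.Agent.AlgStB
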