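import Groth.Agent.Spectral.Basic

/-!
# Quotients of spectral spaces by open spectral equivalence relations
-/

set_option autoImplicit false

universe u v w

open Topology TopologicalSpace Set

namespace Groth.Agent.AlgStB

variable {U : Type u} {R : Type v} {X : Type w} [TopologicalSpace U] [TopologicalSpace R]
  [TopologicalSpace X]

/-- A constructible-closed set has, below every point, a point without proper generalization in it. -/
theorem exists_minimal_generalization [SpectralSpace U] {E : Set U}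
    (hE : IsClosed[constructibleTopology U] E) {a : U} (ha : a ∈ E) :
    ∃ m ∈ E, m ⤳ a ∧ ∀ b ∈ E, b ⤳ m → b = m := by
  have hchain : ∀ c : Set U, c ⊆ E → IsChain (fun x y => y ⤳ x) c → c.Nonempty →
      ∃ m ∈ E, ∀ x ∈ c, m ⤳ x := by
    intro c hcE hc hne
    let ι := {O : Set U // IsOpen O ∧ IsCompact O ∧ (O ∩ c).Nonempty}
    have := Spectral.compactSpace_con (X := U)
    have key : ∀ s : Finset ι, ∃ x ∈ c, ∀ O ∈ s, x ∈ O.1 := by
      classical
      intro s
      induction s using Finset.induction with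
      | empty => exact ⟨hne.some, hne.some_mem, by simp⟩
      | insert O s hO ih =>
        obtain ⟨x, hx, hxs⟩ := ih
        obtain ⟨y, hyO, hy⟩ := O.2.2.2
        by_cases h : x = y
        · subst h
          exact ⟨x, hx, by simpa [hyO] using hxs⟩
        rcases hc hx hy h with h | h
        · refine ⟨y, hy, fun O' hO' => ?_⟩
          rcases Finset.mem_insert.1 hO' with rfl | hO'
          · exact hyO
          · exact h.mem_open O'.2.1 (hxs O' hO')
        · refine ⟨x, hx, fun O' hO' => ?_⟩
          rcases Finset.mem_insert.1 hO' with rfl | hO'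
          · exact h.mem_open O'.2.1 hyO
          · exact hxs O' hO'
    have h := @IsCompact.inter_iInter_nonempty U (constructibleTopology U) E ι
      (@IsClosed.isCompact U (constructibleTopology U) _ this hE) (fun O => O.1)
      (fun O => (Spectral.isClopen_con_of_isOpen_isCompact O.2.1 O.2.2.1).1) (fun s => by
        obtain ⟨x, hx, hxs⟩ := key s
        exact ⟨x, hcE hx, Set.mem_iInter₂.2 hxs⟩)
    obtain ⟨m, hmE, hm⟩ := h
    refine ⟨m, hmE, fun x hx => specializes_iff_forall_open.2 fun V hV hxV => ?_⟩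
    obtain ⟨O, ⟨hO, hOc⟩, hxO, hOV⟩ :=
      (PrespectralSpace.isTopologicalBasis (X := U)).exists_subset_of_mem_open hxV hV
    exact hOV (Set.mem_iInter.1 hm ⟨O, hO, hOc, x, hxO, hx⟩)
  let _ : Preorder U :=
    { le := fun x y => y ⤳ x
      le_refl := fun x => specializes_rfl
      le_trans := fun x y z h₁ h₂ => h₂.trans h₁ }
  obtain ⟨m, hm, hmax⟩ := zorn_le_nonempty₀ E
    (fun c hcE hc y hy => hchain c hcE hc ⟨y, hy⟩) a ha
  exact ⟨m, hmax.1, hm, fun b hb h => (h.antisymm (hmax.2 hb h)).eq⟩

variable {s t : R → U} {q : U → X}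

/-- The saturation of a set. -/
theorem preimage_image_quot (hrel : ∀ u v, q u = q v ↔ ∃ r, s r = u ∧ t r = v) (O : Set U) :
    q ⁻¹' (q '' O) = t '' (s ⁻¹' O) := by
  ext v
  constructor
  · rintro ⟨u, hu, h⟩
    obtain ⟨r, hr, rfl⟩ := (hrel u v).1 h
    exact ⟨r, by rw [mem_preimage, hr]; exact hu, rfl⟩
  · rintro ⟨r, hr, rfl⟩
    exact ⟨s r, hr, (hrel _ _).2 ⟨r, rfl, rfl⟩⟩

/-- A quotient of a spectral space by an open spectral equivalence relation is spectral. -/
theorem spectralSpace_quot [SpectralSpace U] [SpectralSpace R] (hq : Continuous q)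
    (hqo : IsOpenMap q) (hqs : Function.Surjective q) (hs : IsSpectralMap s) (ht : IsSpectralMap t)
    (hrel : ∀ u v, q u = q v ↔ ∃ r, s r = u ∧ t r = v) : SpectralSpace X := by
  have hK : ∀ O : Set U, IsOpen O → IsCompact O → IsCompact (q ⁻¹' (q '' O)) := fun O hO hOc => by
    rw [preimage_image_quot hrel]
    exact (hs.isCompact_preimage_of_isOpen hO hOc).image ht.continuous
  have : CompactSpace X := ⟨by rw [← hqs.range_eq]; exact isCompact_range hq⟩
  have : PrespectralSpace X := by
    refine PrespectralSpace.of_isTopologicalBasis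
      (B := {V | ∃ O : Set U, IsOpen O ∧ IsCompact O ∧ V = q '' O}) ?_
      (fun V ⟨O, _, hO, hV⟩ => hV ▸ hO.image hq)
    refine isTopologicalBasis_of_isOpen_of_nhds (fun V ⟨O, hO, _, hV⟩ => hV ▸ hqo O hO)
      fun x V hx hV => ?_
    obtain ⟨u, rfl⟩ := hqs x
    obtain ⟨O, ⟨hO, hOc⟩, huO, hOV⟩ := (PrespectralSpace.isTopologicalBasis (X := U)).exists_subset_of_mem_open
      (show u ∈ q ⁻¹' V from hx) (hV.preimage hq)
    exact ⟨q '' O, ⟨O, hO, hOc, rfl⟩, ⟨u, huO, rfl⟩, Set.image_subset_iff.2 hOV⟩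
  have hlift : ∀ V : Set X, IsOpen V → IsCompact V → ∃ O : Set U, IsOpen O ∧ IsCompact O ∧ V = q '' O := by
    intro V hV hVc
    let ι := {O : Set U // IsOpen O ∧ IsCompact O ∧ q '' O ⊆ V}
    obtain ⟨F, hF⟩ := hVc.elim_finite_subcover (fun O : ι => q '' O.1) (fun O => hqo _ O.2.1)
      (fun x hx => by
        obtain ⟨u, rfl⟩ := hqs x
        obtain ⟨O, ⟨hO, hOc⟩, huO, hOV⟩ :=
          (PrespectralSpace.isTopologicalBasis (X := U)).exists_subset_of_mem_open
            (show u ∈ q ⁻¹' V from hx) (hV.preimage hq)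
        exact Set.mem_iUnion.2 ⟨⟨O, hO, hOc, Set.image_subset_iff.2 hOV⟩, u, huO, rfl⟩)
    refine ⟨⋃ O ∈ F, O.1, isOpen_biUnion fun O _ => O.2.1,
      F.isCompact_biUnion fun O _ => O.2.2.1, ?_⟩
    rw [Set.image_iUnion₂]
    exact hF.antisymm (Set.iUnion₂_subset fun O _ => O.2.2.2)
  have hpre : ∀ V : Set X, IsOpen V → IsCompact V → IsCompact (q ⁻¹' V) := fun V hV hVc => by
    obtain ⟨O, hO, hOc, rfl⟩ := hlift V hV hVc
    exact hK O hO hOc
  have : QuasiSeparatedSpace X := by
    refine (quasiSeparatedSpace_iff X).2 fun V W hV hVc hW hWc => ?_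
    have h := QuasiSeparatedSpace.inter_isCompact (q ⁻¹' V) (q ⁻¹' W) (hV.preimage hq)
      (hpre V hV hVc) (hW.preimage hq) (hpre W hW hWc)
    have h' := h.image hq
    rwa [← Set.preimage_inter, Set.image_preimage_eq _ hqs] at h'
  have hconc := Spectral.compactSpace_con (X := U)
  have hT2 := Spectral.t2_con (X := U)
  have hconR := Spectral.compactSpace_con (X := R)
  have hs' := Spectral.continuous_con_of_isSpectralMap hs
  have ht' := Spectral.continuous_con_of_isSpectralMap ht
  have horbit : ∀ a : U, IsClosed[constructibleTopology U] (t '' (s ⁻¹' {a})) := fun a => by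
    let _ : TopologicalSpace U := constructibleTopology U
    let _ : TopologicalSpace R := constructibleTopology R
    exact ((isClosed_singleton.preimage hs').isCompact.image ht').isClosed
  have : T0Space X := by
    refine ⟨fun x y hxy => ?_⟩
    obtain ⟨u, rfl⟩ := hqs x
    obtain ⟨v, rfl⟩ := hqs y
    have hlift' : ∀ a b : U, q a ⤳ q b → ∃ a', q a' = q a ∧ a' ⤳ b := by
      intro a b hab
      have h1 := horbit a
      have hcl : b ∈ closure (t '' (s ⁻¹' {a})) := by
        rw [← preimage_image_quot hrel, Set.image_singleton]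
        refine mem_closure_iff.2 fun O hO hbO => ?_
        obtain ⟨c, hc, hca⟩ := hab.mem_open (hqo O hO) ⟨b, hbO, rfl⟩
        exact ⟨c, hc, hca⟩
      obtain ⟨a', ha', h⟩ := Spectral.exists_specializes_of_mem_closure h1 hcl
      rw [← preimage_image_quot hrel, Set.image_singleton] at ha'
      exact ⟨a', ha', h⟩
    have horb := horbit u
    obtain ⟨m, hm, -, hmin⟩ := exists_minimal_generalization horb
      (show u ∈ t '' (s ⁻¹' {u}) by rw [← preimage_image_quot hrel]; exact ⟨u, rfl, rfl⟩)
    rw [← preimage_image_quot hrel, Set.image_singleton] at hm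
    have hm' : q m = q u := hm
    obtain ⟨v', hv', hv'm⟩ := hlift' v m (hm' ▸ hxy.specializes')
    obtain ⟨u', hu', hu'v⟩ := hlift' u v' (hv' ▸ hxy.specializes)
    have e : u' = m := hmin u' (by rw [← preimage_image_quot hrel, Set.image_singleton]; exact hu')
      (hu'v.trans hv'm)
    have : v' = m := (hv'm.antisymm (e ▸ hu'v)).eq
    rw [← hv', this, hm']
  have : QuasiSober X := by
    refine ⟨fun {Z} hZ hZc => ?_⟩
    let ι := {O : Set U // IsOpen O ∧ IsCompact O ∧ (Z ∩ q '' O).Nonempty}
    let E := q ⁻¹' Z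
    have key : ∀ F : Finset ι, (Z ∩ ⋂ O ∈ F, q '' O.1).Nonempty := by
      classical
      intro F
      induction F using Finset.induction with
      | empty => simpa using hZ.nonempty
      | insert O F hO ih =>
        rw [Finset.set_biInter_insert]
        exact hZ.isPreirreducible (q '' O.1) (⋂ O' ∈ F, q '' O'.1) (hqo _ O.2.1)
          (F.finite_toSet.isOpen_biInter fun O' _ => hqo _ O'.2.1) O.2.2.2 ih
    have h := @IsCompact.inter_iInter_nonempty U (constructibleTopology U) E ι
      (@IsClosed.isCompact U (constructibleTopology U) _ hconc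
        (Spectral.isClosed_con_of_isClosed (hZc.preimage hq))) (fun O => q ⁻¹' (q '' O.1))
      (fun O => (Spectral.isClopen_con_of_isOpen_isCompact ((hqo _ O.2.1).preimage hq)
        (hK _ O.2.1 O.2.2.1)).1) (fun F => by
        obtain ⟨x, hxZ, hx⟩ := key F
        obtain ⟨u, rfl⟩ := hqs x
        exact ⟨u, hxZ, Set.mem_iInter₂.2 fun O hO => Set.mem_iInter₂.1 hx O hO⟩)
    obtain ⟨g, hgE, hg⟩ := h
    refine ⟨q g, (isGenericPoint_def.2 ((hZc.closure_subset_iff.2
      (Set.singleton_subset_iff.2 (show q g ∈ Z from hgE))).antisymm fun z hz => ?_))⟩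
    refine mem_closure_iff.2 fun V hV hzV => ?_
    obtain ⟨u, rfl⟩ := hqs z
    obtain ⟨O, ⟨hO, hOc⟩, huO, hOV⟩ :=
      (PrespectralSpace.isTopologicalBasis (X := U)).exists_subset_of_mem_open
        (show u ∈ q ⁻¹' V from hzV) (hV.preimage hq)
    obtain ⟨o, ho, hog⟩ := Set.mem_iInter.1 hg ⟨O, hO, hOc, q u, hz, u, huO, rfl⟩
    exact ⟨q g, hog ▸ hOV ho, rfl⟩
  exact {}

end Groth.Agent.AlgStB
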