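import Groth.Agent.AlgStB.PointsTop
import Groth.Agent.AlgStB.SpectralQuot
import Groth.Agent.AlgStB.RepDiag
import Groth.Agent.AlgStB.DiagLft

/-!
# Spectral spaces of points of algebraic stacks
-/

set_option autoImplicit false
set_option backward.isDefEq.respectTransparency false
set_option backward.isDefEq.respectTransparency.types false

universe u

open CategoryTheory CategoryTheory.Limits AlgebraicGeometry Opposite

namespace Groth.Agent.AlgStB

open _root_.AlgSt (FPt Points)
open _root_.AlgSp (Sp Space LocP IsSurjectiveMor IsAlgSpace yon RepWith IsQuasiCompactMor)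

noncomputable section

variable {S : Scheme.{u}}

/-- Composition of changes of base. -/
def overMapComp {U V W : Over S} (a : U ⟶ V) (b : V ⟶ W) :
    BasedFunctor.comp (AlgSt.overMap a) (AlgSt.overMap b) ≅ AlgSt.overMap (a ≫ b) :=
  Fib.isoMk (fun g => Over.isoMk (Iso.refl g.left)
      ((Category.id_comp _).trans (Category.assoc g.hom a b).symm))
    (fun φ => Over.OverMorphism.ext ((Category.comp_id _).trans (Category.id_comp _).symm))
    (fun g => IsHomLift.id rfl)

theorem exists_iso_overMap {V T : Over S} (z : FibCat.overCat V ⥤ᵇ FibCat.overCat T) :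
    ∃ m : V ⟶ T, Nonempty (z ≅ AlgSt.overMap m) := by
  let γ := AlgSt.spMapOfOver (BasedFunctor.comp (AlgSt.toOverCat V) z)
  let i : BasedFunctor.comp (AlgSt.ofOverCat V) (AlgSt.toOverCat V) ≅ BasedFunctor.id _ :=
    Fib.isoMk (fun g => Over.isoMk (Iso.refl g.left) (Category.id_comp _))
      (fun φ => Over.OverMorphism.ext ((Category.comp_id _).trans (Category.id_comp _).symm))
      (fun g => IsHomLift.id rfl)
  refine ⟨AlgSpc.pre γ, ⟨Fib.isoWhiskerRight i.symm z ≪≫
    Fib.isoWhiskerLeft (AlgSt.ofOverCat V) (isoOfOver (BasedFunctor.comp (AlgSt.toOverCat V) z)) ≪≫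
    eqToIso (congrArg (fun t => BasedFunctor.comp (BasedFunctor.comp (AlgSt.ofOverCat V)
      (AlgSt.ofSpMap t)) (AlgSt.toOverCat T)) (AlgSpc.map_pre γ).symm) ≪≫ overMapIso _⟩⟩

theorem spectralSpace_of_isAffine (X : Scheme.{u}) [IsAffine X] : SpectralSpace X :=
  have : SpectralSpace ↥(Spec Γ(X, ⊤)) := inferInstanceAs (SpectralSpace (PrimeSpectrum Γ(X, ⊤)))
  (Scheme.homeoOfIso X.isoSpec).isOpenEmbedding.spectralSpace

/-- The image of an affine smooth chart of a stack with quasi-compact diagonal is spectral. -/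
theorem spectralSpace_range_ofChart [QuasiSeparatedSpace S] {𝒳 : AlgSt.Cat S}
    (h𝒳 : AlgSt.IsAlgStack Scheme.fppfPrecoverage 𝒳)
    (hΔ : AlgSt.RepByAlgSpWith IsQuasiCompactMor (FibCat.diag (FibCat.toSelf 𝒳)))
    {U : Over S} [IsAffine U.left] (x : FibCat.overCat U ⥤ᵇ 𝒳)
    (hx : AlgSt.RepByAlgSpWith (LocP @Smooth) x) :
    IsOpen (Set.range (Points.ofChart x)) ∧ SpectralSpace ↥(Set.range (Points.ofChart x)) := by
  have hg := h𝒳.isStack.1
  have hq : Continuous (Points.ofChart x) := continuous_ofChart hg h𝒳.atlas x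
  have hqo : IsOpenMap (Points.ofChart x) :=
    isOpenMap_ofChart hg x (flat_lfp_of_smooth hx).1 (flat_lfp_of_smooth hx).2
  refine ⟨hqo.isOpen_range, ?_⟩
  let sX := FibCat.toSelf 𝒳
  let W : Over S := Over.mk (pullback.fst U.hom U.hom ≫ U.hom)
  let p₁ : W ⟶ U := Over.homMk (pullback.fst U.hom U.hom) rfl
  let p₂ : W ⟶ U := Over.homMk (pullback.snd U.hom U.hom) pullback.condition.symm
  let y : FibCat.overCat W ⥤ᵇ FibCat.fp sX sX :=
    FibCat.fpLift (BasedFunctor.comp (AlgSt.overMap p₁) x) (BasedFunctor.comp (AlgSt.overMap p₂) x)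
      (Fib.toSelfIso _ _)
  have : (FibCat.selfOver (Over S)).p.Faithful := inferInstanceAs (𝟭 (Over S)).Faithful
  have : CompactSpace ↥W.left :=
    QuasiCompact.compactSpace_of_compactSpace (pullback.fst U.hom U.hom)
  obtain ⟨F, e, he, hφ⟩ := hΔ W y
  let φ := AlgSt.spMapOfOver (BasedFunctor.comp e (FibCat.fpFst y (FibCat.diag sX)))
  have hF : _root_.AlgSp.IsQuasiCompactSp F.obj :=
    hφ (IsAlgSpace.yon_obj W) AlgSpc.isQuasiCompactSp_yon (𝟙 _) (𝟙 _) φ
      (IsPullback.of_horiz_isIso ⟨(Category.id_comp _).trans (Category.comp_id _).symm⟩)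
  obtain ⟨T, c, hT, hc, hcs⟩ := (AlgSpc.isQuasiCompactSp_iff_affine F.property).1 hF
  obtain ⟨τ, ⟨i⟩, hp⟩ := exists_cover_point_of_atlas hg
    (Fib.isFibGrpd_fp sX sX hg hg Fib.isFibGrpd_selfOver) (FibCat.diag sX) y e he c
    (AlgSpc.surjective_ofPt hcs)
  let k : T ⟶ W := AlgSpc.pre (c ≫ φ)
  let q := Set.rangeFactorization (Points.ofChart x)
  have := spectralSpace_of_isAffine U.left
  have := spectralSpace_of_isAffine T.left
  refine spectralSpace_quot (q := q) (s := fun t => (k ≫ p₁).left t) (t := fun t => (k ≫ p₂).left t)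
    hq.rangeFactorization
    (fun O hO => ?_) Set.rangeFactorization_surjective ?_ ?_ fun u v => ?_
  · rw [(hqo.isOpen_range.isOpenEmbedding_subtypeVal).isOpen_iff_image_isOpen, ← Set.image_comp]
    exact hqo O hO
  · exact (k ≫ p₁).left.isSpectralMap
  · exact (k ≫ p₂).left.isSpectralMap
  · constructor
    · intro huv
      obtain ⟨z, hz₁, hz₂⟩ := exists_point_fp (Fib.isFibGrpd_overCat U) hg (Fib.isFibGrpd_overCat U)
        x x (schMk U u) (schMk U v)
        (by rw [← ofChart_eq_map, ← ofChart_eq_map]; exact congrArg Subtype.val huv)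
      obtain ⟨p, rfl⟩ := Points.mk_surjective z
      let P : Over S := Over.mk p.str
      have hfp : FibCat.IsFibGrpd (FibCat.fp x x).p :=
        Fib.isFibGrpd_fp x x (Fib.isFibGrpd_overCat U) (Fib.isFibGrpd_overCat U) hg
      have := Fib.isFibered_of_isFibGrpd _ hfp
      obtain ⟨G, -, j, -⟩ := Fib.exists_basedFunctor (U := P) ⟨p.obj, p.lies⟩
      obtain ⟨m₁, ⟨j₁⟩⟩ := exists_iso_overMap (BasedFunctor.comp G (FibCat.fpFst x x))
      obtain ⟨m₂, ⟨j₂⟩⟩ := exists_iso_overMap (BasedFunctor.comp G (FibCat.fpSnd x x))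
      let m : P ⟶ W := Over.homMk (pullback.lift m₁.left m₂.left
        ((Over.w m₁).trans (Over.w m₂).symm)) (by
          simp only [W, Over.mk_hom, pullback.lift_fst_assoc]
          exact Over.w m₁)
      have hm₁ : m ≫ p₁ = m₁ := Over.OverMorphism.ext (pullback.lift_fst _ _ _)
      have hm₂ : m ≫ p₂ = m₂ := Over.OverMorphism.ext (pullback.lift_snd _ _ _)
      let a := BasedFunctor.comp (BasedFunctor.comp G (FibCat.fpSnd x x)) x
      let b₁ : BasedFunctor.comp (AlgSt.overMap m) (AlgSt.overMap p₁) ≅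
          BasedFunctor.comp G (FibCat.fpFst x x) :=
        overMapComp m p₁ ≪≫ eqToIso (congrArg AlgSt.overMap hm₁) ≪≫ j₁.symm
      let b₂ : BasedFunctor.comp (AlgSt.overMap m) (AlgSt.overMap p₂) ≅
          BasedFunctor.comp G (FibCat.fpSnd x x) :=
        overMapComp m p₂ ≪≫ eqToIso (congrArg AlgSt.overMap hm₂) ≪≫ j₂.symm
      obtain ⟨κ⟩ := nonempty_iso_fp_of_faithful (BasedFunctor.comp (AlgSt.overMap m) y)
        (BasedFunctor.comp a (FibCat.diag sX))
        (Fib.isoWhiskerRight b₁ x ≪≫ Fib.isoWhiskerLeft G (FibCat.fpIso x x))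
        (Fib.isoWhiskerRight b₂ x)
      let t₀ : ↥P.left := IsLocalRing.closedPoint p.K
      have hsub : Subsingleton ↥P.left :=
        inferInstanceAs (Subsingleton ↥(Spec (CommRingCat.of p.K)))
      obtain ⟨t, ht, -⟩ := hp (m.left t₀) (Points.map a (schMk P t₀)) (by
        rw [← ofChart_comp_overMap, ofChart_eq_map, map_congr κ]
        simp only [a, map_comp_apply])
      have hGp : Points.map G (schMk P t₀) = Points.mk p := by
        let q₀ : FPt (FibCat.overCat P) := ⟨p.K, p.str, Over.mk (𝟙 P), rfl⟩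
        have hq₀ : schMk P t₀ = Points.mk q₀ := by
          rw [← schMk_schPt P (Points.mk q₀)]
          exact congrArg _ (Subsingleton.elim _ _)
        rw [hq₀, Points.map_mk]
        exact mk_eq_of_hom (q := p) j.hom
      refine ⟨t, ?_, ?_⟩
      · change p₁.left (k.left t) = u
        rw [show k.left t = m.left t₀ from ht, ← schPt_schMk U u, ← hz₁, ← hGp, ← map_comp_apply,
          map_congr j₁, schPt_map_overMap, schPt_schMk, ← hm₁]
        rfl
      · change p₂.left (k.left t) = v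
        rw [show k.left t = m.left t₀ from ht, ← schPt_schMk U v, ← hz₂, ← hGp, ← map_comp_apply,
          map_congr j₂, schPt_map_overMap, schPt_schMk, ← hm₂]
        rfl
    · rintro ⟨t, rfl, rfl⟩
      refine Subtype.ext ?_
      have h := congrFun (map_congr i) (schMk T t)
      rw [map_comp_apply, map_comp_apply, ← ofChart_eq_map] at h
      have hk : Points.map (AlgSt.overMap k) (schMk T t) = schMk W (k.left t) := by
        rw [← schMk_schPt W (Points.map _ _), schPt_map_overMap, schPt_schMk]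
      rw [show AlgSpc.pre (c ≫ φ) = k from rfl, hk] at h
      have h₁ := congrArg (Points.map (FibCat.fpFst sX sX)) h
      have h₂ := congrArg (Points.map (FibCat.fpSnd sX sX)) h
      rw [← map_comp_apply, ← map_comp_apply] at h₁ h₂
      have e₁ := (map_id_apply (Points.ofChart τ t)).symm.trans h₁
      have e₂ := (map_id_apply (Points.ofChart τ t)).symm.trans h₂
      change Points.ofChart x (p₁.left (k.left t)) = Points.ofChart x (p₂.left (k.left t))
      rw [← ofChart_comp_overMap p₁, ← ofChart_comp_overMap p₂, ofChart_eq_map, ofChart_eq_map]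
      exact e₁.symm.trans e₂

end

end Groth.Agent.AlgStB

namespace Groth.Agent.AlgStB

open _root_.AlgSt (Points)
open _root_.AlgSp (LocP IsAlgSpace yon)

variable {S : Scheme.{u}}

/-- Change of base as a functor of sheaf categories. -/
noncomputable def overMapSquare {U₂ U : Over S} (k : U₂ ⟶ U) :
    BasedFunctor.comp (AlgSt.ofSpMap ((yon S).map k)) (AlgSt.toOverCat U) ≅
      BasedFunctor.comp (AlgSt.toOverCat U₂) (AlgSt.overMap k) :=
  Fib.isoMk (fun g => Over.isoMk (Iso.refl _) (Category.id_comp _))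
    (fun φ => Over.OverMorphism.ext ((Category.comp_id _).trans (Category.id_comp _).symm))
    (fun g => IsHomLift.id rfl)

theorem repByAlgSpWith_overMap {P : MorphismProperty Scheme.{u}} [AlgSpc.EtLoc P]
    [P.IsStableUnderBaseChange] {U₂ U : Over S} (k : U₂ ⟶ U) (h : P k.left) :
    AlgSt.RepByAlgSpWith (LocP P) (AlgSt.overMap k) :=
  (repByAlgSpWith_iff_of_square (AlgSt.overMap k) (AlgSt.ofSpMap ((yon S).map k))
    (AlgSt.toOverCat U₂) (AlgSt.toOverCat U) (isEquivOver_toOverCat U₂) (isEquivOver_toOverCat U)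
    (overMapSquare k)).2
    (repByAlgSpWith_ofSpMap_of_locP (IsAlgSpace.yon_obj U₂) (IsAlgSpace.yon_obj U) _
      (AlgSpc.locP_of_repWith (fun e f he hf => AlgSpc.EtLoc.precomp e f he hf)
        ((_root_.AlgSp.repWith_yon_map_iff P k).2 h)))

theorem exists_spectral_nhd [QuasiSeparatedSpace S] {𝒳 : AlgSt.Cat S}
    (h𝒳 : AlgSt.IsAlgStack Scheme.fppfPrecoverage 𝒳)
    (hΔ : AlgSt.RepByAlgSpWith _root_.AlgSp.IsQuasiCompactMor (FibCat.diag (FibCat.toSelf 𝒳)))
    (z : Points 𝒳) :
    ∃ V : Set (Points 𝒳), IsOpen V ∧ z ∈ V ∧ SpectralSpace ↥V := by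
  obtain ⟨U, x, hx, hxs⟩ := h𝒳.atlas
  obtain ⟨u, rfl⟩ := surjective_ofChart h𝒳.isStack.1 x hxs z
  obtain ⟨O, hO, huO, -⟩ :=
    U.left.isBasis_affineOpens.exists_subset_of_mem_open (Set.mem_univ u) isOpen_univ
  obtain ⟨(A : U.left.Opens), hA, rfl⟩ := hO
  let U' : Over S := Over.mk (Scheme.Opens.ι A ≫ U.hom)
  let k : U' ⟶ U := Over.homMk (Scheme.Opens.ι A) rfl
  have : IsAffine U'.left := hA
  have hk : Smooth k.left := inferInstanceAs (Smooth (Scheme.Opens.ι A))
  have hx' : AlgSt.RepByAlgSpWith (LocP @Smooth) (BasedFunctor.comp (AlgSt.overMap k) x) :=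
    repByAlgSpWith_comp' (Fib.isFibGrpd_overCat U') (Fib.isFibGrpd_overCat U) respectsSrcIso_locP
      hc_locP (repByAlgSpWith_overMap k hk) hx
  obtain ⟨h₁, h₂⟩ := spectralSpace_range_ofChart h𝒳 hΔ (BasedFunctor.comp (AlgSt.overMap k) x) hx'
  exact ⟨_, h₁, ⟨⟨u, huO⟩, by rw [ofChart_comp_overMap]; rfl⟩, h₂⟩

end Groth.Agent.AlgStB
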