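import Groth.Agent.AlgStB.SpaceStack
import Groth.Agent.AlgStB.Comp

/-!
# Universal properties of maps of points
-/

set_option autoImplicit false
set_option backward.isDefEq.respectTransparency false
set_option backward.isDefEq.respectTransparency.types false

universe u

open CategoryTheory CategoryTheory.Limits AlgebraicGeometry Opposite

namespace Groth.Agent.AlgStB

open _root_.AlgSt (FPt Points)
open _root_.AlgSp (Sp Space LocP IsSurjectiveMor IsAlgSpace yon RepWith UnivSp)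

variable {S : Scheme.{u}}

/-- A property of continuous maps invariant under homeomorphisms. -/
def HomeoInvariant (PP : ∀ {A B : Type (u + 1)} [TopologicalSpace A] [TopologicalSpace B],
    (A → B) → Prop) : Prop :=
  ∀ {A B A' B' : Type (u + 1)} [TopologicalSpace A] [TopologicalSpace B] [TopologicalSpace A']
    [TopologicalSpace B'] (f : A → B) (f' : A' → B') (a : A' → A) (b : B' → B),
    IsHomeomorph a → IsHomeomorph b → (∀ x, b (f' x) = f (a x)) → (PP f ↔ PP f')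

/-- Descent of a property of maps along open surjections with lifting of points. -/
def DescendsOpen (PP : ∀ {A B : Type (u + 1)} [TopologicalSpace A] [TopologicalSpace B],
    (A → B) → Prop) : Prop :=
  ∀ {A B A' B' : Type (u + 1)} [TopologicalSpace A] [TopologicalSpace B] [TopologicalSpace A']
    [TopologicalSpace B'] (f : A → B) (f' : A' → B') (a : A' → A) (b : B' → B),
    Continuous f → (Continuous a ∧ IsOpenMap a ∧ Function.Surjective a) →
    (Continuous b ∧ IsOpenMap b ∧ Function.Surjective b) → (∀ x, b (f' x) = f (a x)) →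
    (∀ x y, f x = b y → ∃ z, a z = x ∧ f' z = y) → PP f' → PP f

theorem isHomeomorph_map {𝒳 𝒴 : AlgSt.Cat S}
    (h𝒳 : AlgSt.IsAlgStack Scheme.fppfPrecoverage 𝒳)
    (h𝒴 : AlgSt.IsAlgStack Scheme.fppfPrecoverage 𝒴) (e : 𝒳 ⥤ᵇ 𝒴) (he : FibCat.IsEquivOver e) :
    IsHomeomorph (Points.map e) := by
  obtain ⟨g, ⟨i⟩, ⟨j⟩⟩ := he
  refine ⟨continuous_map h𝒴.isStack.1 h𝒴.atlas e, fun W hW => ?_,
    bijective_map e ⟨g, ⟨i⟩, ⟨j⟩⟩⟩
  convert hW.preimage (continuous_map h𝒳.isStack.1 h𝒳.atlas g) using 1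
  ext z
  constructor
  · rintro ⟨w, hw, rfl⟩
    rwa [Set.mem_preimage, ← map_comp_apply, map_congr i, map_id_apply]
  · exact fun h => ⟨Points.map g z, h, by rw [← map_comp_apply, map_congr j, map_id_apply]⟩

theorem isHomeomorph_spMk {F : Sp S} (hF : IsAlgSpace F) : IsHomeomorph (spMk F) := by
  have h := isHomeomorph_spPt hF
  have e : spMk F = h.homeomorph.symm := funext fun x => h.injective
    ((spPt_spMk x).trans (h.homeomorph.apply_symm_apply x).symm)
  rw [e]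
  exact h.homeomorph.symm.isHomeomorph

variable {PP : ∀ {A B : Type (u + 1)} [TopologicalSpace A] [TopologicalSpace B], (A → B) → Prop}

/-- Base change to an algebraic space. -/
theorem prop_map_iff (hH : HomeoInvariant @PP) {𝒳 𝒴 : AlgSt.Cat S} (f : 𝒳 ⥤ᵇ 𝒴) {Z W : Sp S}
    (hZ : IsAlgSpace Z) (hW : IsAlgSpace W) (Γ : AlgSt.ofSp Z ⥤ᵇ 𝒴)
    (e : AlgSt.ofSp W ⥤ᵇ FibCat.fp Γ f) (he : FibCat.IsEquivOver e) (π : W ⟶ Z)
    (k : BasedFunctor.comp e (FibCat.fpFst Γ f) ≅ AlgSt.ofSpMap π) :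
    PP (Points.map (FibCat.fpFst Γ f)) ↔ PP (_root_.AlgSp.Points.map π) := by
  have hfp := isAlgStack_of_isEquivOver he (isAlgStack_ofSp hW)
  refine hH (Points.map (FibCat.fpFst Γ f)) (_root_.AlgSp.Points.map π)
    (fun x => Points.map e (spMk W x)) (spMk Z)
    ((isHomeomorph_map (isAlgStack_ofSp hW) hfp e he).comp (isHomeomorph_spMk hW))
    (isHomeomorph_spMk hZ) fun x => ?_
  rw [← map_comp_apply, map_congr k, spMk_map]

/-- Base change to a scheme. -/
theorem prop_map_iff_chart (hH : HomeoInvariant @PP) {𝒳 𝒴 : AlgSt.Cat S} (f : 𝒳 ⥤ᵇ 𝒴) {U : Over S}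
    {W : Sp S} (hW : IsAlgSpace W) (y : FibCat.overCat U ⥤ᵇ 𝒴)
    (e : AlgSt.ofSp W ⥤ᵇ FibCat.fp y f) (he : FibCat.IsEquivOver e) :
    PP (Points.map (FibCat.fpFst y f)) ↔
      PP (_root_.AlgSp.Points.map (AlgSt.spMapOfOver (BasedFunctor.comp e (FibCat.fpFst y f)))) := by
  have hfp := isAlgStack_of_isEquivOver he (isAlgStack_ofSp hW)
  refine hH (Points.map (FibCat.fpFst y f)) (_root_.AlgSp.Points.map _)
    (fun x => Points.map e (spMk W x)) (fun x => Points.map (AlgSt.toOverCat U) (spMk _ x))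
    ((isHomeomorph_map (isAlgStack_ofSp hW) hfp e he).comp (isHomeomorph_spMk hW))
    ((isHomeomorph_map (isAlgStack_ofSp (IsAlgSpace.yon_obj U)) (isAlgStack_overCat U) _
      (isEquivOver_toOverCat U)).comp (isHomeomorph_spMk (IsAlgSpace.yon_obj U))) fun x => ?_
  rw [← map_comp_apply e, map_congr (isoOfOver (BasedFunctor.comp e (FibCat.fpFst y f))),
    map_comp_apply, spMk_map]

theorem prop_map_of_forall (hH : HomeoInvariant @PP) (hD : DescendsOpen @PP)
    (Q : MorphismProperty (Sp S))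
    (hQ : ∀ ⦃F G : Sp S⦄ (a : F ⟶ G), Q a → PP (_root_.AlgSp.Points.map a))
    {𝒳 𝒴 : AlgSt.Cat S} (h𝒳 : AlgSt.IsAlgStack Scheme.fppfPrecoverage 𝒳)
    (h𝒴 : AlgSt.IsAlgStack Scheme.fppfPrecoverage 𝒴) (f : 𝒳 ⥤ᵇ 𝒴)
    (h : AlgSt.RepByAlgSpWith Q f) (𝒵 : AlgSt.Cat S)
    (h𝒵 : AlgSt.IsAlgStack Scheme.fppfPrecoverage 𝒵) (g : 𝒵 ⥤ᵇ 𝒴) :
    PP (Points.map (FibCat.fpFst g f)) := by
  obtain ⟨U, z, hz, hzs⟩ := h𝒵.atlas
  have hP : AlgSt.IsAlgStack Scheme.fppfPrecoverage (FibCat.fp g f) :=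
    isAlgStack_fp h𝒴.isStack h𝒴.diag h𝒵 h𝒳 g f
  obtain ⟨F', e', he', hm⟩ := h U (BasedFunctor.comp z g)
  have hchart := (prop_map_iff_chart hH f F'.property _ e' he').2 (hQ _ hm)
  have h₁ : AlgSt.IsAlgStack Scheme.fppfPrecoverage (FibCat.fp z (FibCat.fpFst g f)) :=
    isAlgStack_fp h𝒵.isStack h𝒵.diag (isAlgStack_overCat U) hP z (FibCat.fpFst g f)
  have h₂ := isAlgStack_of_isEquivOver he' (isAlgStack_ofSp F'.property)
  have hz' := flat_lfp_of_smooth hz
  have hfib := Fib.isFibGrpd_overCat U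
  refine hD (Points.map (FibCat.fpFst g f)) (Points.map (FibCat.fpFst z (FibCat.fpFst g f)))
    (Points.map (FibCat.fpSnd z (FibCat.fpFst g f))) (Points.map z)
    (continuous_map h𝒵.isStack.1 h𝒵.atlas _)
    ⟨continuous_map hP.isStack.1 hP.atlas _,
      isOpenMap_map h₁.isStack.1 h₁.atlas hP.isStack.1 _ (repByAlgSpWith_fpSnd z _ hz'.1)
        (repByAlgSpWith_fpSnd z _ hz'.2),
      isSurjective_of_repWith h₁.isStack.1 hP.isStack.1 _ (repByAlgSpWith_fpSnd z _ hzs)⟩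
    ⟨continuous_map h𝒵.isStack.1 h𝒵.atlas z,
      isOpenMap_map hfib (hasAtlas_overCat U) h𝒵.isStack.1 z hz'.1 hz'.2,
      isSurjective_of_repWith hfib h𝒵.isStack.1 z hzs⟩
    (fun w => (map_comp_apply _ _ w).symm.trans
      ((congrFun (map_congr (FibCat.fpIso z (FibCat.fpFst g f))) w).trans (map_comp_apply _ _ w)))
    (fun x y hxy => ?_) ?_
  · obtain ⟨w, hw₁, hw₂⟩ := exists_point_fp hP.isStack.1 h𝒵.isStack.1 hfib (FibCat.fpFst g f) z y x
      hxy.symm
    exact ⟨w, hw₂, hw₁⟩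
  · exact (hH (Points.map (FibCat.fpFst (BasedFunctor.comp z g) f))
      (Points.map (FibCat.fpFst z (FibCat.fpFst g f))) (Points.map (Fib.fpBC z g f)) id
      (isHomeomorph_map h₁ h₂ _ (Fib.isEquivOver_fpBC z g f))
      IsHomeomorph.id (fun w => by
        rw [← map_comp_apply, Fib.fpBC_fpFst]
        rfl)).1 hchart

theorem repByAlgSpWith_univSp_iff (hH : HomeoInvariant @PP) (hD : DescendsOpen @PP)
    (Q : MorphismProperty (Sp S))
    (hQ : ∀ ⦃F G : Sp S⦄ (a : F ⟶ G), Q a ↔ PP (_root_.AlgSp.Points.map a))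
    {𝒳 𝒴 : AlgSt.Cat S} (h𝒳 : AlgSt.IsAlgStack Scheme.fppfPrecoverage 𝒳)
    (h𝒴 : AlgSt.IsAlgStack Scheme.fppfPrecoverage 𝒴) (f : 𝒳 ⥤ᵇ 𝒴) (hf : AlgSt.RepByAlgSp1 f) :
    AlgSt.RepByAlgSpWith (UnivSp Q) f ↔
      ∀ (𝒵 : AlgSt.Cat S), AlgSt.IsAlgStack Scheme.fppfPrecoverage 𝒵 → ∀ (g : 𝒵 ⥤ᵇ 𝒴),
        PP (Points.map (FibCat.fpFst g f)) := by
  constructor
  · intro h
    exact prop_map_of_forall hH hD Q (fun _ _ a ha => (hQ a).1 ha) h𝒳 h𝒴 f (fun U y => by
      obtain ⟨F, e, he, hm⟩ := h U y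
      exact ⟨F, e, he, hm (IsAlgSpace.yon_obj U) (𝟙 _) (𝟙 _) _
        (IsPullback.of_horiz_isIso ⟨(Category.id_comp _).trans (Category.comp_id _).symm⟩)⟩)
  · intro H U y
    obtain ⟨F, e, he⟩ := hf U y
    refine ⟨F, e, he, fun Z Z' hZ gg fst snd sq => (hQ snd).2 ?_⟩
    have hZ' : IsAlgSpace Z' :=
      AlgSpc.isAlgSpace_of_isPullback F.property (IsAlgSpace.yon_obj U) hZ sq
    obtain ⟨Φ₀, h₀, hfst, -⟩ := isEquivOver_fpLift
      (sq.map (sheafToPresheaf (_root_.AlgSp.J S) (Type (u + 1))))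
    have := Fib.full_of_isEquivOver (isEquivOver_toOverCat U)
    have := Fib.faithful_of_isEquivOver (isEquivOver_toOverCat U)
    let M := Fib.fpMap (BasedFunctor.id (AlgSt.ofSp Z)) e (AlgSt.toOverCat U)
      (F' := AlgSt.ofSpMap gg)
      (G' := AlgSt.ofSpMap (AlgSt.spMapOfOver (BasedFunctor.comp e (FibCat.fpFst y f))))
      (F := BasedFunctor.comp (AlgSt.ofSpMap gg) (AlgSt.toOverCat U)) (G := FibCat.fpFst y f)
      (Iso.refl _) (isoOfOver (BasedFunctor.comp e (FibCat.fpFst y f))).symm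
    let Γ := BasedFunctor.comp (BasedFunctor.comp (AlgSt.ofSpMap gg) (AlgSt.toOverCat U)) y
    let e₂ : AlgSt.ofSp Z' ⥤ᵇ FibCat.fp Γ f :=
      BasedFunctor.comp (BasedFunctor.comp Φ₀ M) (Fib.fpBC _ y f)
    have he₂ : FibCat.IsEquivOver e₂ := Fib.isEquivOver_comp (Fib.isEquivOver_comp h₀
      (Fib.isEquivOver_fpMap _ _ _ _ _ (Fib.isEquivOver_id _) he)) (Fib.isEquivOver_fpBC _ _ _)
    have k : BasedFunctor.comp e₂ (FibCat.fpFst Γ f) ≅ AlgSt.ofSpMap snd :=
      eqToIso (show BasedFunctor.comp e₂ (FibCat.fpFst Γ f) = AlgSt.ofSpMap snd from hfst)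
    exact (prop_map_iff hH f hZ hZ' Γ e₂ he₂ snd k).1 (H _ (isAlgStack_ofSp hZ) Γ)

/-! ### Instances -/

theorem homeo_aux {A B A' B' : Type*} [TopologicalSpace A] [TopologicalSpace B] [TopologicalSpace A']
    [TopologicalSpace B'] {f : A → B} {f' : A' → B'} {a : A' → A} {b : B' → B}
    (ha : IsHomeomorph a) (hb : IsHomeomorph b) (h : ∀ x, b (f' x) = f (a x)) :
    f = hb.homeomorph ∘ f' ∘ ha.homeomorph.symm ∧ f' = hb.homeomorph.symm ∘ f ∘ ha.homeomorph := by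
  constructor
  · funext x
    exact ((h _).trans (congrArg f (ha.homeomorph.apply_symm_apply x))).symm
  · funext x
    exact (hb.homeomorph.symm_apply_apply _).symm.trans (congrArg hb.homeomorph.symm (h x))

theorem homeoInvariant_isOpenMap : HomeoInvariant.{u} (fun {_ _} [_] [_] f => IsOpenMap f) :=
  fun f f' a b ha hb h => by
    obtain ⟨e₁, e₂⟩ := homeo_aux ha hb h
    exact ⟨fun hf => e₂ ▸ hb.homeomorph.symm.isOpenMap.comp (hf.comp ha.homeomorph.isOpenMap),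
      fun hf => e₁ ▸ hb.homeomorph.isOpenMap.comp (hf.comp ha.homeomorph.symm.isOpenMap)⟩

theorem homeoInvariant_isClosedMap : HomeoInvariant.{u} (fun {_ _} [_] [_] f => IsClosedMap f) :=
  fun f f' a b ha hb h => by
    obtain ⟨e₁, e₂⟩ := homeo_aux ha hb h
    exact ⟨fun hf => e₂ ▸ hb.homeomorph.symm.isClosedMap.comp (hf.comp ha.homeomorph.isClosedMap),
      fun hf => e₁ ▸ hb.homeomorph.isClosedMap.comp (hf.comp ha.homeomorph.symm.isClosedMap)⟩

theorem homeoInvariant_injective :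
    HomeoInvariant.{u} (fun {_ _} [_] [_] f => Function.Injective f) :=
  fun f f' a b ha hb h => by
    obtain ⟨e₁, e₂⟩ := homeo_aux ha hb h
    exact ⟨fun hf => e₂ ▸ hb.homeomorph.symm.injective.comp (hf.comp ha.homeomorph.injective),
      fun hf => e₁ ▸ hb.homeomorph.injective.comp (hf.comp ha.homeomorph.symm.injective)⟩

theorem homeoInvariant_isQuotientMap :
    HomeoInvariant.{u} (fun {_ _} [_] [_] f => Topology.IsQuotientMap f) :=
  fun f f' a b ha hb h => by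
    obtain ⟨e₁, e₂⟩ := homeo_aux ha hb h
    exact ⟨fun hf => e₂ ▸ hb.homeomorph.symm.isQuotientMap.comp (hf.comp ha.homeomorph.isQuotientMap),
      fun hf => e₁ ▸ hb.homeomorph.isQuotientMap.comp (hf.comp ha.homeomorph.symm.isQuotientMap)⟩

theorem homeoInvariant_isHomeomorph :
    HomeoInvariant.{u} (fun {_ _} [_] [_] f => IsHomeomorph f) :=
  fun f f' a b ha hb h => by
    obtain ⟨e₁, e₂⟩ := homeo_aux ha hb h
    exact ⟨fun hf => e₂ ▸ hb.homeomorph.symm.isHomeomorph.comp (hf.comp ha.homeomorph.isHomeomorph),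
      fun hf => e₁ ▸ hb.homeomorph.isHomeomorph.comp (hf.comp ha.homeomorph.symm.isHomeomorph)⟩

theorem descendsOpen_isOpenMap : DescendsOpen.{u} (fun {_ _} [_] [_] f => IsOpenMap f) := by
  intro A B A' B' _ _ _ _ f f' a b hf ha hb h _ hf' W hW
  have : f '' W = b '' (f' '' (a ⁻¹' W)) := by
    rw [← Set.image_comp, show b ∘ f' = f ∘ a from funext h, Set.image_comp,
      Set.image_preimage_eq _ ha.2.2]
  rw [this]
  exact hb.2.1 _ (hf' _ (hW.preimage ha.1))

theorem descendsOpen_isClosedMap : DescendsOpen.{u} (fun {_ _} [_] [_] f => IsClosedMap f) := by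
  intro A B A' B' _ _ _ _ f f' a b hf ha hb h hl hf' W hW
  have e : b ⁻¹' (f '' W) = f' '' (a ⁻¹' W) := by
    ext y
    constructor
    · rintro ⟨x, hx, hxy⟩
      obtain ⟨z, rfl, rfl⟩ := hl x y hxy
      exact ⟨z, hx, rfl⟩
    · rintro ⟨z, hz, rfl⟩
      exact ⟨a z, hz, (h z).symm⟩
  rw [← (hb.2.1.isQuotientMap hb.1 hb.2.2).isClosed_preimage, e]
  exact hf' _ (hW.preimage ha.1)

theorem descendsOpen_injective : DescendsOpen.{u} (fun {_ _} [_] [_] f => Function.Injective f) := by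
  intro A B A' B' _ _ _ _ f f' a b hf ha hb h hl hf' x y hxy
  obtain ⟨v, hv⟩ := hb.2.2 (f x)
  obtain ⟨z, rfl, hz⟩ := hl x v hv.symm
  obtain ⟨w, rfl, hw⟩ := hl y v (hxy.symm.trans hv.symm)
  exact congrArg a (hf' (hz.trans hw.symm))

theorem descendsOpen_isQuotientMap :
    DescendsOpen.{u} (fun {_ _} [_] [_] f => Topology.IsQuotientMap f) := by
  intro A B A' B' _ _ _ _ f f' a b hf ha hb h _ hf'
  have : Topology.IsQuotientMap (f ∘ a) :=
    (show b ∘ f' = f ∘ a from funext h) ▸ (hb.2.1.isQuotientMap hb.1 hb.2.2).comp hf'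
  exact Topology.IsQuotientMap.of_comp ha.1 hf this

theorem descendsOpen_isHomeomorph :
    DescendsOpen.{u} (fun {_ _} [_] [_] f => IsHomeomorph f) := by
  intro A B A' B' _ _ _ _ f f' a b hf ha hb h hl hf'
  exact ⟨hf, descendsOpen_isOpenMap f f' a b hf ha hb h hl hf'.isOpenMap,
    descendsOpen_injective f f' a b hf ha hb h hl hf'.injective,
    (descendsOpen_isQuotientMap f f' a b hf ha hb h hl hf'.homeomorph.isQuotientMap).surjective⟩

end Groth.Agent.AlgStB
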