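import Groth.Agent.AlgStB.QuotHom
import Groth.Agent.AlgStB.OfSp
import Groth.Agent.Fib.Fp
import Groth.Prelude.Def_AlgSt3
import Groth.Agent.AlgSpLoc.Inst
import Mathlib.AlgebraicGeometry.Morphisms.LocalFlatDescent
import Mathlib.AlgebraicGeometry.Morphisms.FlatDescent

/-!
# The canonical chart of a quotient stack
-/

set_option autoImplicit false
set_option backward.isDefEq.respectTransparency false
set_option backward.isDefEq.respectTransparency.types false
set_option maxHeartbeats 1000000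

universe u

open CategoryTheory CategoryTheory.Limits MonoidalCategory CartesianMonoidalCategory AlgebraicGeometry Opposite
open scoped MonObj

noncomputable section

namespace Groth.Agent.AlgStB.QuotHom

variable {S : Scheme.{u}} {K : Precoverage Scheme.{u}} {G : Over S} [GrpObj G] {X : Over S}
  {aX : AlgGrp.Action G X}

/-- Morphisms into a torsor with the same base are determined by their composite with a morphism out. -/
theorem hom_cancel {A B C : AlgSt.QuotObj K G aX} {u v : A ⟶ B} (h : B ⟶ C)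
    (hb : u.base = v.base) (h' : u ≫ h = v ≫ h) : u = v := by
  refine AlgSt.QuotObj.hom_ext hb (h.cart.hom_ext (congrArg AlgSt.QuotObj.Hom.top h') ?_)
  rw [u.cart.w, v.cart.w, hb]

/-- A morphism of torsors over a factorisation of bases. -/
theorem exists_hom_of_base {B C A : AlgSt.QuotObj K G aX} (h₁ : B ⟶ A) (h₂ : C ⟶ A)
    (k : B.base ⟶ C.base) (hk : k ≫ h₂.base = h₁.base) :
    ∃ u : B ⟶ C, u.base = k ∧ u ≫ h₂ = h₁ := by
  let t : B.P ⟶ C.P := h₂.cart.lift h₁.top (B.π ≫ k)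
    (by rw [Category.assoc, hk, h₁.cart.w])
  have ht : t ≫ h₂.top = h₁.top := h₂.cart.lift_fst _ _ _
  have htπ : t ≫ C.π = B.π ≫ k := h₂.cart.lift_snd _ _ _
  refine ⟨{ base := k, top := t, eqv := ?_, cart := ?_, wφ := ?_ }, rfl,
    AlgSt.QuotObj.hom_ext hk ht⟩
  · refine h₂.cart.hom_ext ?_ ?_
    · rw [Category.assoc, ht, h₁.eqv, Category.assoc, h₂.eqv, ← MonoidalCategory.whiskerLeft_comp_assoc, ht]
    · rw [Category.assoc, htπ, Category.assoc, C.cart.w, whiskerLeft_snd_assoc, htπ, ← Category.assoc,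
        ← Category.assoc, B.cart.w]
  · refine IsPullback.of_right ?_ htπ h₂.cart
    rw [ht, hk]
    exact h₁.cart
  · rw [← h₂.wφ, ← Category.assoc, ht, h₁.wφ]

/-- The isomorphism of torsors over an isomorphism of bases. -/
theorem exists_iso_of_base {B C A : AlgSt.QuotObj K G aX} (h₁ : B ⟶ A) (h₂ : C ⟶ A)
    (k : B.base ≅ C.base) (hk : k.hom ≫ h₂.base = h₁.base) :
    ∃ e : B ≅ C, e.hom.base = k.hom ∧ e.hom ≫ h₂ = h₁ := by
  obtain ⟨u, hu, hu'⟩ := exists_hom_of_base h₁ h₂ k.hom hk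
  obtain ⟨v, hv, hv'⟩ := exists_hom_of_base h₂ h₁ k.inv (by rw [← hk, Iso.inv_hom_id_assoc])
  exact ⟨⟨u, v, hom_cancel h₁ (by simp [hu, hv]) (by rw [Category.assoc, hv', hu', Category.id_comp]),
    hom_cancel h₂ (by simp [hu, hv]) (by rw [Category.assoc, hu', hv', Category.id_comp])⟩, hu, hu'⟩

theorem homOfSection_one [K.HasIsos] (A : AlgSt.QuotObj K G aX) {T : Over S} (f : T ⟶ A.base)
    (s : T ⟶ A.P) (hs : s ≫ A.π = f) :
    lift (1 : T ⟶ G) (𝟙 T) ≫ (homOfSection A f s hs).top = s := by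
  change lift (1 : T ⟶ G) (𝟙 T) ≫ (G ◁ s) ≫ A.act.act = s
  rw [lift_whiskerLeft_assoc, Category.id_comp, AlgGrp.Action.lift_one_act]

/-- A morphism out of a trivial torsor is given by a section. -/
theorem eq_homOfSection [K.HasIsos] (A : AlgSt.QuotObj K G aX) {T : Over S} {x : T ⟶ X}
    (n : trivObj K aX x ⟶ A) :
    ∃ (s : T ⟶ A.P) (_ : s ≫ A.π = n.base) (_ : s ≫ A.φ = x), n.top = (G ◁ s) ≫ A.act.act := by
  let s : T ⟶ A.P := lift (1 : T ⟶ G) (𝟙 T) ≫ n.top
  have hπ : n.top ≫ A.π = snd G T ≫ n.base := n.cart.w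
  refine ⟨s, ?_, ?_, ?_⟩
  · rw [Category.assoc, hπ, lift_snd_assoc, Category.id_comp]
  · have hφ : n.top ≫ A.φ = (G ◁ x) ≫ aX.act := n.wφ
    rw [Category.assoc, hφ, lift_whiskerLeft_assoc, Category.id_comp, AlgGrp.Action.lift_one_act]
  · refine AlgGrp.Action.hom_ext_lift₂ fun Z b t => ?_
    have heq : (AlgSt.leftMul G T).act ≫ n.top = (G ◁ n.top) ≫ A.act.act := n.eqv
    have h1 : lift b t = lift b (t ≫ lift (1 : T ⟶ G) (𝟙 T)) ≫ (AlgSt.leftMul G T).act := by
      rw [comp_lift, lift_leftMul, MonObj.comp_one, mul_one]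
      exact congrArg (lift b) (Category.comp_id t).symm
    rw [lift_whiskerLeft_assoc]
    nth_rewrite 1 [h1]
    rw [Category.assoc, heq, lift_whiskerLeft_assoc, Category.assoc]

/-- The base change of the canonical chart to `U` along an object over `U` is the torsor. -/
theorem repByAlgSpWith_quotMap [K.HasIsos] {Q : MorphismProperty (AlgSp.Sp S)}
    (hQ : ∀ (A : AlgSt.QuotObj K G aX) {U : Over S} (e : A.base = U),
      Q ((AlgSp.yon S).map (A.π ≫ eqToHom e))) :
    AlgSt.RepByAlgSpWith Q (BasedFunctor.comp (AlgSt.ofOverCat X) (AlgSt.quotMap K G aX)) := by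
  intro U y
  let A := y.obj (Over.mk (𝟙 U))
  have e0 : A.base = U := y.w_obj (Over.mk (𝟙 U))
  let π' : A.P ⟶ U := A.π ≫ eqToHom e0
  let mg : ∀ g : Over U, y.obj g ⟶ A := fun g =>
    y.map (Over.homMk g.hom (Category.comp_id _) : g ⟶ Over.mk (𝟙 U))
  have mg_base : ∀ g, (mg g).base = eqToHom (y.w_obj g) ≫ g.hom ≫ eqToHom e0.symm := fun g =>
    Fib.w_map y (Over.homMk g.hom (Category.comp_id _) : g ⟶ Over.mk (𝟙 U))
  have mg_nat : ∀ {g g' : Over U} (k : g ⟶ g'), y.map k ≫ mg g' = mg g := fun {g g'} k => by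
    rw [← Functor.map_comp]
    congr 1
    exact Over.OverMorphism.ext (Over.w k)
  have hyb : ∀ g : Over U, (y.obj g).base = g.left := fun g => y.w_obj g
  let hS : ∀ p : Over A.P, trivObj K aX (p.hom ≫ A.φ) ⟶ A := fun p =>
    homOfSection A (p.hom ≫ A.π) p.hom rfl
  have hex : ∀ p : Over A.P, ∃ e : y.obj ((AlgSt.overMap π').obj p) ≅ trivObj K aX (p.hom ≫ A.φ),
      e.hom.base = eqToHom (y.w_obj ((AlgSt.overMap π').obj p)) ∧ e.hom ≫ hS p = mg _ := fun p =>
    exists_iso_of_base (mg _) (hS p)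
      (eqToIso (hyb ((AlgSt.overMap π').obj p))) (by
      rw [mg_base]
      change eqToHom (hyb ((AlgSt.overMap π').obj p)) ≫ (p.hom ≫ A.π) =
        eqToHom (hyb ((AlgSt.overMap π').obj p)) ≫ (p.hom ≫ π') ≫ eqToHom e0.symm
      simp [π'])
  choose α hαb hα using hex
  let Fq := BasedFunctor.comp (AlgSt.ofOverCat X) (AlgSt.quotMap K G aX)
  have hnat : ∀ {p p' : Over A.P} (k : p ⟶ p'),
      y.map ((AlgSt.overMap π').map k) ≫ (α p').hom = (α p).hom ≫ Fq.map ((AlgSt.overMap A.φ).map k) := by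
    intro p p' k
    refine hom_cancel (hS p') ?_ ?_
    · rw [AlgSt.QuotObj.comp_base, AlgSt.QuotObj.comp_base, hαb, hαb]
      have := Fib.w_map y ((AlgSt.overMap π').map k)
      change (y.map _).base = _ at this
      rw [this]
      simp only [Category.assoc, eqToHom_trans, eqToHom_refl, Category.comp_id]
      rfl
    · rw [Category.assoc, hα, mg_nat, Category.assoc, ← hα p]
      congr 1
      refine AlgSt.QuotObj.hom_ext ?_ ?_
      · change p.hom ≫ A.π = k.left ≫ p'.hom ≫ A.π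
        rw [Over.w_assoc]
      · change (G ◁ p.hom) ≫ A.act.act = (G ◁ k.left) ≫ (G ◁ p'.hom) ≫ A.act.act
        rw [← MonoidalCategory.whiskerLeft_comp_assoc, Over.w]
  let eq2 : BasedFunctor.comp (AlgSt.overMap π') y ≅ BasedFunctor.comp (AlgSt.overMap A.φ) Fq :=
    Fib.isoMk α hnat (fun p => IsHomLift.of_fac' _ _ _ (y.w_obj _) rfl (by
      change (α p).hom.base = _
      rw [hαb]
      simp))
  let Φ : FibCat.overCat A.P ⥤ᵇ FibCat.fp y Fq := FibCat.fpLift (AlgSt.overMap π') (AlgSt.overMap A.φ) eq2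
  have : Φ.toFunctor.Faithful := ⟨fun {p p'} k k' h => Over.OverMorphism.ext
    (congrArg (fun m : Φ.obj p ⟶ Φ.obj p' => m.hom.fst.left) h :)⟩
  have : Φ.toFunctor.Full := ⟨fun {p p'} m => by
    let k : (AlgSt.overMap π').obj p ⟶ (AlgSt.overMap π').obj p' := m.hom.fst
    let l : (AlgSt.overMap A.φ).obj p ⟶ (AlgSt.overMap A.φ).obj p' := m.hom.snd
    have hw : y.map k ≫ (α p').hom = (α p).hom ≫ Fq.map l := m.hom.w
    have hb : k.left = l.left := by
      have h : (y.map k).base ≫ (α p').hom.base = (α p).hom.base ≫ l.left :=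
        congrArg AlgSt.QuotObj.Hom.base hw
      have h' : (y.map k).base = eqToHom (y.w_obj _) ≫ k.left ≫ eqToHom (y.w_obj _).symm := Fib.w_map y k
      rw [hαb, hαb, h'] at h
      simp only [Category.assoc, eqToHom_trans, eqToHom_refl, Category.comp_id] at h
      exact (cancel_epi _).1 h
    have h2 : Fq.map l ≫ hS p' = hS p := by
      rw [← cancel_epi (α p).hom, ← Category.assoc, ← hw, Category.assoc, hα, mg_nat, hα]
    have h3 : l.left ≫ p'.hom = p.hom := by
      have h4 := congrArg (fun q : trivObj K aX (p.hom ≫ A.φ) ⟶ A => lift (1 : p.left ⟶ G) (𝟙 p.left) ≫ q.top) h2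
      change lift (1 : p.left ⟶ G) (𝟙 p.left) ≫ (G ◁ l.left) ≫ (G ◁ p'.hom) ≫ A.act.act =
        lift (1 : p.left ⟶ G) (𝟙 p.left) ≫ (G ◁ p.hom) ≫ A.act.act at h4
      rw [lift_whiskerLeft_assoc, lift_whiskerLeft_assoc, lift_whiskerLeft_assoc, Category.id_comp,
        Category.id_comp, AlgGrp.Action.lift_one_act, AlgGrp.Action.lift_one_act] at h4
      exact h4
    exact ⟨Over.homMk k.left (by rw [hb]; exact h3), Fib.fp_hom_ext (Over.OverMorphism.ext rfl)
      (Over.OverMorphism.ext hb)⟩⟩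
  have hΦ : FibCat.IsEquivOver Φ := by
    refine Fib.isEquivOver_of_exists_iso_over Φ fun w => ?_
    obtain ⟨⟨g, x, β⟩, hβ⟩ := w
    have hβb : β.hom.base = eqToHom (y.w_obj g) ≫ 𝟙 g.left ≫
        eqToHom (@IsHomLift.codomain_eq _ _ _ _ (AlgSt.QuotSt K G aX).p _ _ _ _ (𝟙 g.left) β.hom hβ).symm :=
      @IsHomLift.fac' _ _ _ _ (AlgSt.QuotSt K G aX).p _ _ _ _ (𝟙 g.left) β.hom hβ
    have hxg : x.left = g.left :=
      @IsHomLift.codomain_eq _ _ _ _ (AlgSt.QuotSt K G aX).p _ _ _ _ (𝟙 g.left) β.hom hβ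
    let n : trivObj K aX x.hom ⟶ A := β.inv ≫ mg g
    obtain ⟨p, hpπ, hpφ, hntop⟩ := eq_homOfSection A n
    have hnb : n.base = eqToHom hxg ≫ g.hom ≫ eqToHom e0.symm := by
      have hi : β.inv.base = eqToHom (hxg.trans (y.w_obj g).symm) := by
        have h : β.hom.base ≫ β.inv.base = 𝟙 _ := congrArg AlgSt.QuotObj.Hom.base β.hom_inv_id
        rw [hβb] at h
        simp only [Category.assoc] at h
        erw [Category.id_comp, eqToHom_trans_assoc] at h
        rw [← cancel_epi (eqToHom ((y.w_obj g).trans hxg.symm))]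
        exact h.trans ((eqToHom_refl _ rfl).symm.trans (eqToHom_trans _ _).symm)
      change β.inv.base ≫ (mg g).base = _
      rw [hi, mg_base]
      simp
    let e₁ : (AlgSt.overMap π').obj (Over.mk p) ≅ g :=
      Over.isoMk (eqToIso hxg) (by
        change eqToHom hxg ≫ g.hom = p ≫ π'
        rw [← Category.assoc, hpπ, hnb]
        simp)
    let e₂ : (AlgSt.overMap A.φ).obj (Over.mk p) ≅ x :=
      Over.isoMk (Iso.refl _) (by
        change 𝟙 _ ≫ x.hom = p ≫ A.φ
        rw [hpφ, Category.id_comp])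
    let i : Φ.obj (Over.mk p) ≅ (⟨⟨g, x, β⟩, hβ⟩ : (FibCat.fp y Fq).obj) :=
      Fib.fpIsoMk e₁ e₂ (by
        change y.map e₁.hom ≫ β.hom = (α (Over.mk p)).hom ≫ Fq.map e₂.hom
        refine hom_cancel n ?_ ?_
        · rw [AlgSt.QuotObj.comp_base, AlgSt.QuotObj.comp_base, hαb, hβb]
          have := Fib.w_map y e₁.hom
          change (y.map _).base = _ at this
          rw [this]
          change (eqToHom _ ≫ eqToHom hxg ≫ eqToHom _) ≫ eqToHom _ ≫ 𝟙 _ ≫ eqToHom _ = eqToHom _ ≫ 𝟙 _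
          simp
        · rw [Category.assoc, Category.assoc]
          change y.map e₁.hom ≫ β.hom ≫ β.inv ≫ mg g = _
          rw [Iso.hom_inv_id_assoc, mg_nat, ← hα]
          congr 1
          refine AlgSt.QuotObj.hom_ext ?_ ?_
          · change p ≫ A.π = 𝟙 _ ≫ n.base
            rw [Category.id_comp, hpπ]
          · change (G ◁ p) ≫ A.act.act = (G ◁ 𝟙 _) ≫ n.top
            rw [MonoidalCategory.whiskerLeft_id, Category.id_comp, hntop])
    exact ⟨_, i, Fib.fp_iso_isHomLift_id i (IsHomLift.of_fac' _ _ _ hxg rfl (by simp [i, e₁]; rfl))⟩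
  refine ⟨⟨(AlgSp.yon S).obj A.P, AlgSp.IsAlgSpace.yon_obj A.P⟩,
    BasedFunctor.comp (AlgSt.toOverCat A.P) Φ,
    Fib.isEquivOver_comp (isEquivOver_toOverCat A.P) hΦ, ?_⟩
  have e : AlgSt.spMapOfOver (BasedFunctor.comp (BasedFunctor.comp (AlgSt.toOverCat A.P) Φ)
      (FibCat.fpFst y Fq)) = (AlgSp.yon S).map π' := by
    apply ObjectProperty.hom_ext
    apply NatTrans.ext
    funext T
    ext x
    exact congrArg ULift.up (Category.id_comp _)
  rw [e]
  exact hQ A e0

/-- A property of the group scheme stable under base change and fppf descent holds for torsors. -/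
theorem torsor_prop (P : MorphismProperty Scheme.{u}) [P.IsStableUnderBaseChange] [P.RespectsIso]
    [P.DescendsAlong (@Surjective ⊓ @Flat ⊓ @LocallyOfFinitePresentation : MorphismProperty Scheme.{u})]
    (hG : P G.hom) (A : AlgSt.QuotObj Scheme.fppfPrecoverage G aX) : P A.π.left := by
  obtain ⟨R, hR, hs⟩ := A.loc
  obtain ⟨𝒰₀, rfl⟩ := Precoverage.mem_iff_exists_zeroHypercover.1 hR
  have hmem := (Scheme.ofArrows_mem_precoverage_iff (P := @Flat ⊓ @LocallyOfFinitePresentation)).1 hR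
  choose i₀ y₀ hy₀ using hmem.1
  choose s₀ hs₀ using fun x : A.base.left => hs (𝒰₀.f (i₀ x)) ⟨i₀ x⟩
  let XX : A.base.left → Scheme.{u} := fun x => 𝒰₀.X (i₀ x)
  let ff : ∀ x, XX x ⟶ A.base.left := fun x => 𝒰₀.f (i₀ x)
  let Z := ∐ XX
  let c : Z ⟶ A.base.left := Sigma.desc ff
  let s : Z ⟶ A.P.left := Sigma.desc s₀
  have hs' : s ≫ A.π.left = c := Sigma.hom_ext _ _ fun i => by
    rw [Sigma.ι_desc_assoc, Sigma.ι_desc]
    exact hs₀ i
  have hF : Flat c := IsZariskiLocalAtSource.sigmaDesc (P := @Flat) fun i => (hmem.2 (i₀ i)).1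
  have hL : LocallyOfFinitePresentation c :=
    IsZariskiLocalAtSource.sigmaDesc (P := @LocallyOfFinitePresentation) fun i => (hmem.2 (i₀ i)).2
  have hc : Surjective c := ⟨fun x => by
    refine ⟨Sigma.ι XX x (y₀ x), ?_⟩
    rw [← Scheme.Hom.comp_apply, Sigma.ι_desc]
    exact hy₀ x⟩
  let T : Over S := Over.mk (c ≫ A.base.hom)
  let f : T ⟶ A.base := Over.homMk c rfl
  let s' : T ⟶ A.P := Over.homMk s (by
    change s ≫ A.P.hom = c ≫ A.base.hom
    rw [← hs', Category.assoc, Over.w A.π])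
  have hsf : s' ≫ A.π = f := Over.OverMorphism.ext hs'
  have sq : IsPullback ((G ◁ s') ≫ A.act.act) (snd G T) A.π f :=
    (homOfSection A f s' hsf).cart
  have hsnd : P (snd G T).left := by
    have h : IsPullback (fst G T).left (snd G T).left (toUnit G).left (toUnit T).left :=
      (AlgSt.isPullback_fst_snd G T).map (Over.forget S)
    refine MorphismProperty.of_isPullback h ?_
    have : (toUnit G).left = G.hom := by
      have := Over.w (toUnit G)
      simpa using this
    rw [this]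
    exact hG
  exact MorphismProperty.of_isPullback_of_descendsAlong (P := P)
    (Q := (@Surjective ⊓ @Flat ⊓ @LocallyOfFinitePresentation : MorphismProperty Scheme.{u}))
    (sq.map (Over.forget S)).flip ⟨⟨hc, hF⟩, hL⟩ hsnd

theorem surjective_grp : Surjective G.hom :=
  ⟨fun x => ⟨(η[G] : 𝟙_ (Over S) ⟶ G).left x, by
    rw [← Scheme.Hom.comp_apply, Over.w η[G]]
    rfl⟩⟩

end Groth.Agent.AlgStB.QuotHom
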