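import Groth.Agent.AlgStB.QuotChart
import Groth.Agent.AlgSpc.EtLocInst

/-!
# The canonical chart of a quotient stack is fppf / smooth
-/

set_option autoImplicit false
set_option backward.isDefEq.respectTransparency false
set_option maxHeartbeats 1000000

universe u

open CategoryTheory CategoryTheory.Limits MonoidalCategory CartesianMonoidalCategory AlgebraicGeometry Opposite

noncomputable section

namespace Groth.Agent.AlgStB.QuotHom

open AlgSp Groth.Agent.AlgSpc

variable {S : Scheme.{u}} {G : Over S} [GrpObj G] {X : Over S} {aX : AlgGrp.Action G X}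

theorem isSurjectiveMor_yon {U V : Over S} (φ : U ⟶ V) (h : Surjective φ.left) :
    IsSurjectiveMor ((yon S).map φ) := fun z => by
  obtain ⟨v, rfl⟩ := (Points.schemeEquiv V).surjective z
  obtain ⟨u, hu⟩ := h.surj v
  refine ⟨Points.schemeEquiv U u, (Points.schemeEquiv V).symm.injective ?_⟩
  rw [Equiv.symm_apply_apply]
  change Points.toScheme V (Points.map ((yon S).map φ) (Points.ofScheme U u)) = v
  rw [← Points.ofPt_eq_map_ofScheme, Points.toScheme_ofPt, hu]

theorem quotMap_flat [Flat G.hom] :
    AlgSt.RepByAlgSpWith (LocP @Flat)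
      (BasedFunctor.comp (AlgSt.ofOverCat X) (AlgSt.quotMap Scheme.fppfPrecoverage G aX)) :=
  repByAlgSpWith_quotMap fun A _ e => by
    subst e
    rw [eqToHom_refl, Category.comp_id]
    refine locP_of_repWith (fun e f he hf => ?_) ((repWith_yon_map_iff _ _).2 (torsor_prop @Flat inferInstance A))
    have : Etale e := he
    have : Flat f := hf
    infer_instance

theorem quotMap_lfp [LocallyOfFinitePresentation G.hom] :
    AlgSt.RepByAlgSpWith (LocP @LocallyOfFinitePresentation)
      (BasedFunctor.comp (AlgSt.ofOverCat X) (AlgSt.quotMap Scheme.fppfPrecoverage G aX)) :=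
  repByAlgSpWith_quotMap fun A _ e => by
    subst e
    rw [eqToHom_refl, Category.comp_id]
    refine locP_of_repWith (fun e f he hf => ?_)
      ((repWith_yon_map_iff _ _).2 (torsor_prop @LocallyOfFinitePresentation inferInstance A))
    have : Etale e := he
    have : LocallyOfFinitePresentation f := hf
    infer_instance

theorem quotMap_smooth [Smooth G.hom] :
    AlgSt.RepByAlgSpWith (LocP @Smooth)
      (BasedFunctor.comp (AlgSt.ofOverCat X) (AlgSt.quotMap Scheme.fppfPrecoverage G aX)) :=
  repByAlgSpWith_quotMap fun A _ e => by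
    subst e
    rw [eqToHom_refl, Category.comp_id]
    refine locP_of_repWith (fun e f he hf => ?_)
      ((repWith_yon_map_iff _ _).2 (torsor_prop @Smooth inferInstance A))
    have : Etale e := he
    have : Smooth f := hf
    infer_instance

theorem quotMap_surjective :
    AlgSt.RepByAlgSpWith IsSurjectiveMor
      (BasedFunctor.comp (AlgSt.ofOverCat X) (AlgSt.quotMap Scheme.fppfPrecoverage G aX)) :=
  repByAlgSpWith_quotMap fun A _ e => by
    subst e
    rw [eqToHom_refl, Category.comp_id]
    exact isSurjectiveMor_yon _ (torsor_prop @Surjective surjective_grp A)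

end Groth.Agent.AlgStB.QuotHom
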