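import Groth.Agent.AlgStB.QuotPoints
import Groth.Prelude.Def_StCoarse

/-!
# Coarse moduli spaces of quotient stacks: geometric points
-/

set_option autoImplicit false
set_option backward.isDefEq.respectTransparency false
set_option backward.isDefEq.respectTransparency.types false
set_option maxHeartbeats 1000000

universe u

open CategoryTheory CategoryTheory.Limits MonoidalCategory CartesianMonoidalCategory AlgebraicGeometry Opposite
open scoped MonObj

noncomputable section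

namespace Groth.Agent.AlgStB.QuotPoints

open QuotHom QuotToSheaf

variable {S : Scheme.{u}} {K : Precoverage Scheme.{u}} {G : Over S} [GrpObj G] {X : Over S}
  {aX : AlgGrp.Action G X} {Ω : Type u} [Field Ω] [IsAlgClosed Ω]

/-- An isomorphism in a fibre category from an isomorphism of objects over the identity. -/
theorem nonempty_fiber_iso {T : Over S} {A B : (AlgSt.QuotSt K G aX).p.Fiber T} (e : A.1 ≅ B.1)
    (he : e.hom.base = eqToHom (A.2.trans B.2.symm)) : Nonempty (A ≅ B) := by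
  have hi : e.inv.base = eqToHom (B.2.trans A.2.symm) := by
    have h : e.hom.base ≫ e.inv.base = 𝟙 _ := congrArg AlgSt.QuotObj.Hom.base e.hom_inv_id
    rw [he] at h
    rw [← cancel_epi (eqToHom (A.2.trans B.2.symm))]
    exact h.trans ((eqToHom_trans _ (B.2.trans A.2.symm)).trans (eqToHom_refl _ _)).symm
  exact ⟨{ hom := ⟨e.hom, IsHomLift.of_fac' _ _ _ A.2 B.2 (by change e.hom.base = _; rw [he]; simp)⟩
           inv := ⟨e.inv, IsHomLift.of_fac' _ _ _ B.2 A.2 (by change e.inv.base = _; rw [hi]; simp)⟩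
           hom_inv_id := Subtype.ext e.hom_inv_id
           inv_hom_id := Subtype.ext e.inv_hom_id }⟩

/-- Objects over `T` with translated sections are isomorphic. -/
theorem nonempty_fiber_iso_of_translate [K.HasIsos] {T : Over S}
    (A B : (AlgSt.QuotSt K G aX).p.Fiber T) (s : T ⟶ A.1.P) (hs : s ≫ A.1.π = eqToHom A.2.symm)
    (s' : T ⟶ B.1.P) (hs' : s' ≫ B.1.π = eqToHom B.2.symm) (g : T ⟶ G)
    (hg : lift g (s ≫ A.1.φ) ≫ aX.act = s' ≫ B.1.φ) : Nonempty (A ≅ B) := by
  obtain ⟨eA, hA⟩ := exists_iso_triv A.1 A.2 s hs _ rfl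
  obtain ⟨eB, hB⟩ := exists_iso_triv B.1 B.2 s' hs' _ rfl
  obtain ⟨e, he⟩ := exists_iso_translate (K := K) g hg
  have hA' : eA.inv.base = eqToHom A.2 := by
    have h : eA.hom.base ≫ eA.inv.base = 𝟙 _ := congrArg AlgSt.QuotObj.Hom.base eA.hom_inv_id
    rw [hA] at h
    rw [← cancel_epi (eqToHom A.2.symm)]
    exact h.trans ((eqToHom_trans A.2.symm A.2).trans (eqToHom_refl _ _)).symm
  have he' : e.inv.base = 𝟙 T := by
    have h : e.hom.base ≫ e.inv.base = 𝟙 _ := congrArg AlgSt.QuotObj.Hom.base e.hom_inv_id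
    rw [he] at h
    exact (Category.id_comp _).symm.trans h
  refine nonempty_fiber_iso (eA.symm ≪≫ e.symm ≪≫ eB) ?_
  change eA.inv.base ≫ e.inv.base ≫ eB.hom.base = _
  rw [hA', he', hB]
  exact ((congrArg (eqToHom A.2 ≫ ·) (Category.id_comp _))).trans (eqToHom_trans _ _)

theorem geomPtBij [Scheme.fppfPrecoverage.HasIsos] {Y : Over S} (f : X ⟶ Y)
    (π : AlgSt.QuotSt Scheme.fppfPrecoverage G aX ⥤ᵇ AlgSt.ofSch Y)
    (e : BasedFunctor.comp (AlgSt.quotMap Scheme.fppfPrecoverage G aX) π ≅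
      AlgSt.ofSpMap ((_root_.AlgSp.yon S).map f))
    (horb : ∀ (Ω : Type u) [Field Ω] [IsAlgClosed Ω] (t : Spec (CommRingCat.of Ω) ⟶ S),
      (∀ y : Over.mk t ⟶ Y, ∃ x : Over.mk t ⟶ X, x ≫ f = y) ∧
      (∀ x x' : Over.mk t ⟶ X, x ≫ f = x' ≫ f → ∃ g : Over.mk t ⟶ G, lift g x' ≫ aX.act = x)) :
    AlgSt.GeomPtBij π := by
  intro Ω _ _ t
  refine ⟨fun m => ?_, fun A B hAB => ?_⟩
  · obtain ⟨x, hx⟩ := (horb Ω t).1 m.down
    refine ⟨⟨trivObj Scheme.fppfPrecoverage aX x, rfl⟩, ?_⟩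
    have h := QuotModuli.tsec_of_iso e x
    refine h.trans ?_
    exact congrArg ULift.up hx
  · obtain ⟨s, hs⟩ := exists_section_of_loc cover_fppf A.1 A.2
    obtain ⟨s', hs'⟩ := exists_section_of_loc cover_fppf B.1 B.2
    have key : ∀ (C : (AlgSt.QuotSt Scheme.fppfPrecoverage G aX).p.Fiber (Over.mk t))
        (r : Over.mk t ⟶ C.1.P), r ≫ C.1.π = eqToHom C.2.symm →
        AlgSt.fibSec π C = ⟨r ≫ C.1.φ ≫ f⟩ := fun C r hr => by
      have h₁ := sec_natural π (homOfSection C.1 (eqToHom C.2.symm) r hr)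
      refine Eq.trans ?_ (h₁.trans ((QuotModuli.tsec_of_iso e _).trans ?_))
      · exact (congrArg (fun m => ((_root_.AlgSp.yon S).obj Y).obj.map (Quiver.Hom.op m) _)
          (eqToHom_trans C.2.symm (π.w_obj C.1).symm).symm).trans (map_map_op _ _ _).symm
      · change ULift.up ((r ≫ C.1.φ) ≫ f) = _
        rw [Category.assoc]
    rw [key A s hs, key B s' hs'] at hAB
    obtain ⟨g, hg⟩ := (horb Ω t).2 (s' ≫ B.1.φ) (s ≫ A.1.φ)
      (by rw [Category.assoc, Category.assoc]; exact (congrArg ULift.down hAB).symm)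
    exact nonempty_fiber_iso_of_translate A B s hs s' hs' g hg

end Groth.Agent.AlgStB.QuotPoints
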