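import Groth.Prelude.Def_AlgSt5
import Groth.Prelude.Def_ChGrp

/-!
# Morphisms between trivial torsors in a quotient stack
-/

set_option autoImplicit false
set_option backward.isDefEq.respectTransparency false
set_option backward.isDefEq.respectTransparency.types false

universe u

open CategoryTheory CategoryTheory.Limits MonoidalCategory CartesianMonoidalCategory AlgebraicGeometry Opposite
open scoped MonObj

noncomputable section

namespace Groth.Agent.AlgStB.QuotHom

variable {S : Scheme.{u}} {K : Precoverage Scheme.{u}} {G : Over S} [GrpObj G] {X : Over S}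
  {aX : AlgGrp.Action G X}

/-- The object of a point. -/
abbrev trivObj (K : Precoverage Scheme.{u}) [K.HasIsos] (aX : AlgGrp.Action G X) {T : Over S}
    (x : T ⟶ X) : AlgSt.QuotObj K G aX :=
  (AlgSt.quotMap K G aX).obj ((AlgSt.ofOverCat X).obj (Over.mk x))

theorem lift_leftMul {T T' : Over S} (g b : T' ⟶ G) (t : T' ⟶ T) :
    lift g (lift b t) ≫ (AlgSt.leftMul G T).act = lift (g * b) t := by
  change lift g (lift b t) ≫ lift (fst G (G ⊗ T) * (snd G (G ⊗ T) ≫ fst G T)) (snd G (G ⊗ T) ≫ snd G T) = _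
  simp [comp_lift, MonObj.comp_mul]

theorem lift_φ [K.HasIsos] {T T' : Over S} (x : T ⟶ X) (b : T' ⟶ G) (t : T' ⟶ T) :
    lift b t ≫ (trivObj K aX x).φ = lift b (t ≫ x) ≫ aX.act :=
  lift_whiskerLeft_assoc b t x aX.act

/-- Right multiplication by `g`, over `f`. -/
def rTop {T T' : Over S} (f : T ⟶ T') (g : T ⟶ G) : G ⊗ T ⟶ G ⊗ T' :=
  lift (fst G T * (snd G T ≫ g)) (snd G T ≫ f)

theorem lift_rTop {T T' Z : Over S} (f : T ⟶ T') (g : T ⟶ G) (b : Z ⟶ G) (t : Z ⟶ T) :
    lift b t ≫ rTop f g = lift (b * (t ≫ g)) (t ≫ f) := by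
  simp [rTop, comp_lift, MonObj.comp_mul]

theorem rTop_comp {T T' T'' : Over S} (f : T ⟶ T') (g : T ⟶ G) (f' : T' ⟶ T'') (g' : T' ⟶ G) :
    rTop f g ≫ rTop f' g' = rTop (f ≫ f') (g * (f ≫ g')) := by
  refine AlgGrp.Action.hom_ext_lift₂ fun Z b t => ?_
  rw [← Category.assoc, lift_rTop, lift_rTop, lift_rTop, MonObj.comp_mul, Category.assoc, Category.assoc, mul_assoc]

theorem rTop_one {T T' : Over S} (f : T ⟶ T') : rTop f (1 : T ⟶ G) = G ◁ f := by
  refine AlgGrp.Action.hom_ext_lift₂ fun Z b t => ?_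
  rw [lift_rTop, lift_whiskerLeft, MonObj.comp_one, mul_one]

theorem isIso_rTop {T : Over S} (g : T ⟶ G) : IsIso (rTop (𝟙 T) g) := by
  refine ⟨⟨rTop (𝟙 T) g⁻¹, ?_, ?_⟩⟩ <;>
    simp [rTop_comp, rTop_one]

theorem rTop_isPullback {T T' : Over S} (f : T ⟶ T') (g : T ⟶ G) :
    IsPullback (rTop f g) (snd G T) (snd G T') f := by
  have := isIso_rTop g
  have e : rTop f g = rTop (𝟙 T) g ≫ (G ◁ f) := by simp [← rTop_one, rTop_comp, MonObj.comp_one]
  have h₁ : IsPullback (rTop (𝟙 T) g) (snd G T) (snd G T) (𝟙 T) :=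
    IsPullback.of_horiz_isIso ⟨by simp [rTop]⟩
  simpa [e] using h₁.paste_horiz (AlgSt.isPullback_whiskerLeft f)

/-- The morphism of trivial torsors given by `g` with `g • (x' ∘ f) = x`. -/
def homOf [K.HasIsos] {T T' : Over S} (f : T ⟶ T') {x : T ⟶ X} {x' : T' ⟶ X} (g : T ⟶ G)
    (hg : lift g (f ≫ x') ≫ aX.act = x) : trivObj K aX x ⟶ trivObj K aX x' where
  base := f
  top := rTop f g
  eqv := by
    change (AlgSt.leftMul G T).act ≫ rTop f g = (G ◁ rTop f g) ≫ (AlgSt.leftMul G T').act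
    refine AlgGrp.Action.hom_ext_lift₂ fun Z a p => ?_
    obtain ⟨b, t, rfl⟩ : ∃ b t, lift b t = p :=
      ⟨p ≫ fst G T, p ≫ snd G T, by rw [← comp_lift, lift_fst_snd, Category.comp_id]⟩
    rw [← Category.assoc, lift_leftMul, lift_rTop, lift_whiskerLeft_assoc, lift_rTop, lift_leftMul,
      mul_assoc]
  cart := rTop_isPullback f g
  wφ := by
    refine AlgGrp.Action.hom_ext_lift₂ fun Z b t => ?_
    change lift b t ≫ rTop f g ≫ (trivObj K aX x').φ = lift b t ≫ (trivObj K aX x).φ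
    rw [← Category.assoc, lift_rTop, lift_φ, lift_φ, AlgGrp.Action.lift_mul_act, ← hg, comp_lift_assoc]
    simp only [Category.assoc]

/-- Every morphism of trivial torsors is right multiplication. -/
theorem exists_homOf [K.HasIsos] {T T' : Over S} {x : T ⟶ X} {x' : T' ⟶ X}
    (h : trivObj K aX x ⟶ trivObj K aX x') :
    ∃ g : T ⟶ G, lift g (h.base ≫ x') ≫ aX.act = x ∧ h.top = rTop h.base g := by
  let f : T ⟶ T' := h.base
  let s : T ⟶ G ⊗ T := lift 1 (𝟙 T)
  let top : G ⊗ T ⟶ G ⊗ T' := h.top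
  let g : T ⟶ G := s ≫ top ≫ fst G T'
  have hsnd : top ≫ snd G T' = snd G T ≫ f := h.cart.w
  have hval : s ≫ top = lift g f := by
    apply CartesianMonoidalCategory.hom_ext
    · rw [lift_fst, Category.assoc]
    · rw [lift_snd, Category.assoc, hsnd, lift_snd_assoc, Category.id_comp]
  have htop : top = rTop f g := by
    refine AlgGrp.Action.hom_ext_lift₂ fun Z b t => ?_
    have heq : (AlgSt.leftMul G T).act ≫ top = (G ◁ top) ≫ (AlgSt.leftMul G T').act := h.eqv
    have h1 : lift b t = lift b (t ≫ s) ≫ (AlgSt.leftMul G T).act := by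
      rw [comp_lift, lift_leftMul, MonObj.comp_one, mul_one, Category.comp_id]
    have h2 : t ≫ lift g f = lift (t ≫ g) (t ≫ f) := comp_lift _ _ _
    rw [lift_rTop, h1, Category.assoc, heq, lift_whiskerLeft_assoc, Category.assoc, hval, h2,
      lift_leftMul]
  refine ⟨g, ?_, htop⟩
  have hφ : top ≫ (trivObj K aX x').φ = (trivObj K aX x).φ := h.wφ
  have := congrArg (s ≫ ·) hφ
  simp only [← Category.assoc, hval] at this
  rw [lift_φ, lift_φ, Category.id_comp, AlgGrp.Action.lift_one_act] at this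
  exact this

/-- A section of a torsor gives a morphism from a trivial one. -/
def homOfSection [K.HasIsos] (A : AlgSt.QuotObj K G aX) {T : Over S} (f : T ⟶ A.base) (s : T ⟶ A.P)
    (hs : s ≫ A.π = f) : trivObj K aX (s ≫ A.φ) ⟶ A where
  base := f
  top := (G ◁ s) ≫ A.act.act
  eqv := by
    change (AlgSt.leftMul G T).act ≫ (G ◁ s) ≫ A.act.act = (G ◁ ((G ◁ s) ≫ A.act.act)) ≫ A.act.act
    refine AlgGrp.Action.hom_ext_lift₂ fun Z a p => ?_
    obtain ⟨b, t, rfl⟩ : ∃ b t, lift b t = p :=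
      ⟨p ≫ fst G T, p ≫ snd G T, by rw [← comp_lift, lift_fst_snd, Category.comp_id]⟩
    rw [← Category.assoc, lift_leftMul, lift_whiskerLeft_assoc, lift_whiskerLeft_assoc,
      AlgGrp.Action.lift_mul_act, lift_whiskerLeft_assoc]
  cart := by
    have h : IsPullback ((G ◁ s) ≫ A.act.act) (snd G T) A.π (s ≫ A.π) :=
      (AlgSt.isPullback_whiskerLeft s).paste_horiz A.cart
    rw [hs] at h
    exact h
  wφ := by
    change ((G ◁ s) ≫ A.act.act) ≫ A.φ = (G ◁ (s ≫ A.φ)) ≫ aX.act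
    rw [Category.assoc, A.eqv, MonoidalCategory.whiskerLeft_comp_assoc]

end Groth.Agent.AlgStB.QuotHom
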