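import Groth.Agent.AlgStB.QuotToSheaf
import Groth.Agent.AlgStB.OfSp
import Groth.Prelude.Def_StCoarse
import Groth.Prelude.Def_W4bk4git07Quot

/-!
# Categorical moduli spaces of quotient stacks
-/

set_option autoImplicit false
set_option backward.isDefEq.respectTransparency false
set_option backward.isDefEq.respectTransparency.types false
set_option maxHeartbeats 1000000

universe u

open CategoryTheory CategoryTheory.Limits MonoidalCategory CartesianMonoidalCategory AlgebraicGeometry Opposite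
open scoped MonObj

noncomputable section

namespace Groth.Agent.AlgStB.QuotModuli

open QuotHom QuotToSheaf AlgSp

variable {S : Scheme.{u}} {G : Over S} [GrpObj G] {X Y : Over S} {aX : AlgGrp.Action G X}
  {N : Sp S}

theorem isSheaf (N : Sp S) : Presieve.IsSheaf (QuotSh.J Scheme.fppfPrecoverage S) N.obj :=
  (isSheaf_iff_isSheaf_of_type _ _).1 N.property

local notation "𝒬" => AlgSt.QuotSt Scheme.fppfPrecoverage G aX
local notation "qm" => AlgSt.quotMap Scheme.fppfPrecoverage G aX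

/-- The value at a point of a map of sheaves out of `h_X`. -/
def app (a : (yon S).obj X ⟶ N) {T : Over S} (x : T ⟶ X) : N.obj.obj (op T) := a.hom.app (op T) ⟨x⟩

theorem app_natural (a : (yon S).obj X ⟶ N) {T T' : Over S} (k : T ⟶ T') (x : T' ⟶ X) :
    app a (k ≫ x) = N.obj.map k.op (app a x) :=
  NatTrans.naturality_apply a.hom k.op ⟨x⟩

theorem hom_ext_app {a b : (yon S).obj X ⟶ N} (h : ∀ ⦃T : Over S⦄ (x : T ⟶ X), app a x = app b x) :
    a = b := by
  apply ObjectProperty.hom_ext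
  apply NatTrans.ext
  funext T
  ext x
  exact h x.down

theorem app_comp {N' : Sp S} (a : (yon S).obj X ⟶ N) (g : N ⟶ N') {T : Over S} (x : T ⟶ X) :
    app (a ≫ g) x = g.hom.app (op T) (app a x) := rfl

theorem app_yon_comp (f : X ⟶ Y) (a : (yon S).obj Y ⟶ N) {T : Over S} (x : T ⟶ X) :
    app ((yon S).map f ≫ a) x = app a (x ≫ f) := rfl

theorem app_invariant {a : (yon S).obj X ⟶ N}
    (h : (yon S).map aX.act ≫ a = (yon S).map (snd G X) ≫ a) {T : Over S} (g : T ⟶ G) (x : T ⟶ X) :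
    app a (lift g x ≫ aX.act) = app a x := by
  have := congrArg (fun b => app b (lift g x)) h
  simp only [app_yon_comp, lift_snd] at this
  exact this

theorem tsec_of_iso {Φ : 𝒬 ⥤ᵇ AlgSt.ofSp N} {a : (yon S).obj X ⟶ N}
    (e : BasedFunctor.comp qm Φ ≅ AlgSt.ofSpMap a) {T : Over S} (x : T ⟶ X) :
    tsec Φ x = app a x :=
  sec_eq_of_obj_eq Φ (trivObj Scheme.fppfPrecoverage aX x) (app a x)
    (ofPsh_eq_of_isHomLift (U := T) (Fib.appIso e (⟨T, ⟨x⟩⟩ : Stk.EltObj ((yon S).obj X).obj)).hom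
      (Fib.appIso_isHomLift e (⟨T, ⟨x⟩⟩ : Stk.EltObj ((yon S).obj X).obj)))

theorem invariant_of_iso {Φ : 𝒬 ⥤ᵇ AlgSt.ofSp N} {a : (yon S).obj X ⟶ N}
    (e : BasedFunctor.comp qm Φ ≅ AlgSt.ofSpMap a) :
    (yon S).map aX.act ≫ a = (yon S).map (snd G X) ≫ a :=
  hom_ext_app fun T p => by
    rw [app_yon_comp, app_yon_comp]
    have h := sec_triv_invariant Φ (p ≫ fst G X) (p ≫ snd G X) (p ≫ aX.act)
      (by rw [Category.id_comp, ← comp_lift, lift_fst_snd, Category.comp_id])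
    rw [tsec_of_iso e, tsec_of_iso e] at h
    exact h

theorem exists_functor_of_invariant (a : (yon S).obj X ⟶ N)
    (h : (yon S).map aX.act ≫ a = (yon S).map (snd G X) ≫ a) :
    ∃ Φ : 𝒬 ⥤ᵇ AlgSt.ofSp N, ∀ ⦃T : Over S⦄ (x : T ⟶ X), tsec Φ x = app a x :=
  exists_functor (isSheaf N) (fun T x => app a x) (fun T T' k x => app_natural a k x)
    (fun T g x => app_invariant h g x)

theorem tsec_comp {N' : Sp S} (Φ : 𝒬 ⥤ᵇ AlgSt.ofSp N) (g : N ⟶ N') {T : Over S} (x : T ⟶ X) :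
    tsec (BasedFunctor.comp Φ (AlgSt.ofSpMap g)) x = g.hom.app (op T) (tsec Φ x) :=
  (NatTrans.naturality_apply g.hom _ _).symm

theorem nonempty_iso {Φ Ψ : 𝒬 ⥤ᵇ AlgSt.ofSp N}
    (h : ∀ ⦃T : Over S⦄ (x : T ⟶ X), tsec Φ x = tsec Ψ x) : Nonempty (Φ ≅ Ψ) :=
  nonempty_iso_of_triv (isSheaf N) h

theorem comp_iso_iff (π : 𝒬 ⥤ᵇ AlgSt.ofSch Y) (f : X ⟶ Y)
    (e : BasedFunctor.comp qm π ≅ AlgSt.ofSpMap ((yon S).map f)) (φ : 𝒬 ⥤ᵇ AlgSt.ofSp N)
    (g : (yon S).obj Y ⟶ N) :
    Nonempty (BasedFunctor.comp π (AlgSt.ofSpMap g) ≅ φ) ↔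
      ∀ ⦃T : Over S⦄ (x : T ⟶ X), app ((yon S).map f ≫ g) x = tsec φ x := by
  constructor
  · rintro ⟨i⟩ T x
    have h : tsec (BasedFunctor.comp π (AlgSt.ofSpMap g)) x = tsec φ x :=
      sec_congr i (trivObj Scheme.fppfPrecoverage aX x)
    rw [tsec_comp, tsec_of_iso e] at h
    exact h
  · intro h
    refine nonempty_iso fun T x => ?_
    rw [tsec_comp, tsec_of_iso e, ← h x]
    rfl

/-- The functor induced by `f` is a categorical moduli space in `C` if `f` is a categorical quotient in `C`. -/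
theorem isCatModuliIn (C : ObjectProperty (Sp S)) (hY : C ((yon S).obj Y)) (f : X ⟶ Y)
    (π : 𝒬 ⥤ᵇ AlgSt.ofSch Y) (e : BasedFunctor.comp qm π ≅ AlgSt.ofSpMap ((yon S).map f))
    (univ : ∀ (N : Sp S), C N → ∀ ψ : (yon S).obj X ⟶ N,
      (yon S).map aX.act ≫ ψ = (yon S).map (snd G X) ≫ ψ →
        ∃! χ : (yon S).obj Y ⟶ N, (yon S).map f ≫ χ = ψ) :
    AlgSt.IsCatModuliIn C π := by
  refine ⟨hY, fun N hN φ => ?_⟩
  obtain ⟨ψ, ⟨i⟩⟩ := AlgStB.exists_ofSpMap (BasedFunctor.comp qm φ)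
  obtain ⟨χ, hχ, huniq⟩ := univ N hN ψ (invariant_of_iso i)
  refine ⟨χ, (comp_iso_iff π f e φ χ).2 fun T x => ?_, fun g hg => huniq g (hom_ext_app fun T x => ?_)⟩
  · rw [hχ, tsec_of_iso i]
  · rw [(comp_iso_iff π f e φ g).1 hg x, tsec_of_iso i]

/-- If the functor induced by `f` is a categorical moduli space in `C` then `f` is a categorical quotient in `C`. -/
theorem univ_of_isCatModuliIn (C : ObjectProperty (Sp S)) (f : X ⟶ Y)
    (π : 𝒬 ⥤ᵇ AlgSt.ofSch Y) (e : BasedFunctor.comp qm π ≅ AlgSt.ofSpMap ((yon S).map f))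
    (h : AlgSt.IsCatModuliIn C π) (N : Sp S) (hN : C N) (ψ : (yon S).obj X ⟶ N)
    (hψ : (yon S).map aX.act ≫ ψ = (yon S).map (snd G X) ≫ ψ) :
    ∃! χ : (yon S).obj Y ⟶ N, (yon S).map f ≫ χ = ψ := by
  obtain ⟨φ, hφ⟩ := exists_functor_of_invariant ψ hψ
  obtain ⟨χ, hχ, huniq⟩ := h.2 N hN φ
  refine ⟨χ, hom_ext_app fun T x => ?_, fun g hg => huniq g ((comp_iso_iff π f e φ g).2 fun T x => ?_)⟩
  · rw [(comp_iso_iff π f e φ χ).1 hχ x, hφ x]
  · rw [hφ x, hg]

theorem isRepresentable_yon (Z : Over S) : ((yon S).obj Z).obj.IsRepresentable :=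
  Functor.RepresentableBy.isRepresentable (Y := Z)
    { homEquiv := Equiv.ulift.symm
      homEquiv_comp := fun _ _ => rfl }

theorem exists_iso_yon {N : Sp S} (h : N.obj.IsRepresentable) :
    ∃ Z : Over S, Nonempty (N ≅ (yon S).obj Z) := by
  refine ⟨N.obj.reprX, ⟨(sheafToPresheaf _ _).preimageIso
    (NatIso.ofComponents (fun T => Equiv.toIso (N.obj.representableBy.homEquiv.symm.trans Equiv.ulift.symm))
      fun {T T'} k => ?_)⟩⟩
  ext x
  refine congrArg ULift.up ?_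
  apply N.obj.representableBy.homEquiv.injective
  obtain ⟨y, rfl⟩ := N.obj.representableBy.homEquiv.surjective x
  have := N.obj.representableBy.homEquiv_comp k.unop y
  refine (Equiv.apply_symm_apply _ _).trans ?_
  exact this.symm.trans (congrArg (fun z => N.obj.representableBy.homEquiv (k.unop ≫ z))
    (Equiv.symm_apply_apply _ y).symm)

theorem isCatModuliSch_iff (f : X ⟶ Y) (π : 𝒬 ⥤ᵇ AlgSt.ofSch Y)
    (e : BasedFunctor.comp qm π ≅ AlgSt.ofSpMap ((yon S).map f)) :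
    AlgSt.IsCatModuliSch π ↔ GIT.IsCatQuot aX f := by
  have hinv : GIT.IsInvariant aX f := (yon S).map_injective (by
    rw [Functor.map_comp, Functor.map_comp]
    exact invariant_of_iso e)
  constructor
  · intro h
    refine ⟨hinv, fun Z ψ hψ => ?_⟩
    obtain ⟨χ, hχ, huniq⟩ := univ_of_isCatModuliIn _ f π e h ((yon S).obj Z) (isRepresentable_yon Z)
      ((yon S).map ψ) (by rw [← Functor.map_comp, ← Functor.map_comp, hψ])
    obtain ⟨c, rfl⟩ := (yon S).map_surjective χ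
    refine ⟨c, (yon S).map_injective (by rw [Functor.map_comp]; exact hχ), fun c' hc' => ?_⟩
    exact (yon S).map_injective (huniq _ ((Functor.map_comp _ _ _).symm.trans (congrArg (yon S).map hc')))
  · rintro ⟨-, huniv⟩
    refine isCatModuliIn _ (isRepresentable_yon Y) f π e fun N hN ψ hψ => ?_
    obtain ⟨Z, ⟨i⟩⟩ := exists_iso_yon hN
    obtain ⟨c, hc⟩ := (yon S).map_surjective (ψ ≫ i.hom)
    obtain ⟨χ, hχ, huniq⟩ := huniv Z c ((yon S).map_injective (by
      rw [Functor.map_comp, Functor.map_comp, hc, ← Category.assoc, hψ, Category.assoc]))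
    refine ⟨(yon S).map χ ≫ i.inv, ?_, fun g hg => ?_⟩
    · dsimp only
      rw [← Category.assoc, ← Functor.map_comp, hχ, hc, Category.assoc, i.hom_inv_id, Category.comp_id]
    · obtain ⟨d, hd⟩ := (yon S).map_surjective (g ≫ i.hom)
      have : d = χ := huniq d ((yon S).map_injective (by
        rw [Functor.map_comp, hd, hc, ← Category.assoc, hg]))
      subst this
      rw [hd, Category.assoc, i.hom_inv_id, Category.comp_id]

end Groth.Agent.AlgStB.QuotModuli
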