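import Groth.Agent.AlgStB.QuotModuli
import Groth.Agent.AlgStB.QuotChart
import Mathlib.AlgebraicGeometry.AlgClosed.Basic
import Mathlib.AlgebraicGeometry.Morphisms.LocalFlatDescent

/-!
# Points of quotient stacks over algebraically closed fields
-/

set_option autoImplicit false
set_option backward.isDefEq.respectTransparency false
set_option backward.isDefEq.respectTransparency.types false
set_option maxHeartbeats 1000000

universe u

open CategoryTheory CategoryTheory.Limits MonoidalCategory CartesianMonoidalCategory AlgebraicGeometry Opposite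
open scoped MonObj

noncomputable section

namespace Groth.Agent.AlgStB.QuotPoints

open QuotHom QuotToSheaf

variable {S : Scheme.{u}} {K : Precoverage Scheme.{u}} {G : Over S} [GrpObj G] {X : Over S}
  {aX : AlgGrp.Action G X} {Ω : Type u} [Field Ω] [IsAlgClosed Ω]

/-- A torsor over the spectrum of an algebraically closed field, trivialised by a locally finite type cover,
has a section. -/
theorem exists_section_of_loc (hK : ∀ (T : Scheme.{u}) (R : Presieve T), R ∈ K T → ∀ y : T,
      ∃ (W : Scheme.{u}) (f : W ⟶ T) (_ : R f) (_ : LocallyOfFiniteType f), y ∈ Set.range f)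
    {t : Spec (CommRingCat.of Ω) ⟶ S} (A : AlgSt.QuotObj K G aX) (hA : A.base = Over.mk t) :
    ∃ s : Over.mk t ⟶ A.P, s ≫ A.π = eqToHom hA.symm := by
  obtain ⟨R, hR, hs⟩ := A.loc
  let e : A.base.left ⟶ Spec (CommRingCat.of Ω) := (eqToHom hA).left
  let e' : Spec (CommRingCat.of Ω) ⟶ A.base.left := (eqToHom hA.symm).left
  have hee' : e ≫ e' = 𝟙 _ := by
    have := congrArg CommaMorphism.left (eqToHom_trans hA hA.symm)
    simpa [e, e'] using this
  have : IsIso e := ⟨e', hee', by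
    have := congrArg CommaMorphism.left (eqToHom_trans hA.symm hA)
    simpa [e, e'] using this⟩
  obtain ⟨W, f, hf, _, w, -⟩ := hK _ R hR (e' (IsLocalRing.closedPoint Ω))
  obtain ⟨s₀, hs₀⟩ := hs f hf
  change s₀ ≫ A.π.left = f at hs₀
  have : JacobsonSpace W := LocallyOfFiniteType.jacobsonSpace (f ≫ e)
  obtain ⟨x, -, hx⟩ := nonempty_inter_closedPoints (X := W) (Z := Set.univ) ⟨w, trivial⟩
    isClosed_univ.isLocallyClosed
  let p : Spec (CommRingCat.of Ω) ⟶ W := pointOfClosedPoint (f ≫ e) x hx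
  have hp : p ≫ f = e' := by
    rw [← cancel_mono e, Category.assoc, pointOfClosedPoint_comp]
    have := congrArg CommaMorphism.left (eqToHom_trans hA.symm hA)
    simpa [e, e'] using this.symm
  refine ⟨Over.homMk (p ≫ s₀) ?_, Over.OverMorphism.ext ?_⟩
  · change (p ≫ s₀) ≫ A.P.hom = t
    rw [← Over.w A.π, Category.assoc, reassoc_of% hs₀, reassoc_of% hp]
    exact Over.w (eqToHom hA.symm)
  · change (p ≫ s₀) ≫ A.π.left = e'
    rw [Category.assoc, hs₀, hp]

theorem cover_fppf (T : Scheme.{u}) (R : Presieve T) (hR : R ∈ Scheme.fppfPrecoverage T) (y : T) :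
    ∃ (W : Scheme.{u}) (f : W ⟶ T) (_ : R f) (_ : LocallyOfFiniteType f), y ∈ Set.range f := by
  obtain ⟨𝒰₀, rfl⟩ := Precoverage.mem_iff_exists_zeroHypercover.1 hR
  have hmem := (Scheme.ofArrows_mem_precoverage_iff (P := @Flat ⊓ @LocallyOfFinitePresentation)).1 hR
  obtain ⟨i, w, hw⟩ := hmem.1 y
  have : LocallyOfFinitePresentation (𝒰₀.f i) := (hmem.2 i).2
  exact ⟨_, 𝒰₀.f i, ⟨i⟩, inferInstance, w, hw⟩

theorem cover_etale (T : Scheme.{u}) (R : Presieve T) (hR : R ∈ Scheme.etalePrecoverage T) (y : T) :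
    ∃ (W : Scheme.{u}) (f : W ⟶ T) (_ : R f) (_ : LocallyOfFiniteType f), y ∈ Set.range f := by
  obtain ⟨𝒰₀, rfl⟩ := Precoverage.mem_iff_exists_zeroHypercover.1 hR
  have hmem := (Scheme.ofArrows_mem_precoverage_iff (P := @Etale)).1 hR
  obtain ⟨i, w, hw⟩ := hmem.1 y
  have : Etale (𝒰₀.f i) := hmem.2 i
  exact ⟨_, 𝒰₀.f i, ⟨i⟩, inferInstance, w, hw⟩

theorem isIso_of_isIso_base {A B : AlgSt.QuotObj K G aX} (h : A ⟶ B) (hb : IsIso h.base) : IsIso h := by
  obtain ⟨e, -, he⟩ := exists_iso_of_base h (𝟙 B) (asIso h.base) (Category.comp_id _)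
  rw [Category.comp_id] at he
  rw [← he]
  infer_instance

/-- An isomorphism of objects from a section. -/
theorem exists_iso_triv [K.HasIsos] {T : Over S} (A : AlgSt.QuotObj K G aX) (hA : A.base = T)
    (s : T ⟶ A.P) (hs : s ≫ A.π = eqToHom hA.symm) (x : T ⟶ X) (hx : s ≫ A.φ = x) :
    ∃ e : trivObj K aX x ≅ A, e.hom.base = eqToHom hA.symm := by
  subst hx
  exact ⟨@asIso _ _ _ _ (homOfSection A (eqToHom hA.symm) s hs)
    (isIso_of_isIso_base _ (inferInstanceAs (IsIso (eqToHom hA.symm)))), rfl⟩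

/-- An isomorphism of objects from a translation. -/
theorem exists_iso_translate [K.HasIsos] {T : Over S} (g : T ⟶ G) {x y : T ⟶ X}
    (hy : lift g x ≫ aX.act = y) :
    ∃ e : trivObj K aX y ≅ trivObj K aX x, e.hom.base = 𝟙 T :=
  ⟨@asIso _ _ _ _ (homOf (𝟙 T) g (by rw [Category.id_comp]; exact hy))
    (isIso_of_isIso_base _ (show IsIso (𝟙 T) from inferInstance)), rfl⟩

/-- The points of translated sections of isomorphic objects. -/
theorem exists_translate_of_iso {T : Over S} {A B : AlgSt.QuotObj K G aX} (e : A ⟶ B)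
    (hA : A.base = T) (hB : B.base = T) (he : e.base = eqToHom (hA.trans hB.symm))
    (s : T ⟶ A.P) (hs : s ≫ A.π = eqToHom hA.symm) (s' : T ⟶ B.P) (hs' : s' ≫ B.π = eqToHom hB.symm) :
    ∃ g : T ⟶ G, lift g (s ≫ A.φ) ≫ aX.act = s' ≫ B.φ := by
  obtain ⟨g, hg⟩ := exists_translate B (s ≫ e.top) s' (by
    rw [Category.assoc, e.cart.w, ← Category.assoc, hs, he, eqToHom_trans, hs'])
  exact ⟨g, by rw [← hg, φ_translate, Category.assoc, e.wφ]⟩

end Groth.Agent.AlgStB.QuotPoints
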