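import Groth.Agent.AlgStB.QuotHom
import Groth.Agent.AlgStB.OfPsh
import Groth.Prelude.Def_AlgSt2

/-!
# Functors from a quotient stack to a sheaf
-/

set_option autoImplicit false
set_option backward.isDefEq.respectTransparency false
set_option backward.isDefEq.respectTransparency.types false
set_option maxHeartbeats 1000000

universe u

open CategoryTheory CategoryTheory.Limits MonoidalCategory CartesianMonoidalCategory AlgebraicGeometry Opposite
open scoped MonObj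

noncomputable section

namespace Groth.Agent.AlgStB.QuotToSheaf

open QuotHom

variable {S : Scheme.{u}} {K : Precoverage Scheme.{u}} {G : Over S} [GrpObj G] {X : Over S}
  {aX : AlgGrp.Action G X} {N : (Over S)ᵒᵖ ⥤ Type (u + 1)}

/-- The section attached to an object by a functor into a category fibred in sets. -/
def sec (Φ : AlgSt.QuotSt K G aX ⥤ᵇ Stk.ofPsh N) (A : AlgSt.QuotObj K G aX) : N.obj (op A.base) :=
  N.map (eqToHom (Φ.w_obj A).symm).op (Φ.obj A).sec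

theorem map_id_op {T : Over S} (f : T ⟶ T) (hf : f = 𝟙 T) (n : N.obj (op T)) : N.map f.op n = n := by
  subst hf
  simp

theorem sec_eq_of_obj_eq (Φ : AlgSt.QuotSt K G aX ⥤ᵇ Stk.ofPsh N) (A : AlgSt.QuotObj K G aX)
    (n : N.obj (op A.base)) (h : Φ.obj A = ⟨A.base, n⟩) : sec Φ A = n := by
  have : ∀ (e : Stk.EltObj N) (_ : e = ⟨A.base, n⟩) (p : A.base = e.base),
      N.map (eqToHom p).op e.sec = n := by
    rintro _ rfl p
    simp
  exact this _ h _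

theorem obj_eq (Φ : AlgSt.QuotSt K G aX ⥤ᵇ Stk.ofPsh N) (A : AlgSt.QuotObj K G aX) :
    Φ.obj A = ⟨A.base, sec Φ A⟩ :=
  (elt_eq (a := ⟨A.base, sec Φ A⟩) (Φ.w_obj A).symm rfl).symm

theorem sec_natural (Φ : AlgSt.QuotSt K G aX ⥤ᵇ Stk.ofPsh N) {A B : AlgSt.QuotObj K G aX}
    (h : A ⟶ B) : N.map h.base.op (sec Φ B) = sec Φ A := by
  have h₁ : (Φ.map h).hom = eqToHom (Φ.w_obj A) ≫ h.base ≫ eqToHom (Φ.w_obj B).symm :=
    Fib.w_map Φ h
  have h' : h.base ≫ eqToHom (Φ.w_obj B).symm = eqToHom (Φ.w_obj A).symm ≫ (Φ.map h).hom := by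
    rw [h₁]; simp
  calc N.map h.base.op (sec Φ B)
      = N.map (h.base ≫ eqToHom (Φ.w_obj B).symm).op (Φ.obj B).sec := map_map_op _ _ _
    _ = N.map (eqToHom (Φ.w_obj A).symm ≫ (Φ.map h).hom).op (Φ.obj B).sec :=
        congrArg (fun m => N.map (Quiver.Hom.op m) (Φ.obj B).sec) h'
    _ = sec Φ A := (map_map_op _ _ _).symm.trans
        (congrArg (N.map (eqToHom (Φ.w_obj A).symm).op) (Φ.map h).map_sec)

/-- Functors with the same sections are isomorphic. -/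
theorem nonempty_iso_of_sec {Φ Ψ : AlgSt.QuotSt K G aX ⥤ᵇ Stk.ofPsh N}
    (h : ∀ A, sec Φ A = sec Ψ A) : Nonempty (Φ ≅ Ψ) := by
  have e : ∀ A, Φ.obj A = Ψ.obj A := fun A => by rw [obj_eq, obj_eq Ψ A, h]
  refine ⟨Fib.isoMk (fun A => eqToIso (e A)) (fun {A B} f => Stk.EltObj.hom_ext ?_)
    (fun A => IsHomLift.of_fac' (Stk.ofPsh N).p (𝟙 _) _ (Φ.w_obj A) (Ψ.w_obj A) ?_)⟩
  · have h₁ : (Φ.map f).hom = eqToHom (Φ.w_obj A) ≫ f.base ≫ eqToHom (Φ.w_obj B).symm :=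
      Fib.w_map Φ f
    have h₂ : (Ψ.map f).hom = eqToHom (Ψ.w_obj A) ≫ f.base ≫ eqToHom (Ψ.w_obj B).symm :=
      Fib.w_map Ψ f
    rw [Stk.EltObj.comp_hom, Stk.EltObj.comp_hom, eqToIso.hom, eqToIso.hom, eqToHom_hom, eqToHom_hom,
      h₁, h₂]
    simp
  · rw [eqToIso.hom]
    change (eqToHom (e A) : Φ.obj A ⟶ Ψ.obj A).hom = _
    rw [eqToHom_hom]
    simp

theorem sec_congr {Φ Ψ : AlgSt.QuotSt K G aX ⥤ᵇ Stk.ofPsh N} (e : Φ ≅ Ψ)
    (A : AlgSt.QuotObj K G aX) : sec Φ A = sec Ψ A := by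
  refine sec_eq_of_obj_eq Φ A _ ?_
  rw [ofPsh_eq_of_isHomLift (Fib.appIso e A).hom (U := A.base) (Fib.appIso_isHomLift e A),
    obj_eq]

/-- The base morphisms over which a torsor has a section. -/
def secSieve (A : AlgSt.QuotObj K G aX) : Sieve A.base where
  arrows T g := ∃ s : T ⟶ A.P, s ≫ A.π = g
  downward_closed := fun ⟨s, hs⟩ k => ⟨k ≫ s, by rw [Category.assoc, hs]⟩

theorem secSieve_mem (A : AlgSt.QuotObj K G aX) : secSieve A ∈ QuotSh.J K S A.base := by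
  obtain ⟨R, hR, hs⟩ := A.loc
  refine (GrothendieckTopology.mem_over_iff _ _).2 ?_
  refine GrothendieckTopology.superset_covering _ ?_ (Precoverage.generate_mem_toGrothendieck hR)
  rw [Sieve.generate_le_iff]
  intro W f hf
  obtain ⟨s, hs'⟩ := hs f hf
  change s ≫ A.π.left = f at hs'
  refine (Sieve.overEquiv_iff _ _).2 ⟨Over.homMk s ?_, Over.OverMorphism.ext hs'⟩
  change s ≫ A.P.hom = f ≫ A.base.hom
  rw [← hs', Category.assoc, Over.w A.π]

/-- Two sections over the same map are translates. -/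
theorem exists_translate (A : AlgSt.QuotObj K G aX) {T : Over S} (s s' : T ⟶ A.P)
    (h : s ≫ A.π = s' ≫ A.π) : ∃ g : T ⟶ G, lift g s ≫ A.act.act = s' := by
  let l : T ⟶ G ⊗ A.P := A.cart.lift s' s h.symm
  have h₁ : l ≫ A.act.act = s' := A.cart.lift_fst _ _ _
  have h₂ : l ≫ snd G A.P = s := A.cart.lift_snd _ _ _
  refine ⟨l ≫ fst G A.P, ?_⟩
  calc lift (l ≫ fst G A.P) s ≫ A.act.act = lift (l ≫ fst G A.P) (l ≫ snd G A.P) ≫ A.act.act := by
        rw [h₂]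
    _ = s' := by rw [← comp_lift, lift_fst_snd, Category.comp_id, h₁]

theorem φ_translate (A : AlgSt.QuotObj K G aX) {T : Over S} (g : T ⟶ G) (s : T ⟶ A.P) :
    (lift g s ≫ A.act.act) ≫ A.φ = lift g (s ≫ A.φ) ≫ aX.act := by
  rw [Category.assoc, A.eqv, lift_whiskerLeft_assoc]

/-- The section attached to a point of `X`. -/
def tsec [K.HasIsos] (Φ : AlgSt.QuotSt K G aX ⥤ᵇ Stk.ofPsh N) {T : Over S} (x : T ⟶ X) : N.obj (op T) :=
  sec Φ (trivObj K aX x)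

/-- A functor is determined by its values at trivial torsors. -/
theorem sec_ext [K.HasIsos] (hN : Presieve.IsSheaf (QuotSh.J K S) N)
    {Φ Ψ : AlgSt.QuotSt K G aX ⥤ᵇ Stk.ofPsh N}
    (h : ∀ ⦃T : Over S⦄ (x : T ⟶ X), tsec Φ x = tsec Ψ x)
    (A : AlgSt.QuotObj K G aX) : sec Φ A = sec Ψ A := by
  refine (hN _ (secSieve_mem A)).isSeparatedFor.ext fun T g hg => ?_
  obtain ⟨s, hs⟩ := hg
  have h₁ := sec_natural Φ (homOfSection A g s hs)
  have h₂ := sec_natural Ψ (homOfSection A g s hs)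
  exact h₁.trans ((h _).trans h₂.symm)

theorem nonempty_iso_of_triv [K.HasIsos] (hN : Presieve.IsSheaf (QuotSh.J K S) N)
    {Φ Ψ : AlgSt.QuotSt K G aX ⥤ᵇ Stk.ofPsh N}
    (h : ∀ ⦃T : Over S⦄ (x : T ⟶ X), tsec Φ x = tsec Ψ x) :
    Nonempty (Φ ≅ Ψ) :=
  nonempty_iso_of_sec (sec_ext hN h)

theorem sec_triv_congr [K.HasIsos] (Φ : AlgSt.QuotSt K G aX ⥤ᵇ Stk.ofPsh N) {T : Over S}
    {y x : T ⟶ X} (h : trivObj K aX y ⟶ trivObj K aX x) (hb : h.base = 𝟙 T) :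
    tsec Φ y = tsec Φ x :=
  (sec_natural Φ h).symm.trans (map_id_op (T := T) _ hb _)

theorem homOf_base [K.HasIsos] {T T' : Over S} (f : T ⟶ T') {x : T ⟶ X} {x' : T' ⟶ X} (g : T ⟶ G)
    (hg : lift g (f ≫ x') ≫ aX.act = x) : (homOf (K := K) (aX := aX) f g hg).base = f := rfl

/-- Sections at trivial torsors are invariant. -/
theorem sec_triv_invariant [K.HasIsos] (Φ : AlgSt.QuotSt K G aX ⥤ᵇ Stk.ofPsh N) {T : Over S}
    (g : T ⟶ G) (x y : T ⟶ X) (hy : lift g (𝟙 T ≫ x) ≫ aX.act = y) :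
    tsec Φ y = tsec Φ x :=
  sec_triv_congr Φ (homOf (𝟙 T) g hy) (homOf_base _ g hy)

/-- An invariant natural family of sections extends to the quotient stack. -/
theorem exists_functor [K.HasIsos] (hN : Presieve.IsSheaf (QuotSh.J K S) N)
    (ψ : ∀ ⦃T : Over S⦄, (T ⟶ X) → N.obj (op T))
    (nat : ∀ ⦃T T' : Over S⦄ (k : T ⟶ T') (x : T' ⟶ X), ψ (k ≫ x) = N.map k.op (ψ x))
    (inv : ∀ ⦃T : Over S⦄ (g : T ⟶ G) (x : T ⟶ X), ψ (lift g x ≫ aX.act) = ψ x) :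
    ∃ Φ : AlgSt.QuotSt K G aX ⥤ᵇ Stk.ofPsh N,
      ∀ ⦃T : Over S⦄ (x : T ⟶ X), tsec Φ x = ψ x := by
  have indep : ∀ (A : AlgSt.QuotObj K G aX) {T : Over S} (s s' : T ⟶ A.P),
      s ≫ A.π = s' ≫ A.π → ψ (s ≫ A.φ) = ψ (s' ≫ A.φ) := fun A T s s' h => by
    obtain ⟨g, rfl⟩ := exists_translate A s s' h
    rw [φ_translate, inv]
  let fam : ∀ A : AlgSt.QuotObj K G aX, Presieve.FamilyOfElements N (secSieve A).arrows :=
    fun A T g hg => ψ (hg.choose ≫ A.φ)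
  have fam_eq : ∀ (A : AlgSt.QuotObj K G aX) {T : Over S} (g : T ⟶ A.base) (hg : secSieve A g)
      (s : T ⟶ A.P), s ≫ A.π = g → fam A g hg = ψ (s ≫ A.φ) := fun A T g hg s hs =>
    indep A _ _ (hg.choose_spec.trans hs.symm)
  have hfam : ∀ A, (fam A).Compatible := fun A => by
    rw [Presieve.compatible_iff_sieveCompatible]
    intro T T' g k hg
    obtain ⟨s, hs⟩ := hg
    rw [fam_eq A _ _ (k ≫ s) (by rw [Category.assoc, hs]), fam_eq A g _ s hs, Category.assoc]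
    exact nat k _
  let a : ∀ A : AlgSt.QuotObj K G aX, N.obj (op A.base) := fun A =>
    (hN _ (secSieve_mem A)).amalgamate (fam A) (hfam A)
  have ha : ∀ (A : AlgSt.QuotObj K G aX) {T : Over S} (g : T ⟶ A.base) (s : T ⟶ A.P),
      s ≫ A.π = g → N.map g.op (a A) = ψ (s ≫ A.φ) := fun A T g s hs =>
    ((hN _ (secSieve_mem A)).valid_glue (hfam A) g ⟨s, hs⟩).trans (fam_eq A g _ s hs)
  have hnat : ∀ {A B : AlgSt.QuotObj K G aX} (h : A ⟶ B), N.map h.base.op (a B) = a A := by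
    intro A B h
    refine (hN _ (secSieve_mem A)).isSeparatedFor.ext fun T g hg => ?_
    obtain ⟨s, hs⟩ := hg
    rw [map_map_op, ha B (g ≫ h.base) (s ≫ h.top)
      (by rw [Category.assoc, h.cart.w, ← Category.assoc, hs]), ha A g s hs, Category.assoc, h.wφ]
  let Φ : AlgSt.QuotSt K G aX ⥤ᵇ Stk.ofPsh N :=
    { toFunctor :=
        { obj := fun A => ⟨A.base, a A⟩
          map := fun {A B} h => ⟨h.base, hnat h⟩ }
      w := rfl }
  refine ⟨Φ, fun T x => ?_⟩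
  refine (sec_eq_of_obj_eq Φ (trivObj K aX x) (a (trivObj K aX x)) rfl).trans ?_
  have h := ha (trivObj K aX x) (𝟙 T) (lift (1 : T ⟶ G) (𝟙 T)) (lift_snd _ _)
  refine ((map_id_op (N := N) (T := T) (𝟙 T) rfl _).symm.trans h).trans (congrArg (fun y => ψ y) ?_)
  rw [lift_φ, Category.id_comp, AlgGrp.Action.lift_one_act]

end Groth.Agent.AlgStB.QuotToSheaf
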