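import Groth.Agent.AlgStB.SubstackPoints
import Groth.Agent.AlgStB.LiftSet
import Groth.Agent.AlgStB.CoverDescent
import Groth.Agent.AlgStB.DiagComp
import Groth.Agent.AlgSpLoc.OpenImm

/-!
# Reduced stacks inside closed substacks
-/

set_option autoImplicit false
set_option backward.isDefEq.respectTransparency false
set_option backward.isDefEq.respectTransparency.types false

universe u

open CategoryTheory CategoryTheory.Limits AlgebraicGeometry Opposite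

namespace Groth.Agent.AlgStB

open _root_.AlgSt (Points FPt)
open _root_.AlgSp (Sp Space LocP IsSurjectiveMor IsAlgSpace yon RepWith)

variable {S : Scheme.{u}} {𝒜 𝒳 𝒴 : AlgSt.Cat S}

/-- A lift along an isomorphism of bases gives a lift. -/
theorem exists_lift_of_isIso {j : 𝒜 ⥤ᵇ 𝒳} {T U : Over S} {w : FibCat.overCat U ⥤ᵇ 𝒳} {g : T ⟶ U}
    [IsIso g] {τ : FibCat.overCat T ⥤ᵇ 𝒜}
    (h : Nonempty (BasedFunctor.comp τ j ≅ BasedFunctor.comp (AlgSt.overMap g) w)) :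
    ∃ τ' : FibCat.overCat U ⥤ᵇ 𝒜, Nonempty (BasedFunctor.comp τ' j ≅ w) := by
  obtain ⟨i⟩ := h
  exact ⟨BasedFunctor.comp (AlgSt.overMap (inv g)) τ,
    ⟨Fib.isoWhiskerLeft (AlgSt.overMap (inv g)) i ≪≫
      Fib.isoWhiskerRight (overMapComp (inv g) g ≪≫
        eqToIso (congrArg AlgSt.overMap (IsIso.inv_hom_id g)) ≪≫ overMapOne U) w⟩⟩

theorem isIso_over_of_left {T U : Over S} (g : T ⟶ U) (h : IsIso g.left) : IsIso g :=
  haveI : IsIso ((Over.forget S).map g) := h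
  isIso_of_reflects_iso g (Over.forget S)

/-- A morphism from a reduced stack landing pointwise in a closed substack factors through it. -/
theorem mem_closedSubstack_of_points (h𝒳 : AlgSt.IsAlgStack Scheme.fppfPrecoverage 𝒳)
    (h𝒴 : AlgSt.IsAlgStack Scheme.fppfPrecoverage 𝒴)
    (hred : AlgSt.SmoothLocally (fun X => IsReduced X) 𝒴) {Q : 𝒳.obj → Prop}
    (hQ : AlgSt.IsClosedSubstack 𝒳 Q Scheme.fppfPrecoverage) (f : 𝒴 ⥤ᵇ 𝒳)
    (hpts : ∀ z, Points.map f z ∈ Set.range (Points.map (AlgSt.subIncl 𝒳 Q))) (y : 𝒴.obj) :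
    Q (f.obj y) := by
  have hX := h𝒳.isStack.1
  have hY := h𝒴.isStack.1
  have hA := hQ.2.1.isStack.1
  let j := AlgSt.subIncl 𝒳 Q
  obtain ⟨U, x, hx, hxs⟩ := h𝒴.atlas
  -- the atlas factors
  have : IsReduced U.left := hred U x hx
  obtain ⟨F, e, he, hφ⟩ := hQ.2.2 U (BasedFunctor.comp x f)
  let φ := AlgSt.spMapOfOver (BasedFunctor.comp e (FibCat.fpFst (BasedFunctor.comp x f) j))
  have hφ' : RepWith @IsClosedImmersion φ := hφ
  have sq := hφ'.rep.isPullback (𝟙 ((yon S).obj U))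
  have : IsIso (hφ'.rep.fst (𝟙 ((yon S).obj U))) := sq.isIso_fst_of_isIso
  let c := hφ'.rep.fst (𝟙 ((yon S).obj U))
  obtain ⟨τ, hi, hp⟩ := exists_cover_point_of_atlas hA hX j (BasedFunctor.comp x f) e he c
    (AlgSpc.surjective_ofPt (p := c) (AlgSpc.repWith_iso c))
  have hg : AlgSpc.pre (c ≫ φ) = hφ'.rep.snd (𝟙 ((yon S).obj U)) :=
    (yon S).map_injective (by rw [AlgSpc.map_pre, sq.w, Category.comp_id])
  let g := AlgSpc.pre (c ≫ φ)
  have : IsClosedImmersion g.left := by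
    change IsClosedImmersion (AlgSpc.pre (c ≫ φ)).left
    rw [hg]
    exact hφ'.property_snd (𝟙 _)
  have : Surjective g.left := ⟨fun v => by
    obtain ⟨z, hz⟩ := hpts (Points.ofChart x v)
    obtain ⟨t, ht, -⟩ := hp v z (hz.trans (by
      rw [ofChart_eq_map, ofChart_eq_map, map_comp_apply]))
    exact ⟨t, ht⟩⟩
  have : IsIso g := isIso_over_of_left g (isIso_of_isClosedImmersion_of_surjective g.left)
  obtain ⟨τ₀, ⟨i₀⟩⟩ := exists_lift_of_isIso hi
  -- a general object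
  obtain ⟨yT, ey, -⟩ := exists_chart hY y
  obtain ⟨hx₁, hx₂⟩ := flat_lfp_of_smooth hx
  obtain ⟨V, k, z, hcov, ⟨iz⟩⟩ := exists_cover_lift x hx₁ hx₂ hxs (𝒴.p.obj y) yT
  let w := BasedFunctor.comp yT f
  obtain ⟨G, ε, hε, hψ⟩ := hQ.2.2 (𝒴.p.obj y) w
  let ψ := AlgSt.spMapOfOver (BasedFunctor.comp ε (FibCat.fpFst w j))
  have hψ' : RepWith @IsClosedImmersion ψ := hψ
  have : Mono ψ := AlgSpc.mono_of_repWith (fun _ _ m (hm : IsClosedImmersion m) =>
    (haveI := hm; inferInstance : Mono m)) hψ'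
  let L : FibCat.overCat V ⥤ᵇ FibCat.fp w j := FibCat.fpLift (AlgSt.overMap k)
    (BasedFunctor.comp z τ₀) (Fib.isoWhiskerRight iz.symm f ≪≫ Fib.isoWhiskerLeft z i₀.symm)
  obtain ⟨E, hE, -, ⟨iE⟩⟩ := Fib.exists_quasiInverse hε
  obtain ⟨l, ⟨il⟩⟩ := exists_ofSpMap (BasedFunctor.comp (AlgSt.toOverCat V) (BasedFunctor.comp L E))
  have hl : l ≫ ψ = (yon S).map k := by
    refine (spMapOfOver_comp l (BasedFunctor.comp ε (FibCat.fpFst w j))).symm.trans ?_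
    refine Eq.trans (spMapOfOver_congr (Fib.isoWhiskerRight il.symm _ ≪≫
      Fib.isoWhiskerLeft (BasedFunctor.comp (AlgSt.toOverCat V) L)
        (Fib.isoWhiskerRight iE (FibCat.fpFst w j)) ≪≫ (overMapSquare k).symm)) ?_
    exact spMapOfOver_toOverCat _
  have : IsIso ψ := by
    have hA' : IsAlgSpace (pullback ψ ((yon S).map k)) := AlgSpc.isAlgSpace_of_isPullback G.property
      (IsAlgSpace.yon_obj _) (IsAlgSpace.yon_obj V) (IsPullback.of_hasPullback _ _)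
    refine (isLocalOnBase_fppf_of_fpqc AlgSpLoc.isLocalOnBase_iso (fun _ : PUnit.{u + 1} =>
      (yon S).obj V) (fun _ => (yon S).map k) (IsAlgSpace.yon_obj _)
      (fun _ => IsAlgSpace.yon_obj _) hcov ψ G.property (fun _ => pullback ψ ((yon S).map k))
      (fun _ => pullback.snd _ _) (fun _ => pullback.fst _ _) (fun _ => hA')
      (fun _ => IsPullback.of_hasPullback _ _)).2 fun _ => ?_
    let s := pullback.lift (f := ψ) (g := (yon S).map k) l (𝟙 _) (by rw [hl, Category.id_comp])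
    have : IsSplitEpi (pullback.snd ψ ((yon S).map k)) :=
      ⟨⟨⟨s, pullback.lift_snd _ _ _⟩⟩⟩
    exact isIso_of_mono_of_isSplitEpi _
  let c₁ : (yon S).obj (𝒴.p.obj y) ⟶ G.obj := inv ψ
  obtain ⟨τ₁, hi₁, -⟩ := exists_cover_point_of_atlas hA hX j w ε hε c₁
    (AlgSpc.surjective_ofPt (p := c₁) (AlgSpc.repWith_iso c₁))
  have : IsIso (AlgSpc.pre (c₁ ≫ ψ)) := by
    rw [show AlgSpc.pre (c₁ ≫ ψ) = 𝟙 _ from (yon S).map_injective (by
      rw [AlgSpc.map_pre, CategoryTheory.Functor.map_id, IsIso.inv_hom_id])]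
    infer_instance
  obtain ⟨τ₂, ⟨i₂⟩⟩ := exists_lift_of_isIso hi₁
  exact hQ.1.of_iso (Fib.appIso i₂ (Over.mk (𝟙 _)) ≪≫ f.toFunctor.mapIso ey)
    (τ₂.obj (Over.mk (𝟙 _))).property

theorem forall_mem_closedSubstack_iff (h𝒳 : AlgSt.IsAlgStack Scheme.fppfPrecoverage 𝒳)
    (h𝒴 : AlgSt.IsAlgStack Scheme.fppfPrecoverage 𝒴)
    (hred : AlgSt.SmoothLocally (fun X => IsReduced X) 𝒴) {Q : 𝒳.obj → Prop}
    (hQ : AlgSt.IsClosedSubstack 𝒳 Q Scheme.fppfPrecoverage) (f : 𝒴 ⥤ᵇ 𝒳) :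
    (∀ y, Q (f.obj y)) ↔
      Set.range (Points.map f) ⊆ Set.range (Points.map (AlgSt.subIncl 𝒳 Q)) := by
  refine ⟨fun h => ?_, fun h => mem_closedSubstack_of_points h𝒳 h𝒴 hred hQ f fun z => h ⟨z, rfl⟩⟩
  rintro _ ⟨z, rfl⟩
  obtain ⟨p, rfl⟩ := Points.mk_surjective z
  exact ⟨Points.mk ⟨p.K, p.str, ⟨f.obj p.obj, h p.obj⟩, (f.w_obj p.obj).trans p.lies⟩, rfl⟩

end Groth.Agent.AlgStB
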