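import Groth.Agent.AlgStB.SpFp
import Groth.Agent.Fib.Rep
import Groth.Agent.Fib.Diag
import Groth.Prelude.Def_AlgSpCov
import Groth.Agent.AlgSpc.EtLocInst

/-!
# Formal properties of 1-morphisms representable by algebraic spaces
-/

set_option autoImplicit false
set_option backward.isDefEq.respectTransparency false
set_option backward.isDefEq.respectTransparency.types false

universe v₆ u₆ v₅ u₅ v₄ u₄ v₃ u₃ v₂ u₂ u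

open CategoryTheory CategoryTheory.Limits AlgebraicGeometry Opposite

namespace Groth.Agent.AlgStB

open _root_.AlgSp

variable {S : Scheme.{u}} {𝒳 : BasedCategory.{v₂, u₂} (Over S)}
  {𝒴 : BasedCategory.{v₃, u₃} (Over S)} {𝒵 : BasedCategory.{v₄, u₄} (Over S)}
  {𝒳' : BasedCategory.{v₅, u₅} (Over S)} {𝒴' : BasedCategory.{v₆, u₆} (Over S)}
  {P : MorphismProperty (Sp S)}

theorem repByAlgSp_of_isEquivOver (Φ : 𝒳 ⥤ᵇ 𝒴) (hΦ : FibCat.IsEquivOver Φ)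
    (h : AlgSt.RepByAlgSp 𝒳) : AlgSt.RepByAlgSp 𝒴 := by
  obtain ⟨F, e, he⟩ := h
  exact ⟨F, BasedFunctor.comp e Φ, Fib.isEquivOver_comp he hΦ⟩

theorem repByAlgSp_iff_of_isEquivOver (Φ : 𝒳 ⥤ᵇ 𝒴) (hΦ : FibCat.IsEquivOver Φ) :
    AlgSt.RepByAlgSp 𝒳 ↔ AlgSt.RepByAlgSp 𝒴 := by
  refine ⟨repByAlgSp_of_isEquivOver Φ hΦ, ?_⟩
  obtain ⟨G, hG, -, -⟩ := Fib.exists_quasiInverse hΦ
  exact repByAlgSp_of_isEquivOver G hG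

theorem repByAlgSp1_of_with {f : 𝒳 ⥤ᵇ 𝒴} (h : AlgSt.RepByAlgSpWith P f) : AlgSt.RepByAlgSp1 f :=
  fun U y => let ⟨F, e, he, _⟩ := h U y; ⟨F, e, he⟩

theorem repByAlgSpWith_top_iff {f : 𝒳 ⥤ᵇ 𝒴} : AlgSt.RepByAlgSpWith ⊤ f ↔ AlgSt.RepByAlgSp1 f :=
  ⟨repByAlgSp1_of_with, fun h U y => let ⟨F, e, he⟩ := h U y; ⟨F, e, he, trivial⟩⟩

theorem repByAlgSpWith_mono {Q : MorphismProperty (Sp S)} (hPQ : P ≤ Q) {f : 𝒳 ⥤ᵇ 𝒴}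
    (h : AlgSt.RepByAlgSpWith P f) : AlgSt.RepByAlgSpWith Q f :=
  fun U y => let ⟨F, e, he, hm⟩ := h U y; ⟨F, e, he, hPQ _ hm⟩

theorem repByAlgSpWith_transfer {f : 𝒳 ⥤ᵇ 𝒴} {f' : 𝒳' ⥤ᵇ 𝒴'}
    (H : ∀ (U : Over S) (y' : FibCat.overCat U ⥤ᵇ 𝒴'), ∃ (y : FibCat.overCat U ⥤ᵇ 𝒴)
      (Φ : FibCat.fp y f ⥤ᵇ FibCat.fp y' f'), FibCat.IsEquivOver Φ ∧
        Nonempty (BasedFunctor.comp Φ (FibCat.fpFst y' f') ≅ FibCat.fpFst y f))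
    (h : AlgSt.RepByAlgSpWith P f) : AlgSt.RepByAlgSpWith P f' := by
  intro U y'
  obtain ⟨y, Φ, hΦ, ⟨i⟩⟩ := H U y'
  obtain ⟨F, e, he, hm⟩ := h U y
  refine ⟨F, BasedFunctor.comp e Φ, Fib.isEquivOver_comp he hΦ, ?_⟩
  exact (spMapOfOver_congr (Fib.isoWhiskerLeft e i)).symm ▸ hm

theorem repByAlgSpWith_transfer' {f : 𝒳 ⥤ᵇ 𝒴} {f' : 𝒳' ⥤ᵇ 𝒴'}
    (H : ∀ (U : Over S) (y' : FibCat.overCat U ⥤ᵇ 𝒴'), ∃ (y : FibCat.overCat U ⥤ᵇ 𝒴)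
      (Φ : FibCat.fp y' f' ⥤ᵇ FibCat.fp y f), FibCat.IsEquivOver Φ ∧
        Nonempty (BasedFunctor.comp Φ (FibCat.fpFst y f) ≅ FibCat.fpFst y' f'))
    (h : AlgSt.RepByAlgSpWith P f) : AlgSt.RepByAlgSpWith P f' :=
  repByAlgSpWith_transfer (fun U y' => by
    obtain ⟨y, Φ, hΦ, ⟨i⟩⟩ := H U y'
    obtain ⟨G, hG, -, ⟨j⟩⟩ := Fib.exists_quasiInverse hΦ
    exact ⟨y, G, hG, ⟨Fib.isoWhiskerLeft G i.symm ≪≫ Fib.isoWhiskerRight j (FibCat.fpFst y f)⟩⟩) h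

theorem repByAlgSpWith_fpFst (f : 𝒳 ⥤ᵇ 𝒴) (g : 𝒵 ⥤ᵇ 𝒴) (h : AlgSt.RepByAlgSpWith P f) :
    AlgSt.RepByAlgSpWith P (FibCat.fpFst g f) :=
  repByAlgSpWith_transfer' (fun _ y => ⟨BasedFunctor.comp y g, Fib.fpBC y g f,
    Fib.isEquivOver_fpBC y g f, ⟨eqToIso (Fib.fpBC_fpFst y g f)⟩⟩) h

theorem repByAlgSp1_fpFst (f : 𝒳 ⥤ᵇ 𝒴) (g : 𝒵 ⥤ᵇ 𝒴) (h : AlgSt.RepByAlgSp1 f) :
    AlgSt.RepByAlgSp1 (FibCat.fpFst g f) :=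
  repByAlgSp1_of_with (repByAlgSpWith_fpFst f g (repByAlgSpWith_top_iff.2 h))

theorem repByAlgSpWith_iff_of_square (f : 𝒳 ⥤ᵇ 𝒴) (f' : 𝒳' ⥤ᵇ 𝒴') (a : 𝒳' ⥤ᵇ 𝒳) (b : 𝒴' ⥤ᵇ 𝒴)
    (ha : FibCat.IsEquivOver a) (hb : FibCat.IsEquivOver b)
    (e : BasedFunctor.comp f' b ≅ BasedFunctor.comp a f) :
    AlgSt.RepByAlgSpWith P f ↔ AlgSt.RepByAlgSpWith P f' := by
  have := Fib.full_of_isEquivOver hb
  have := Fib.faithful_of_isEquivOver hb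
  constructor
  · refine repByAlgSpWith_transfer' fun U y' => ?_
    exact ⟨BasedFunctor.comp y' b, Fib.fpMap (BasedFunctor.id _) a b (F' := y') (G' := f')
      (F := BasedFunctor.comp y' b) (G := f) (Iso.refl _) e,
      Fib.isEquivOver_fpMap _ _ _ _ _ (Fib.isEquivOver_id _) ha, ⟨eqToIso rfl⟩⟩
  · refine repByAlgSpWith_transfer fun U y => ?_
    obtain ⟨b', -, -, ⟨i⟩⟩ := Fib.exists_quasiInverse hb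
    exact ⟨BasedFunctor.comp y b', Fib.fpMap (BasedFunctor.id _) a b
      (F' := BasedFunctor.comp y b') (G' := f') (F := y) (G := f) (Fib.isoWhiskerLeft y i) e,
      Fib.isEquivOver_fpMap _ _ _ _ _ (Fib.isEquivOver_id _) ha, ⟨eqToIso rfl⟩⟩

theorem repByAlgSp1_iff_of_square (f : 𝒳 ⥤ᵇ 𝒴) (f' : 𝒳' ⥤ᵇ 𝒴') (a : 𝒳' ⥤ᵇ 𝒳) (b : 𝒴' ⥤ᵇ 𝒴)
    (ha : FibCat.IsEquivOver a) (hb : FibCat.IsEquivOver b)
    (e : BasedFunctor.comp f' b ≅ BasedFunctor.comp a f) :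
    AlgSt.RepByAlgSp1 f ↔ AlgSt.RepByAlgSp1 f' := by
  rw [← repByAlgSpWith_top_iff, ← repByAlgSpWith_top_iff]
  exact repByAlgSpWith_iff_of_square f f' a b ha hb e

theorem repByAlgSpWith_of_iso {f f' : 𝒳 ⥤ᵇ 𝒴} (e : f ≅ f') (h : AlgSt.RepByAlgSpWith P f) :
    AlgSt.RepByAlgSpWith P f' :=
  (repByAlgSpWith_iff_of_square f f' (BasedFunctor.id _) (BasedFunctor.id _) (Fib.isEquivOver_id _)
    (Fib.isEquivOver_id _) e.symm).1 h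

theorem repByAlgSp1_of_iso {f f' : 𝒳 ⥤ᵇ 𝒴} (e : f ≅ f') (h : AlgSt.RepByAlgSp1 f) :
    AlgSt.RepByAlgSp1 f' :=
  repByAlgSp1_of_with (repByAlgSpWith_of_iso e (repByAlgSpWith_top_iff.2 h))

theorem repByAlgSp1_of_twoCart {𝒬 : BasedCategory.{v₅, u₅} (Over S)} (Γ : 𝒳 ⥤ᵇ 𝒬) (m : 𝒬 ⥤ᵇ 𝒵)
    (Δ : 𝒴 ⥤ᵇ 𝒵) (f : 𝒳 ⥤ᵇ 𝒴) (e : BasedFunctor.comp Γ m ≅ BasedFunctor.comp f Δ)
    (he : FibCat.IsTwoCartOver Γ f e) (h : AlgSt.RepByAlgSp1 Δ) :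
    AlgSt.RepByAlgSp1 Γ :=
  (repByAlgSp1_iff_of_square (FibCat.fpFst m Δ) Γ (FibCat.fpLift Γ f e) (BasedFunctor.id _) he
    (Fib.isEquivOver_id _) (Iso.refl _)).1 (repByAlgSp1_fpFst Δ m h)

end Groth.Agent.AlgStB
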