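import Groth.Agent.AlgStB.FieldCover
import Groth.Agent.AlgStB.SetoidSpace
import Groth.Agent.AlgStB.SubstackPoints
import Groth.Agent.AlgStB.DiagSep
import Groth.Prelude.Def_StGerb

/-!
# Residual gerbes: factorisations
-/

set_option autoImplicit false
set_option backward.isDefEq.respectTransparency false
set_option backward.isDefEq.respectTransparency.types false

universe u

open CategoryTheory CategoryTheory.Limits AlgebraicGeometry Opposite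

namespace Groth.Agent.AlgStB

open _root_.AlgSt (Points)
open _root_.AlgSp (Sp Space LocP IsSurjectiveMor IsAlgSpace yon RepWith)

noncomputable section

variable {S : Scheme.{u}} {𝒜 𝒳 𝒴 : AlgSt.Cat S}

/-- A point of a stack in the image of a monomorphism lifts. -/
theorem exists_lift_fieldPt (h𝒜 : AlgSt.IsAlgStack Scheme.fppfPrecoverage 𝒜)
    (h𝒳 : AlgSt.IsAlgStack Scheme.fppfPrecoverage 𝒳) (j : 𝒜 ⥤ᵇ 𝒳) (hj : AlgSt.IsMono j)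
    {K : Type u} [Field K] (a : Spec (CommRingCat.of K) ⟶ S)
    (z : FibCat.overCat (Over.mk a) ⥤ᵇ 𝒳) (p : Points 𝒜)
    (hp : ∀ v : ↥(Over.mk a : Over S).left, Points.map j p = Points.ofChart z v) :
    ∃ τ : FibCat.overCat (Over.mk a) ⥤ᵇ 𝒜, Nonempty (BasedFunctor.comp τ j ≅ z) := by
  have hA := h𝒜.isStack.1
  have hX := h𝒳.isStack.1
  let P : Over S := Over.mk a
  obtain ⟨F, e, he, hφ⟩ := hj P z
  let φ := AlgSt.spMapOfOver (BasedFunctor.comp e (FibCat.fpFst z j))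
  have : Mono φ := hφ
  obtain ⟨T, c, hc, hcs⟩ := F.property.atlas
  obtain ⟨τ, -, hp'⟩ := exists_cover_point_of_atlas hA hX j z e he c (AlgSpc.surjective_ofPt hcs)
  let v : ↥P.left := IsLocalRing.closedPoint K
  obtain ⟨t, -, -⟩ := hp' v p (hp v)
  let Q : Over S := Over.mk (T.left.fromSpecResidueField t ≫ T.hom)
  let pt : Q ⟶ T := Over.homMk (T.left.fromSpecResidueField t) rfl
  let l : (yon S).obj Q ⟶ F.obj := (yon S).map pt ≫ c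
  have : IsAffine Q.left := inferInstanceAs (IsAffine (Spec (T.left.residueField t)))
  have : IsAffine P.left := inferInstanceAs (IsAffine (Spec (CommRingCat.of K)))
  have : IsIntegral P.left := inferInstanceAs (IsIntegral (Spec (CommRingCat.of K)))
  have : Subsingleton ↥P.left := inferInstanceAs (Subsingleton ↥(Spec (CommRingCat.of K)))
  have : Nonempty ↥Q.left := inferInstanceAs (Nonempty ↥(Spec (T.left.residueField t)))
  have hcov := AlgSpLoc.isFpqcCover_affine_family (Z := P) (fun _ : PUnit.{u + 1} => Q)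
    (fun _ => AlgSpc.pre (l ≫ φ)) (fun w => ⟨⟨⟩, Classical.arbitrary _, Subsingleton.elim _ _⟩)
  exact exists_lift_of_isIso_rep hA hX j z e he
    (isIso_of_mono_of_cover F.property φ (AlgSpc.pre (l ≫ φ)) hcov l (AlgSpc.map_pre _).symm)

theorem isMono_subIncl (h𝒳 : AlgSt.IsAlgStack Scheme.fppfPrecoverage 𝒳) {Q : 𝒳.obj → Prop}
    (hQ : AlgSt.IsAlgStack Scheme.fppfPrecoverage (AlgSt.fullSub 𝒳 Q)) :
    AlgSt.IsMono (AlgSt.subIncl 𝒳 Q) := by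
  have : (AlgSt.subIncl 𝒳 Q).toFunctor.Faithful := inferInstanceAs (ObjectProperty.ι Q).Faithful
  have : (AlgSt.subIncl 𝒳 Q).toFunctor.Full := inferInstanceAs (ObjectProperty.ι Q).Full
  exact isMono_of_repByAlgSp1 _ (repByAlgSp1_of_faithful hQ h𝒳 _)

/-- A morphism factors through a substack if a field covering does. -/
theorem forall_mem_of_fieldCover (h𝒳 : AlgSt.IsAlgStack Scheme.fppfPrecoverage 𝒳)
    (h𝒴 : AlgSt.IsAlgStack Scheme.fppfPrecoverage 𝒴) {Q : 𝒴.obj → Prop}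
    (hi : ObjectProperty.IsClosedUnderIsomorphisms Q)
    (hQ : AlgSt.IsAlgStack Scheme.fppfPrecoverage (AlgSt.fullSub 𝒴 Q)) (f : 𝒳 ⥤ᵇ 𝒴)
    {P : Over S} (z : FibCat.overCat P ⥤ᵇ 𝒳)
    (hzp : AlgSt.RepByAlgSpWith (LocP @LocallyOfFinitePresentation) z)
    (hzs : AlgSt.RepByAlgSpWith IsSurjectiveMor z) (hzf : AlgSt.RepByAlgSpWith (LocP @Flat) z)
    (τ₀ : FibCat.overCat P ⥤ᵇ AlgSt.fullSub 𝒴 Q)
    (i₀ : BasedFunctor.comp τ₀ (AlgSt.subIncl 𝒴 Q) ≅ BasedFunctor.comp z f) (y : 𝒳.obj) :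
    Q (f.obj y) := by
  obtain ⟨yT, ey, -⟩ := exists_chart h𝒳.isStack.1 y
  obtain ⟨V, k, z', hcov, ⟨iz⟩⟩ := exists_cover_lift z hzf hzp hzs (𝒳.p.obj y) yT
  obtain ⟨τ, ⟨i⟩⟩ := exists_lift_of_cover hQ.isStack.1 h𝒴.isStack.1 (AlgSt.subIncl 𝒴 Q)
    (isMono_subIncl h𝒴 hQ) (BasedFunctor.comp yT f) k
    (Groth.Agent.S10505.result (X := ⟨_, IsAlgSpace.yon_obj (𝒳.p.obj y)⟩)
      (fun _ => ⟨_, IsAlgSpace.yon_obj V⟩) (fun _ => ObjectProperty.homMk ((yon S).map k)) hcov)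
    (BasedFunctor.comp z' τ₀) (Fib.isoWhiskerLeft z' i₀ ≪≫ Fib.isoWhiskerRight iz f)
  exact hi.of_iso (Fib.appIso i (Over.mk (𝟙 _)) ≪≫ f.toFunctor.mapIso ey)
    (τ.obj (Over.mk (𝟙 _))).property

theorem exists_resGerbe_fieldPt (h𝒳 : AlgSt.IsAlgStack Scheme.fppfPrecoverage 𝒳) {x : Points 𝒳}
    {Q : 𝒳.obj → Prop} (hQ : Gerb.IsResGerbe Scheme.fppfPrecoverage 𝒳 x Q) {K : Type u} [Field K]
    (a : Spec (CommRingCat.of K) ⟶ S) (p : FibCat.overCat (Over.mk a) ⥤ᵇ 𝒳)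
    (hp : ∀ t : ↥(Over.mk a : Over S).left, Points.ofChart p t = x) :
    ∃ q : FibCat.overCat (Over.mk a) ⥤ᵇ AlgSt.fullSub 𝒳 Q,
      Nonempty (BasedFunctor.comp q (AlgSt.subIncl 𝒳 Q) ≅ p) := by
  obtain ⟨-, hA, -, -, hne, -, hmap⟩ := hQ
  exact exists_lift_fieldPt hA h𝒳 _ (isMono_subIncl h𝒳 hA) a p hne.some
    fun v => (hmap _).trans (hp v).symm

theorem resGerbe_map_mem (h𝒳 : AlgSt.IsAlgStack Scheme.fppfPrecoverage 𝒳)
    (h𝒴 : AlgSt.IsAlgStack Scheme.fppfPrecoverage 𝒴) (f : 𝒳 ⥤ᵇ 𝒴) (x : Points 𝒳)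
    {Q : 𝒳.obj → Prop} (hQ : Gerb.IsResGerbe Scheme.fppfPrecoverage 𝒳 x Q) {Q' : 𝒴.obj → Prop}
    (hQ' : Gerb.IsResGerbe Scheme.fppfPrecoverage 𝒴 (Points.map f x) Q')
    (y : (AlgSt.fullSub 𝒳 Q).obj) : Q' (f.obj y.obj) := by
  obtain ⟨-, hA, hr, hn, hne, hsub, hmap⟩ := hQ
  obtain ⟨k, _, a, z, hs, hf⟩ := exists_fieldCover hA hr
  obtain ⟨k', _, a', z', -, hp, hs', hf'⟩ := exists_lft_fieldCover hA a z hs hf
  let g := BasedFunctor.comp (AlgSt.subIncl 𝒳 Q) f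
  obtain ⟨q, ⟨i⟩⟩ := exists_resGerbe_fieldPt h𝒴 hQ' a' (BasedFunctor.comp z' g) (fun t => by
    rw [ofChart_eq_map, map_comp_apply, map_comp_apply, hmap])
  exact forall_mem_of_fieldCover hA h𝒴 hQ'.1 hQ'.2.1 g z' (hp hn) hs' hf' q i y

theorem exists_resGerbe_map (h𝒳 : AlgSt.IsAlgStack Scheme.fppfPrecoverage 𝒳)
    (h𝒴 : AlgSt.IsAlgStack Scheme.fppfPrecoverage 𝒴) (f : 𝒳 ⥤ᵇ 𝒴) (x : Points 𝒳)
    {Q : 𝒳.obj → Prop} (hQ : Gerb.IsResGerbe Scheme.fppfPrecoverage 𝒳 x Q) {Q' : 𝒴.obj → Prop}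
    (hQ' : Gerb.IsResGerbe Scheme.fppfPrecoverage 𝒴 (Points.map f x) Q') :
    ∃ g : AlgSt.fullSub 𝒳 Q ⥤ᵇ AlgSt.fullSub 𝒴 Q',
      Nonempty (BasedFunctor.comp g (AlgSt.subIncl 𝒴 Q') ≅ BasedFunctor.comp (AlgSt.subIncl 𝒳 Q) f) := by
  let g : AlgSt.fullSub 𝒳 Q ⥤ᵇ AlgSt.fullSub 𝒴 Q' :=
    { toFunctor := ObjectProperty.lift Q' (BasedFunctor.comp (AlgSt.subIncl 𝒳 Q) f).toFunctor
        (resGerbe_map_mem h𝒳 h𝒴 f x hQ hQ')
      w := (BasedFunctor.comp (AlgSt.subIncl 𝒳 Q) f).w }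
  exact ⟨g, ⟨Iso.refl _⟩⟩

/-- The essential image of a monomorphism from a one-point stack is a residual gerbe. -/
theorem exists_resGerbe_essImage (h𝒳 : AlgSt.IsAlgStack Scheme.fppfPrecoverage 𝒳) (x : Points 𝒳)
    (h𝒜 : AlgSt.IsAlgStack Scheme.fppfPrecoverage 𝒜)
    (hred : AlgSt.SmoothLocally (fun T => IsReduced T) 𝒜)
    (hnoeth : AlgSt.SmoothLocally (fun T => IsLocallyNoetherian T) 𝒜)
    (hne : Nonempty (Points 𝒜)) (hsub : Subsingleton (Points 𝒜))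
    (f : 𝒜 ⥤ᵇ 𝒳) (hf : AlgSt.IsMono f) (hfx : ∀ p, Points.map f p = x) :
    ∃ Q : 𝒳.obj → Prop, Gerb.IsResGerbe Scheme.fppfPrecoverage 𝒳 x Q ∧
      ∃ e : 𝒜 ⥤ᵇ AlgSt.fullSub 𝒳 Q, FibCat.IsEquivOver e ∧
        Nonempty (BasedFunctor.comp e (AlgSt.subIncl 𝒳 Q) ≅ f) := by
  have hA := h𝒜.isStack.1
  have hX := h𝒳.isStack.1
  obtain ⟨hfull, hfaith⟩ := full_faithful_of_isMono hA hX f hf
  let Q : 𝒳.obj → Prop := fun ξ => ∃ a, Nonempty (f.obj a ≅ ξ)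
  let e : 𝒜 ⥤ᵇ AlgSt.fullSub 𝒳 Q :=
    { toFunctor := ObjectProperty.lift Q f.toFunctor fun a => ⟨a, ⟨Iso.refl _⟩⟩
      w := f.w }
  have : e.toFunctor.Faithful := ⟨fun h => f.toFunctor.map_injective (congrArg (fun t => t.hom) h)⟩
  have : e.toFunctor.Full := ⟨fun φ => ⟨f.toFunctor.preimage φ.hom,
    ObjectProperty.hom_ext _ (f.toFunctor.map_preimage φ.hom)⟩⟩
  have he : FibCat.IsEquivOver e := by
    refine Fib.isEquivOver_of_exists_iso_over e fun η => ?_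
    obtain ⟨a, ⟨i⟩⟩ := η.property
    obtain ⟨a', φ, hφ⟩ := hA.exists_lift (x := a)
      (𝒳.p.map i.inv ≫ eqToHom (f.w_obj a))
    have ha' : 𝒜.p.obj a' = 𝒳.p.obj η.obj := IsHomLift.domain_eq 𝒜.p (𝒳.p.map i.inv ≫ eqToHom (f.w_obj a)) φ
    have : IsIso (𝒳.p.map i.inv ≫ eqToHom (f.w_obj a)) := inferInstance
    have := Fib.isStronglyCartesian_of_isFibGrpd 𝒜.p hA (𝒳.p.map i.inv ≫ eqToHom (f.w_obj a)) φ
    have : IsIso φ := Functor.IsStronglyCartesian.isIso_of_base_isIso 𝒜.p (𝒳.p.map i.inv ≫ eqToHom (f.w_obj a)) φ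
    let ξ : f.obj a' ≅ η.obj := f.toFunctor.mapIso (asIso φ) ≪≫ i
    refine ⟨a', ObjectProperty.isoMk _ ξ, ?_⟩
    refine IsHomLift.of_fac' _ _ _ ((f.w_obj a').trans ha') rfl ?_
    change 𝒳.p.map (f.map φ ≫ i.hom) = _
    have h₁ := Fib.w_map f φ
    have h₂ := IsHomLift.fac' 𝒜.p (𝒳.p.map i.inv ≫ eqToHom (f.w_obj a)) φ
    rw [Functor.map_comp, h₁, h₂]
    simp [← Functor.map_comp]
  have hQ : AlgSt.IsAlgStack Scheme.fppfPrecoverage (AlgSt.fullSub 𝒳 Q) :=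
    isAlgStack_of_isEquivOver he h𝒜
  obtain ⟨b, hb, -, -⟩ := Fib.exists_quasiInverse he
  have htr : ∀ {P : Scheme.{u} → Prop}, AlgSt.SmoothLocally P 𝒜 →
      AlgSt.SmoothLocally P (AlgSt.fullSub 𝒳 Q) := fun h U y hy =>
    h U (BasedFunctor.comp y b) (repByAlgSpWith_comp_equiv hb hy)
  refine ⟨Q, ⟨⟨fun i ⟨a, ⟨j⟩⟩ => ⟨a, ⟨j ≪≫ i⟩⟩⟩, hQ, htr hred, htr hnoeth,
    ⟨Points.map e hne.some⟩, (bijective_map e he).2.subsingleton, fun z => ?_⟩, e, he, ⟨Iso.refl _⟩⟩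
  obtain ⟨p, rfl⟩ := (bijective_map e he).2 z
  rw [← map_comp_apply]
  exact hfx p

end

end Groth.Agent.AlgStB
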