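import Mathlib.RingTheory.Smooth.StandardSmoothOfFree
import Mathlib.RingTheory.Kaehler.Polynomial
import Mathlib.RingTheory.Etale.Kaehler
import Mathlib.RingTheory.Spectrum.Prime.Chevalley
import Mathlib.RingTheory.Smooth.Flat
import Mathlib.Combinatorics.Nullstellensatz
import Mathlib.FieldTheory.IsAlgClosed.AlgebraicClosure
import Mathlib.FieldTheory.Separable
import Groth.Agent.Unram.Tower

/-!
# Étale slices of smooth algebras through roots of unity
-/

set_option autoImplicit false
set_option linter.style.haveILetI false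
set_option backward.isDefEq.respectTransparency false

universe u

open KaehlerDifferential TensorProduct

namespace AlgStB.RingSlice

noncomputable section

/-- roots of unity lift uniquely along square-zero ideals -/
theorem existsUnique_root {D : Type u} [CommRing D] {J : Ideal D} (hJ : J ^ 2 = ⊥) {N : ℕ}
    (hN : IsUnit (N : D)) (y : D ⧸ J) (hy : y ^ N = 1) :
    ∃! a : D, a ^ N = 1 ∧ Ideal.Quotient.mk J a = y := by
  have hsq : ∀ x ∈ J, ∀ z ∈ J, x * z = 0 := fun x hx z hz => by
    have := Ideal.mul_mem_mul hx hz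
    rwa [← pow_two, hJ, Ideal.mem_bot] at this
  have hexp : ∀ e ∈ J, ∀ n : ℕ, (1 + e) ^ n = 1 + (n : D) * e := by
    intro e he n
    induction n with
    | zero => simp
    | succ n ih =>
      rw [pow_succ, ih]
      push_cast
      linear_combination (n : D) * hsq e he e he
  obtain ⟨a₀, rfl⟩ := Ideal.Quotient.mk_surjective y
  obtain ⟨v, hv⟩ := hN
  have hm : a₀ ^ N - 1 ∈ J := by
    rw [← Ideal.Quotient.eq_zero_iff_mem, map_sub, map_pow, hy, map_one, sub_self]
  have heJ : -(↑v⁻¹ * (a₀ ^ N - 1)) ∈ J := neg_mem (J.mul_mem_left _ hm)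
  refine ⟨a₀ * (1 + -(↑v⁻¹ * (a₀ ^ N - 1))), ⟨?_, ?_⟩, ?_⟩
  · rw [mul_pow, hexp _ heJ, ← hv]
    linear_combination -(a₀ ^ N) * (a₀ ^ N - 1) * v.mul_inv - hsq _ hm _ hm
  · rw [map_mul, map_add, map_one, Ideal.Quotient.eq_zero_iff_mem.mpr heJ, add_zero, mul_one]
  · rintro b ⟨hb, hb'⟩
    set a := a₀ * (1 + -(↑v⁻¹ * (a₀ ^ N - 1))) with ha
    have haN : a ^ N = 1 := by
      rw [ha, mul_pow, hexp _ heJ, ← hv]
      linear_combination -(a₀ ^ N) * (a₀ ^ N - 1) * v.mul_inv - hsq _ hm _ hm
    have hda : b - a ∈ J := by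
      rw [← Ideal.Quotient.eq_zero_iff_mem, map_sub, hb', ha, map_mul, map_add, map_one,
        Ideal.Quotient.eq_zero_iff_mem.mpr heJ, add_zero, mul_one, sub_self]
    rcases Nat.eq_zero_or_pos N with rfl | hNpos
    · haveI : Subsingleton D := subsingleton_of_zero_eq_one (isUnit_zero_iff.mp (by
        rw [← Nat.cast_zero, ← hv]; exact v.isUnit))
      exact Subsingleton.elim _ _
    have hau : IsUnit a := IsUnit.of_mul_eq_one (a ^ (N - 1))
      (by rw [← pow_succ', Nat.sub_add_cancel hNpos, haN])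
    obtain ⟨w, hw⟩ := hau
    have he : ↑w⁻¹ * (b - a) ∈ J := J.mul_mem_left _ hda
    have hb2 : b = a * (1 + ↑w⁻¹ * (b - a)) := by
      rw [← hw]; linear_combination -(b - (w : D)) * w.mul_inv
    have h3 : (1 + ↑w⁻¹ * (b - a)) ^ N = 1 := by
      have := congrArg (· ^ N) hb2
      simp only [mul_pow, hb, haN, one_mul] at this
      exact this.symm
    rw [hexp _ he, ← hv] at h3
    have h4 : ↑w⁻¹ * (b - a) = 0 := by
      linear_combination (↑v⁻¹ : D) * h3 - (↑w⁻¹ * (b - a)) * v.inv_mul
    linear_combination (w : D) * h4 - (b - a) * w.mul_inv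

/-- cutting an algebra etale over affine space by roots of unity -/
theorem formallyEtale_quotient {A B : Type u} [CommRing A] [CommRing B] [Algebra A B] {κ : Type u}
    (c : κ → B)
    (het : @Algebra.FormallyEtale (MvPolynomial κ A) B _ _ (MvPolynomial.aeval c).toRingHom.toAlgebra)
    {N : ℕ} (hN : IsUnit (N : B)) :
    Algebra.FormallyEtale A (B ⧸ Ideal.span (Set.range fun i => c i ^ N - 1)) := by
  let I := Ideal.span (Set.range fun i => c i ^ N - 1)
  letI : Algebra (MvPolynomial κ A) B := (MvPolynomial.aeval c).toRingHom.toAlgebra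
  haveI : IsScalarTower A (MvPolynomial κ A) B := IsScalarTower.of_algebraMap_eq fun x =>
    ((MvPolynomial.aeval c).commutes x).symm
  have hcI : ∀ i, c i ^ N - 1 ∈ I := fun i => Ideal.subset_span ⟨i, rfl⟩
  rw [Algebra.FormallyEtale.iff_comp_bijective]
  intro D _ _ J hJ
  constructor
  · intro l₁ l₂ hl
    let g₁ := l₁.comp (Ideal.Quotient.mkₐ A I)
    let g₂ := l₂.comp (Ideal.Quotient.mkₐ A I)
    have hNu : IsUnit (N : D) := by
      have := hN.map g₁
      rwa [map_natCast] at this
    have hg : ∀ b, Ideal.Quotient.mk J (g₁ b) = Ideal.Quotient.mk J (g₂ b) := fun b =>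
      AlgHom.congr_fun hl (Ideal.Quotient.mk I b)
    have hc : ∀ i, g₁ (c i) = g₂ (c i) := by
      intro i
      have hroot : ∀ g : B ⧸ I →ₐ[A] D, (g (Ideal.Quotient.mk I (c i))) ^ N = 1 := fun g => by
        rw [← map_pow, ← map_pow, show Ideal.Quotient.mk I (c i ^ N) = 1 from ?_, map_one]
        rw [← map_one (Ideal.Quotient.mk I)]
        exact Ideal.Quotient.eq.mpr (hcI i)
      have hy : (Ideal.Quotient.mk J (g₁ (c i))) ^ N = 1 := by
        rw [← map_pow, show g₁ (c i) ^ N = 1 from hroot l₁, map_one]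
      exact (existsUnique_root hJ hNu _ hy).unique ⟨hroot l₁, rfl⟩ ⟨hroot l₂, (hg (c i)).symm⟩
    letI : Algebra (MvPolynomial κ A) D := (g₁.comp (MvPolynomial.aeval c)).toRingHom.toAlgebra
    have h₂ : g₂.comp (MvPolynomial.aeval c) = g₁.comp (MvPolynomial.aeval c) :=
      MvPolynomial.algHom_ext fun i => by simp [hc]
    let k₁ : B →ₐ[MvPolynomial κ A] D := { g₁.toRingHom with commutes' := fun p => rfl }
    let k₂ : B →ₐ[MvPolynomial κ A] D :=
      { g₂.toRingHom with commutes' := fun p => AlgHom.congr_fun h₂ p }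
    have hk : k₁ = k₂ := Algebra.FormallyUnramified.ext J ⟨2, hJ⟩ hg
    refine AlgHom.ext fun x => ?_
    obtain ⟨b, rfl⟩ := Ideal.Quotient.mk_surjective x
    exact AlgHom.congr_fun hk b
  · intro l
    let g := l.comp (Ideal.Quotient.mkₐ A I)
    have hNu : IsUnit (N : D) := by
      have h1 := hN.map g
      rw [map_natCast, ← map_natCast (Ideal.Quotient.mk J)] at h1
      obtain ⟨u, hu⟩ := h1
      obtain ⟨z, hz⟩ := Ideal.Quotient.mk_surjective (↑u⁻¹ : D ⧸ J)
      have hmem : (N : D) * z - 1 ∈ J := by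
        rw [← Ideal.Quotient.eq_zero_iff_mem, map_sub, map_mul, hz, map_one, ← hu, u.mul_inv, sub_self]
      have hsq : ((N : D) * z - 1) * ((N : D) * z - 1) = 0 := by
        have := Ideal.mul_mem_mul hmem hmem
        rwa [← pow_two J, hJ, Ideal.mem_bot] at this
      exact IsUnit.of_mul_eq_one (z * (2 - (N : D) * z)) (by linear_combination -hsq)
    have hy : ∀ i, g (c i) ^ N = 1 := fun i => by
      rw [← map_pow, show g (c i ^ N) = g 1 from congrArg l (Ideal.Quotient.eq.mpr (hcI i)), map_one]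
    choose a ha using fun i => (existsUnique_root hJ hNu _ (hy i)).exists
    letI : Algebra (MvPolynomial κ A) D := (MvPolynomial.aeval a).toRingHom.toAlgebra
    haveI : IsScalarTower A (MvPolynomial κ A) D := IsScalarTower.of_algebraMap_eq fun x =>
      ((MvPolynomial.aeval a).commutes x).symm
    have hh : g.comp (MvPolynomial.aeval c) = (Ideal.Quotient.mkₐ A J).comp (MvPolynomial.aeval a) :=
      MvPolynomial.algHom_ext fun i => by simp [(ha i).2]
    let k₀ : B →ₐ[MvPolynomial κ A] D ⧸ J :=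
      { g.toRingHom with commutes' := fun p => AlgHom.congr_fun hh p }
    obtain ⟨k, hk⟩ := Algebra.FormallySmooth.comp_surjective (MvPolynomial κ A) B J hJ k₀
    let kA : B →ₐ[A] D := k.restrictScalars A
    have hkc : ∀ i, kA (c i) = a i := fun i => by
      have h1 := k.commutes (MvPolynomial.X i)
      change k (MvPolynomial.aeval c (MvPolynomial.X i)) = MvPolynomial.aeval a (MvPolynomial.X i) at h1
      rwa [MvPolynomial.aeval_X, MvPolynomial.aeval_X] at h1
    refine ⟨Ideal.Quotient.liftₐ I kA fun x hx => ?_, ?_⟩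
    · have : I ≤ RingHom.ker kA := Ideal.span_le.mpr (by
        rintro _ ⟨i, rfl⟩
        simp [RingHom.mem_ker, hkc, (ha i).1])
      exact this hx
    · refine AlgHom.ext fun x => ?_
      obtain ⟨b, rfl⟩ := Ideal.Quotient.mk_surjective x
      exact AlgHom.congr_fun hk b

/-- the slice -/
theorem exists_slice {A B C : Type u} [CommRing A] [CommRing B] [CommRing C] [Algebra A B]
    [Algebra.Smooth A B] (g : C →+* B)
    (hg : ∀ (M : Type u) [AddCommGroup M] [Module B M] [Module A M] [IsScalarTower A B M]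
      (d : Derivation A B M), (∀ c, d (g c) = 0) → d = 0)
    (P : Ideal B) [P.IsPrime] :
    ∃ (I : Ideal C), I.FG ∧ ∃ (h : B),
      Algebra.Etale A (Localization.Away h ⧸ I.map ((algebraMap B (Localization.Away h)).comp g)) ∧
      ∃ P' : PrimeSpectrum B, h ∉ P'.asIdeal ∧ I.map g ≤ P'.asIdeal ∧
        P'.asIdeal.comap (algebraMap A B) = P.comap (algebraMap A B) := by
  classical
  have hspanB : Submodule.span B (Set.range fun c => D A B (g c)) = ⊤ := by
    set M := Submodule.span B (Set.range fun c => D A B (g c))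
    have h0 := hg (Ω[B⁄A] ⧸ M) (M.mkQ.compDer (D A B)) fun c =>
      (Submodule.Quotient.mk_eq_zero M).mpr (Submodule.subset_span ⟨c, rfl⟩)
    rw [eq_top_iff, ← KaehlerDifferential.span_range_derivation, Submodule.span_le]
    rintro _ ⟨b, rfl⟩
    exact (Submodule.Quotient.mk_eq_zero M).mp (Derivation.congr_fun h0 b)
  let l₂ : Ω[B⁄A] →ₗ[B] Ω[Localization.AtPrime P⁄A] := map A A B (Localization.AtPrime P)
  have hspanP : Submodule.span (Localization.AtPrime P) (Set.range fun c => l₂ (D A B (g c))) = ⊤ := by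
    have h1 := span_eq_top_of_isLocalizedModule (Localization.AtPrime P) P.primeCompl l₂ hspanB
    rwa [← Set.range_comp] at h1
  obtain ⟨κ, a, b, hb⟩ := Module.exists_basis_of_span_of_flat _ hspanP
  let e : (κ →₀ B) →ₗ[B] Ω[B⁄A] := Finsupp.linearCombination B fun i : κ => D A B (g (a i))
  let l₁ : (κ →₀ B) →ₗ[B] (κ →₀ Localization.AtPrime P) :=
    Finsupp.mapRange.linearMap (Algebra.linearMap B (Localization.AtPrime P))
  let eₚ : (κ →₀ Localization.AtPrime P) →ₗ[Localization.AtPrime P] Ω[Localization.AtPrime P⁄A] :=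
    IsLocalizedModule.mapExtendScalars P.primeCompl l₁ l₂ (Localization.AtPrime P) e
  have : eₚ = b.repr.symm := by
    ext i
    trans IsLocalizedModule.map P.primeCompl l₁ l₂ e <| l₁ <| Finsupp.single i 1
    · simp [eₚ, -IsLocalizedModule.map_apply, l₁]
    · simp [l₂, e, hb]
  have heₚ : Function.Bijective eₚ := this ▸ b.repr.symm.bijective
  haveI : Finite κ := Module.Finite.finite_basis b
  obtain ⟨f, hf, hbij⟩ := Module.FinitePresentation.exists_notMem_bijective e P l₁ l₂ heₚ
  let B₁ := Localization.Away f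
  let l₁ₜ : (κ →₀ B) →ₗ[B] (κ →₀ B₁) := Finsupp.mapRange.linearMap (Algebra.linearMap B _)
  let l₂ₜ : Ω[B⁄A] →ₗ[B] Ω[B₁⁄A] := map A A B B₁
  rw [← IsLocalizedModule.map_bijective_iff_localizedModuleMap_bijective l₁ₜ l₂ₜ] at hbij
  let eₜ : (κ →₀ B₁) →ₗ[B₁] Ω[B₁⁄A] :=
    IsLocalizedModule.mapExtendScalars (Submonoid.powers f) l₁ₜ l₂ₜ B₁ e
  let bΩ : Module.Basis κ B₁ Ω[B₁⁄A] := .ofRepr (LinearEquiv.ofBijective eₜ hbij).symm
  have hbΩ : ∀ i, bΩ i = D A B₁ (algebraMap B B₁ (g (a i))) := fun i => by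
    simp +zetaDelta [IsLocalizedModule.map_linearCombination]
  -- the map to affine space
  let φ : MvPolynomial κ A →ₐ[A] B₁ := MvPolynomial.aeval fun i => algebraMap B B₁ (g (a i))
  letI : Algebra (MvPolynomial κ A) B₁ := φ.toRingHom.toAlgebra
  haveI : IsScalarTower A (MvPolynomial κ A) B₁ := IsScalarTower.of_algebraMap_eq fun x =>
    (φ.commutes x).symm
  haveI : Algebra.FormallyEtale B B₁ := Algebra.FormallyEtale.of_isLocalization (Submonoid.powers f)
  haveI : Algebra.Etale B B₁ := Algebra.Etale.of_isLocalizationAway f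
  haveI : Algebra.Smooth A B₁ := Algebra.Smooth.comp A B B₁
  haveI hfe : Algebra.FormallyEtale (MvPolynomial κ A) B₁ := by
    rw [Groth.Agent.Unram.formallyEtale_iff_bijective A (MvPolynomial κ A) B₁]
    let bX := (mvPolynomialBasis A κ).baseChange B₁
    have heq : mapBaseChange A (MvPolynomial κ A) B₁ = (bX.equiv bΩ (Equiv.refl κ)).toLinearMap := by
      refine bX.ext fun i => ?_
      rw [LinearEquiv.coe_coe, Module.Basis.equiv_apply, Equiv.refl_apply, hbΩ]
      simp only [bX, Module.Basis.baseChange_apply, mvPolynomialBasis_apply, mapBaseChange_tmul,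
        one_smul, KaehlerDifferential.map_D]
      congr 1
      exact MvPolynomial.aeval_X _ i
    rw [heq]
    exact LinearEquiv.bijective _
  haveI : Algebra.FinitePresentation (MvPolynomial κ A) B₁ :=
    Algebra.FinitePresentation.of_restrict_scalars_finitePresentation A (MvPolynomial κ A) B₁
  haveI : Algebra.Etale (MvPolynomial κ A) B₁ := ⟨inferInstance, inferInstance⟩
  -- a point of the image with coordinates roots of unity
  haveI hPmap : (P.map (algebraMap B B₁)).IsPrime :=
    IsLocalization.isPrime_of_isPrime_disjoint (Submonoid.powers f) _ _ ‹_›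
      ((Ideal.disjoint_powers_iff_notMem_of_isPrime f).mpr hf)
  let P₁ : PrimeSpectrum B₁ := ⟨P.map (algebraMap B B₁), hPmap⟩
  have hP₁ : P₁.asIdeal.comap (algebraMap B B₁) = P :=
    IsLocalization.under_map_of_isPrime_disjoint (Submonoid.powers f) _ ‹_›
      ((Ideal.disjoint_powers_iff_notMem_of_isPrime f).mpr hf)
  obtain ⟨_, ⟨G, rfl⟩, hGmem, hGsub⟩ :=
    PrimeSpectrum.isTopologicalBasis_basic_opens.exists_subset_of_mem_open
      (Set.mem_range_self P₁ : PrimeSpectrum.comap (algebraMap (MvPolynomial κ A) B₁) P₁ ∈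
        Set.range (PrimeSpectrum.comap (algebraMap (MvPolynomial κ A) B₁)))
      (PrimeSpectrum.isOpenMap_comap_of_hasGoingDown_of_finitePresentation
        (R := MvPolynomial κ A) (S := B₁)).isOpen_range
  let Q : Ideal A := P.comap (algebraMap A B)
  have hQ₁ : P₁.asIdeal.comap (algebraMap A B₁) = Q := by
    rw [IsScalarTower.algebraMap_eq A B B₁, ← Ideal.comap_comap, hP₁]
  let K := AlgebraicClosure Q.ResidueField
  let ψ : A →+* K := (algebraMap Q.ResidueField K).comp (algebraMap A Q.ResidueField)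
  have hψ : ∀ x, ψ x = 0 ↔ x ∈ Q := fun x => by
    rw [RingHom.comp_apply, map_eq_zero_iff _ (algebraMap Q.ResidueField K).injective,
      Ideal.algebraMap_residueField_eq_zero]
  have hG0 : MvPolynomial.map ψ G ≠ 0 := by
    intro h0
    apply (show algebraMap (MvPolynomial κ A) B₁ G ∉ P₁.asIdeal from hGmem)
    have hGQ : G ∈ Q.map (MvPolynomial.C) := by
      rw [MvPolynomial.mem_map_C_iff]
      intro m
      have := congrArg (MvPolynomial.coeff m) h0
      rwa [MvPolynomial.coeff_map, MvPolynomial.coeff_zero, hψ] at this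
    have hle : (Q.map MvPolynomial.C).map (algebraMap (MvPolynomial κ A) B₁) ≤ P₁.asIdeal := by
      rw [Ideal.map_map, Ideal.map_le_iff_le_comap]
      intro x hx
      change algebraMap (MvPolynomial κ A) B₁ (algebraMap A _ x) ∈ P₁.asIdeal
      rw [← IsScalarTower.algebraMap_apply]
      exact hQ₁.ge hx
    exact hle (Ideal.mem_map_of_mem _ hGQ)
  obtain ⟨N, hNge, hNprime⟩ :=
    Nat.exists_infinite_primes ((MvPolynomial.map ψ G).totalDegree + ringChar K + 2)
  have hNK : (N : K) ≠ 0 := by
    intro h0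
    have h1 := (ringChar.spec K N).mp h0
    haveI := ringChar.charP K
    rcases CharP.char_is_prime_or_zero K (ringChar K) with hp | hp
    · exact absurd ((Nat.prime_dvd_prime_iff_eq hp hNprime).mp h1) (by omega)
    · rw [hp, Nat.zero_dvd] at h1; exact hNprime.ne_zero h1
  let Rts : Finset K := (Polynomial.X ^ N - Polynomial.C (1 : K)).roots.toFinset
  have hR : Rts.card = N := by
    rw [Multiset.toFinset_card_of_nodup (Polynomial.nodup_roots
        (Polynomial.separable_X_pow_sub_C 1 hNK one_ne_zero)),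
      ← (IsAlgClosed.splits _).natDegree_eq_card_roots, Polynomial.natDegree_X_pow_sub_C]
  obtain ⟨ζ, hζ, hGζ⟩ : ∃ ζ : κ → K, (∀ i, ζ i ∈ Rts) ∧ MvPolynomial.eval ζ (MvPolynomial.map ψ G) ≠ 0 := by
    by_contra hcon
    push Not at hcon
    exact hG0 (MvPolynomial.eq_zero_of_eval_zero_at_prod_finset _ (fun _ => Rts) (fun i => by
      rw [hR]
      exact lt_of_le_of_lt (MvPolynomial.degreeOf_le_totalDegree _ i) (by omega)) hcon)
  have hζN : ∀ i, ζ i ^ N = 1 := fun i => by
    have := hζ i
    simp only [Rts, Multiset.mem_toFinset] at this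
    have := (Polynomial.mem_roots (Polynomial.X_pow_sub_C_ne_zero hNprime.pos 1)).mp this
    simpa [sub_eq_zero] using this
  let Q₁ : PrimeSpectrum (MvPolynomial κ A) :=
    ⟨RingHom.ker (MvPolynomial.eval₂Hom ψ ζ), RingHom.ker_isPrime _⟩
  have hGQ₁ : Q₁ ∈ (PrimeSpectrum.basicOpen G : Set (PrimeSpectrum (MvPolynomial κ A))) := by
    change G ∉ RingHom.ker (MvPolynomial.eval₂Hom ψ ζ)
    rw [RingHom.mem_ker, MvPolynomial.coe_eval₂Hom, ← MvPolynomial.eval_map]
    exact hGζ
  obtain ⟨P₂, hP₂⟩ := hGsub hGQ₁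
  have hP₂mem : ∀ x, algebraMap (MvPolynomial κ A) B₁ x ∈ P₂.asIdeal ↔
      MvPolynomial.eval₂Hom ψ ζ x = 0 := fun x => by
    rw [← RingHom.mem_ker]
    exact (SetLike.ext_iff.mp (congrArg PrimeSpectrum.asIdeal hP₂) x)
  -- the slice
  refine ⟨Ideal.span (Set.range fun i => a i ^ N - 1), Submodule.fg_span (Set.finite_range _),
    f * (N : B), ?_, ⟨P₂.asIdeal.comap (algebraMap B B₁), inferInstance⟩, ?_, ?_, ?_⟩
  · set B₂ := Localization.Away (f * (N : B))
    letI : Algebra B₁ B₂ := (IsLocalization.Away.awayToAwayRight f (N : B) : B₁ →+* B₂).toAlgebra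
    haveI : IsScalarTower B B₁ B₂ := IsScalarTower.of_algebraMap_eq fun x =>
      (IsLocalization.Away.awayToAwayRight_eq f (N : B) x).symm
    haveI : IsScalarTower A B₁ B₂ := IsScalarTower.of_algebraMap_eq fun x => by
      rw [IsScalarTower.algebraMap_apply A B B₂, IsScalarTower.algebraMap_apply A B B₁,
        ← IsScalarTower.algebraMap_apply B B₁ B₂]
    haveI : Algebra.FormallyEtale B B₂ :=
      Algebra.FormallyEtale.of_isLocalization (Submonoid.powers (f * (N : B)))
    let c : κ → B₂ := fun i => algebraMap B B₂ (g (a i))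
    have het : @Algebra.FormallyEtale (MvPolynomial κ A) B₂ _ _ (MvPolynomial.aeval c).toRingHom.toAlgebra := by
      letI : Algebra (MvPolynomial κ A) B₂ := (MvPolynomial.aeval c).toRingHom.toAlgebra
      haveI : IsScalarTower (MvPolynomial κ A) B₁ B₂ := IsScalarTower.of_algebraMap_eq' (by
        refine MvPolynomial.ringHom_ext (fun x => ?_) fun i => ?_
        · change MvPolynomial.aeval c (MvPolynomial.C x) = algebraMap B₁ B₂ (φ (MvPolynomial.C x))
          simp only [φ, MvPolynomial.aeval_C]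
          exact IsScalarTower.algebraMap_apply A B₁ B₂ x
        · change MvPolynomial.aeval c (MvPolynomial.X i) = algebraMap B₁ B₂ (φ (MvPolynomial.X i))
          simp [φ, c, ← IsScalarTower.algebraMap_apply])
      haveI : Algebra.FormallyEtale B₁ B₂ :=
        Algebra.FormallyEtale.of_restrictScalars (R := B)
      exact Algebra.FormallyEtale.comp _ B₁ B₂
    have hNu : IsUnit (N : B₂) := by
      have h1 := IsLocalization.Away.algebraMap_isUnit (S := B₂) (f * (N : B))
      rw [map_mul, map_natCast] at h1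
      exact isUnit_of_mul_isUnit_right h1
    have hI : (Ideal.span (Set.range fun i => a i ^ N - 1)).map ((algebraMap B B₂).comp g) =
        Ideal.span (Set.range fun i => c i ^ N - 1) := by
      rw [Ideal.map_span, ← Set.range_comp]
      congr 2
      funext i
      simp [c]
    rw [hI]
    haveI := formallyEtale_quotient c het hNu
    haveI : Algebra.FinitePresentation B B₂ := IsLocalization.Away.finitePresentation (f * (N : B))
    haveI : Algebra.FinitePresentation A B₂ := Algebra.FinitePresentation.trans A B B₂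
    haveI : Algebra.FinitePresentation A (B₂ ⧸ Ideal.span (Set.range fun i => c i ^ N - 1)) :=
      Algebra.FinitePresentation.quotient (Submodule.fg_span (Set.finite_range _))
    exact ⟨inferInstance, inferInstance⟩
  · intro hmem
    change algebraMap B B₁ (f * (N : B)) ∈ P₂.asIdeal at hmem
    rw [map_mul] at hmem
    rcases P₂.isPrime.mem_or_mem hmem with h1 | h1
    · exact P₂.isPrime.ne_top (Ideal.eq_top_of_isUnit_mem _ h1 (IsLocalization.Away.algebraMap_isUnit f))
    · rw [map_natCast, ← map_natCast (algebraMap (MvPolynomial κ A) B₁), hP₂mem, map_natCast] at h1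
      exact hNK h1
  · rw [Ideal.map_le_iff_le_comap, Ideal.span_le]
    rintro _ ⟨i, rfl⟩
    change algebraMap B B₁ (g (a i ^ N - 1)) ∈ P₂.asIdeal
    have : algebraMap B B₁ (g (a i ^ N - 1)) =
        algebraMap (MvPolynomial κ A) B₁ (MvPolynomial.X i ^ N - 1) := by
      simp [RingHom.algebraMap_toAlgebra, φ]
    rw [this, hP₂mem]
    simp [hζN]
  · rw [Ideal.comap_comap, ← IsScalarTower.algebraMap_eq A B B₁]
    ext x
    rw [Ideal.mem_comap, IsScalarTower.algebraMap_apply A (MvPolynomial κ A) B₁, hP₂mem]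
    simp only [MvPolynomial.algebraMap_eq, MvPolynomial.coe_eval₂Hom, MvPolynomial.eval₂_C, hψ]
    exact Iff.rfl

end

end AlgStB.RingSlice
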