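import Groth.Agent.AlgStB.RingSlice
import Mathlib.AlgebraicGeometry.Morphisms.Smooth
import Mathlib.AlgebraicGeometry.Morphisms.Etale
import Mathlib.Algebra.TrivSqZeroExt.Basic
import Mathlib.AlgebraicGeometry.Pullbacks
import Mathlib.AlgebraicGeometry.Morphisms.FinitePresentation

/-!
# Étale slices of a smooth pre-relation
-/

set_option autoImplicit false
set_option linter.style.haveILetI false
set_option backward.isDefEq.respectTransparency false

universe u

open CategoryTheory CategoryTheory.Limits AlgebraicGeometry TopologicalSpace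

namespace AlgStB.SchemeSlice

noncomputable section

theorem derivation_eq_zero {U R : Scheme.{u}} (s t : R ⟶ U)
    (hmono : ∀ {W : Scheme.{u}} (a b : W ⟶ R), a ≫ s = b ≫ s → a ≫ t = b ≫ t → a = b)
    {UA UC : U.Opens} (hA : IsAffineOpen UA) (hC : IsAffineOpen UC) {RB : R.Opens} (hB : IsAffineOpen RB)
    (es : RB ≤ s ⁻¹ᵁ UA) (et : RB ≤ t ⁻¹ᵁ UC)
    (M : Type u) [AddCommGroup M] [Module Γ(R, RB) M]
    (d : Γ(R, RB) →+ M) (hleib : ∀ x y, d (x * y) = x • d y + y • d x)
    (hs : ∀ a, d ((s.appLE UA RB es).hom a) = 0) (ht : ∀ c, d ((t.appLE UC RB et).hom c) = 0) (x : Γ(R, RB)) :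
    d x = 0 := by
  letI : Module Γ(R, RB)ᵐᵒᵖ M :=
    Module.compHom M (RingEquiv.toOpposite Γ(R, RB)).symm.toRingHom
  haveI : IsCentralScalar Γ(R, RB) M := ⟨fun _ _ => rfl⟩
  let b : Γ(R, RB) →+* TrivSqZeroExt Γ(R, RB) M :=
    { toFun := fun x => TrivSqZeroExt.inl x + TrivSqZeroExt.inr (d x)
      map_one' := by
        have h1 : d 1 = 0 := by
          have := hleib 1 1
          simp at this
          exact this
        simp [h1]
      map_mul' := fun x y => by
        apply TrivSqZeroExt.ext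
        · simp
        · simp [hleib, add_comm]
      map_zero' := by simp
      map_add' := fun x y => by
        apply TrivSqZeroExt.ext <;> simp [add_add_add_comm] }
  let a : Γ(R, RB) →+* TrivSqZeroExt Γ(R, RB) M := TrivSqZeroExt.inlHom Γ(R, RB) M
  have key : Spec.map (CommRingCat.ofHom a) ≫ hB.fromSpec = Spec.map (CommRingCat.ofHom b) ≫ hB.fromSpec := by
    apply hmono
    · rw [Category.assoc, Category.assoc, ← hA.SpecMap_appLE_fromSpec s hB es, ← Spec.map_comp_assoc,
        ← Spec.map_comp_assoc]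
      congr 2
      ext z <;> simp [a, b, hs]
    · rw [Category.assoc, Category.assoc, ← hC.SpecMap_appLE_fromSpec t hB et, ← Spec.map_comp_assoc,
        ← Spec.map_comp_assoc]
      congr 2
      ext z <;> simp [a, b, ht]
  rw [cancel_mono] at key
  have h2 := congrArg CommRingCat.Hom.hom (Spec.map_injective key)
  have := congrArg (fun z => TrivSqZeroExt.snd (z x)) h2
  simpa [a, b] using this.symm

/-- slice through a point -/
theorem exists_slice {U R : Scheme.{u}} (s t : R ⟶ U) [Smooth s]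
    (hmono : ∀ {W : Scheme.{u}} (a b : W ⟶ R), a ≫ s = b ≫ s → a ≫ t = b ≫ t → a = b) (x : R) :
    ∃ (Z : Scheme.{u}) (j : Z ⟶ U), LocallyOfFinitePresentation j ∧
      ∀ {P : Scheme.{u}} (pz : P ⟶ Z) (pr : P ⟶ R), IsPullback pz pr j t →
        ∃ W : P.Opens, Etale (W.ι ≫ pr ≫ s) ∧ ∃ w ∈ W, s (pr w) = s x := by
  obtain ⟨_, ⟨UA, hA, rfl⟩, hxA, -⟩ :=
    U.isBasis_affineOpens.exists_subset_of_mem_open (Set.mem_univ (s x)) isOpen_univ
  obtain ⟨_, ⟨UC, hC, rfl⟩, hxC, -⟩ :=
    U.isBasis_affineOpens.exists_subset_of_mem_open (Set.mem_univ (t x)) isOpen_univ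
  obtain ⟨_, ⟨RB, hB, rfl⟩, hxB, hsub⟩ :=
    R.isBasis_affineOpens.exists_subset_of_mem_open
      (show x ∈ s ⁻¹ᵁ UA ⊓ t ⁻¹ᵁ UC from ⟨hxA, hxC⟩) (s ⁻¹ᵁ UA ⊓ t ⁻¹ᵁ UC).2
  have es : RB ≤ s ⁻¹ᵁ UA := fun y hy => (hsub hy).1
  have et : RB ≤ t ⁻¹ᵁ UC := fun y hy => (hsub hy).2
  letI : Algebra Γ(U, UA) Γ(R, RB) := (s.appLE UA RB es).hom.toAlgebra
  haveI : Algebra.Smooth Γ(U, UA) Γ(R, RB) := s.smooth_appLE hA hB es
  obtain ⟨I, hI, h, het, P', hhP, hIP, hP'⟩ :=
    AlgStB.RingSlice.exists_slice (A := Γ(U, UA)) (t.appLE UC RB et).hom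
      (fun M _ _ _ _ d hd => Derivation.ext fun z =>
        derivation_eq_zero s t (fun {W} a b => hmono a b) hA hC hB es et M d.toLinearMap.toAddMonoidHom
          d.leibniz (fun a => d.map_algebraMap a) hd z)
      (hB.primeIdealOf ⟨x, hxB⟩).asIdeal
  let Bh := Localization.Away h
  let gh : Γ(U, UC) →+* Bh := (algebraMap Γ(R, RB) Bh).comp (t.appLE UC RB et).hom
  let J : Ideal Bh := I.map gh
  let mC : Γ(U, UC) ⟶ CommRingCat.of (Γ(U, UC) ⧸ I) := CommRingCat.ofHom (Ideal.Quotient.mk I)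
  let j : Spec (CommRingCat.of (Γ(U, UC) ⧸ I)) ⟶ U := Spec.map mC ≫ hC.fromSpec
  have hj : LocallyOfFinitePresentation j := by
    haveI : LocallyOfFinitePresentation (Spec.map mC) := by
      rw [HasRingHomProperty.Spec_iff (P := @LocallyOfFinitePresentation)]
      exact RingHom.FinitePresentation.of_surjective _ Ideal.Quotient.mk_surjective (by simpa [mC] using hI)
    infer_instance
  refine ⟨_, j, hj, fun {P} pz pr sq => ?_⟩
  let k : Spec (CommRingCat.of Bh) ⟶ R :=
    Spec.map (CommRingCat.ofHom (algebraMap Γ(R, RB) Bh)) ≫ hB.fromSpec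
  haveI : IsOpenImmersion k := by
    haveI : IsOpenImmersion (Spec.map (CommRingCat.ofHom (algebraMap Γ(R, RB) Bh))) :=
      IsOpenImmersion.of_isLocalization h
    infer_instance
  have hkt : k ≫ t = Spec.map (CommRingCat.ofHom gh) ≫ hC.fromSpec := by
    simp only [k, Category.assoc]
    rw [← hC.SpecMap_appLE_fromSpec t hB et, ← Spec.map_comp_assoc]
    rfl
  let mB : CommRingCat.of Bh ⟶ CommRingCat.of (Bh ⧸ J) := CommRingCat.ofHom (Ideal.Quotient.mk J)
  let inl : CommRingCat.of (Γ(U, UC) ⧸ I) ⟶ CommRingCat.of (Bh ⧸ J) :=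
    CommRingCat.ofHom (Ideal.quotientMap J gh Ideal.le_comap_map)
  have hpo : IsPushout mC (CommRingCat.ofHom gh) inl mB := by
    refine IsPushout.of_isColimit' ⟨by ext; rfl⟩ (PushoutCocone.IsColimit.mk _
      (fun c => CommRingCat.ofHom (Ideal.Quotient.lift J c.inr.hom (fun z hz => ?_))) ?_ ?_ ?_)
    · have : J ≤ RingHom.ker c.inr.hom := Ideal.map_le_iff_le_comap.mpr fun w hw => by
        have h1 := congrArg (fun f => f.hom w) c.condition
        simp [mC, Ideal.Quotient.eq_zero_iff_mem.mpr hw] at h1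
        exact h1.symm
      exact this hz
    · intro c
      ext w
      exact (congrArg (fun f => f.hom w) c.condition).symm
    · intro c
      ext w
      rfl
    · intro c m hm₁ hm₂
      ext w
      exact congrArg (fun f => f.hom w) hm₂
  have sqS := isPullback_SpecMap_of_isPushout _ _ _ _ hpo
  have sqE : IsPullback (Spec.map inl) (Spec.map mB) j (k ≫ t) := by
    rw [hkt]
    refine IsPullback.of_isLimit' ⟨by simp only [j]; rw [← Category.assoc, sqS.w, Category.assoc]⟩
      (PullbackCone.IsLimit.mk _ (fun c => sqS.lift c.fst c.snd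
        ((cancel_mono hC.fromSpec).mp (by simpa [j] using c.condition)))
        (fun c => sqS.lift_fst _ _ _) (fun c => sqS.lift_snd _ _ _) fun c m h1 h2 => ?_)
    exact sqS.hom_ext (h1.trans (sqS.lift_fst _ _ _).symm) (h2.trans (sqS.lift_snd _ _ _).symm)
  let e := sq.lift (Spec.map inl) (Spec.map mB ≫ k) (by rw [Category.assoc]; exact sqE.w)
  have sqe : IsPullback e (Spec.map mB) pr k := by
    have big : IsPullback (e ≫ pz) (Spec.map mB) j (k ≫ t) := by rw [sq.lift_fst]; exact sqE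
    exact IsPullback.of_right big (sq.lift_snd _ _ _) sq
  haveI : IsOpenImmersion e := MorphismProperty.of_isPullback sqe.flip inferInstance
  have he : e ≫ pr ≫ s = Spec.map (CommRingCat.ofHom (algebraMap Γ(U, UA) (Bh ⧸ J))) ≫ hA.fromSpec := by
    rw [← Category.assoc, sq.lift_snd, Category.assoc]
    simp only [k, Category.assoc]
    rw [← hA.SpecMap_appLE_fromSpec s hB es, ← Spec.map_comp_assoc, ← Spec.map_comp_assoc]
    rfl
  haveI : Etale (e ≫ pr ≫ s) := by
    rw [he]
    haveI : Etale (Spec.map (CommRingCat.ofHom (algebraMap Γ(U, UA) (Bh ⧸ J)))) := by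
      rw [HasRingHomProperty.Spec_iff (P := @Etale)]
      exact RingHom.etale_algebraMap.mpr het
    infer_instance
  refine ⟨e.opensRange, ?_, ?_⟩
  · rw [show e.opensRange.ι = e.isoOpensRange.inv ≫ e from (e.isoOpensRange_inv_comp).symm,
      Category.assoc]
    infer_instance
  · have hP'₁ : (P'.asIdeal.map (algebraMap Γ(R, RB) Bh)).IsPrime :=
      IsLocalization.isPrime_of_isPrime_disjoint (Submonoid.powers h) _ _ P'.isPrime
        ((Ideal.disjoint_powers_iff_notMem_of_isPrime h).mpr hhP)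
    have hJP : RingHom.ker (Ideal.Quotient.mk J) ≤ P'.asIdeal.map (algebraMap Γ(R, RB) Bh) := by
      rw [Ideal.mk_ker]
      change I.map ((algebraMap Γ(R, RB) Bh).comp (t.appLE UC RB et).hom) ≤ _
      rw [← Ideal.map_map]
      exact Ideal.map_mono hIP
    let q : PrimeSpectrum (Bh ⧸ J) :=
      ⟨(P'.asIdeal.map (algebraMap Γ(R, RB) Bh)).map (Ideal.Quotient.mk J),
        Ideal.map_isPrime_of_surjective Ideal.Quotient.mk_surjective hJP⟩
    refine ⟨e q, ⟨q, rfl⟩, ?_⟩
    have hsx : s x = hA.fromSpec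
        (PrimeSpectrum.comap (s.appLE UA RB es).hom (hB.primeIdealOf ⟨x, hxB⟩)) := by
      refine (congrArg (fun y => s y) (hB.fromSpec_primeIdealOf ⟨x, hxB⟩)).symm.trans ?_
      change s (hB.fromSpec (hB.primeIdealOf ⟨x, hxB⟩)) = _
      rw [← Scheme.Hom.comp_apply, ← hA.SpecMap_appLE_fromSpec s hB es]
      rfl
    rw [← Scheme.Hom.comp_apply, ← Scheme.Hom.comp_apply, he, hsx]
    change hA.fromSpec (PrimeSpectrum.comap (algebraMap Γ(U, UA) (Bh ⧸ J)) q) = _
    congr 1
    apply PrimeSpectrum.ext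
    change Ideal.comap ((Ideal.Quotient.mk J).comp
      ((algebraMap Γ(R, RB) Bh).comp (s.appLE UA RB es).hom)) q.asIdeal = _
    rw [← Ideal.comap_comap, Ideal.comap_map_of_surjective _ Ideal.Quotient.mk_surjective,
      ← RingHom.ker_eq_comap_bot, sup_eq_left.mpr hJP, ← Ideal.comap_comap]
    have hu := IsLocalization.under_map_of_isPrime_disjoint (Submonoid.powers h) (S := Bh) P'.isPrime
      ((Ideal.disjoint_powers_iff_notMem_of_isPrime h).mpr hhP)
    change Ideal.comap _ ((P'.asIdeal.map (algebraMap Γ(R, RB) Bh)).comap (algebraMap Γ(R, RB) Bh)) = _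
    rw [show (P'.asIdeal.map (algebraMap Γ(R, RB) Bh)).comap (algebraMap Γ(R, RB) Bh) = P'.asIdeal from hu]
    exact hP'

end

end AlgStB.SchemeSlice
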