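import Groth.Agent.AlgStB.OfPsh
import Mathlib.CategoryTheory.Sites.SheafOfTypes

/-!
# Functors into the category of a presheaf, out of slices and sieves
-/

set_option autoImplicit false
set_option backward.isDefEq.respectTransparency false
set_option backward.isDefEq.respectTransparency.types false

universe w v₃ u₃ v₂ u₂ v u

open CategoryTheory Opposite

namespace Groth.Agent.AlgStB

variable {C : Type u} [Category.{v} C] {W : Cᵒᵖ ⥤ Type w} {𝒜 : BasedCategory.{v₂, u₂} C}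

/-- The section over `p a` given by a functor into the category of a presheaf. -/
def secAt (Φ : 𝒜 ⥤ᵇ Stk.ofPsh W) (a : 𝒜.obj) : W.obj (op (𝒜.p.obj a)) :=
  W.map (eqToHom (Φ.w_obj a).symm).op (Φ.obj a).sec

theorem secAt_natural (Φ : 𝒜 ⥤ᵇ Stk.ofPsh W) {a b : 𝒜.obj} (f : a ⟶ b) :
    W.map (𝒜.p.map f).op (secAt Φ b) = secAt Φ a := by
  have h : (Φ.map f).hom = eqToHom (Φ.w_obj a) ≫ 𝒜.p.map f ≫ eqToHom (Φ.w_obj b).symm :=
    Fib.w_map Φ f
  have h' : 𝒜.p.map f ≫ eqToHom (Φ.w_obj b).symm =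
      eqToHom (Φ.w_obj a).symm ≫ (Φ.map f).hom := by
    rw [h]; simp
  calc W.map (𝒜.p.map f).op (secAt Φ b)
      = W.map (𝒜.p.map f ≫ eqToHom (Φ.w_obj b).symm).op (Φ.obj b).sec := map_map_op _ _ _
    _ = W.map (eqToHom (Φ.w_obj a).symm ≫ (Φ.map f).hom).op (Φ.obj b).sec :=
        congrArg (fun m => W.map (Quiver.Hom.op m) (Φ.obj b).sec) h'
    _ = secAt Φ a := (map_map_op _ _ _).symm.trans
        (congrArg (W.map (eqToHom (Φ.w_obj a).symm).op) (Φ.map f).map_sec)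

theorem secAt_comp {ℬ : BasedCategory.{v₃, u₃} C} (ι : ℬ ⥤ᵇ 𝒜) (Φ : 𝒜 ⥤ᵇ Stk.ofPsh W)
    (a : ℬ.obj) :
    secAt (BasedFunctor.comp ι Φ) a = W.map (eqToHom (ι.w_obj a).symm).op (secAt Φ (ι.obj a)) := by
  rw [secAt, secAt, map_map_op, eqToHom_trans]
  rfl

theorem eq_of_sec_eq {x y : Stk.EltObj W} {T : C} (hx : x.base = T) (hy : y.base = T)
    (h : W.map (eqToHom hx.symm).op x.sec = W.map (eqToHom hy.symm).op y.sec) : x = y := by
  obtain ⟨X, x⟩ := x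
  obtain ⟨Y, y⟩ := y
  change X = T at hx
  change Y = T at hy
  subst hx hy
  simp at h
  rw [h]

theorem secAt_eq_of_iso {Φ Ψ : 𝒜 ⥤ᵇ Stk.ofPsh W} (i : Φ ≅ Ψ) (a : 𝒜.obj) :
    secAt Φ a = secAt Ψ a := by
  have h : Φ.obj a = Ψ.obj a :=
    ofPsh_eq_of_isHomLift (Fib.appIso i a).hom (Fib.appIso_isHomLift i a)
  have key : ∀ (x y : Stk.EltObj W) (hx : x.base = 𝒜.p.obj a) (hy : y.base = 𝒜.p.obj a), x = y →
      W.map (eqToHom hx.symm).op x.sec = W.map (eqToHom hy.symm).op y.sec := by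
    intro x y hx hy e; subst e; rfl
  exact key _ _ (Φ.w_obj a) (Ψ.w_obj a) h

/-- Functors with the same sections are isomorphic. -/
def isoOfSecAt {Φ Ψ : 𝒜 ⥤ᵇ Stk.ofPsh W} (h : ∀ a, secAt Φ a = secAt Ψ a) : Φ ≅ Ψ :=
  Fib.isoMk (fun a => eqToIso (eq_of_sec_eq (Φ.w_obj a) (Ψ.w_obj a) (h a)))
    (fun {a b} f => Stk.EltObj.hom_ext (by
      have h₁ : (Φ.map f).hom = eqToHom (Φ.w_obj a) ≫ 𝒜.p.map f ≫ eqToHom (Φ.w_obj b).symm :=
        Fib.w_map Φ f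
      have h₂ : (Ψ.map f).hom = eqToHom (Ψ.w_obj a) ≫ 𝒜.p.map f ≫ eqToHom (Ψ.w_obj b).symm :=
        Fib.w_map Ψ f
      simp only [eqToIso.hom, Stk.EltObj.comp_hom, eqToHom_hom, h₁, h₂]
      simp))
    (fun a => IsHomLift.of_fac' (Stk.ofPsh W).p (𝟙 _) _ (Φ.w_obj a) (Ψ.w_obj a) (by
      change (eqToHom _ : Φ.obj a ⟶ Ψ.obj a).hom = _
      simp [eqToHom_hom]))

/-- The functor out of a slice of a section. -/
def ofSection {U : C} (x : W.obj (op U)) : FibCat.overCat U ⥤ᵇ Stk.ofPsh W where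
  toFunctor :=
    { obj := fun a => ⟨a.left, W.map a.hom.op x⟩
      map := fun {a b} φ => ⟨φ.left, by rw [map_map_op, Over.w φ]⟩ }
  w := rfl

theorem secAt_ofSection {U : C} (x : W.obj (op U)) (a : Over U) :
    secAt (ofSection x) a = W.map a.hom.op x := by
  change W.map (𝟙 _) _ = _
  simp
  rfl

end Groth.Agent.AlgStB
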