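import Groth.Agent.AlgStB.SmoothChart
import Groth.Agent.AlgStB.SchemeSlice

/-!
# Bootstrap: a sheaf with a representable smooth surjective atlas is an algebraic space
-/

set_option autoImplicit false
set_option linter.style.haveILetI false
set_option backward.isDefEq.respectTransparency false

universe u

open CategoryTheory CategoryTheory.Limits AlgebraicGeometry Opposite

namespace Groth.Agent.AlgSpc

open _root_.AlgSp

variable {S : Scheme.{u}}

/-- comparison of base changes along a represented square -/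
theorem exists_comparison {U V : Over S} {F G : Sp S} {q₀ : G ⟶ F} {q : (yon S).obj U ⟶ F}
    {fh : (yon S).obj V ⟶ G} {h : V ⟶ U} (sqh : IsPullback fh ((yon S).map h) q₀ q)
    {T VT T' : Over S} {g : (yon S).obj T ⟶ F} {fT : (yon S).obj VT ⟶ G} {d : VT ⟶ T}
    (sqT : IsPullback fT ((yon S).map d) q₀ g) {g' : (yon S).obj T' ⟶ (yon S).obj U} {c : T' ⟶ T}
    (sqc : IsPullback g' ((yon S).map c) q g) :
    ∃ k : pullback d c ⟶ V, IsPullback k (pullback.snd d c) h (pre g') := by
  have big := ((IsPullback.of_hasPullback d c).map (yon S)).paste_horiz sqT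
  rw [← sqc.w] at big
  let k := sqh.lift ((yon S).map (pullback.fst d c) ≫ fT) ((yon S).map (pullback.snd d c) ≫ g')
    (by rw [big.w, Category.assoc])
  have hk₁ : k ≫ fh = (yon S).map (pullback.fst d c) ≫ fT := sqh.lift_fst _ _ _
  have hk₂ : k ≫ (yon S).map h = (yon S).map (pullback.snd d c) ≫ g' := sqh.lift_snd _ _ _
  rw [← hk₁] at big
  have sqk := IsPullback.of_right big hk₂ sqh
  rw [← map_pre k, ← map_pre g'] at sqk
  exact ⟨pre k, IsPullback.of_map (yon S) ((yon S).map_injective (by simpa using sqk.w)) sqk⟩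

/-- A sheaf with a representable smooth surjective map from a scheme is an algebraic space. -/
theorem isAlgSpace_of_smooth_atlas {U : Over S} {F : Sp S} (q : (yon S).obj U ⟶ F)
    (hq : RepWith @Smooth q) (hqs : RepWith @Surjective q) : IsAlgSpace F := by
  classical
  obtain ⟨R, fst, s, sq⟩ := exists_sq hq.1 q
  let t : R ⟶ U := pre fst
  have sqR : IsPullback ((yon S).map t) ((yon S).map s) q q := by rw [map_pre]; exact sq
  have hs : Smooth s.left := hq.2 _ _ _ sq
  have ht : Smooth t.left := hq.2 _ _ _ sqR.flip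
  have hss : Surjective s.left := hqs.2 _ _ _ sq
  have hmono : ∀ {W : Scheme.{u}} (a b : W ⟶ R.left), a ≫ s.left = b ≫ s.left → a ≫ t.left = b ≫ t.left → a = b := by
    intro W a b e₁ e₂
    have hb : b ≫ R.hom = a ≫ R.hom := by rw [← Over.w s, ← Category.assoc, ← e₁, Category.assoc]
    let ao : Over.mk (a ≫ R.hom) ⟶ R := Over.homMk a rfl
    let bo : Over.mk (a ≫ R.hom) ⟶ R := Over.homMk b hb
    have : ao = bo := (yon S).map_injective (sqR.hom_ext
      (by rw [← Functor.map_comp, ← Functor.map_comp, show ao ≫ t = bo ≫ t from Over.OverMorphism.ext e₂])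
      (by rw [← Functor.map_comp, ← Functor.map_comp, show ao ≫ s = bo ≫ s from Over.OverMorphism.ext e₁]))
    exact congrArg CommaMorphism.left this
  have hex : ∀ u : U.left, ∃ (X : Over S) (j : X ⟶ U) (W : (pullback j t).left.Opens),
      LocallyOfFinitePresentation j.left ∧ Etale (W.ι ≫ (pullback.snd j t ≫ s).left) ∧
      (∀ x : ↥X.left, ∃ w ∈ W, (pullback.fst j t).left w = x) ∧
      ∃ w ∈ W, (pullback.snd j t ≫ s).left w = u := by
    intro u
    obtain ⟨x, rfl⟩ := s.left.surjective u
    obtain ⟨Z, j₀, hj₀, H⟩ := AlgStB.SchemeSlice.exists_slice s.left t.left (fun {W} a b => hmono a b) x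
    let Zo : Over S := Over.mk (j₀ ≫ U.hom)
    let jo : Zo ⟶ U := Over.homMk j₀ rfl
    have sq₀ := (IsPullback.of_hasPullback jo t).map (Over.forget S)
    obtain ⟨W₀, hW₀, w₀, hw₀, hw₀x⟩ := H _ _ sq₀
    let pz : (pullback jo t).left ⟶ Z := (pullback.fst jo t).left
    haveI : Smooth pz := MorphismProperty.of_isPullback (P := @Smooth) sq₀.flip ht
    let O : Z.Opens := ⟨pz '' W₀.1, pz.isOpenMap _ W₀.2⟩
    let Xo : Over S := Over.mk (O.ι ≫ Zo.hom)
    let i : Xo ⟶ Zo := Over.homMk O.ι rfl
    let k : pullback (i ≫ jo) t ⟶ pullback jo t :=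
      pullback.lift (pullback.fst (i ≫ jo) t ≫ i) (pullback.snd (i ≫ jo) t)
        (by rw [Category.assoc]; exact pullback.condition)
    have sqk : IsPullback k.left (pullback.fst (i ≫ jo) t).left pz O.ι := by
      have big : IsPullback (k ≫ pullback.snd jo t) (pullback.fst (i ≫ jo) t) t (i ≫ jo) := by
        rw [pullback.lift_snd]; exact (IsPullback.of_hasPullback (i ≫ jo) t).flip
      exact (IsPullback.of_right big (pullback.lift_fst _ _ _)
        (IsPullback.of_hasPullback jo t).flip).map (Over.forget S)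
    haveI : IsOpenImmersion k.left :=
      MorphismProperty.of_isPullback (P := @IsOpenImmersion) sqk.flip inferInstance
    refine ⟨Xo, i ≫ jo, k.left ⁻¹ᵁ W₀, ?_, ?_, ?_, ?_⟩
    · change LocallyOfFinitePresentation (O.ι ≫ j₀)
      haveI := hj₀
      infer_instance
    · have : (k.left ⁻¹ᵁ W₀).ι ≫ (pullback.snd (i ≫ jo) t ≫ s).left =
          (k.left ∣_ W₀) ≫ W₀.ι ≫ (pullback.snd jo t).left ≫ s.left := by
        rw [morphismRestrict_ι_assoc, ← Category.assoc k.left, ← Over.comp_left, pullback.lift_snd,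
          Over.comp_left]
      rw [this]
      haveI : Etale (W₀.ι ≫ (pullback.snd jo t).left ≫ s.left) := hW₀
      infer_instance
    · intro z
      obtain ⟨w, hw, hwz⟩ := z.2
      obtain ⟨v, hv₁, hv₂⟩ := Scheme.Pullback.exists_preimage_pullback (f := pz) (g := O.ι) w z hwz
      refine ⟨sqk.isoPullback.inv v, ?_, ?_⟩
      · show k.left (sqk.isoPullback.inv v) ∈ W₀
        rw [← Scheme.Hom.comp_apply, sqk.isoPullback_inv_fst, hv₁]; exact hw
      · rw [← Scheme.Hom.comp_apply, sqk.isoPullback_inv_snd]; exact hv₂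
    · obtain ⟨v, hv₁, hv₂⟩ := Scheme.Pullback.exists_preimage_pullback (f := pz) (g := O.ι) w₀
        ⟨pz w₀, ⟨w₀, hw₀, rfl⟩⟩ rfl
      refine ⟨sqk.isoPullback.inv v, ?_, ?_⟩
      · show k.left (sqk.isoPullback.inv v) ∈ W₀
        rw [← Scheme.Hom.comp_apply, sqk.isoPullback_inv_fst, hv₁]; exact hw₀
      · have hks : (pullback.snd (i ≫ jo) t ≫ s).left = k.left ≫ (pullback.snd jo t).left ≫ s.left := by
          simp only [← Over.comp_left]
          rw [← Category.assoc, pullback.lift_snd]
        rw [hks, Scheme.Hom.comp_apply, ← Scheme.Hom.comp_apply (sqk.isoPullback.inv),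
          sqk.isoPullback_inv_fst, hv₁]
        exact hw₀x
  choose X j W hjl hWe hWs hWu using hex
  let Xt : Over S := Over.mk (Sigma.desc fun u => (X u).hom)
  let ι' : ∀ u, X u ⟶ Xt := fun u => Over.homMk (Sigma.ι (fun u => (X u).left) u) (Sigma.ι_desc _ _)
  let J' : Xt ⟶ U := Over.homMk (Sigma.desc fun u => (j u).left) (by
    apply Sigma.hom_ext
    intro u
    rw [← Category.assoc, Sigma.ι_desc, Over.w (j u)]
    exact (Sigma.ι_desc (fun u => (X u).hom) u).symm)
  have hι : ∀ u, ι' u ≫ J' = j u := fun u => Over.OverMorphism.ext (Sigma.ι_desc _ _)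
  have hetale : RepWith @Etale ((yon S).map J' ≫ q) := by
    refine repWith_of_sigma ι' (fun u => inferInstanceAs (IsOpenImmersion (Sigma.ι _ u))) (fun z => ?_) _
      fun u => ?_
    · obtain ⟨u, z', hz⟩ := (sigmaOpenCover fun u => (X u).left).exists_eq z
      exact ⟨u, z', hz⟩
    · haveI := hjl u
      haveI := hWe u
      rw [← Category.assoc, ← Functor.map_comp, hι]
      exact repWith_etale_of_chart sqR hq hqs (j u) (W u) (hWs u)
  refine isAlgSpace_of_etale_atlas _ hetale (repWith_mk fun T g => ?_)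
  obtain ⟨VT, fT, d, sqT⟩ := exists_sq hetale.1 g
  obtain ⟨T', g', c, sqc⟩ := exists_sq hq.1 g
  refine ⟨VT, fT, d, sqT, ?_⟩
  have sqh : IsPullback ((yon S).map (pullback.fst J' t)) ((yon S).map (pullback.snd J' t ≫ s))
      ((yon S).map J' ≫ q) q := by
    rw [Functor.map_comp]
    exact ((IsPullback.of_hasPullback J' t).map (yon S)).paste_vert sqR
  obtain ⟨k, sqk⟩ := exists_comparison sqh sqT sqc
  haveI : Surjective (pullback.snd J' t ≫ s).left := by
    refine ⟨fun u => ?_⟩
    obtain ⟨w, -, hw⟩ := hWu u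
    let m : pullback (j u) t ⟶ pullback J' t :=
      pullback.lift (pullback.fst (j u) t ≫ ι' u) (pullback.snd (j u) t)
        (by rw [Category.assoc, hι]; exact pullback.condition)
    refine ⟨m.left w, ?_⟩
    rw [← Scheme.Hom.comp_apply, ← Over.comp_left, ← Category.assoc, pullback.lift_snd]
    exact hw
  have hb : Surjective (pullback.snd d c).left :=
    MorphismProperty.of_isPullback (P := @Surjective) (sqk.map (Over.forget S)) ‹_›
  have hc : Surjective c.left := hqs.2 _ _ _ sqc
  refine ⟨fun y => ?_⟩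
  obtain ⟨y', rfl⟩ := c.left.surjective y
  obtain ⟨z, rfl⟩ := (pullback.snd d c).left.surjective y'
  exact ⟨(pullback.fst d c).left z, by
    rw [← Scheme.Hom.comp_apply, ← Scheme.Hom.comp_apply, ← Over.comp_left, ← Over.comp_left,
      pullback.condition]⟩

end Groth.Agent.AlgSpc
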