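import Groth.Agent.AlgSpc.EtQuot
import Groth.Agent.AlgSpc.SpCoprod
import Groth.Agent.AlgSpc.LfpCancel
import Groth.Agent.FpqcDescent.Flat
import Mathlib.AlgebraicGeometry.Morphisms.FlatMono
import Mathlib.AlgebraicGeometry.Morphisms.Smooth

/-!
# Étale charts of a sheaf with a smooth atlas
-/

set_option autoImplicit false
set_option linter.style.haveILetI false
set_option linter.unusedSectionVars false
set_option backward.isDefEq.respectTransparency false

universe u

open CategoryTheory CategoryTheory.Limits AlgebraicGeometry Opposite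

namespace Groth.Agent.AlgSpc

open _root_.AlgSp

/-- descent of etaleness of `h` from an open piece of its base change along a smooth surjection -/
theorem etale_of_open_chart {X U R V V' : Scheme.{u}} (jV : V ⟶ X) (h : V ⟶ U) (s t : R ⟶ U)
    (n m : V' ⟶ V) (r : V' ⟶ R) (sqn : IsPullback n r h t) (sqm : IsPullback m r h s)
    (sqX : IsPullback m n jV jV) [Smooth s] [Smooth t] [LocallyOfFinitePresentation h]
    (W : V.Opens) [Etale (W.ι ≫ h)] (hW : ∀ v : V, ∃ w ∈ W, jV w = jV v) : Etale h := by
  let W' : V'.Opens := m ⁻¹ᵁ W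
  haveI hr : Etale (W'.ι ≫ r) :=
    MorphismProperty.of_isPullback (P := @Etale) ((isPullback_morphismRestrict m W).paste_vert sqm) ‹_›
  haveI : Smooth n := MorphismProperty.of_isPullback (P := @Smooth) sqn.flip ‹_›
  haveI : Surjective (W'.ι ≫ n) := by
    refine ⟨fun v => ?_⟩
    obtain ⟨w, hw, e⟩ := hW v
    obtain ⟨z, hz₁, hz₂⟩ := Scheme.Pullback.exists_preimage_pullback w v e
    refine ⟨⟨sqX.isoPullback.inv z, ?_⟩, ?_⟩
    · show m (sqX.isoPullback.inv z) ∈ W
      rw [← Scheme.Hom.comp_apply, sqX.isoPullback_inv_fst, hz₁]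
      exact hw
    · show n (sqX.isoPullback.inv z) = v
      rw [← Scheme.Hom.comp_apply, sqX.isoPullback_inv_snd, hz₂]
  haveI : Flat h := by
    haveI : Flat ((W'.ι ≫ n) ≫ h) := by
      rw [Category.assoc, sqn.w, ← Category.assoc]
      infer_instance
    exact FpqcDescent.flat_of_flat_comp (W'.ι ≫ n) h
  haveI : Flat (pullback.diagonal h) := by
    let D₁ := pullback (W'.ι ≫ r) r
    let m₁ : D₁ ⟶ pullback h h := pullback.lift (pullback.fst (W'.ι ≫ r) r ≫ W'.ι ≫ n)
      (pullback.snd (W'.ι ≫ r) r ≫ n) (by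
        simp only [Category.assoc, sqn.w]
        rw [← Category.assoc W'.ι, ← Category.assoc, pullback.condition, Category.assoc])
    have e₁ : m₁ ≫ pullback.fst h h = pullback.fst (W'.ι ≫ r) r ≫ W'.ι ≫ n := pullback.lift_fst _ _ _
    have e₂ : m₁ ≫ pullback.snd h h = pullback.snd (W'.ι ≫ r) r ≫ n := pullback.lift_snd _ _ _
    have sqD : IsPullback (pullback.fst (W'.ι ≫ r) r) m₁ (W'.ι ≫ n) (pullback.fst h h) := by
      have big : IsPullback (pullback.fst (W'.ι ≫ r) r) (m₁ ≫ pullback.snd h h) ((W'.ι ≫ n) ≫ h) h := by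
        have := (IsPullback.of_hasPullback (W'.ι ≫ r) r).paste_vert sqn.flip
        rw [Category.assoc W'.ι n h, sqn.w, ← Category.assoc W'.ι r t, e₂]
        exact this
      exact IsPullback.of_bot big e₁.symm (IsPullback.of_hasPullback h h)
    haveI : Flat m₁ := MorphismProperty.of_isPullback (P := @Flat) sqD inferInstance
    let d : W'.toScheme ⟶ D₁ := pullback.diagonal (W'.ι ≫ r) ≫
      pullback.map (W'.ι ≫ r) (W'.ι ≫ r) (W'.ι ≫ r) r (𝟙 _) W'.ι (𝟙 _) (by simp) (by simp)
    haveI : IsOpenImmersion (pullback.map (W'.ι ≫ r) (W'.ι ≫ r) (W'.ι ≫ r) r (𝟙 _) W'.ι (𝟙 _)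
        (by simp) (by simp)) :=
      MorphismProperty.pullbackMap (P := @IsOpenImmersion)
        (MorphismProperty.id_mem _ _) (inferInstanceAs (IsOpenImmersion W'.ι))
        (Category.id_comp _).symm rfl
    have hd : d ≫ m₁ = (W'.ι ≫ n) ≫ pullback.diagonal h := by
      apply pullback.hom_ext <;> simp [d, e₁, e₂]
    haveI : Flat ((W'.ι ≫ n) ≫ pullback.diagonal h) := hd ▸ inferInstance
    exact FpqcDescent.flat_of_flat_comp (W'.ι ≫ n) (pullback.diagonal h)
  haveI : LocallyOfFinitePresentation (pullback.diagonal h) := by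
    haveI : LocallyOfFinitePresentation (pullback.diagonal h ≫ pullback.fst h h) := by
      rw [pullback.diagonal_fst]; infer_instance
    exact lfp_of_comp _ (pullback.fst h h)
  haveI : IsOpenImmersion (pullback.diagonal h) := IsOpenImmersion.of_flat_of_mono _
  exact Etale.of_formallyUnramified_of_flat h

variable {S : Scheme.{u}}

theorem repWith_etale_of_chart {U R X : Over S} {F : Sp S} {q : (yon S).obj U ⟶ F} {s t : R ⟶ U}
    (sqR : IsPullback ((yon S).map t) ((yon S).map s) q q) (hq : RepWith @Smooth q)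
    (hqs : RepWith @Surjective q) (j : X ⟶ U) [LocallyOfFinitePresentation j.left]
    (W : (pullback j t).left.Opens) [Etale (W.ι ≫ (pullback.snd j t ≫ s).left)]
    (hW : ∀ x : ↥X.left, ∃ w ∈ W, (pullback.fst j t).left w = x) :
    RepWith @Etale ((yon S).map j ≫ q) := by
  have hs : Smooth s.left := hq.2 _ _ _ sqR
  have ht : Smooth t.left := hq.2 _ _ _ sqR.flip
  have sqh : IsPullback ((yon S).map (pullback.fst j t)) ((yon S).map (pullback.snd j t ≫ s))
      ((yon S).map j ≫ q) q := by
    rw [Functor.map_comp]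
    exact ((IsPullback.of_hasPullback j t).map (yon S)).paste_vert sqR
  set h : pullback j t ⟶ U := pullback.snd j t ≫ s with hdef
  haveI : LocallyOfFinitePresentation (pullback.snd j t).left :=
    MorphismProperty.of_isPullback (P := @LocallyOfFinitePresentation)
      ((IsPullback.of_hasPullback j t).map (Over.forget S)) ‹_›
  haveI : LocallyOfFinitePresentation h.left := by
    rw [hdef, Over.comp_left]
    infer_instance
  let n := pullback.fst h t
  let r := pullback.snd h t
  have s2 := (IsPullback.of_hasPullback h t).map (yon S)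
  have big := s2.paste_horiz sqh
  rw [sqR.w] at big
  let mY := sqh.lift ((yon S).map n ≫ (yon S).map (pullback.fst j t))
    ((yon S).map r ≫ (yon S).map s) (by rw [big.w, Category.assoc])
  have hm₁ : (yon S).map (pre mY) ≫ (yon S).map (pullback.fst j t) =
      (yon S).map n ≫ (yon S).map (pullback.fst j t) := by rw [map_pre]; exact sqh.lift_fst _ _ _
  have hm₂ : (yon S).map (pre mY) ≫ (yon S).map h = (yon S).map r ≫ (yon S).map s := by
    rw [map_pre]; exact sqh.lift_snd _ _ _
  rw [← hm₁] at big
  have sqm : IsPullback (pre mY) r h s := IsPullback.of_map (yon S)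
    ((yon S).map_injective (by simpa using hm₂)) (IsPullback.of_right big hm₂ sqh)
  have sqX : IsPullback (pre mY) n (pullback.fst j t) (pullback.fst j t) := by
    have big' := s2.flip.paste_horiz sqR.flip
    rw [← hm₂, ← sqh.w] at big'
    exact IsPullback.of_map (yon S) ((yon S).map_injective (by simpa using hm₁))
      (IsPullback.of_right big' hm₁ sqh.flip)
  haveI hh : Etale h.left := etale_of_open_chart (pullback.fst j t).left h.left s.left t.left n.left
    (pre mY).left r.left ((IsPullback.of_hasPullback h t).map (Over.forget S))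
    (sqm.map (Over.forget S)) (sqX.map (Over.forget S)) W fun v => hW _
  have hrep : Representable ((yon S).map j ≫ q) :=
    MorphismProperty.comp_mem _ _ _ (representable_yon_map j) hq.1
  refine repWith_mk fun T g => ?_
  obtain ⟨VT, fT, d, sqT⟩ := exists_sq hrep g
  obtain ⟨T', g', c, sqc⟩ := exists_sq hq.1 g
  refine ⟨VT, fT, d, sqT, ?_⟩
  have big2 := ((IsPullback.of_hasPullback d c).map (yon S)).paste_horiz sqT
  rw [← sqc.w] at big2
  let k := sqh.lift ((yon S).map (pullback.fst d c) ≫ fT) ((yon S).map (pullback.snd d c) ≫ g')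
    (by rw [big2.w, Category.assoc])
  have hk₁ : k ≫ (yon S).map (pullback.fst j t) = (yon S).map (pullback.fst d c) ≫ fT :=
    sqh.lift_fst _ _ _
  have hk₂ : k ≫ (yon S).map h = (yon S).map (pullback.snd d c) ≫ g' := sqh.lift_snd _ _ _
  rw [← hk₁] at big2
  have sqk := IsPullback.of_right big2 hk₂ sqh
  rw [← map_pre k, ← map_pre g'] at sqk
  have sqk' := (IsPullback.of_map (yon S) ((yon S).map_injective (by simpa using sqk.w)) sqk).map (Over.forget S)
  have hb : Etale (pullback.snd d c).left := MorphismProperty.of_isPullback (P := @Etale) sqk' hh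
  have hc₁ : Smooth c.left := hq.2 _ _ _ sqc
  have hc₂ : Surjective c.left := hqs.2 _ _ _ sqc
  haveI : Flat c.left := inferInstance
  haveI : LocallyOfFinitePresentation c.left := inferInstance
  exact MorphismProperty.of_isPullback_of_descendsAlong (P := @Etale)
    (Q := @Surjective ⊓ @Flat ⊓ @LocallyOfFinitePresentation)
    ((IsPullback.of_hasPullback d c).map (Over.forget S)).flip ⟨⟨hc₂, ‹Flat c.left›⟩, ‹LocallyOfFinitePresentation c.left›⟩ hb

end Groth.Agent.AlgSpc
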