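import Groth.Agent.AlgStB.SubstackPoints
import Groth.Agent.AlgStB.PointsSurj
import Groth.Agent.AlgStB.PointsMono
import Groth.Agent.AlgStB.LocQDescent
import Groth.Agent.AlgStB.LocQApps
import Groth.Agent.S10553
import Groth.Agent.AlgSpLoc.Inst2

/-!
# The smooth locus of a morphism of algebraic stacks
-/

set_option autoImplicit false
set_option backward.isDefEq.respectTransparency false
set_option backward.isDefEq.respectTransparency.types false

universe u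

open CategoryTheory CategoryTheory.Limits AlgebraicGeometry Opposite

namespace Groth.Agent.AlgStB

open _root_.AlgSt (Points FPt)
open _root_.AlgSp (Sp Space LocP IsSurjectiveMor IsAlgSpace yon RepWith IsSmoothLocalST)

variable {S : Scheme.{u}} {𝒜 𝒳 𝒴 : AlgSt.Cat S}

theorem isSmoothLocalST_smooth : IsSmoothLocalST (S := S) (LocP @Smooth) :=
  Groth.Agent.S10567.result _
    (fun _ _ Xi g hX hXi hc => Groth.Agent.S10553.result S Xi g hX hXi hc)
    (fun _ _ Yi g hY hYi hc => AlgSpLoc.isLocalOnBase_smooth Yi g hY hYi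
      (isFpqcCover_of_isSmCover hY hYi hc))
    (fun X Y Z f g hf hg => AlgSpc.locP_comp X.property Y.property Z.property hf hg)

/-- The points of an image object are images of points. -/
theorem objPts_map_subset (h𝒜 : FibCat.IsFibGrpd 𝒜.p) (h𝒳 : FibCat.IsFibGrpd 𝒳.p) (F : 𝒜 ⥤ᵇ 𝒳)
    (a : 𝒜.obj) : objPts (F.obj a) ⊆ Set.range (Points.map F) := by
  rintro _ ⟨r, m, rfl⟩
  let f := eqToHom r.lies.symm ≫ 𝒳.p.map m ≫ eqToHom (F.w_obj a)
  obtain ⟨a', φ, hφ⟩ := Fib.exists_lift 𝒜.p h𝒜 (x := a) rfl f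
  have h₀ : 𝒜.p.obj a' = Over.mk r.str := IsHomLift.domain_eq 𝒜.p f φ
  have hFφ : 𝒳.p.IsHomLift f (F.map φ) := BasedFunctor.preserves_isHomLift F f φ
  have hm : 𝒳.p.IsHomLift f m := IsHomLift.of_fac' _ _ _ r.lies (F.w_obj a) (by simp [f])
  have := Fib.isStronglyCartesian_of_isFibGrpd 𝒳.p h𝒳 f m
  exact ⟨Points.mk ⟨r.K, r.str, a', h₀⟩, mk_eq_of_hom (q := r) (Functor.IsCartesian.map 𝒳.p f m (F.map φ))⟩

theorem range_map_eq_range_ofChart {U : Over S} (x : FibCat.overCat U ⥤ᵇ 𝒳) :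
    Set.range (Points.map x) = Set.range (Points.ofChart x) := by
  ext z
  constructor
  · rintro ⟨w, rfl⟩
    exact ⟨schPt U w, by rw [ofChart_eq_map, schMk_schPt]⟩
  · rintro ⟨t, rfl⟩
    exact ⟨schMk U t, (ofChart_eq_map _ _).symm⟩

/-- Cancelling a fully faithful functor on the target. -/
theorem repByAlgSpWith_of_postcomp {P : MorphismProperty (Sp S)} {ℬ 𝒞 : AlgSt.Cat S} (a : 𝒜 ⥤ᵇ ℬ)
    (ν : ℬ ⥤ᵇ 𝒞) [ν.toFunctor.Full] [ν.toFunctor.Faithful]
    (h : AlgSt.RepByAlgSpWith P (BasedFunctor.comp a ν)) : AlgSt.RepByAlgSpWith P a :=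
  repByAlgSpWith_transfer' (fun _ y' => ⟨BasedFunctor.comp y' ν,
    Fib.fpMap (BasedFunctor.id _) (BasedFunctor.id _) ν (F' := y') (G' := a)
      (F := BasedFunctor.comp y' ν) (G := BasedFunctor.comp a ν) (Iso.refl _) (Iso.refl _),
    Fib.isEquivOver_fpMap _ _ _ _ _ (Fib.isEquivOver_id _) (Fib.isEquivOver_id _),
    ⟨eqToIso rfl⟩⟩) h

variable (Q : 𝒳.obj → Prop) {f : 𝒳 ⥤ᵇ 𝒴} {V : Over S} (y : FibCat.overCat V ⥤ᵇ 𝒴)

/-- The base change of a full subcategory in the base change. -/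
def subBC (f : 𝒳 ⥤ᵇ 𝒴) : FibCat.fp (BasedFunctor.comp (AlgSt.subIncl 𝒳 Q) f) y ⥤ᵇ FibCat.fp f y :=
  FibCat.fpLift (BasedFunctor.comp (FibCat.fpFst _ y) (AlgSt.subIncl 𝒳 Q)) (FibCat.fpSnd _ y)
    (FibCat.fpIso _ y)

theorem full_subBC : (subBC Q y f).toFunctor.Full := ⟨fun {a b} m => by
  let m₁ : a.obj.fst ⟶ b.obj.fst := ObjectProperty.homMk m.hom.fst
  refine ⟨Fib.fpHomMk (a := a) (b := b) m₁ m.hom.snd m.hom.w, Fib.fp_hom_ext rfl rfl⟩⟩

theorem faithful_subBC : (subBC Q y f).toFunctor.Faithful := ⟨fun {a b} s t h => by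
  refine Fib.fp_hom_ext (ObjectProperty.hom_ext _ ?_) ?_
  · exact congrArg (fun m : (subBC Q y f).obj a ⟶ (subBC Q y f).obj b => m.hom.fst) h
  · exact congrArg (fun m : (subBC Q y f).obj a ⟶ (subBC Q y f).obj b => m.hom.snd) h⟩

/-- A smooth chart square restricts to an open substack. -/
theorem exists_restrict_square (h𝒳 : AlgSt.IsAlgStack Scheme.fppfPrecoverage 𝒳)
    {W : Set (Points 𝒳)} (hW : IsOpen W) {U : Over S} (x : FibCat.overCat U ⥤ᵇ 𝒳) (h : U ⟶ V)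
    (α : BasedFunctor.comp x f ≅ BasedFunctor.comp (AlgSt.overMap h) y)
    (hx : AlgSt.RepByAlgSpWith (LocP @Smooth) x)
    (hL : AlgSt.RepByAlgSpWith (LocP @Smooth) (FibCat.fpLift x (AlgSt.overMap h) α)) :
    ∃ (U' : Over S) (j : U' ⟶ U)
      (x' : FibCat.overCat U' ⥤ᵇ AlgSt.fullSub 𝒳 (fun b => objPts b ⊆ W))
      (α' : BasedFunctor.comp x' (BasedFunctor.comp (AlgSt.subIncl 𝒳 _) f) ≅
        BasedFunctor.comp (AlgSt.overMap (j ≫ h)) y),
      IsOpenImmersion j.left ∧ Set.range j.left = Points.ofChart x ⁻¹' W ∧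
      BasedFunctor.comp x' (AlgSt.subIncl 𝒳 _) = BasedFunctor.comp (AlgSt.overMap j) x ∧
      AlgSt.RepByAlgSpWith (LocP @Smooth) x' ∧
      AlgSt.RepByAlgSpWith (LocP @Smooth) (FibCat.fpLift x' (AlgSt.overMap (j ≫ h)) α') := by
  let Q : 𝒳.obj → Prop := fun b => objPts b ⊆ W
  let O : U.left.Opens := ⟨Points.ofChart x ⁻¹' W, hW.preimage
    (continuous_ofChart h𝒳.isStack.1 h𝒳.atlas x)⟩
  let U' : Over S := Over.mk (Scheme.Opens.ι O ≫ U.hom)
  let j : U' ⟶ U := Over.homMk (Scheme.Opens.ι O) rfl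
  have : IsOpenImmersion j.left := inferInstanceAs (IsOpenImmersion (Scheme.Opens.ι O))
  have hj : Set.range j.left = Points.ofChart x ⁻¹' W := Scheme.Opens.range_ι O
  have hmem : ∀ g, Q ((BasedFunctor.comp (AlgSt.overMap j) x).obj g) := fun g =>
    (objPts_map_subset (Fib.isFibGrpd_overCat U') h𝒳.isStack.1 _ g).trans (by
      rw [range_map_eq_range_ofChart]
      rintro _ ⟨t, rfl⟩
      rw [ofChart_comp_overMap]
      exact hj.le ⟨t, rfl⟩)
  let x' : FibCat.overCat U' ⥤ᵇ AlgSt.fullSub 𝒳 Q :=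
    { toFunctor := ObjectProperty.lift Q ((AlgSt.overMap j).toFunctor ⋙ x.toFunctor) hmem
      w := (BasedFunctor.comp (AlgSt.overMap j) x).w }
  let α' : BasedFunctor.comp x' (BasedFunctor.comp (AlgSt.subIncl 𝒳 Q) f) ≅
      BasedFunctor.comp (AlgSt.overMap (j ≫ h)) y :=
    Fib.isoWhiskerLeft (AlgSt.overMap j) α ≪≫ Fib.isoWhiskerRight (overMapComp j h) y
  have hsm : Smooth j.left := inferInstance
  have : (AlgSt.subIncl 𝒳 Q).toFunctor.Full := ObjectProperty.full_ι Q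
  have : (AlgSt.subIncl 𝒳 Q).toFunctor.Faithful := ObjectProperty.faithful_ι Q
  have := full_subBC Q y (f := f)
  have := faithful_subBC Q y (f := f)
  refine ⟨U', j, x', α', inferInstance, hj, rfl, repByAlgSpWith_of_postcomp x' (AlgSt.subIncl 𝒳 Q)
    (repByAlgSpWith_comp' (Fib.isFibGrpd_overCat U') (Fib.isFibGrpd_overCat U) respectsSrcIso_locP
      hc_locP (repByAlgSpWith_overMap (P := @Smooth) j hsm) hx), ?_⟩
  refine repByAlgSpWith_of_postcomp _ (subBC Q y f) (repByAlgSpWith_of_iso ?_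
    (repByAlgSpWith_comp' (Fib.isFibGrpd_overCat U') (Fib.isFibGrpd_overCat U) respectsSrcIso_locP
      hc_locP (repByAlgSpWith_overMap (P := @Smooth) j hsm) hL))
  exact Fib.isoMk (fun g => Fib.fpIsoMk (Iso.refl _) (Fib.appIso (overMapComp j h) g) (by
      change f.map (𝟙 _) ≫ α'.hom.toNatTrans.app g =
        α.hom.toNatTrans.app ((AlgSt.overMap j).obj g) ≫ y.map (Fib.appIso (overMapComp j h) g).hom
      rw [CategoryTheory.Functor.map_id, Category.id_comp]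
      rfl))
    (fun φ => Fib.fp_hom_ext ((Category.comp_id _).trans (Category.id_comp _).symm)
      (Fib.appIso_natural (overMapComp j h) φ))
    (fun g => Fib.fp_iso_isHomLift_id _ (IsHomLift.id (x.w_obj _)))

theorem subset_smoothLocus {Q' : 𝒳.obj → Prop} (h𝒳 : AlgSt.IsAlgStack Scheme.fppfPrecoverage 𝒳)
    (hQ' : AlgSt.IsOpenSubstack 𝒳 Q' Scheme.fppfPrecoverage) :
    Q' = fun b => objPts b ⊆ Set.range (Points.map (AlgSt.subIncl 𝒳 Q')) :=
  funext fun b => propext (openSubstack_iff h𝒳.isStack.1 hQ' b)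

/-- Smoothness on an open substack read on a chart square. -/
theorem smooth_restrict (h𝒳 : AlgSt.IsAlgStack Scheme.fppfPrecoverage 𝒳)
    (h𝒴 : AlgSt.IsAlgStack Scheme.fppfPrecoverage 𝒴) {W : Set (Points 𝒳)} (hW : IsOpen W)
    (hf : AlgSt.LocQ (LocP @Smooth)
      (BasedFunctor.comp (AlgSt.subIncl 𝒳 fun b => objPts b ⊆ W) f))
    (hy : AlgSt.RepByAlgSpWith (LocP @Smooth) y)
    {U : Over S} (x : FibCat.overCat U ⥤ᵇ 𝒳) (k : U ⟶ V)
    (α : BasedFunctor.comp x f ≅ BasedFunctor.comp (AlgSt.overMap k) y)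
    (hx : AlgSt.RepByAlgSpWith (LocP @Smooth) x)
    (hL : AlgSt.RepByAlgSpWith (LocP @Smooth) (FibCat.fpLift x (AlgSt.overMap k) α))
    {T : Scheme.{u}} (m : T ⟶ U.left) [IsOpenImmersion m]
    (hm : Set.range m ⊆ Points.ofChart x ⁻¹' W) : Smooth (m ≫ k.left) := by
  obtain ⟨U', j, x', α', hj, hjr, -, -, hL'⟩ := exists_restrict_square y h𝒳 hW x k α hx hL
  have hsm : Smooth (j ≫ k).left := _root_.AlgSp.locP_yon_map (prop_of_locQ
    (isOpenSubstack_objPts h𝒳 hW).2.1 h𝒴 isSmoothLocalST_smooth hf x' y (j ≫ k) α' hy hL')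
  have hr : Set.range m ⊆ Set.range j.left := hm.trans hjr.ge
  have e := IsOpenImmersion.lift_fac j.left m hr
  have : IsOpenImmersion (IsOpenImmersion.lift j.left m hr) := by
    have : IsOpenImmersion (IsOpenImmersion.lift j.left m hr ≫ j.left) := by
      rw [e]; infer_instance
    exact IsOpenImmersion.of_comp _ j.left
  rw [← e, Category.assoc]
  exact MorphismProperty.comp_mem @Smooth _ _ (inferInstance) hsm

/-- A morphism is smooth on an open substack when it is so on a chart square. -/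
theorem locQ_smooth_of_restrict (h𝒳 : AlgSt.IsAlgStack Scheme.fppfPrecoverage 𝒳)
    {W : Set (Points 𝒳)} (hW : IsOpen W)
    {U : Over S} (x : FibCat.overCat U ⥤ᵇ 𝒳) (k : U ⟶ V)
    (α : BasedFunctor.comp x f ≅ BasedFunctor.comp (AlgSt.overMap k) y)
    (hy : AlgSt.RepByAlgSpWith (LocP @Smooth) y)
    (hx : SmSurj x)
    (hL : AlgSt.RepByAlgSpWith (LocP @Smooth) (FibCat.fpLift x (AlgSt.overMap k) α))
    (H : ∀ {T : Scheme.{u}} (m : T ⟶ U.left) [IsOpenImmersion m],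
      Set.range m ⊆ Points.ofChart x ⁻¹' W → Smooth (m ≫ k.left)) :
    AlgSt.LocQ (LocP @Smooth)
      (BasedFunctor.comp (AlgSt.subIncl 𝒳 fun b => objPts b ⊆ W) f) := by
  obtain ⟨U', j, x', α', hj, hjr, hxj, hx', -⟩ := exists_restrict_square y h𝒳 hW x k α hx.1 hL
  have hQ := isOpenSubstack_objPts h𝒳 hW
  have hs : AlgSt.IsSurjective x' := by
    intro z
    have hz : Points.map (AlgSt.subIncl 𝒳 _) z ∈ W := (range_objPts _).le ⟨z, rfl⟩
    obtain ⟨t, ht⟩ := surjective_ofChart h𝒳.isStack.1 x hx.2 (Points.map (AlgSt.subIncl 𝒳 _) z)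
    have ht' : Points.ofChart x t ∈ W := ht ▸ hz
    obtain ⟨t', rfl⟩ := hjr.ge ht'
    refine ⟨schMk U' t', injective_map_of_full hQ.2.1.isStack.1 h𝒳.isStack.1
      (AlgSt.subIncl 𝒳 (fun b => objPts b ⊆ W))
      (ObjectProperty.full_ι (fun b : 𝒳.obj => objPts b ⊆ W)) ?_⟩
    rw [← map_comp_apply, hxj, ← ofChart_eq_map, ofChart_comp_overMap, ht]
  exact ⟨U', V, x', y, j ≫ k, α', hx', repWith_surjective_of_isSurjective (Fib.isFibGrpd_overCat U')
    hQ.2.1.isStack.1 x' (repByAlgSp1_of_with hx') hs, hy, locP_yon_of (H j.left hjr.le)⟩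

/-- The union of opens on which a morphism is smooth. -/
theorem locQ_smooth_iUnion (h𝒳 : AlgSt.IsAlgStack Scheme.fppfPrecoverage 𝒳)
    (h𝒴 : AlgSt.IsAlgStack Scheme.fppfPrecoverage 𝒴) (f : 𝒳 ⥤ᵇ 𝒴) {ι : Type*}
    (W : ι → Set (Points 𝒳)) (hW : ∀ i, IsOpen (W i))
    (h : ∀ i, AlgSt.LocQ (LocP @Smooth)
      (BasedFunctor.comp (AlgSt.subIncl 𝒳 fun b => objPts b ⊆ W i) f)) :
    AlgSt.LocQ (LocP @Smooth)
      (BasedFunctor.comp (AlgSt.subIncl 𝒳 fun b => objPts b ⊆ ⋃ i, W i) f) := by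
  obtain ⟨V, y, hy, hys⟩ := h𝒴.atlas
  obtain ⟨U, x, k, α, hx, hxs, hL, -⟩ := exists_chart_square h𝒳 h𝒴 f y hy
  refine locQ_smooth_of_restrict y h𝒳 (isOpen_iUnion hW) x k α hy ⟨hx, hxs hys⟩ hL
    fun {T} m _ hm => ?_
  let O : ι → T.Opens := fun i => m ⁻¹ᵁ
    ⟨Points.ofChart x ⁻¹' W i, (hW i).preimage (continuous_ofChart h𝒳.isStack.1 h𝒳.atlas x)⟩
  refine IsZariskiLocalAtSource.of_openCover (P := @Smooth) (T.openCoverOfIsOpenCover O
    (TopologicalSpace.IsOpenCover.mk (TopologicalSpace.Opens.ext (Set.eq_univ_of_forall fun t => by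
      have : Points.ofChart x (m t) ∈ ⋃ i, W i := hm ⟨t, rfl⟩
      rw [Set.mem_iUnion] at this
      obtain ⟨i, hi⟩ := this
      simp only [TopologicalSpace.Opens.coe_iSup, Set.mem_iUnion]
      exact ⟨i, hi⟩)))) fun i => ?_
  change Smooth (Scheme.Opens.ι (O i) ≫ m ≫ k.left)
  rw [← Category.assoc]
  exact smooth_restrict y h𝒳 h𝒴 (hW i) (h i) hy x k α hx hL _ (by
    rintro _ ⟨t, rfl⟩
    exact t.property)

/-- The largest open substack on which a morphism is smooth. -/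
theorem exists_largest_smooth (h𝒳 : AlgSt.IsAlgStack Scheme.fppfPrecoverage 𝒳)
    (h𝒴 : AlgSt.IsAlgStack Scheme.fppfPrecoverage 𝒴) (f : 𝒳 ⥤ᵇ 𝒴) :
    ∃ Q : 𝒳.obj → Prop, AlgSt.IsOpenSubstack 𝒳 Q Scheme.fppfPrecoverage ∧
      AlgSt.LocQ (LocP @Smooth) (BasedFunctor.comp (AlgSt.subIncl 𝒳 Q) f) ∧
      ∀ Q' : 𝒳.obj → Prop, AlgSt.IsOpenSubstack 𝒳 Q' Scheme.fppfPrecoverage →
        AlgSt.LocQ (LocP @Smooth) (BasedFunctor.comp (AlgSt.subIncl 𝒳 Q') f) → ∀ a, Q' a → Q a := by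
  let ι := {W : Set (Points 𝒳) // IsOpen W ∧ AlgSt.LocQ (LocP @Smooth)
    (BasedFunctor.comp (AlgSt.subIncl 𝒳 fun b => objPts b ⊆ W) f)}
  refine ⟨fun b => objPts b ⊆ ⋃ i : ι, i.1, isOpenSubstack_objPts h𝒳 (isOpen_iUnion fun i => i.2.1),
    locQ_smooth_iUnion h𝒳 h𝒴 f (fun i : ι => i.1) (fun i => i.2.1) (fun i => i.2.2), ?_⟩
  intro Q' hQ' hs a ha
  rw [subset_smoothLocus h𝒳 hQ'] at hs
  exact (objPts_subset_range h𝒳.isStack.1 hQ' ha).trans
    (Set.subset_iUnion (fun i : ι => i.1) ⟨_, isOpen_range h𝒳.isStack.1 hQ', hs⟩)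

theorem objPts_map_iff {𝒳' : AlgSt.Cat S} (h𝒳' : FibCat.IsFibGrpd 𝒳'.p)
    (h𝒳 : FibCat.IsFibGrpd 𝒳.p) (g : 𝒳' ⥤ᵇ 𝒳) (a : 𝒳'.obj) (W : Set (Points 𝒳)) :
    objPts (g.obj a) ⊆ W ↔ objPts a ⊆ Points.map g ⁻¹' W := by
  constructor
  · rintro h _ ⟨r, m, rfl⟩
    exact h ⟨r.map g, g.map m, rfl⟩
  · rintro h _ ⟨r, m, rfl⟩
    let f := eqToHom r.lies.symm ≫ 𝒳.p.map m ≫ eqToHom (g.w_obj a)
    obtain ⟨a', φ, hφ⟩ := Fib.exists_lift 𝒳'.p h𝒳' (x := a) rfl f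
    have h₀ : 𝒳'.p.obj a' = Over.mk r.str := IsHomLift.domain_eq 𝒳'.p f φ
    have hFφ : 𝒳.p.IsHomLift f (g.map φ) := BasedFunctor.preserves_isHomLift g f φ
    have hm : 𝒳.p.IsHomLift f m := IsHomLift.of_fac' _ _ _ r.lies (g.w_obj a) (by simp [f])
    have := Fib.isStronglyCartesian_of_isFibGrpd 𝒳.p h𝒳 f m
    have e := mk_eq_of_hom (p := (⟨r.K, r.str, a', h₀⟩ : FPt 𝒳').map g) (q := r)
      (Functor.IsCartesian.map 𝒳.p f m (g.map φ))
    exact e ▸ h ⟨⟨r.K, r.str, a', h₀⟩, φ, rfl⟩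

/-- The smooth locus commutes with smooth precomposition. -/
theorem largest_smooth_comp {𝒳' : AlgSt.Cat S}
    (h𝒳' : AlgSt.IsAlgStack Scheme.fppfPrecoverage 𝒳')
    (h𝒳 : AlgSt.IsAlgStack Scheme.fppfPrecoverage 𝒳)
    (h𝒴 : AlgSt.IsAlgStack Scheme.fppfPrecoverage 𝒴)
    (g : 𝒳' ⥤ᵇ 𝒳) (hg : AlgSt.LocQ (LocP @Smooth) g) (f : 𝒳 ⥤ᵇ 𝒴) (Q : 𝒳.obj → Prop)
    (hQ₁ : AlgSt.IsOpenSubstack 𝒳 Q Scheme.fppfPrecoverage)
    (hQ₂ : AlgSt.LocQ (LocP @Smooth) (BasedFunctor.comp (AlgSt.subIncl 𝒳 Q) f))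
    (hQ₃ : ∀ Q' : 𝒳.obj → Prop, AlgSt.IsOpenSubstack 𝒳 Q' Scheme.fppfPrecoverage →
      AlgSt.LocQ (LocP @Smooth) (BasedFunctor.comp (AlgSt.subIncl 𝒳 Q') f) → ∀ a, Q' a → Q a) :
    AlgSt.IsOpenSubstack 𝒳' (fun a ↦ Q (g.obj a)) Scheme.fppfPrecoverage ∧
      AlgSt.LocQ (LocP @Smooth)
        (BasedFunctor.comp (AlgSt.subIncl 𝒳' (fun a ↦ Q (g.obj a))) (BasedFunctor.comp g f)) ∧
      ∀ Q' : 𝒳'.obj → Prop, AlgSt.IsOpenSubstack 𝒳' Q' Scheme.fppfPrecoverage →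
        AlgSt.LocQ (LocP @Smooth)
          (BasedFunctor.comp (AlgSt.subIncl 𝒳' Q') (BasedFunctor.comp g f)) →
        ∀ a, Q' a → Q (g.obj a) := by
  let W := Set.range (Points.map (AlgSt.subIncl 𝒳 Q))
  have hW : IsOpen W := isOpen_range h𝒳.isStack.1 hQ₁
  have hW' : IsOpen (Points.map g ⁻¹' W) :=
    hW.preimage (continuous_map h𝒳.isStack.1 h𝒳.atlas g)
  have hQg : (fun a => Q (g.obj a)) = fun a => objPts a ⊆ Points.map g ⁻¹' W :=
    funext fun a => propext ((openSubstack_iff h𝒳.isStack.1 hQ₁ _).trans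
      (objPts_map_iff h𝒳'.isStack.1 h𝒳.isStack.1 g a W))
  rw [subset_smoothLocus h𝒳 hQ₁] at hQ₂
  obtain ⟨V, z, hz, hzs⟩ := h𝒴.atlas
  obtain ⟨U₁, U, x₁, x, h, k, α, β, γ, hx₁, hx, hLg, hLf, hL⟩ :=
    exists_comp_square h𝒳' h𝒳 h𝒴 g f z hz hzs
  have hh : Smooth h.left := _root_.AlgSp.locP_yon_map
    (prop_of_locQ h𝒳' h𝒳 isSmoothLocalST_smooth hg x₁ x h α hx.1 hLg.1)
  have key : ∀ t, Points.map g (Points.ofChart x₁ t) = Points.ofChart x (h.left t) := fun t => by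
    rw [← ofChart_comp_overMap, ofChart_eq_map, ofChart_eq_map, ← map_comp_apply, map_congr α]
  let O : Set (Points 𝒳) → U₁.left.Opens := fun A =>
    ⟨interior (Points.ofChart x₁ ⁻¹' (Points.map g ⁻¹' A)), isOpen_interior⟩
  refine ⟨?_, ?_, ?_⟩
  · rw [hQg]
    exact isOpenSubstack_objPts h𝒳' hW'
  · rw [hQg]
    refine locQ_smooth_of_restrict z h𝒳' hW' x₁ (h ≫ k) γ hz hx₁ hL.1 fun {T} m _ hm => ?_
    let P : U.left.Opens := ⟨Points.ofChart x ⁻¹' W,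
      hW.preimage (continuous_ofChart h𝒳.isStack.1 h𝒳.atlas x)⟩
    have hr : Set.range (m ≫ h.left) ⊆ Set.range (Scheme.Opens.ι P) := by
      rintro _ ⟨t, rfl⟩
      rw [Scheme.Opens.range_ι]
      change Points.ofChart x (h.left (m t)) ∈ W
      rw [← key]
      exact hm ⟨t, rfl⟩
    have hP : Smooth (Scheme.Opens.ι P ≫ k.left) :=
      smooth_restrict z h𝒳 h𝒴 hW hQ₂ hz x k β hx.1 hLf.1 _ (Scheme.Opens.range_ι P).le
    have : Smooth (IsOpenImmersion.lift (Scheme.Opens.ι P) (m ≫ h.left) hr) :=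
      MorphismProperty.of_postcomp (W := @Smooth) (W' := @IsOpenImmersion) _ (Scheme.Opens.ι P)
        inferInstance (by
          rw [IsOpenImmersion.lift_fac]
          exact MorphismProperty.comp_mem @Smooth _ _ inferInstance hh)
    have h' := MorphismProperty.comp_mem @Smooth _ _ this hP
    rw [IsOpenImmersion.lift_fac_assoc] at h'
    simpa using h'
  · intro Q' hQ' hs a ha
    let W₁ := Set.range (Points.map (AlgSt.subIncl 𝒳' Q'))
    have hW₁ : IsOpen W₁ := isOpen_range h𝒳'.isStack.1 hQ'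
    rw [subset_smoothLocus h𝒳' hQ'] at hs
    let A := Points.map g '' W₁
    have hA : IsOpen A := isOpenMor_of_flat_lfp h𝒳' h𝒳 (LocQ.mono (fun _ _ _ h =>
      AlgSpc.locP_mono smooth_le_flat h) hg) (LocQ.mono (fun _ _ _ h =>
      AlgSpc.locP_mono smooth_le_lfp h) hg) W₁ hW₁
    have hsA : AlgSt.LocQ (LocP @Smooth)
        (BasedFunctor.comp (AlgSt.subIncl 𝒳 fun b => objPts b ⊆ A) f) := by
      refine locQ_smooth_of_restrict z h𝒳 hA x k β hz hx hLf.1 fun {T} m _ hm => ?_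
      let P₁ : U₁.left.Opens := ⟨Points.ofChart x₁ ⁻¹' W₁ ∩ h.left ⁻¹' Set.range m,
        (hW₁.preimage (continuous_ofChart h𝒳'.isStack.1 h𝒳'.atlas x₁)).inter
          (m.isOpenEmbedding.isOpen_range.preimage h.left.continuous)⟩
      have hP : Smooth (Scheme.Opens.ι P₁ ≫ (h ≫ k).left) :=
        smooth_restrict z h𝒳' h𝒴 hW₁ hs hz x₁ (h ≫ k) γ hx₁.1 hL.1 _ (by
          rw [Scheme.Opens.range_ι]
          exact Set.inter_subset_left)
      have hr : Set.range (Scheme.Opens.ι P₁ ≫ h.left) ⊆ Set.range m := by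
        rintro _ ⟨t, rfl⟩
        exact t.property.2
      let l := IsOpenImmersion.lift m (Scheme.Opens.ι P₁ ≫ h.left) hr
      have hl : Smooth l := MorphismProperty.of_postcomp (W := @Smooth) (W' := @IsOpenImmersion)
        l m inferInstance (by
          rw [IsOpenImmersion.lift_fac]
          exact MorphismProperty.comp_mem @Smooth _ _ inferInstance hh)
      have : Surjective l := ⟨fun t => by
        obtain ⟨w, hw, hwg⟩ : Points.ofChart x (m t) ∈ A := hm ⟨t, rfl⟩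
        have hU := Fib.isFibGrpd_overCat U
        obtain ⟨p, hp₁, hp₂⟩ := exists_point_fp hU h𝒳.isStack.1 h𝒳'.isStack.1 x g w (schMk U (m t))
          (by rw [hwg, ofChart_eq_map])
        obtain ⟨q, rfl⟩ := isSurjective_of_repWith (Fib.isFibGrpd_overCat U₁)
          (Fib.isFibGrpd_fp g x h𝒳'.isStack.1 hU h𝒳.isStack.1)
          (FibCat.fpLift x₁ (AlgSt.overMap h) α) hLg.2 p
        have h₁ : Points.ofChart x₁ (schPt U₁ q) = w := by
          rw [ofChart_eq_map, schMk_schPt, ← hp₁, ← map_comp_apply]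
          rfl
        have h₂ : h.left (schPt U₁ q) = m t := by
          rw [← schPt_map_overMap, ← schPt_schMk U (m t), ← hp₂, ← map_comp_apply]
          rfl
        refine ⟨⟨schPt U₁ q, (congrArg (· ∈ W₁) h₁).mpr hw, t, h₂.symm⟩, m.isOpenEmbedding.injective ?_⟩
        rw [← Scheme.Hom.comp_apply, IsOpenImmersion.lift_fac]
        exact h₂⟩
      have : Smooth (l ≫ m ≫ k.left) := by
        rw [IsOpenImmersion.lift_fac_assoc]
        simpa using hP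
      exact SmoothDesc.smooth_of_fppf_comp l (m ≫ k.left)
    refine hQ₃ _ (isOpenSubstack_objPts h𝒳 hA) hsA _ ?_
    rw [objPts_map_iff h𝒳'.isStack.1 h𝒳.isStack.1]
    exact (objPts_subset_range h𝒳'.isStack.1 hQ' ha).trans (Set.subset_preimage_image _ _)

end Groth.Agent.AlgStB
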