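import Groth.Agent.AlgStB.LocQ
import Groth.Agent.AlgStB.PointsQC
import Groth.Agent.AlgStB.Comp
import Groth.Agent.AlgSpc.EtLocInst
import Groth.Agent.AlgSpc.Compact

/-!
# Properties local on the source, charts by algebraic spaces
-/

set_option autoImplicit false
set_option backward.isDefEq.respectTransparency false
set_option backward.isDefEq.respectTransparency.types false

universe u

open CategoryTheory CategoryTheory.Limits AlgebraicGeometry Opposite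

namespace Groth.Agent.AlgStB

open _root_.AlgSt (FPt Points)
open _root_.AlgSp (Sp LocP IsAlgSpace IsSurjectiveMor IsEtaleMor IsQuasiCompactSp EtaleLocally
  IsLocalOnSource IsCover IsEtCover IsSmCover IsFppfCover yon RepWith Space repWith_yon_map_iff)

noncomputable section

variable {S : Scheme.{u}} {𝒳 𝒴 𝒵 : AlgSt.Cat S}

/-- Cancellation of a surjection for a property local on the source. -/
theorem repByAlgSpWith_of_comp_source {P : MorphismProperty (Sp S)} {C : MorphismProperty (Sp S)}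
    (hi : RespectsSrcIso P) (hiC : RespectsSrcIso C)
    (hC : ∀ ⦃X Y : Sp S⦄, IsAlgSpace X → IsAlgSpace Y → ∀ (a : X ⟶ Y),
      (∀ (T : Over S) (p : (yon S).obj T ⟶ Y), C (pullback.snd a p)) → C a)
    (hP : IsLocalOnSource (fun {_ _} Y g => IsCover C Y g) P)
    (h𝒳 : FibCat.IsFibGrpd 𝒳.p) (h𝒴 : FibCat.IsFibGrpd 𝒴.p) {x : 𝒳 ⥤ᵇ 𝒴} {y : 𝒴 ⥤ᵇ 𝒵}
    (hy : AlgSt.RepByAlgSp1 y) (hx : AlgSt.RepByAlgSpWith C x)
    (hxs : AlgSt.RepByAlgSpWith IsSurjectiveMor x)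
    (h : AlgSt.RepByAlgSpWith P (BasedFunctor.comp x y)) : AlgSt.RepByAlgSpWith P y := by
  intro U z
  obtain ⟨F₁, e₁, he₁⟩ := hy U z
  obtain ⟨W, e₂, π, he₂, ⟨k⟩, hπ⟩ :=
    exists_fp_ofSp' h𝒳 h𝒴 hiC hx F₁.property (BasedFunctor.comp e₁ (FibCat.fpSnd z y))
  obtain ⟨W', e₂', π', he₂', ⟨k'⟩, hπ'⟩ := exists_fp_ofSp' h𝒳 h𝒴 respectsSrcIso_isSurjectiveMor hxs
    F₁.property (BasedFunctor.comp e₁ (FibCat.fpSnd z y))
  obtain ⟨_, _⟩ := id_full_faithful 𝒴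
  let M := Fib.fpMap e₁ (BasedFunctor.id 𝒳) (BasedFunctor.id 𝒴)
      (F' := BasedFunctor.comp e₁ (FibCat.fpSnd z y)) (G' := x) (F := FibCat.fpSnd z y) (G := x)
      (Iso.refl _) (Iso.refl _)
  let e : AlgSt.ofSp W.obj ⥤ᵇ FibCat.fp z (BasedFunctor.comp x y) :=
    BasedFunctor.comp e₂ (BasedFunctor.comp M (Fib.fpAssoc z y x))
  have he : FibCat.IsEquivOver e := Fib.isEquivOver_comp he₂ (Fib.isEquivOver_comp
      (Fib.isEquivOver_fpMap _ _ _ _ _ he₁ (Fib.isEquivOver_id _))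
      (Fib.isEquivOver_fpAssoc z y x))
  let φ := AlgSt.spMapOfOver (BasedFunctor.comp e₁ (FibCat.fpFst z y))
  refine ⟨F₁, e₁, he₁, ?_⟩
  -- the composite has the property
  obtain ⟨G, e₃, he₃, hG⟩ := h U z
  obtain ⟨i, ⟨j⟩⟩ := exists_iso_of_reps e e₃ he he₃
  have hcomp : P (π ≫ φ) := by
    have h₁ : AlgSt.spMapOfOver (BasedFunctor.comp e (FibCat.fpFst z (BasedFunctor.comp x y))) =
        π ≫ φ :=
      spMapOfOver_congr (Fib.isoWhiskerRight k (BasedFunctor.comp e₁ (FibCat.fpFst z y)))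
    have h₂ : AlgSt.spMapOfOver (BasedFunctor.comp e (FibCat.fpFst z (BasedFunctor.comp x y))) =
        i.hom ≫ AlgSt.spMapOfOver (BasedFunctor.comp e₃ (FibCat.fpFst z (BasedFunctor.comp x y))) := by
      rw [← spMapOfOver_congr (Fib.isoWhiskerRight j (FibCat.fpFst z _))]
      rfl
    rw [← h₁, h₂]
    exact hi G.property W.property (IsAlgSpace.yon_obj U) i _ hG
  have hsurj : IsSurjectiveMor π := by
    obtain ⟨i', ⟨j'⟩⟩ := exists_iso_of_reps e₂ e₂' he₂ he₂'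
    have hm : π = i'.hom ≫ π' := Sheaf.hom_ext (eq_of_iso_ofPshMap (k.symm ≪≫
      (Fib.isoWhiskerRight j' (FibCat.fpFst _ x)).symm ≪≫
      Fib.isoWhiskerLeft (AlgSt.ofSpMap i'.hom) k' ≪≫ eqToIso (ofPshMap_comp i'.hom.hom π'.hom)))
    rw [hm]
    exact respectsSrcIso_isSurjectiveMor W'.property W.property F₁.property i' _
      (isSurjectiveMor_of_forall_pullback π' hπ')
  exact (hP (ι := PUnit.{u + 1}) (fun _ => W.obj) (fun _ => π) F₁.property (fun _ => W.property)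
    ⟨fun _ => hC W.property F₁.property π hπ, fun p => ⟨⟨⟩, hsurj p⟩⟩ φ (IsAlgSpace.yon_obj U)).2
      fun _ => hcomp

theorem hC_isEtaleMor ⦃X Y : Sp S⦄ (hX : IsAlgSpace X) (hY : IsAlgSpace Y) (a : X ⟶ Y)
    (h : ∀ (T : Over S) (p : (yon S).obj T ⟶ Y), IsEtaleMor (pullback.snd a p)) : IsEtaleMor a :=
  (AlgSpc.isEtaleMor_iff_locP hX hY).2 (locP_of_forall_pullback hX hY a fun T p =>
    (AlgSpc.isEtaleMor_iff_locP (AlgSpc.isAlgSpace_of_isPullback hX hY (IsAlgSpace.yon_obj T)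
      (IsPullback.of_hasPullback a p)) (IsAlgSpace.yon_obj T)).1 (h T p))

theorem respectsSrcIso_isEtaleMor : RespectsSrcIso (IsEtaleMor (S := S)) :=
  fun _ _ _ hX hX' hY i m h => (AlgSpc.isEtaleMor_iff_locP hX' hY).2
    (respectsSrcIso_locP hX hX' hY i m ((AlgSpc.isEtaleMor_iff_locP hX hY).1 h))

theorem repByAlgSpWith_of_comp_etale {P : MorphismProperty (Sp S)} (hi : RespectsSrcIso P)
    (hP : IsLocalOnSource IsEtCover P)
    (h𝒳 : FibCat.IsFibGrpd 𝒳.p) (h𝒴 : FibCat.IsFibGrpd 𝒴.p) {x : 𝒳 ⥤ᵇ 𝒴} {y : 𝒴 ⥤ᵇ 𝒵}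
    (hy : AlgSt.RepByAlgSp1 y) (hx : AlgSt.RepByAlgSpWith IsEtaleMor x)
    (hxs : AlgSt.RepByAlgSpWith IsSurjectiveMor x)
    (h : AlgSt.RepByAlgSpWith P (BasedFunctor.comp x y)) : AlgSt.RepByAlgSpWith P y :=
  repByAlgSpWith_of_comp_source hi respectsSrcIso_isEtaleMor hC_isEtaleMor hP h𝒳 h𝒴 hy hx hxs h

theorem repByAlgSpWith_of_comp_smooth {P : MorphismProperty (Sp S)} (hi : RespectsSrcIso P)
    (hP : IsLocalOnSource IsSmCover P)
    (h𝒳 : FibCat.IsFibGrpd 𝒳.p) (h𝒴 : FibCat.IsFibGrpd 𝒴.p) {x : 𝒳 ⥤ᵇ 𝒴} {y : 𝒴 ⥤ᵇ 𝒵}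
    (hy : AlgSt.RepByAlgSp1 y) (hx : AlgSt.RepByAlgSpWith (LocP @Smooth) x)
    (hxs : AlgSt.RepByAlgSpWith IsSurjectiveMor x)
    (h : AlgSt.RepByAlgSpWith P (BasedFunctor.comp x y)) : AlgSt.RepByAlgSpWith P y :=
  repByAlgSpWith_of_comp_source hi respectsSrcIso_locP
    (fun _ _ hX hY a ha => locP_of_forall_pullback hX hY a ha) hP h𝒳 h𝒴 hy hx hxs h

theorem repByAlgSpWith_of_comp_fppf {P : MorphismProperty (Sp S)} (hi : RespectsSrcIso P)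
    (hP : IsLocalOnSource IsFppfCover P)
    (h𝒳 : FibCat.IsFibGrpd 𝒳.p) (h𝒴 : FibCat.IsFibGrpd 𝒴.p) {x : 𝒳 ⥤ᵇ 𝒴} {y : 𝒴 ⥤ᵇ 𝒵}
    (hy : AlgSt.RepByAlgSp1 y) (hx₁ : AlgSt.RepByAlgSpWith (LocP @Flat) x)
    (hx₂ : AlgSt.RepByAlgSpWith (LocP @LocallyOfFinitePresentation) x)
    (hxs : AlgSt.RepByAlgSpWith IsSurjectiveMor x)
    (h : AlgSt.RepByAlgSpWith P (BasedFunctor.comp x y)) : AlgSt.RepByAlgSpWith P y := by
  let C : MorphismProperty (Sp S) := fun _ _ f => LocP @Flat f ∧ LocP @LocallyOfFinitePresentation f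
  have hC : RespectsSrcIso C := fun _ _ _ hX hX' hY i m hm =>
    ⟨respectsSrcIso_locP hX hX' hY i m hm.1, respectsSrcIso_locP hX hX' hY i m hm.2⟩
  have hx : AlgSt.RepByAlgSpWith C x := fun U z => by
    obtain ⟨F, e, he, hf, hl, -⟩ := repByAlgSpWith_inf_self hx₁ hx₂ hxs U z
    exact ⟨F, e, he, hf, hl⟩
  exact repByAlgSpWith_of_comp_source hi hC
    (fun _ _ hX hY a ha => ⟨locP_of_forall_pullback hX hY a fun T p => (ha T p).1,
      locP_of_forall_pullback hX hY a fun T p => (ha T p).2⟩) hP h𝒳 h𝒴 hy hx hxs h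

/-! ### Charts by spaces -/

theorem rep_toOverCat_comp {W : Over S} {Q : MorphismProperty (Sp S)} {g : FibCat.overCat W ⥤ᵇ 𝒳}
    (h : AlgSt.RepByAlgSpWith Q g) :
    AlgSt.RepByAlgSpWith Q (BasedFunctor.comp (AlgSt.toOverCat W) g) :=
  (repByAlgSpWith_iff_of_square g (BasedFunctor.comp (AlgSt.toOverCat W) g) (AlgSt.toOverCat W)
    (BasedFunctor.id _) (isEquivOver_toOverCat W) (Fib.isEquivOver_id _) (Iso.refl _)).1 h

theorem exists_scheme_chart {U : Space S} {T : Over S} (c : (yon S).obj T ⟶ U.obj)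
    (hc : RepWith @Etale c) (hcs : RepWith @Surjective c) (x : AlgSt.ofSp U.obj ⥤ᵇ 𝒳)
    (hx : AlgSt.RepByAlgSpWith (LocP @Smooth) x) :
    ∃ z : FibCat.overCat T ⥤ᵇ 𝒳, AlgSt.RepByAlgSpWith (LocP @Smooth) z ∧
      (AlgSt.RepByAlgSpWith IsSurjectiveMor x → AlgSt.RepByAlgSpWith IsSurjectiveMor z) := by
  obtain ⟨h₁, h₂⟩ := repByAlgSpWith_atlas U.property c hc hcs
  exact ⟨_, repByAlgSpWith_comp' (Fib.isFibGrpd_overCat T) (isFibGrpd_ofSp U.property)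
    respectsSrcIso_locP hc_locP h₁ hx, fun hxs => repByAlgSpWith_comp' (Fib.isFibGrpd_overCat T)
    (isFibGrpd_ofSp U.property) respectsSrcIso_isSurjectiveMor hc_surjective h₂ hxs⟩

variable (P : Scheme.{u} → Prop)
  (hP : ∀ (U : Scheme.{u}) (R : Presieve U), R ∈ Scheme.precoverage @Smooth U →
    (P U ↔ ∀ ⦃V : Scheme.{u}⦄ (g : V ⟶ U), R g → P V))

include hP

theorem smoothLocally_iff_forall_space (h𝒳 : AlgSt.IsAlgStack Scheme.fppfPrecoverage 𝒳) :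
    AlgSt.SmoothLocally P 𝒳 ↔ ∀ (U : Space S) (x : AlgSt.ofSp U.obj ⥤ᵇ 𝒳),
      AlgSt.RepByAlgSpWith (LocP @Smooth) x → EtaleLocally P U.obj := by
  refine ⟨fun h U x hx => ?_, fun h U x hx => ?_⟩
  · obtain ⟨T, c, hc, hcs⟩ := U.property.atlas
    obtain ⟨z, hz, -⟩ := exists_scheme_chart c hc hcs x hx
    exact ⟨T, c, hc, hcs, h T z hz⟩
  · obtain ⟨T, c, hc, hcs, hT⟩ :=
      h ⟨_, IsAlgSpace.yon_obj U⟩ (BasedFunctor.comp (AlgSt.toOverCat U) x) (rep_toOverCat_comp hx)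
    let k : T ⟶ U := AlgSpc.pre c
    have hk : (yon S).map k = c := AlgSpc.map_pre _
    have h₁ : Etale k.left := (repWith_yon_map_iff _ k).1 (by rw [hk]; exact hc)
    have h₂ : Surjective k.left :=
      (repWith_yon_map_iff (@Surjective : MorphismProperty Scheme.{u}) k).1 (by rw [hk]; exact hcs)
    refine (hP U.left (Presieve.singleton k.left)
      ((Scheme.singleton_mem_precoverage_iff @Smooth k.left).2
        ⟨h₂.surj, inferInstanceAs (Smooth k.left)⟩)).2 fun W g hg => ?_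
    cases hg
    exact hT

theorem smoothLocally_iff_exists_space (h𝒳 : AlgSt.IsAlgStack Scheme.fppfPrecoverage 𝒳) :
    AlgSt.SmoothLocally P 𝒳 ↔ ∃ (U : Space S) (x : AlgSt.ofSp U.obj ⥤ᵇ 𝒳),
      AlgSt.RepByAlgSpWith (LocP @Smooth) x ∧ AlgSt.RepByAlgSpWith IsSurjectiveMor x ∧
        EtaleLocally P U.obj := by
  refine ⟨fun h => ?_, fun ⟨U, x, hx, hxs, T, c, hc, hcs, hT⟩ => ?_⟩
  · obtain ⟨U, x, hx, hxs⟩ := h𝒳.atlas
    exact ⟨⟨_, IsAlgSpace.yon_obj U⟩, BasedFunctor.comp (AlgSt.toOverCat U) x,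
      rep_toOverCat_comp hx, rep_toOverCat_comp hxs, U, 𝟙 _, AlgSpc.repWith_iso _,
      AlgSpc.repWith_iso _, h U x hx⟩
  · obtain ⟨z, hz, hzs⟩ := exists_scheme_chart c hc hcs x hx
    exact (smoothLocally_iff h𝒳 P hP).2 ⟨T, z, hz, hzs hxs, hT⟩

theorem smoothLocally_ofSch (U : Over S) : AlgSt.SmoothLocally P (AlgSt.ofSch U) ↔ P U.left := by
  obtain ⟨h₁, h₂⟩ := smSurj_of_isEquivOver (AlgSt.ofOverCat U) (isEquivOver_ofOverCat U)
  exact ⟨fun h => h U _ h₁, fun h =>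
    (smoothLocally_iff (isAlgStack_ofSp (IsAlgSpace.yon_obj U)) P hP).2 ⟨U, _, h₁, h₂, h⟩⟩

theorem smoothLocally_ofSp (X : Space S) :
    AlgSt.SmoothLocally P (AlgSt.ofSp X.obj) ↔ EtaleLocally P X.obj := by
  refine ⟨fun h => ?_, fun ⟨T, c, hc, hcs, hT⟩ => ?_⟩
  · obtain ⟨T, c, hc, hcs⟩ := X.property.atlas
    exact ⟨T, c, hc, hcs, h T _ (repByAlgSpWith_atlas X.property c hc hcs).1⟩
  · obtain ⟨h₁, h₂⟩ := repByAlgSpWith_atlas X.property c hc hcs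
    exact (smoothLocally_iff (isAlgStack_ofSp X.property) P hP).2 ⟨T, _, h₁, h₂, hT⟩

omit hP

theorem isQuasiCompact_iff_scheme_chart (h𝒳 : AlgSt.IsAlgStack Scheme.fppfPrecoverage 𝒳) :
    AlgSt.IsQuasiCompact 𝒳 ↔ ∃ (U : Over S) (x : FibCat.overCat U ⥤ᵇ 𝒳), CompactSpace ↥U.left ∧
      AlgSt.RepByAlgSpWith (LocP @Smooth) x ∧ AlgSt.RepByAlgSpWith IsSurjectiveMor x := by
  refine ⟨fun ⟨U, x, hU, hx, hxs⟩ => ⟨U, x, inferInstance, hx, hxs⟩, fun ⟨U, x, _, hx, hxs⟩ => ?_⟩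
  have := compactSpace_points_overCat U
  exact (isQuasiCompact_iff h𝒳).2 (compactSpace_of_isSurjective h𝒳 x
    (isSurjective_of_repWith (Fib.isFibGrpd_overCat U) h𝒳.isStack.1 x hxs))

theorem isQuasiCompact_iff_space_chart (h𝒳 : AlgSt.IsAlgStack Scheme.fppfPrecoverage 𝒳) :
    AlgSt.IsQuasiCompact 𝒳 ↔ ∃ (U : Space S) (x : AlgSt.ofSp U.obj ⥤ᵇ 𝒳), IsQuasiCompactSp U.obj ∧
      AlgSt.RepByAlgSpWith (LocP @Smooth) x ∧ AlgSt.RepByAlgSpWith IsSurjectiveMor x := by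
  refine ⟨fun ⟨U, x, hU, hx, hxs⟩ => ⟨⟨_, IsAlgSpace.yon_obj U⟩,
    BasedFunctor.comp (AlgSt.toOverCat U) x, AlgSpc.isQuasiCompactSp_yon, rep_toOverCat_comp hx,
    rep_toOverCat_comp hxs⟩, fun ⟨U, x, hU, hx, hxs⟩ => ?_⟩
  have := AlgSpc.compactSpace_points hU
  have := (isHomeomorph_spMk U.property).homeomorph.compactSpace
  exact (isQuasiCompact_iff h𝒳).2 (compactSpace_of_isSurjective h𝒳 x
    (isSurjective_of_repWith (isFibGrpd_ofSp U.property) h𝒳.isStack.1 x hxs))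

end

end Groth.Agent.AlgStB
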