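import Groth.Agent.AlgStB.RepSp
import Groth.Agent.AlgStB.OfSp
import Groth.Agent.AlgStB.Classes
import Groth.Agent.Fib.Fiber
import Groth.Agent.Fib.Yoneda

/-!
# 2-fibre products of categories of presheaves; spaces base change along representable 1-morphisms
-/

set_option autoImplicit false
set_option backward.isDefEq.respectTransparency false
set_option backward.isDefEq.respectTransparency.types false

universe v₃ u₃ v₂ u₂ u

open CategoryTheory CategoryTheory.Limits AlgebraicGeometry Opposite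

namespace Groth.Agent.AlgStB

open _root_.AlgSp

variable {S : Scheme.{u}}

theorem id_full_faithful {C : Type*} [Category C] (𝒳 : BasedCategory.{v₂, u₂} C) :
    (BasedFunctor.id 𝒳).toFunctor.Full ∧ (BasedFunctor.id 𝒳).toFunctor.Faithful :=
  ⟨inferInstanceAs (Functor.Full (𝟭 𝒳.obj)), inferInstanceAs (Functor.Faithful (𝟭 𝒳.obj))⟩

/-- The category of a pullback presheaf represents the 2-fibre product over a slice. -/
theorem exists_fp_rep {F G W : PSp S} {a : F ⟶ G} {U : Over S} {ξ : (pyon S).obj U ⟶ G}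
    {fst : W ⟶ F} {snd : W ⟶ (pyon S).obj U} (sq : IsPullback fst snd a ξ)
    (y : FibCat.overCat U ⥤ᵇ Stk.ofPsh G)
    (α : (Stk.ofPshMap ξ : AlgSt.ofSch U ⥤ᵇ Stk.ofPsh G) ≅
      BasedFunctor.comp (AlgSt.toOverCat U) y) :
    ∃ Φ : Stk.ofPsh W ⥤ᵇ FibCat.fp y (Stk.ofPshMap a), FibCat.IsEquivOver Φ ∧
      BasedFunctor.comp Φ (FibCat.fpFst y (Stk.ofPshMap a)) =
        BasedFunctor.comp (Stk.ofPshMap snd) (AlgSt.toOverCat U) := by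
  obtain ⟨Φ₀, h₀, hfst, -⟩ := isEquivOver_fpLift sq
  obtain ⟨_, _⟩ := id_full_faithful (Stk.ofPsh G)
  let Ψ := Fib.fpMap (AlgSt.toOverCat U) (BasedFunctor.id (Stk.ofPsh F))
    (BasedFunctor.id (Stk.ofPsh G)) (F' := Stk.ofPshMap ξ) (G' := Stk.ofPshMap a) (F := y)
    (G := Stk.ofPshMap a) α (Iso.refl _)
  refine ⟨BasedFunctor.comp Φ₀ Ψ, Fib.isEquivOver_comp h₀
    (Fib.isEquivOver_fpMap _ _ _ _ _ (isEquivOver_toOverCat U) (Fib.isEquivOver_id _)), ?_⟩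
  rw [← hfst]
  rfl

theorem repByAlgSp1_of_repBySp {F G : PSp S} {a : F ⟶ G} (ha : RepBySp a) :
    AlgSt.RepByAlgSp1 (Stk.ofPshMap a) := by
  intro U y
  let α := isoPshMap (P := (pyon S).obj U) (BasedFunctor.comp (AlgSt.toOverCat U) y)
  have sq := IsPullback.of_hasPullback a (pshMapOf (P := (pyon S).obj U)
    (BasedFunctor.comp (AlgSt.toOverCat U) y))
  obtain ⟨Φ, hΦ, -⟩ := exists_fp_rep sq y α.symm
  obtain ⟨hW, hA⟩ := ha _ _ _ sq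
  exact ⟨⟨⟨_, hW⟩, hA⟩, Φ, hΦ⟩

theorem repByAlgSpWith_of_repBySpWith {Q : MorphismProperty (Sp S)} {F G : PSp S} {a : F ⟶ G}
    (ha : RepBySpWith Q a) : AlgSt.RepByAlgSpWith Q (Stk.ofPshMap a) := by
  intro U y
  let α := isoPshMap (P := (pyon S).obj U) (BasedFunctor.comp (AlgSt.toOverCat U) y)
  have sq := IsPullback.of_hasPullback a (pshMapOf (P := (pyon S).obj U)
    (BasedFunctor.comp (AlgSt.toOverCat U) y))
  obtain ⟨Φ, hΦ, hπ⟩ := exists_fp_rep sq y α.symm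
  obtain ⟨hW, hA, hQ⟩ := ha _ _ _ sq
  refine ⟨⟨⟨_, hW⟩, hA⟩, Φ, hΦ, ?_⟩
  rw [show BasedFunctor.comp Φ (FibCat.fpFst y (Stk.ofPshMap a)) = _ from hπ]
  have := spMapOfOver_toOverCat (F := ⟨_, hW⟩) (U := U)
    (ObjectProperty.homMk (pullback.snd a (pshMapOf (P := (pyon S).obj U)
      (BasedFunctor.comp (AlgSt.toOverCat U) y))))
  exact this.symm ▸ hQ

theorem repBySp_of_repByAlgSp1 {F G : PSp S} {a : F ⟶ G}
    (ha : AlgSt.RepByAlgSp1 (Stk.ofPshMap a)) : RepBySp a := by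
  intro U ξ W fst snd sq
  obtain ⟨Φ, hΦ, -⟩ := exists_fp_rep sq
    (BasedFunctor.comp (AlgSt.ofOverCat U) (Stk.ofPshMap ξ)) (Iso.refl _)
  obtain ⟨Z, e, he⟩ := ha U (BasedFunctor.comp (AlgSt.ofOverCat U) (Stk.ofPshMap ξ))
  obtain ⟨g, hg, -, -⟩ := Fib.exists_quasiInverse hΦ
  have := isIso_pshMapOf (Fib.isEquivOver_comp he hg)
  exact IsAlgSpaceP.of_iso ⟨Z.obj.property, Z.property⟩ (asIso (pshMapOf (BasedFunctor.comp e g)))

theorem repBySpWith_of_repByAlgSpWith {Q : MorphismProperty (Sp S)} [Q.RespectsIso] {F G : PSp S}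
    {a : F ⟶ G} (ha : AlgSt.RepByAlgSpWith Q (Stk.ofPshMap a)) : RepBySpWith Q a := by
  intro U ξ W fst snd sq
  obtain ⟨hW, hA⟩ := repBySp_of_repByAlgSp1 (fun U y => by
    obtain ⟨Z, e, he, -⟩ := ha U y
    exact ⟨Z, e, he⟩) ξ fst snd sq
  obtain ⟨Φ, hΦ, hπ⟩ := exists_fp_rep sq
    (BasedFunctor.comp (AlgSt.ofOverCat U) (Stk.ofPshMap ξ)) (Iso.refl _)
  obtain ⟨Z, e, he, hQ⟩ := ha U (BasedFunctor.comp (AlgSt.ofOverCat U) (Stk.ofPshMap ξ))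
  refine ⟨hW, hA, ?_⟩
  have h := (prop_spMap_iff_of_reps Q (FibCat.fpFst _ _) e (F := Z.obj) (G := ⟨W, hW⟩) Φ he hΦ).1 hQ
  rw [show BasedFunctor.comp Φ (FibCat.fpFst _ (Stk.ofPshMap a)) = _ from hπ] at h
  exact (spMapOfOver_toOverCat (F := ⟨W, hW⟩) (U := U) (ObjectProperty.homMk snd)) ▸ h

variable {𝒳 : BasedCategory.{v₂, u₂} (Over S)} {𝒴 : BasedCategory.{v₃, u₃} (Over S)}

theorem faithful_of_repByAlgSp1 (h𝒳 : FibCat.IsFibGrpd 𝒳.p) (h𝒴 : FibCat.IsFibGrpd 𝒴.p)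
    {f : 𝒳 ⥤ᵇ 𝒴} (hf : AlgSt.RepByAlgSp1 f) : f.toFunctor.Faithful := by
  have := Fib.isFibered_of_isFibGrpd _ h𝒳
  refine Fib.faithful_of_fiber f (Fib.preservesStronglyCartesian f h𝒴) fun U => ⟨?_⟩
  intro a b φ ψ h
  have h' : f.map φ.1 = f.map ψ.1 := congrArg Subtype.val h
  have := Fib.isFibered_of_isFibGrpd _ h𝒴
  have hb : 𝒴.p.obj (f.obj b.1) = U := (f.w_obj _).trans b.2
  obtain ⟨y, -, i, hi⟩ := Fib.exists_basedFunctor (𝒳 := 𝒴) (⟨f.obj b.1, hb⟩ : 𝒴.p.Fiber U)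
  obtain ⟨Z, e, he⟩ := hf U y
  obtain ⟨g, hg, -, -⟩ := Fib.exists_quasiInverse he
  have := Fib.faithful_of_isEquivOver hg
  have : (AlgSt.ofSp Z.obj).p.Faithful :=
    ⟨fun {p q} s t e => Stk.EltObj.hom_ext e⟩
  have := Fib.faithful_p_of_faithful g
  haveI : 𝒳.p.IsHomLift (𝟙 U) φ.1 := φ.2
  haveI : 𝒴.p.IsHomLift (𝟙 U) (f.map φ.1) := BasedFunctor.preserves_isHomLift f _ _
  haveI : IsIso (f.map φ.1) := Fib.isIso_of_isHomLift 𝒴.p h𝒴 (𝟙 U) _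
  let j : y.obj (Over.mk (𝟙 U)) ≅ f.obj a.1 := i ≪≫ (asIso (f.map φ.1)).symm
  have hj : 𝒴.p.IsHomLift (𝟙 U) j.hom := by
    simp only [j, Iso.trans_hom, Iso.symm_hom, asIso_inv]
    infer_instance
  let A : (FibCat.fp y f).obj := Fib.fpMk (Over.mk (𝟙 U)) a.1 j hj
  let B : (FibCat.fp y f).obj := Fib.fpMk (Over.mk (𝟙 U)) b.1 i hi
  let m₁ : A ⟶ B := Fib.fpHomMk (a := A) (b := B) (𝟙 _) φ.1 (by simp [A, B, Fib.fpMk, j])
  let m₂ : A ⟶ B := Fib.fpHomMk (a := A) (b := B) (𝟙 _) ψ.1 (by simp [A, B, Fib.fpMk, j, ← h'])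
  have : m₁ = m₂ := (FibCat.fp y f).p.map_injective rfl
  exact Subtype.ext (congrArg (fun t => t.hom.snd) this)

/-- The base change of a representable 1-morphism to an algebraic space is an algebraic space. -/
theorem repByAlgSp_fp_ofSp {𝒳 𝒴 : AlgSt.Cat S} (h𝒳 : FibCat.IsFibGrpd 𝒳.p)
    (h𝒴 : FibCat.IsFibGrpd 𝒴.p) {f : 𝒳 ⥤ᵇ 𝒴} (hf : AlgSt.RepByAlgSp1 f) {Z : Sp S}
    (hZ : IsAlgSpace Z) (Γ : AlgSt.ofSp Z ⥤ᵇ 𝒴) : AlgSt.RepByAlgSp (FibCat.fp Γ f) := by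
  have := faithful_of_repByAlgSp1 h𝒳 h𝒴 hf
  have hg := Fib.isFibGrpd_fp Γ f (Stk.isFibGrpd_ofPsh Z.obj) h𝒳 h𝒴
  have : (FibCat.fp Γ f).p.Faithful := ⟨fun {p q} φ ψ e => by
    have e₁ : φ.hom.fst = ψ.hom.fst := Stk.EltObj.hom_ext e
    refine Fib.fp_hom_ext e₁ (f.toFunctor.map_injective ?_)
    rw [← cancel_epi p.obj.iso.hom]
    exact φ.hom.w.symm.trans (e₁ ▸ ψ.hom.w)⟩
  have hs := Fib.isFibSetoid_of_faithful _ hg
  obtain ⟨Φ, hΦ, -, -⟩ := Fib.exists_quasiInverse (isEquivOver_toClasses hs)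
  let π : classes hs.1 ⟶ Z.obj := pshMapOf (BasedFunctor.comp Φ (FibCat.fpFst Γ f))
  have hπ : RepBySp π := by
    refine repBySp_of_repByAlgSp1 fun U y => ?_
    obtain ⟨_, _⟩ := id_full_faithful (AlgSt.ofSp Z)
    have h₁ := Fib.isEquivOver_fpMap (BasedFunctor.id _) Φ (BasedFunctor.id (AlgSt.ofSp Z))
      (F' := y) (G' := Stk.ofPshMap π) (F := y) (G := FibCat.fpFst Γ f) (Iso.refl _)
      (isoPshMap (BasedFunctor.comp Φ (FibCat.fpFst Γ f))).symm (Fib.isEquivOver_id _) hΦ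
    obtain ⟨T, hT, -, -⟩ :=
      Fib.exists_quasiInverse (Fib.isEquivOver_comp h₁ (Fib.isEquivOver_fpBC y Γ f))
    obtain ⟨V, e, he⟩ := hf U (BasedFunctor.comp y Γ)
    exact ⟨V, BasedFunctor.comp e T, Fib.isEquivOver_comp he hT⟩
  obtain ⟨hW, hA⟩ := isAlgSpaceP_of_repBySp π hπ ⟨Z.property, hZ⟩
  exact ⟨⟨⟨_, hW⟩, hA⟩, Φ, hΦ⟩

end Groth.Agent.AlgStB
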