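import Groth.Agent.AlgStB.FaithfulRep
import Groth.Agent.AlgStB.SubstackPoints
import Groth.Agent.AlgStB.Separation
import Groth.Agent.AlgSpLoc.Glue

/-!
# An algebraic stack covered by open substacks which are spaces is a space
-/

set_option autoImplicit false
set_option backward.isDefEq.respectTransparency false
set_option backward.isDefEq.respectTransparency.types false

universe w u

open CategoryTheory AlgebraicGeometry
open _root_.AlgSt (Points)

namespace Groth.Agent.AlgStB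

variable {S : Scheme.{u}}

theorem repByAlgSp_of_openSubstack_cover {𝒳 : AlgSt.Cat S}
    (h𝒳 : AlgSt.IsAlgStack Scheme.fppfPrecoverage 𝒳) {ι : Type w} (Q : ι → 𝒳.obj → Prop)
    (hQ : ∀ i, AlgSt.IsOpenSubstack 𝒳 (Q i) Scheme.fppfPrecoverage)
    (hcov : ⋃ i, Set.range (Points.map (AlgSt.subIncl 𝒳 (Q i))) = Set.univ)
    (hsp : ∀ i, AlgSt.RepByAlgSp (AlgSt.fullSub 𝒳 (Q i))) : AlgSt.RepByAlgSp 𝒳 := by
  refine repByAlgSp_of_isFibSetoid h𝒳 ?_
  suffices 𝒳.p.Faithful from Fib.isFibSetoid_of_faithful _ h𝒳.isStack.1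
  have hk : TrivialKernel (FibCat.toSelf 𝒳) := by
    intro a φ hp _
    have hg := h𝒳.isStack.1
    haveI hl : 𝒳.p.IsHomLift (𝟙 (𝒳.p.obj a)) φ := hp ▸ inferInstance
    obtain ⟨y, e, he⟩ := exists_chart hg a
    have H : ∀ i, ∃ (T : Over S) (g : T ⟶ 𝒳.p.obj a), IsOpenImmersion g.left ∧
        Q i (y.obj (Over.mk g)) ∧
        Set.range g.left = Points.ofChart y ⁻¹' Set.range (Points.map (AlgSt.subIncl 𝒳 (Q i))) := by
      intro i
      obtain ⟨T, g, τ, hgo, ⟨j⟩, hr⟩ :=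
        exists_open_trace (hQ i).2.1.isStack.1 hg _ (hQ i).2.2 y
      refine ⟨T, g, hgo, ?_, hr⟩
      let k : (AlgSt.overMap g).obj (Over.mk (𝟙 T)) ≅ Over.mk g :=
        Over.isoMk (Iso.refl _) (by change 𝟙 T ≫ g = 𝟙 T ≫ g; rfl)
      exact (hQ i).1.of_iso (Fib.appIso j (Over.mk (𝟙 T)) ≪≫ y.toFunctor.mapIso k)
        (τ.obj (Over.mk (𝟙 T))).property
    choose T g hgo hin hr using H
    refine eq_id_of_locally h𝒳.isStack rfl φ (Sieve.ofArrows T g)
      (AlgSpLoc.ofArrows_mem_J T g (fun i => inferInstance) (fun i => inferInstance) fun t => ?_) ?_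
    · have : Points.ofChart y t ∈ ⋃ i, Set.range (Points.map (AlgSt.subIncl 𝒳 (Q i))) :=
        hcov ▸ trivial
      obtain ⟨i, hi⟩ := Set.mem_iUnion.1 this
      exact ⟨i, (Set.ext_iff.1 (hr i) t).2 hi⟩
    · intro V v hv a' ψ hψ
      obtain ⟨W, u, _, ⟨i⟩, rfl⟩ := hv
      -- the restriction along `g i` lies in `Q i`
      have hc := chart_isHomLift y e he (g i)
      have := Fib.isStronglyCartesian_of_isFibGrpd _ hg (g i) (y.map (Over.homMk (g i)
        (Category.comp_id _) : Over.mk (g i) ⟶ Over.mk (𝟙 _)) ≫ e.hom)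
      haveI : 𝒳.p.IsHomLift (u ≫ g i) ψ := hψ
      let θ := Functor.IsStronglyCartesian.map 𝒳.p (g i) (y.map (Over.homMk (g i)
        (Category.comp_id _) : Over.mk (g i) ⟶ Over.mk (𝟙 _)) ≫ e.hom) (g := u) (f' := u ≫ g i) rfl ψ
      have hQa : Q i a' := openSubstack_pull hg (hQ i) θ (hin i)
      -- lift `φ` to `a'`
      have hV : 𝒳.p.obj a' = V := IsHomLift.domain_eq 𝒳.p (u ≫ g i) ψ
      have := Fib.isStronglyCartesian_of_isFibGrpd _ hg (u ≫ g i) ψ
      haveI : 𝒳.p.IsHomLift (u ≫ g i) (ψ ≫ φ) := inferInstance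
      let φ' := Functor.IsStronglyCartesian.map 𝒳.p (u ≫ g i) ψ (g := 𝟙 V) (f' := u ≫ g i)
        (Category.id_comp _).symm (ψ ≫ φ)
      have h' : φ' ≫ ψ = ψ ≫ φ := Functor.IsStronglyCartesian.fac ..
      have hs : FibCat.IsFibSetoid (AlgSt.fullSub 𝒳 (Q i)).p :=
        isFibSetoid_of_repByAlgSp (hQ i).2.1.isStack.1 (hsp i)
      have := Fib.faithful_of_isFibSetoid _ hs
      let b : (AlgSt.fullSub 𝒳 (Q i)).obj := ⟨a', hQa⟩
      let m : b ⟶ b := ObjectProperty.homMk φ'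
      have hm : m = 𝟙 b := (AlgSt.fullSub 𝒳 (Q i)).p.map_injective (by
        rw [CategoryTheory.Functor.map_id]
        change 𝒳.p.map φ' = 𝟙 (𝒳.p.obj a')
        rw [IsHomLift.fac' 𝒳.p (𝟙 V) φ']
        simp)
      rw [← h', show φ' = 𝟙 a' from congrArg (fun t => t.hom) hm, Category.id_comp]
  have := faithful_of_trivialKernel h𝒳.isStack.1 Fib.isFibGrpd_selfOver hk
  exact inferInstanceAs (FibCat.toSelf 𝒳).toFunctor.Faithful

end Groth.Agent.AlgStB
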