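import Groth.Agent.AlgStB.GeomAut
import Groth.Agent.AlgStB.SpaceStack
import Groth.Agent.AlgStB.DiagLft
import Groth.Agent.UnramFibre.Basic

/-!
# Trivial geometric stabilisers give an unramified diagonal and an algebraic space
-/

set_option autoImplicit false
set_option linter.style.haveILetI false
set_option backward.isDefEq.respectTransparency false
set_option backward.isDefEq.respectTransparency.types false

universe u

open CategoryTheory CategoryTheory.Limits AlgebraicGeometry Opposite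

namespace Groth.Agent.AlgStB

open _root_.AlgSp

variable {S : Scheme.{u}}

/-- A map of sheaves to a scheme with full functor of sections is a monomorphism. -/
theorem mono_of_full {F : Sp S} {U : Over S} (Ψ : AlgSt.ofSp F ⥤ᵇ FibCat.overCat U)
    [Ψ.toFunctor.Full] : Mono (AlgSt.spMapOfOver Ψ) := by
  let φ := AlgSt.spMapOfOver Ψ
  let η : Ψ.toFunctor ≅ (BasedFunctor.comp (AlgSt.ofSpMap φ) (AlgSt.toOverCat U)).toFunctor :=
    (BasedNatTrans.forgetful _ _).mapIso (isoOfOver Ψ)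
  have : ((AlgSt.ofSpMap φ).toFunctor ⋙ (AlgSt.toOverCat U).toFunctor).Full := Functor.Full.of_iso η
  have := Fib.faithful_of_isEquivOver (isEquivOver_toOverCat U)
  have : (AlgSt.ofSpMap φ).toFunctor.Full :=
    Functor.Full.of_comp_faithful (AlgSt.ofSpMap φ).toFunctor (AlgSt.toOverCat U).toFunctor
  have : Mono φ.hom := by
    refine @NatTrans.mono_of_mono_app _ _ _ _ _ _ _ fun T => (mono_iff_injective _).2 fun s t hst => ?_
    let a : Stk.EltObj F.obj := ⟨T.unop, s⟩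
    let b : Stk.EltObj F.obj := ⟨T.unop, t⟩
    obtain ⟨m, hm⟩ := (AlgSt.ofSpMap φ).toFunctor.map_surjective (X := a) (Y := b)
      ⟨𝟙 _, by
        change ((yon S).obj U).obj.map (𝟙 T) (φ.hom.app T t) = φ.hom.app T s
        rw [FunctorToTypes.map_id_apply]
        exact hst.symm⟩
    have hm' : m.hom = 𝟙 T.unop := congrArg Stk.EltObj.Hom.hom hm
    have := m.map_sec
    rw [hm'] at this
    exact ((by simpa [a, b] using this : t = s)).symm
  exact (sheafToPresheaf (J S) _).mono_of_mono_map this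

/-- A monomorphism locally of finite type is unramified. -/
theorem unramified_of_mono_lft {F G : Sp S} (hF : IsAlgSpace F) (hG : IsAlgSpace G) (n : F ⟶ G) [Mono n]
    (h : LocP @LocallyOfFiniteType n) : LocP (@LocallyOfFiniteType ⊓ @FormallyUnramified) n :=
  (AlgSpFormal.diagonal_iff hF hG).2 h (AlgSpc.repWith_iso (pullback.diagonal n))

variable {𝒳 : AlgSt.Cat S}

/-- Over a point with trivial stabiliser the diagonal has full projections. -/
theorem full_fpFst_diag (h𝒳 : FibCat.IsFibGrpd 𝒳.p) {T : Over S}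
    (y : FibCat.overCat T ⥤ᵇ FibCat.fp (FibCat.toSelf 𝒳) (FibCat.toSelf 𝒳))
    (htriv : ∀ (ξ : 𝒳.obj) (_ : ξ ⟶ (y.obj (Over.mk (𝟙 T))).obj.fst) (σ : ξ ⟶ ξ),
      𝒳.p.map σ = 𝟙 (𝒳.p.obj ξ) → σ = 𝟙 ξ) :
    (FibCat.fpFst y (FibCat.diag (FibCat.toSelf 𝒳))).toFunctor.Full := by
  refine ⟨fun {a b} φ => ?_⟩
  have := h𝒳
  let ia := a.obj.iso
  let ib := b.obj.iso
  let f₁ : a.obj.snd ⟶ b.obj.snd := ia.inv.hom.fst ≫ (y.map φ).hom.fst ≫ ib.hom.hom.fst
  let f₂ : a.obj.snd ⟶ b.obj.snd := ia.inv.hom.snd ≫ (y.map φ).hom.snd ≫ ib.hom.hom.snd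
  have hl : (FibCat.fp (FibCat.toSelf 𝒳) (FibCat.toSelf 𝒳)).p.map (ia.inv ≫ y.map φ ≫ ib.hom) =
      𝒳.p.map f₁ := rfl
  have hp : 𝒳.p.map f₂ = 𝒳.p.map f₁ := by
    have hw := (ia.inv ≫ y.map φ ≫ ib.hom).hom.w
    change 𝒳.p.map f₁ ≫ 𝟙 _ = 𝟙 _ ≫ 𝒳.p.map f₂ at hw
    simpa using hw.symm
  have := h𝒳.isStronglyCartesian f₁
  have : 𝒳.p.IsHomLift (𝒳.p.map f₁) f₂ := hp ▸ inferInstance
  have := Fib.isStronglyCartesian_of_isFibGrpd _ h𝒳 (𝒳.p.map f₁) f₂
  let σ : a.obj.snd ≅ a.obj.snd := Functor.IsCartesian.domainUniqueUpToIso 𝒳.p (𝒳.p.map f₁) f₁ f₂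
  have hσl : 𝒳.p.IsHomLift (𝟙 (𝒳.p.obj a.obj.snd)) σ.hom := inferInstance
  have hσ : σ.hom ≫ f₁ = f₂ := Functor.IsCartesian.fac 𝒳.p (𝒳.p.map f₁) f₁ f₂
  rw [htriv a.obj.snd (ia.inv.hom.fst ≫ (y.map (Fib.toId a.obj.fst)).hom.fst) σ.hom
    (IsHomLift.eq_of_isHomLift 𝒳.p (𝟙 (𝒳.p.obj a.obj.snd)) σ.hom).symm, Category.id_comp] at hσ
  refine ⟨Fib.fpHomMk φ f₁ ?_, rfl⟩
  rw [← cancel_epi ia.inv, Iso.inv_hom_id_assoc]
  exact Fib.fp_hom_ext rfl hσ.symm

/-- Unramifiedness of a chart at a point from a base change through that point. -/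
theorem formallyUnramified_stalkMap_chart {F : Sp S} {U U' V : Over S} {c : (yon S).obj V ⟶ F}
    (hc : RepWith @Etale c) {φ : F ⟶ (yon S).obj U} (k : V ⟶ U) [LocallyOfFiniteType k.left]
    (hk : (yon S).map k = c ≫ φ) (s : U' ⟶ U)
    (hπ : LocP (@LocallyOfFiniteType ⊓ @FormallyUnramified) (pullback.snd φ ((yon S).map s)))
    (v : V.left) (hv : k.left v ∈ Set.range s.left) : (k.left.stalkMap v).hom.FormallyUnramified := by
  have sqW := IsPullback.of_hasPullback φ ((yon S).map s)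
  have sqT : IsPullback ((yon S).map (pullback.fst k s)) ((yon S).map (pullback.snd k s))
      ((yon S).map k) ((yon S).map s) := (IsPullback.of_hasPullback k s).map (yon S)
  have w : ((yon S).map (pullback.fst k s) ≫ c) ≫ φ =
      (yon S).map (pullback.snd k s) ≫ (yon S).map s := by
    exact (Category.assoc _ _ _).trans ((congrArg _ hk.symm).trans sqT.w)
  let l := pullback.lift ((yon S).map (pullback.fst k s) ≫ c) ((yon S).map (pullback.snd k s)) w
  have top : IsPullback ((yon S).map (pullback.fst k s)) l c (pullback.fst φ ((yon S).map s)) := by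
    refine IsPullback.of_bot (v₂₁ := pullback.snd φ ((yon S).map s)) ?_ (pullback.lift_fst _ _ _).symm sqW
    exact (congrArg₂ (fun a b => IsPullback ((yon S).map (pullback.fst k s)) a b ((yon S).map s))
      (pullback.lift_snd _ _ w) hk.symm).mpr sqT
  have hl : RepWith @Etale l := AlgSpc.repWith_of_isPullback top hc
  have hP := hπ l (𝟙 _) (pullback.snd k s) hl (AlgSpc.repWith_iso _)
    ((pullback.lift_snd _ _ _).trans (Category.comp_id _).symm)
  have sq := (IsPullback.of_hasPullback k s).map (Over.forget S)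
  have hP' : FormallyUnramified (pullback.snd k.left s.left) := by
    have h₂ := hP.2
    rw [← MorphismProperty.cancel_left_of_respectsIso (P := @FormallyUnramified) sq.isoPullback.hom]
    exact sq.isoPullback_hom_snd.symm ▸ h₂
  have hv' : v ∈ Set.range (pullback.fst k.left s.left) := by
    rw [Scheme.Pullback.range_fst]
    exact hv
  obtain ⟨v', rfl⟩ := hv'
  exact UnramFibre.formallyUnramified_stalkMap_of_baseChange k.left s.left v'
    (FormallyUnramified.stalkMap (pullback.snd k.left s.left) v')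

/-- Trivial stabilisers at geometric points make the diagonal unramified. -/
theorem unramified_diag_of_trivial (h𝒳 : FibCat.IsFibGrpd 𝒳.p)
    (hlft : AlgSt.RepByAlgSpWith (LocP @LocallyOfFiniteType) (FibCat.diag (FibCat.toSelf 𝒳)))
    (htriv : ∀ (k : Type u) [Field k] [IsAlgClosed k] (s : Spec (CommRingCat.of k) ⟶ S) (x : 𝒳.obj),
      𝒳.p.obj x = Over.mk s → ∀ (ξ : 𝒳.obj) (_ : ξ ⟶ x) (σ : ξ ⟶ ξ),
        𝒳.p.map σ = 𝟙 (𝒳.p.obj ξ) → σ = 𝟙 ξ) :
    AlgSt.RepByAlgSpWith (LocP (@LocallyOfFiniteType ⊓ @FormallyUnramified))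
      (FibCat.diag (FibCat.toSelf 𝒳)) := by
  let d := FibCat.diag (FibCat.toSelf 𝒳)
  intro U y
  obtain ⟨F, e, he, hft⟩ := hlft U y
  refine ⟨F, e, he, ?_⟩
  let φ := AlgSt.spMapOfOver (BasedFunctor.comp e (FibCat.fpFst y d))
  obtain ⟨V, c, hc, hcs⟩ := F.property.atlas
  let k : V ⟶ U := AlgSpc.pre (c ≫ φ)
  have hk : (yon S).map k = c ≫ φ := AlgSpc.map_pre _
  have hkl : LocallyOfFiniteType k.left :=
    hft c (𝟙 _) k hc (AlgSpc.repWith_iso _) (by simp [hk, φ, d])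
  refine AlgSpc.locP_of_chart (b := 𝟙 _) (h := k) hc hcs (AlgSpc.repWith_iso _)
    (by simp [hk, φ, d]) ⟨hkl, (Unram.formallyUnramified_iff_stalkMap k.left).2 fun v => ?_⟩
  let t := k.left v
  let K := AlgebraicClosure (U.left.residueField t)
  let sb : Spec (CommRingCat.of K) ⟶ U.left :=
    Spec.map (CommRingCat.ofHom (algebraMap (U.left.residueField t) K)) ≫
      U.left.fromSpecResidueField t
  let U' : Over S := Over.mk (sb ≫ U.hom)
  let s : U' ⟶ U := Over.homMk sb rfl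
  let y' := BasedFunctor.comp (AlgSt.overMap s) y
  have hfull := full_fpFst_diag h𝒳 y' fun ξ m σ hσ =>
    htriv K (sb ≫ U.hom) _ (by
      have hobj := (y'.w_obj (Over.mk (𝟙 U')))
      exact hobj) ξ m σ hσ
  obtain ⟨G, e₂, he₂, hG⟩ := hlft U' y'
  have hfe := Fib.full_of_isEquivOver he₂
  haveI : (BasedFunctor.comp e₂ (FibCat.fpFst y' d)).toFunctor.Full :=
    inferInstanceAs (e₂.toFunctor ⋙ (FibCat.fpFst y' d).toFunctor).Full
  have hm := mono_of_full (BasedFunctor.comp e₂ (FibCat.fpFst y' d))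
  have hu := unramified_of_mono_lft G.property (IsAlgSpace.yon_obj U') _ hG
  have sqW := IsPullback.of_hasPullback φ ((yon S).map s)
  have hW : IsAlgSpace (pullback φ ((yon S).map s)) :=
    AlgSpc.isAlgSpace_of_isPullback F.property (IsAlgSpace.yon_obj U) (IsAlgSpace.yon_obj U') sqW
  have hπ : LocP (@LocallyOfFiniteType ⊓ @FormallyUnramified) (pullback.snd φ ((yon S).map s)) :=
    prop_snd_of_rep' respectsSrcIso_locP d y e he s hW sqW G.property e₂ he₂ hu
  obtain ⟨p⟩ : Nonempty ↥(Spec (CommRingCat.of K)) := inferInstance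
  have hp : s.left p = k.left v := by
    change U.left.fromSpecResidueField (k.left v) ((Spec.map _) p) = k.left v
    exact Scheme.fromSpecResidueField_apply _ _
  exact @formallyUnramified_stalkMap_chart _ _ _ _ _ c hc φ k hkl hk s hπ v ⟨p, hp⟩

theorem repByAlgSp_of_trivial_geometric (h : AlgSt.IsAlgStack Scheme.fppfPrecoverage 𝒳)
    (htriv : ∀ (k : Type u) [Field k] [IsAlgClosed k] (s : Spec (CommRingCat.of k) ⟶ S) (x : 𝒳.obj),
      𝒳.p.obj x = Over.mk s → ∀ (ξ : 𝒳.obj) (_ : ξ ⟶ x) (σ : ξ ⟶ ξ),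
        𝒳.p.map σ = 𝟙 (𝒳.p.obj ξ) → σ = 𝟙 ξ) :
    AlgSt.RepByAlgSp 𝒳 := by
  have hΔ := unramified_diag_of_trivial h.isStack.1 (repByAlgSpWith_lft_diag_toSelf h) htriv
  have hS : AlgSt.IsAlgStack Scheme.fppfPrecoverage (FibCat.selfOver (Over S)) :=
    isAlgStack_of_repByAlgSp Fib.isFibGrpd_selfOver repByAlgSp_selfOver
  have hr : AlgSt.RepByAlgSp1 (FibCat.toSelf 𝒳) :=
    repByAlgSp1_of_geometric h hS hΔ _ fun k _ _ s ξ hξ a ha _ =>
      htriv k s ξ hξ ξ (𝟙 ξ) a (IsHomLift.eq_of_isHomLift 𝒳.p (𝟙 (𝒳.p.obj ξ)) a).symm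
  have := faithful_of_repByAlgSp1 h.isStack.1 Fib.isFibGrpd_selfOver hr
  have : 𝒳.p.Faithful := inferInstanceAs (FibCat.toSelf 𝒳).toFunctor.Faithful
  exact repByAlgSp_of_isFibSetoid h (Fib.isFibSetoid_of_faithful _ h.isStack.1)

end Groth.Agent.AlgStB
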